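import Cfsg.Agent.StdZ.SpD
import Cfsg.Agent.Recog.Co3.Sp
import Cfsg.Agent.Known.Aut.PSpField
import Cfsg.Agent.Classical.Transport2

/-! A standard double cover of the symplectic group of dimension six over the field with two elements. -/

set_option autoImplicit false

namespace CF.StdZ.Sp

open Cfsg Subgroup CF.Comp CF.Bt CF.Schur CF.Recog.Co3

variable {G S : Type*} [Group G] [Group S]

/-- the facts used -/
structure Dat (y a b : S) : Prop where
  fu : ∀ u : S, orderOf u = 2 → FU ⊤ u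
  rt : ∀ x : S, x ^ 2 ^ 2 = 1 → x * x ≠ 1 → Bad ⊤ (x * x) x ∨ IsConj x y
  c9 : ¬ 9 ∣ Nat.card (centralizer {y})
  a3 : a ^ 3 = 1
  b3 : b ^ 3 = 1
  ab : Commute a b
  ca : Commute a (y * y)
  cb : Commute b (y * y)
  d1 : Bad ⊤ (y * y) a
  d2 : Bad ⊤ (y * y) b
  d3 : Bad ⊤ (y * y) (a * b)
  d4 : Bad ⊤ (y * y) (a * b⁻¹)

theorem exists_dat : ∃ y a b : Sp, Dat y a b := by
  obtain ⟨_, _, D, g, h2, h3⟩ := repsSp
  have hE := S62.chU.exact h2 h3 (H := ⊤) (fun _ => trivial) (Pc.card_top_eq card_Sp6).le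
  generalize slp g S62.UW 2 = f at hE
  have he : Eqv f (sameW NN 63 6) := eqv_sameW hE.reps (by decide) hE.faithful
  have hn : Nev f (difW NN 63 6) := nev_difW hE.reps (by decide) 6
  have hm : ∀ w, (fun _ => true) w = true → ev f w ∈ (⊤ : Subgroup Sp) := fun _ _ => trivial
  have cl := fun {g : Sp} => clE_spec hE (k := 6) (by decide) (p := 2) (a := 9) (m := 2835) (j := 2) Nat.prime_two
    card_Sp6 (by decide) pP fF (g := g)
  have d := fun t (h : t ∈ _) => he _ _ (lall_iff.1 hd t h)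
  have r := fun t (h : t ∈ _) => hn _ _ (lall_iff.1 hr t h)
  simp only [List.forall_mem_cons, ev_lapp, ev_wpow, ev_nil] at d r
  obtain ⟨a1, a2, a3, a4, a5, a6, a7, a8, a9, -⟩ := d
  obtain ⟨b1, b2, b3, b4, b5, -⟩ := r
  have bad := fun {τ d c} => badOK_spec he hn hm (τ := τ) (d := d) (c := c)
  have fu := fun {u cs zs C} h k => fuOK_spec he hn hm (u := u) (cs := cs) (zs := zs) h
    (cleOK_spec hE (k := 6) (by decide) (by decide) card_Sp6 (C := C) k)
  have e1 := bad he1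
  have e2 := bad he2
  have e3 := bad he3
  have e4 := bad he4
  simp only [ev_lapp, ev_winv] at e1 e2 e3 e4
  refine ⟨ev f r4, ev f d1, ev f d2, fun u o => ?_, fun x x4 xx => ?_, ?_, a1, a2, a3, a4, a5, e1, e2, e3, e4⟩
  · obtain ⟨w, hw, x, e⟩ := cl (g := u) (orderOf_dvd_iff_pow_eq_one.1 (by rw [o]; decide)) (ne_of o)
    have n : ev f w * ev f w = 1 := by rw [← e, conj_mul, sq_of o]; simp
    refine FU.of_conj (g := x) (e ▸ ?_)
    simp only [R, List.mem_cons, List.not_mem_nil, or_false] at hw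
    rcases hw with rfl | rfl | rfl | rfl | rfl | rfl | rfl | rfl | rfl
    exacts [fu u0 c0, fu u1 c1, fu u2 c2, fu u3 c3, absurd n b1, absurd n b2, absurd n b3, absurd n b4, absurd n b5]
  · obtain ⟨w, hw, k, e⟩ := cl x4 (by rintro rfl; simp at xx)
    have n : ev f w * ev f w ≠ 1 := by rw [← e, conj_mul]; simpa using xx
    have t : Bad ⊤ (ev f (lapp w w)) (ev f w) → Bad ⊤ (x * x) x := fun a =>
      Bad.of_conj (g := k) (by rwa [← conj_mul, e, ← ev_lapp])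
    simp only [R, List.mem_cons, List.not_mem_nil, or_false] at hw
    rcases hw with rfl | rfl | rfl | rfl | rfl | rfl | rfl | rfl | rfl
    exacts [absurd a6 n, absurd a7 n, absurd a8 n, absurd a9 n, .inr (isConj_iff.2 ⟨k, e⟩), .inl (t (bad hb5)),
      .inl (t (bad hb6)), .inl (t (bad hb7)), .inl (t (bad hb8))]
  · rw [(ceqOK_spec hE (k := 6) (by decide) (by decide) card_Sp6 kr4).2]; decide

variable {y a b : S} (d : Dat y a b) {F E : Dt G S} (h : Pr ⊤ F E) [Finite G]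
include d h

theorem Dat.root (n : ¬ E.Sm) : ∃ x ∈ E.K, Commute F.z x ∧ x * x = E.z ∧ IsConj (F.π x) y := by
  have f := fi_of d.fu h.ττ h.τ1
  obtain ⟨x, hx, c, xx⟩ := h.root f trivial n
  have e : F.π x * F.π x = F.π E.z := by rw [← h.fr.mul c c, xx]
  refine ⟨x, hx, c, xx, (d.rt _ ?_ (e ▸ h.τ1)).resolve_left (e ▸ h.not_bad f (h.mem_Kp hx c))⟩
  rw [show 2 ^ 2 = 2 * 2 by rfl, pow_mul, pow_two (F.π x), e, pow_two, h.ττ]

theorem Dat.sm : F.Sm := by
  by_contra n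
  obtain ⟨x, hx, c, -, e⟩ := d.root h (mt h.sm_iff.1 n)
  obtain ⟨w, -, c', ww, e'⟩ := d.root h.symm n
  obtain ⟨k, e'⟩ := isConj_iff.1 e'.symm
  have t : k * (y * y) * k⁻¹ = E.π F.z := by rw [← conj_mul, e', ← h.fe.mul c' c', ww]
  have lift : ∀ {a : S}, a ^ 3 = 1 → Commute a (y * y) → ∃ l ∈ E.L, E.π l = k * a * k⁻¹ ∧ l ^ 3 = 1 ∧ Commute F.z l :=
    fun {a} a3 ca => by
      obtain ⟨l, hl, p, q⟩ := h.fe.odd_lift (s := k * a * k⁻¹) trivial (m := 3) (by decide) (by rw [conj_pow, a3]; simp)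
      exact ⟨l, hl, p, q, (h.fe.comm_odd hl h.cm.symm (by rw [p, ← t]; exact ca.conj k) (by decide) q).symm⟩
  obtain ⟨l, hl, l1, l2, l3⟩ := lift d.a3 d.ca
  obtain ⟨m, hm, m1, m2, m3⟩ := lift d.b3 d.cb
  have cl := h.fe.cL hl
  have cm := h.fe.cL hm
  have ne : ∀ {v s}, v ∈ E.L → Commute F.z v → E.π v = k * s * k⁻¹ → Bad ⊤ (y * y) s → F.π v ≠ 1 := fun hv c e b a =>
    h.symm.not_bad (fi_of d.fu h.symm.ττ h.symm.τ1) (h.symm.mem_Kp ((h.fr.ker c).1 a) (h.fe.cL hv))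
      (by rw [e, ← t]; exact b.conj k)
  obtain ⟨j, e⟩ := isConj_iff.1 e
  refine d.c9 ?_
  rw [← e, card_cent_conj]
  refine nine_dvd (a := F.π l) (b := F.π m) (mem_centralizer_singleton_iff.2 (h.fr.comm l3 c (h.fe.cLK hl hx)))
    (mem_centralizer_singleton_iff.2 (h.fr.comm m3 c (h.fe.cLK hm hx)))
    (h.fr.comm l3 m3 (h.fe.comm_odd hl cm (by rw [l1, m1]; exact d.ab.conj k) (by decide) l2))
    (by rw [← h.fr.pow l3, l2, h.fr.one]) (by rw [← h.fr.pow m3, m2, h.fr.one]) (ne hl l3 l1 d.d1) (ne hm m3 m1 d.d2) ?_ ?_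
  · rw [← h.fr.mul l3 m3]
    exact ne (mul_mem hl hm) (l3.mul_right m3) (by rw [h.fe.mul cl cm, l1, m1, conj_mul]) d.d3
  · rw [← h.fr.inv m3, ← h.fr.mul l3 m3.inv_right]
    exact ne (mul_mem hl (inv_mem hm)) (l3.mul_right m3.inv_right)
      (by rw [h.fe.mul cl cm.inv_right, h.fe.inv cm, l1, m1, conj_inv, conj_mul]) d.d4

omit d h

theorem out_Sp : Nat.card (Out Sp) = 1 := by
  rw [← card_out_congr ((QuotientGroup.quotientMulEquivOfEq center_Sp).trans QuotientGroup.quotientBot)]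
  refine index_eq_one.2 (eq_top_iff.2 ?_)
  rw [← Known.gammaPSp_eq_top 2 (by decide) (by decide), ← Known.inndiagPSp_eq_inn (by decide)]
  exact closure_mono fun β ⟨g, σ, a, b⟩ => ⟨g, a, Subsingleton.elim σ (RingEquiv.refl _) ▸ b⟩

theorem nsdc {L K : Type*} [Group L] [Group K] [Finite L] (p : Group.IsPerfect L) (c : Nat.card (center L) = 2)
    (e : L ⧸ center L ≃* K) : IsNonsplitDoubleCover L K := ⟨c, ⟨e⟩, fun H hH => by
  have := commutator_le_of_index_two (hH.index_eq_card.trans c)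
  rw [p.commutator_eq_top, top_le_iff] at this
  have i := hH.index_eq_card.trans c
  simp [this] at i⟩

theorem cent [IsSimpleGroup G] (hG : ¬ IsMulCommutative G) (hb : ∀ t : G, orderOf t = 2 → centralizerPPrimeCore 2 t = ⊥)
    {L : Subgroup G} (hL : IsStandardSubgroup L) (c : Nat.card (center L) = 2) (e : L ⧸ center L ≃* Sp) :
    ∃ z : G, orderOf z = 2 ∧ IsNonsplitDoubleCover (centralizer {z}) Sp := by
  obtain ⟨F, h, rfl, -⟩ := exists_fr' hL c _ (surj_quot e) (ker_quot e) out_Sp center_Sp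
  obtain ⟨E, p⟩ := h.exists_pr' hG
  obtain ⟨y, a, b, d⟩ := exists_dat
  have s := d.sm p
  exact ⟨F.z, h.oz, h.cent_eq (fun _ => h.K_le (h.bal s (hb _ h.oz)) s) (fun _ _ => trivial) ▸ nsdc hL.1.1 c e⟩

end CF.StdZ.Sp
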