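import Cfsg.Agent.StdZ.OnD
import Cfsg.Agent.StdZ.HeP

/-! The covering group `2²·L₃(4)`. -/

set_option autoImplicit false
set_option maxRecDepth 100000
set_option synthInstance.maxSize 4000

namespace CF.StdZ.He

open Subgroup CF.Schur CF.Comp CF.Recog CF.Recog.ON Function CF.StdZ.On F4

/-- the squares of central elements -/
def N0 : Subgroup U where
  carrier := {x | ∃ c ∈ Z0, x = c * c}
  one_mem' := ⟨1, one_mem _, (one_mul 1).symm⟩
  mul_mem' := by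
    rintro _ _ ⟨c, hc, rfl⟩ ⟨d, hd, rfl⟩
    exact ⟨c * d, mul_mem hc hd, (comm_Z hd c).mul_mul_mul_comm c d⟩
  inv_mem' := by
    rintro _ ⟨c, hc, rfl⟩
    exact ⟨c⁻¹, inv_mem hc, mul_inv_rev c c⟩

theorem N0_le : N0 ≤ Z0 := fun _ ⟨_, hc, e⟩ => e ▸ mul_mem hc hc

instance N0_normal : N0.Normal := ⟨fun n hn g => by rw [(comm_Z (N0_le hn) g).eq, mul_inv_cancel_right]; exact hn⟩

/-- the covering group -/
abbrev L0 : Type := U ⧸ N0

/-- the projection -/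
noncomputable def nn : U →* L0 := QuotientGroup.mk' N0

theorem nn_sur : Surjective nn := QuotientGroup.mk'_surjective _

theorem nn_eq {a c : U} : nn a = nn c ↔ a⁻¹ * c ∈ N0 := QuotientGroup.eq

theorem aut_N0 (γ : MulAut U) {a : U} (h : a ∈ N0) : γ a ∈ N0 := h.elim fun c k =>
  ⟨γ c, cenZ ▸ (characteristic_iff_le_comap.1 inferInstance γ) (cenZ ▸ k.1 : c ∈ center U), by rw [k.2, map_mul]⟩

/-- the induced automorphism -/
noncomputable def ab (γ : MulAut U) : MulAut L0 := QuotientGroup.congr N0 N0 γ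
  (le_antisymm (map_le_iff_le_comap.2 fun _ h => aut_N0 γ h) fun a h => ⟨γ⁻¹ a, aut_N0 _ h, by simp⟩)

theorem ab_nn (γ : MulAut U) (a : U) : ab γ (nn a) = nn (γ a) := rfl

/-- the squares as words -/
noncomputable def NW (c : ℕ) : List ℕ := wpow (wpow [11] 2) (c % 2) ++ wpow (wpow [13] 2) (c / 2)

theorem rpN (c : ℕ) : Rp (NW c) ((y 5 ^ 2) ^ (c % 2) * (y 6 ^ 2) ^ (c / 2)) :=
  ((Rp.y5.pow 2).pow _).mul ((Rp.y6.pow 2).pow _)

/-- equality in the covering group -/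
noncomputable def lq (u v : List ℕ) : Prop := ∃ c < 4, sameW NU 672 10 u (v ++ NW c) = true

noncomputable instance instDecLq (u v : List ℕ) : Decidable (lq u v) := inferInstanceAs (Decidable (∃ c < 4, _))

theorem leq {u v : List ℕ} {a c : U} (h : Rp u a) (k : Rp v c) (e : lq u v) : nn a = nn c := by
  obtain ⟨n, -, e⟩ := e
  rw [h.eq (k.mul (rpN n)) e, eq_comm, nn_eq, inv_mul_cancel_left]
  exact mul_mem (pow_mem (show _ ∈ N0 from ⟨_, y5Z, sq _⟩) _) (pow_mem (show _ ∈ N0 from ⟨_, y6Z, sq _⟩) _)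

theorem lne {u : List ℕ} {a : U} (h : Rp u a) (e : ¬ lq u []) : nn a ≠ 1 := fun E => by
  obtain ⟨_, ⟨m, n, rfl⟩, rfl⟩ : a ∈ N0 := (QuotientGroup.eq_one_iff a).1 E
  refine e ⟨m % 2 + 2 * (n % 2), by omega, by_contra fun t => wfU.ne_of_sameW (k := 10) (by decide)
    (Bool.eq_false_iff.2 t) (h.symm.trans (Eq.trans (congrArg Subtype.val ?_) (Rp.one.mul (rpN _))))⟩
  rw [one_mul, show (m % 2 + 2 * (n % 2)) % 2 = m % 2 by omega, show (m % 2 + 2 * (n % 2)) / 2 = n % 2 by omega,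
    ← pow_eq_pow_mod m (by rw [← pow_mul, c14]), ← pow_eq_pow_mod n (by rw [← pow_mul, c24]),
    (c12.symm.pow_pow n m).mul_mul_mul_comm, ← sq, ← sq, ← pow_mul, ← pow_mul, ← pow_mul, ← pow_mul, mul_comm m,
    mul_comm n]

/-- the value of a word -/
noncomputable def Ev (u : List ℕ) : L0 := nn (ev y u)

theorem Ev_app (u v : List ℕ) : Ev (u ++ v) = Ev u * Ev v := by rw [Ev, ev_append, map_mul]; rfl

/-- a checked equation -/
noncomputable def lw (u v : List ℕ) : Prop := lettersLe 11 [u] = true ∧ lettersLe 11 [v] = true ∧ lq u v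

noncomputable instance instDecLw (u v : List ℕ) : Decidable (lw u v) := inferInstanceAs (Decidable (_ ∧ _ ∧ _))

theorem evq {u v : List ℕ} (h : lw u v) : Ev u = Ev v := leq (.ev u h.1) (.ev v h.2.1) h.2.2

/-- a checked equation for an automorphism -/
noncomputable def la (s u v : List ℕ) : Prop := lettersLe 11 [u] = true ∧ lettersLe 11 [v] = true ∧
  lq (subst NS s ++ (u ++ winv (subst NS s))) v

noncomputable instance instDecLa (s u v : List ℕ) : Decidable (la s u v) := inferInstanceAs (Decidable (_ ∧ _ ∧ _))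

theorem eva {s u v : List ℕ} (h : la s u v) : ab (α s) (Ev u) = Ev v := leq (a := α s (ev y u)) (by
  rw [Rp, ev_append, ev_append, ev_winv, ← Rp.ev u h.1, ← mul_assoc]; exact coe_α _ _) (.ev v h.2.1) h.2.2

/-- words for a four-group -/
def wd (p q : List ℕ) : F4 → List ℕ
  | o => [] | i => p | w => q | b => p ++ q

/-- words -/
def FW : F4 → List ℕ := wd [21, 19] [19]
/-- words -/
def GW : F4 → List ℕ := wd [19, 17, 19] [7, 19, 7, 17, 5]
/-- words -/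
def UW : F4 → List ℕ := wd [7, 19, 7] [7, 21, 7]
/-- words -/
def VW : F4 → List ℕ := wd [11] [13]

theorem ev_add {X : F4 → List ℕ} (h : ∀ s t, lw (X (s + t)) (X s ++ X t) := by decide +kernel) (s t : F4) :
    Ev (X (s + t)) = Ev (X s) * Ev (X t) := (evq (h s t)).trans (Ev_app ..)

theorem ev_cm {X Y : F4 → List ℕ} (h : ∀ s t, lw (X s ++ Y t) (Y t ++ X s) := by decide +kernel) (s t : F4) :
    Ev (X s) * Ev (Y t) = Ev (Y t) * Ev (X s) := (Ev_app ..).symm.trans ((evq (h s t)).trans (Ev_app ..))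

/-- the Sylow subgroup -/
noncomputable def φ0 : PP →* L0 := lift (fun t => Ev (FW t)) (fun t => Ev (GW t)) (fun t => Ev (UW t))
  (fun t => Ev (VW t)) ev_add ev_add ev_add ev_add ev_cm ev_cm ev_cm ev_cm ev_cm fun s t => by
    simp only [← Ev_app]
    exact evq ((by decide +kernel : ∀ s t, lw (FW s ++ GW t) (GW t ++ FW s ++ (UW (s * t) ++ VW (s * cj t)))) s t)

/-- the word of an element -/
def PW0 (a : PP) : List ℕ := GW a.y ++ FW a.x ++ (UW a.u ++ VW a.v)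

theorem φ0_eq (a : PP) : φ0 a = Ev (PW0 a) := by simp only [PW0, Ev_app]; rfl

theorem φ0_inj : Injective φ0 := (injective_iff_map_eq_one _).2 fun a e => by
  have k : ∀ a, Cn a → φ0 a = 1 → a = 1 := fun ⟨x, t, u, v⟩ ⟨h1, h2⟩ e => by
    cases h1; cases h2
    refine ((by decide +kernel : ∀ u v, zz u v = 1 ∨ lettersLe 11 [PW0 (zz u v)] = true ∧
      ¬ lq (PW0 (zz u v)) []) u v).resolve_right fun t => lne (.ev _ t.1) t.2 ((φ0_eq _).symm.trans e)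
  refine ((by decide +kernel : ∀ a : PP, Cn a ∨ ∃ c ∈ [fx i, gy i], Cn (a * c * a⁻¹ * c⁻¹) ∧
    a * c * a⁻¹ * c⁻¹ ≠ 1) a).elim (k a · e) fun ⟨c, _, h1, h2⟩ => absurd (k _ h1 (by simp [e])) h2

/-- the centre -/
def VP : Subgroup PP where
  carrier := {a | a = vv a.v}
  one_mem' := rfl
  mul_mem' {a c} h k := by
    rw [show a = _ from h, show c = _ from k]; exact (by decide : ∀ s t, vv s * vv t = vv (vv s * vv t).v) _ _
  inv_mem' {a} h := by rw [show a = _ from h]; exact (by decide : ∀ s, (vv s)⁻¹ = vv (vv s)⁻¹.v) _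

instance instDecVP (a : PP) : Decidable (a ∈ VP) := inferInstanceAs (Decidable (a = _))

theorem φ5 : φ0 (vv i) = nn (y 5) := (φ0_eq _).trans (congrArg nn (ev_single y 5))

theorem φ6 : φ0 (vv w) = nn (y 6) := (φ0_eq _).trans (congrArg nn (ev_single y 6))

theorem φu : φ0 (uu i) = nn uU := (φ0_eq _).trans (evq (by decide +kernel))

theorem nn_cen {a : U} : nn a ∈ center L0 ↔ a ∈ Z0 :=
  ⟨fun h => q_cen fun c => q_eq.2 (N0_le (nn_eq.1 (by rw [map_mul, map_mul, mem_center_iff.1 h]))),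
    fun h => mem_center_iff.2 fun c => by
      obtain ⟨c, rfl⟩ := nn_sur c
      rw [← map_mul, ← map_mul, (comm_Z h c).eq]⟩

theorem cenL {a : L0} : a ∈ center L0 ↔ ∃ t, a = φ0 (vv t) := by
  refine ⟨fun h => ?_, ?_⟩
  · obtain ⟨a, rfl⟩ := nn_sur a
    obtain ⟨m, n, rfl⟩ := nn_cen.1 h
    refine ⟨_, Eq.trans ?_ (congrArg φ0 (mul_mem (pow_mem (show vv i ∈ VP from rfl) m)
      (pow_mem (show vv w ∈ VP from rfl) n)))⟩
    simp only [map_mul, map_pow, φ5, φ6]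
  · rintro ⟨t, rfl⟩
    have a := φ5 ▸ nn_cen.2 y5Z
    have c := φ6 ▸ nn_cen.2 y6Z
    cases t
    exacts [map_one φ0 ▸ one_mem _, a, c, map_mul φ0 (vv i) (vv w) ▸ mul_mem a c]

theorem vcen (t : F4) : φ0 (vv t) ∈ center L0 := cenL.2 ⟨t, rfl⟩

theorem φcen {a : PP} : φ0 a ∈ center L0 ↔ a ∈ VP :=
  cenL.trans ⟨fun ⟨_, e⟩ => φ0_inj e ▸ rfl, fun e => ⟨_, congrArg φ0 e⟩⟩

/-- reduction modulo the centre -/
noncomputable def qc : L0 →* L0 ⧸ center L0 := QuotientGroup.mk' _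

theorem qc_eq {a c : L0} : qc a = qc c ↔ a⁻¹ * c ∈ center L0 := QuotientGroup.eq

theorem qc_one {a : L0} : qc a = 1 ↔ a ∈ center L0 := QuotientGroup.eq_one_iff a

theorem qc_nn {a c : U} : qc (nn a) = qc (nn c) ↔ q a = q c := by rw [qc_eq, q_eq, ← nn_cen, map_mul, map_inv]

theorem qc_φ {a c : PP} : qc (φ0 a) = qc (φ0 c) ↔ a⁻¹ * c ∈ VP := by rw [qc_eq, ← φcen, map_mul, map_inv]

theorem cls {a : L0} (h1 : a * a ∈ center L0) (h2 : a ∉ center L0) : ∃ k, qc (k * a * k⁻¹) = qc (φ0 (uu i)) := by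
  obtain ⟨a, rfl⟩ := nn_sur a
  obtain ⟨k, c, hc, e⟩ := conj_uU (nn_cen.1 (map_mul nn a a ▸ h1)) (mt nn_cen.2 h2)
  exact ⟨nn k, by rw [← map_inv, ← map_mul, ← map_mul, e, φu, qc_nn, map_mul, q_one.2 hc, mul_one]⟩

theorem cenu {k : L0} (h : qc (k * φ0 (uu i) * k⁻¹) = qc (φ0 (uu i))) : ∃ p, φ0 p = k := by
  obtain ⟨k, rfl⟩ := nn_sur k
  rw [φu, ← map_inv, ← map_mul, ← map_mul, qc_nn] at h
  refine (clo_le.2 fun v hv => ?_ : _ ≤ φ0.range.comap nn) (mem_T (q_one.1 (by rw [map_mul, h, map_inv, mul_inv_cancel])))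
  obtain ⟨a, -, e⟩ := (by decide +kernel : ∀ v ∈ gensW 4, ∃ a ∈ [(⟨o, b, b, w⟩ : PP), ⟨o, i, w, w⟩, fx w, fx b],
    lw (PW0 a) (subst TS v)) v hv
  exact ⟨a, (φ0_eq a).trans ((evq e).trans (congrArg nn (ev_evs _ _).symm))⟩

theorem act_φ {s : List ℕ} {θ : PP →* PP}
    (h : ∀ a ∈ [fx i, fx w, gy i, gy w], la s (PW0 a) (PW0 (θ a)) := by decide +kernel) (a : PP) :
    ab (α s) (φ0 a) = φ0 (θ a) :=
  have k := fun a m => (congrArg _ (φ0_eq a)).trans ((eva (h a m)).trans (φ0_eq _).symm)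
  hom_ext' (φ := (ab (α s)).toMonoidHom.comp φ0) (ψ := φ0.comp θ) (k _ (by simp)) (k _ (by simp)) (k _ (by simp))
    (k _ (by simp)) a

/-- an outer automorphism which fixes an involution of the centre -/
noncomputable def bb (v : V) : MulAut L0 := ab (β v)

theorem bb_mul (v t : V) (a : L0) : bb v (bb t a) = bb (v + t) a := by
  obtain ⟨a, rfl⟩ := nn_sur a
  exact congrArg nn (by rw [← β_mul]; rfl)

theorem bb_zero (a : L0) : bb 0 a = a := by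
  obtain ⟨a, rfl⟩ := nn_sur a
  exact congrArg nn (by rw [β_zero]; rfl)

theorem bbb (v : V) (a : L0) : bb v (bb v a) = a := by rw [bb_mul, (by decide : ∀ v : V, v + v = 0), bb_zero]

theorem b01 (a : PP) : bb (0, 1) (φ0 a) = φ0 (fld a) := act_φ (s := [5]) (by decide +kernel) a

theorem b11 (a : PP) : bb (1, 1) (φ0 a) = φ0 (gr a) := act_φ (s := [7]) (by decide +kernel) a

theorem b10 (a : PP) : bb (1, 0) (φ0 a) = φ0 (fld (gr a)) := by rw [← b01, ← b11, bb_mul]; rfl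

theorem Vc (v : V) : v = 0 ∨ v = (1, 0) ∨ v = (0, 1) ∨ v = (1, 1) := by revert v; decide

theorem bbu (v : V) : bb v (φ0 (uu i)) = φ0 (uu i) := by
  rcases Vc v with rfl | rfl | rfl | rfl
  exacts [bb_zero _, b10 _, b01 _, b11 _]

theorem bbv (v : V) (t : F4) : bb v (φ0 (vv t)) = φ0 (vv (if v.2 = 0 then t else cj t)) := by
  rcases Vc v with rfl | rfl | rfl | rfl
  exacts [bb_zero _, (b10 _).trans (by cases t <;> rfl), (b01 _).trans rfl, (b11 _).trans (by cases t <;> rfl)]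

theorem cj_φ {s : List ℕ} {a c : PP} (h : lw (s ++ PW0 a) (PW0 c ++ s)) : Ev s * φ0 a * (Ev s)⁻¹ = φ0 c := by
  rw [mul_inv_eq_iff_eq_mul, φ0_eq, φ0_eq, ← Ev_app, ← Ev_app, evq h]

/-- an element of the torus -/
noncomputable def h0 : L0 := Ev [3]

theorem h0_φ (a : PP) : h0 * φ0 a * h0⁻¹ = φ0 (dl w w a) :=
  hom_ext' (φ := (MulAut.conj h0).toMonoidHom.comp φ0) (ψ := φ0.comp (dl w w)) (cj_φ (by decide +kernel))
    (cj_φ (by decide +kernel)) (cj_φ (by decide +kernel)) (cj_φ (by decide +kernel)) a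

theorem b11h : bb (1, 1) h0 = h0 := eva (s := [7]) (by decide +kernel)

theorem exists_diag {l m : F4} (hl : l ≠ o) (hm : m ≠ o) : ∃ γ : MulAut L0, ∀ a, γ (φ0 a) = φ0 (dl l m a) := by
  have k : ∀ {γ : MulAut L0} {θ : PP →* PP}, (∀ a, γ (φ0 a) = φ0 (θ a)) → ∀ (n : ℕ) a,
      (γ ^ n) (φ0 a) = φ0 (θ^[n] a) := fun h n => by
    induction n with
    | zero => exact fun _ => rfl
    | succ n ih => exact fun a => by rw [pow_succ, MulAut.mul_apply, h, ih]; rfl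
  obtain ⟨r, -, s, -, e⟩ := (by decide +kernel : ∀ l m, l ≠ o → m ≠ o → ∃ r < 3, ∃ s < 3, ∀ a,
    (dl w w)^[r] ((dl i w)^[s] a) = dl l m a) l m hl hm
  exact ⟨MulAut.conj h0 ^ r * ab (α [2]) ^ s, fun a => by
    rw [MulAut.mul_apply, k (act_φ (s := [2]) (θ := dl i w)), k (γ := MulAut.conj h0) h0_φ, e]⟩

theorem x1_φ : ∃ k : L0, ∀ x u v, k * φ0 ⟨x, o, u, v⟩ * k⁻¹ = φ0 ⟨u, o, x, v⟩ := ⟨Ev [7, 3], fun x u v => by
  obtain ⟨h1, h2⟩ := (by decide +kernel : ∀ t, lw ([7, 3] ++ PW0 (fx t)) (PW0 (uu t) ++ [7, 3]) ∧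
    lw ([7, 3] ++ PW0 (uu t)) (PW0 (fx t) ++ [7, 3])) |> forall_and.1
  have e : ∀ x u v, (⟨x, o, u, v⟩ : PP) = fx x * uu u * vv v ∧ (⟨u, o, x, v⟩ : PP) = uu x * fx u * vv v := by decide +kernel
  rw [(e x u v).1, (e x u v).2]
  simp only [map_mul]
  rw [← conj_mul, ← conj_mul, cj_φ (h1 x), cj_φ (h2 u), mem_center_iff.1 (vcen v), mul_inv_cancel_right]⟩

theorem autL (γ : MulAut L0) : ∃ (k : L0) (n : Fin 12), ∀ a, γ a = k * ab (α (AW.getD n [])) a * k⁻¹ := by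
  obtain ⟨L, _, x, π, h, hs, hk, -, -⟩ := exists_pi0
  let σ : L0 →* L := QuotientGroup.lift N0 π fun a m => hk.ge (N0_le m)
  have e : ∀ a, σ (nn a) = π a := fun _ => rfl
  have sk : σ.ker = center L0 := Subgroup.ext fun a => by
    obtain ⟨a, rfl⟩ := nn_sur a
    rw [nn_cen, ← hk]; rfl
  obtain ⟨δ, hδ⟩ := exists_induced (fun c => (hs c).elim fun a t => ⟨nn a, t⟩) sk γ
  obtain ⟨k, n, t⟩ := h.autU hs (hk.trans cenZ.symm) δ
  have E := DFunLike.congr_fun (eq_of_perfect sk.le (φ := γ.toMonoidHom.comp nn)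
    (ψ := nn.comp (MulAut.conj k * α (AW.getD n [])).toMonoidHom)
    (MonoidHom.ext fun a => (hδ _).symm.trans (t a)) perfU)
  exact ⟨nn k, n, fun a => by obtain ⟨a, rfl⟩ := nn_sur a; exact E a⟩

theorem actL {γ : MulAut L0} (h : γ (φ0 (vv i)) = φ0 (vv i)) : ∃ v k, ∀ a, γ a = k * bb v a * k⁻¹ := by
  obtain ⟨k, n, e⟩ := autL γ
  rcases (by decide +kernel : ∀ n : Fin 12, (∃ v : V, AW.getD n [] = W v) ∨ ∃ t ∈ [w, b],
    la (AW.getD n []) (PW0 (vv i)) (PW0 (vv t))) n with ⟨v, t⟩ | ⟨t, m, f⟩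
  · exact ⟨v, k, by rw [bb, β, ← t]; exact e⟩
  · rw [e, φ0_eq, eva f, ← φ0_eq, ← φ0_eq, mem_center_iff.1 (vcen t), mul_inv_cancel_right] at h
    exact absurd (φ0_inj h) ((by decide : ∀ t ∈ [w, b], vv t ≠ vv i) t m)

theorem redL {v : V} (hv : v ≠ 0) {k : L0} (h : k * bb v k ∈ center L0) : ∃ r, qc k = qc (r * (bb v r)⁻¹) := by
  obtain ⟨k, rfl⟩ := nn_sur k
  obtain ⟨r, e⟩ := red hv (k := k) (nn_cen.1 h)
  exact ⟨nn r, qc_nn.2 e⟩

theorem uniqL {k : L0} {v : V} (h : ∀ a, qc (k * bb v a * k⁻¹) = qc a) : v = 0 := by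
  obtain ⟨k, rfl⟩ := nn_sur k
  exact uniq (k := k) fun a => qc_nn.1 (h (nn a))

/-- conjugate elements -/
def Co (a c : PP) : Prop := ∃ k : L0, k * φ0 a * k⁻¹ = φ0 c

theorem Co.trans {a c d : PP} (h : Co a c) (k : Co c d) : Co a d :=
  h.elim fun g e => k.elim fun x f => ⟨x * g, by rw [← f, ← e]; group⟩

theorem Co.gr {a c : PP} (h : Co a c) : Co (gr a) (gr c) :=
  h.elim fun g e => ⟨bb (1, 1) g, by rw [← b11, ← b11, ← e, map_mul, map_mul, map_inv]⟩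

theorem co_pp (a c : PP) : Co a (c * a * c⁻¹) := ⟨φ0 c, by simp⟩

theorem nf {a : PP} (h : a * a = 1) (n : a ∉ VP) : ∃ t, Co a (zz i t) ∧ (t = o ↔ Sg a) := by
  have k1 : ∀ u v, u ≠ o → Co (zz u v) (zz i v) := fun u v hu => by
    have e : ∀ u v, Co (zz u v) (zz (b * u) v) := fun u v => ⟨h0, (h0_φ _).trans (by cases v <;> rfl)⟩
    cases u
    exacts [absurd rfl hu, ⟨1, by simp⟩, e _ _, (e _ _).trans (e _ _)]
  have k2 : ∀ a : PP, a.y = o → a ∉ VP → ∃ t, Co a (zz i t) ∧ (t = o ↔ Sg a) := fun a e n => by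
    obtain ⟨x, h⟩ := x1_φ
    rcases (by decide +kernel : ∀ a : PP, a.y = o → a ∉ VP → (a = zz a.u a.v ∧ a.u ≠ o ∧ (a.v = o ↔ Sg a)) ∨
      a.x ≠ o ∧ ∃ s t, gy s * a * (gy s)⁻¹ = ⟨a.x, o, o, t⟩ ∧ (t = o ↔ Sg a)) a e n with ⟨e, f, g⟩ | ⟨f, s, t, e, g⟩
    · exact ⟨_, e ▸ k1 _ _ f, g⟩
    · exact ⟨t, ((e ▸ co_pp a (gy s) : Co a _).trans ⟨x, h _ _ _⟩).trans (k1 _ _ f), g⟩
  obtain e | ⟨e, f, g, l⟩ := (by decide +kernel : ∀ a : PP, a * a = 1 → a ∉ VP → a.y = o ∨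
    (gr a).y = o ∧ gr a ∉ VP ∧ gr (gr a) = a ∧ (Sg (gr a) ↔ Sg a)) a h n
  · exact k2 a e n
  · obtain ⟨t, c, d⟩ := k2 _ e f
    exact ⟨cj t, g ▸ (by cases t <;> exact c.gr), ((by decide : ∀ t, cj t = o ↔ t = o) t).trans (d.trans l)⟩

theorem swp {a : PP} (h : Sg a) (n : ¬ Cn a) : ∃ k t, k * φ0 a * k⁻¹ = φ0 (uu t) ∧ k * φ0 (uu t) * k⁻¹ = φ0 a := by
  have k2 : ∀ a : PP, a.y = o → Sg a → ¬ Cn a → ∃ k t, k * φ0 a * k⁻¹ = φ0 (uu t) ∧ k * φ0 (uu t) * k⁻¹ = φ0 a :=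
    fun a e h n => by
      obtain ⟨x, hx⟩ := x1_φ
      obtain ⟨s, f⟩ := (by decide +kernel : ∀ a : PP, a.y = o → Sg a → ¬ Cn a → ∃ s,
        a = (gy s)⁻¹ * fx a.x * gy s) a e h n
      have c := ((cn_uu a.x).comm (gy s)).map φ0
      refine ⟨(φ0 (gy s))⁻¹ * x * φ0 (gy s), a.x, ?_, ?_⟩
      · calc _ = (φ0 (gy s))⁻¹ * (x * φ0 (fx a.x) * x⁻¹) * φ0 (gy s) := by
              conv_lhs => rw [f]
              simp only [map_mul, map_inv]; group
          _ = _ := by rw [show x * φ0 (fx a.x) * _ = φ0 (uu a.x) from hx _ _ _, mul_assoc, c.eq, inv_mul_cancel_left]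
      · calc _ = (φ0 (gy s))⁻¹ * (x * (φ0 (gy s) * φ0 (uu a.x) * (φ0 (gy s))⁻¹) * x⁻¹) * φ0 (gy s) := by group
          _ = _ := by
            rw [← c.eq, mul_inv_cancel_right, show x * φ0 (uu a.x) * _ = φ0 (fx a.x) from hx _ _ _]
            conv_rhs => rw [f]
            simp only [map_mul, map_inv]
  obtain e | ⟨e, f, g, l⟩ := (by decide +kernel : ∀ a : PP, Sg a → ¬ Cn a → a.y = o ∨
    (gr a).y = o ∧ Sg (gr a) ∧ ¬ Cn (gr a) ∧ gr (gr a) = a) a h n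
  · exact k2 a e h n
  · obtain ⟨k, t, c, d⟩ := k2 _ e f g
    have u : bb (1, 1) (φ0 (uu t)) = φ0 (uu t) := (b11 _).trans (by cases t <;> rfl)
    have c := congrArg (bb (1, 1)) c
    have d := congrArg (bb (1, 1)) d
    rw [map_mul, map_mul, map_inv, u, b11, l] at c d
    exact ⟨_, t, c, d⟩

end CF.StdZ.He
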