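import Cfsg.Agent.StdZ.BcI

/-! Standard subgroups of type `²E₆(2)` with centre of even order in a simple group. -/

set_option autoImplicit false
set_option maxHeartbeats 400000
set_option maxRecDepth 100000

namespace CF.StdZ.Bc

open Cfsg Subgroup CF.Leech CF.Mon CF.Mon.G CF.Mon.L CF.Mon.Lab CF.Known.Mon MulAction CF.LX CF.Loc
open CF.Even Function Spor CF.MonU CF.Mon.O CF.BabU CF.StdZ.Bm CF.StdZ.Bb Sum
open scoped commutatorElement Pointwise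

variable {Γ Δ G Y : Type*} [Group Γ] [Group Δ] [Group G] [Group Y] {ρ : Gt →* Γ} {τ : Γ} {O : Subgroup G} {J : Γ → Y}
  {z w s : Y} {α : Lab → Y} {σ : Y →* G} [Finite Y] {μ : Gt →* Δ} {θ : Δ} {r : Gt → Y} {Q : Subgroup Y} {φ : AA μ θ →* Y}

theorem as_eb (h : Bb.As ρ τ J z w α s) : ∃ (Δ : Type) (_ : Group Δ) (μ : Gt →* Δ) (θ : Δ) (r : Gt → Y) (Q : Subgroup Y)
    (φ : AA μ θ →* Y), Eb r Q θ φ ∧ Surjective φ ∧ r (pauli xc) = w := by
  obtain ⟨Q, lq, cQ, mQ⟩ := as_lq h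
  obtain ⟨ψ, ψs, ψk⟩ := BabU.exists_phi
  obtain ⟨φ, hφ⟩ := exists_hom_of_rel (A := 𝐂₁(w)) (fun n c => ∃ γ : PA, Bb.Ac α n γ ∧ ψ γ = c)
    (fun n => (h.cent (mem_c1.1 n.2).symm).elim fun γ k => ⟨_, ⟨γ, k.1⟩, k, rfl⟩)
    (by
      rintro _ _ _ ⟨γ, a, rfl⟩ ⟨δ, b, rfl⟩
      rw [← mul_inv_eq_one, ← map_inv, ← map_mul, ψk]
      exact h.pm1 (a.mul b.inv) (.inl (mul_inv_cancel _)))
    (by rintro _ _ _ _ ⟨γ, a, rfl⟩ ⟨δ, b, rfl⟩; exact ⟨γ * δ, a.mul b, map_mul _ _ _⟩)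
  have e : φ.ker.map (𝐂₁(w)).subtype = Q := Subgroup.ext fun x => mem_map_c1.trans
    ⟨fun ⟨_, k⟩ => let ⟨_, a, b⟩ := (hφ _ _).1 k; (mQ x).2 (h.kerA a ((ψk _).1 b)), fun k => ⟨lq.le_c1 k, by
      obtain ⟨p, l, rfl⟩ := (mQ x).1 k
      exact (hφ _ _).2 ⟨⟨_, pauli_PA.2 l⟩, h.acq l, (ψk _).2 (pm_pauli p)⟩⟩⟩
  obtain ⟨r, R, k⟩ := exists_Rb (Q := φ.ker) (e ▸ lq) ((card_subtype _ _).symm.trans (e ▸ cQ))
    ⟨(QuotientGroup.quotientKerEquivOfSurjective φ fun c => by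
      obtain ⟨γ, rfl⟩ := ψs c
      obtain ⟨n, k⟩ := h.all γ.2
      exact ⟨⟨n, mem_c1.2 (h.cw k).symm⟩, (hφ _ _).2 ⟨γ, k, rfl⟩⟩).trans Co2Equiv⟩
  rw [e] at R
  obtain ⟨δ, a, P, -⟩ := R.exists_Pb cQ (R.lq.pair (g := J τ) (by rw [cQ]; norm_num)
    (by rw [k, h.tY]; exact fun e => absurd (cases_S1 ((h.aS Y0_UU.1).2 (.inr e))) (by decide +kernel))
    (by rw [k, h.tY]; exact (mQ _).2 ⟨_, Y0_UU.1, rfl⟩))
  obtain ⟨t, E⟩ := P.exists_ext
  obtain ⟨χ, u, -⟩ := exists_hom certs.c.outM certs.c certs.c2 E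
  have B : Eb _ Q _ χ := ⟨P.rb, cQ, certs.c.outM, u⟩
  refine ⟨_, _, _, _, _, Q, χ, B, ?_, ?_⟩
  · obtain ⟨i⟩ := certs.equivB B.out
    obtain ⟨j⟩ := h.iso
    have m : χ.ker = center _ := Subgroup.ext fun a => by
      rw [MonoidHom.mem_ker, B.ker, B.out.center_A, mem_subgroupOf, mem_zpowers_invol B.out.orderOf_t]
    exact MonoidHom.range_eq_top.1 (eq_top_of_card_eq _ (Nat.card_congr (((QuotientGroup.quotientKerEquivRange χ).symm.trans
      (QuotientGroup.quotientMulEquivOfEq m)).trans (i.trans j.symm)).toEquiv))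
  · rw [R.hm.conj a xc_PA, conj_eq_iff.2 (R.cz a), k]

namespace Gl

variable (H : Gl ρ τ J z w α s σ O) [Finite G] (h : Eb r Q θ φ) (sj : Surjective φ) (hw : r (pauli xc) = w)
include H h sj hw

theorem cent_D {v : AA μ θ} (c : IsConj (μ (pauli xc)) v) (d : IsConj (μ (pauli xc)) (v * μ (pauli Mon.tA))) {g : G}
    (hg : Commute (σ (φ v)) g) : g ∈ 𝐍(O) := by_contra fun ng => by
  have M := h.out
  have Z := H.zc fun e => ng (e.ge (mem_top g))
  obtain ⟨k, kx, ky⟩ := key2 M v.2 c d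
  have ad := Out.f10_add M
  let ψ : V10 → AA μ θ := fun w => ⟨k⁻¹ * f10 μ w * k, M.cA ▸ mem_c1.2 (by
    have : f10 μ w * f10 μ y0 = f10 μ y0 * f10 μ w := by rw [← ad, add_comm, ad]
    rw [f_y M, ← ky] at this
    calc _ = k⁻¹ * (f10 μ w * (k * μ (pauli Mon.tA) * k⁻¹)) * k := by group
      _ = _ := by rw [this]; group)⟩
  have pa : ∀ u w, φ (ψ (u + w)) = φ (ψ u) * φ (ψ w) := fun u w => by
    rw [← map_mul]; exact congrArg φ (Subtype.ext (by simp only [ψ, ad, coe_mul]; group))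
  have pa' : ∀ u w, σ (φ (ψ (u + w))) = σ (φ (ψ u)) * σ (φ (ψ w)) := fun u w => by rw [pa, map_mul]
  have px : φ (ψ x0) = φ v := congrArg φ (Subtype.ext (by simp only [ψ, x0, f10_x, ← kx]; group))
  have pt : ∀ w, (ψ w : Δ) * μ (pauli Mon.tA) = ψ (w + y0) := fun w => by simp only [ψ, ad, f_y M, ← ky]; group
  have py : ∀ w, φ (ψ (w + y0)) = φ (ψ w) := fun w => h.eq_iff.2 (.inr (pt w).symm)
  have p0 : φ (ψ 0) = 1 := by simpa using pa 0 0
  have pc : ∀ w ≠ 0, IsConj (μ (pauli xc)) (ψ w) ↔ qq w = 0 := fun w a =>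
    (conj_tr (g := k) (by simp only [ψ]; group)).trans (cj_iff M a)
  have yy : ∀ w : V10, w + y0 + y0 = w := fun w => by rw [add_assoc, CharTwo.add_self_eq_zero, add_zero]
  have pu : ∀ u, bb u y0 = 0 → φ (ψ u) ≠ 1 → IsConj (σ w) (σ (φ (ψ u))) := fun w a b => σ.map_isConj (hw ▸ by
    have n1 : w ≠ 0 := fun e => b (e ▸ p0)
    have n2 : w + y0 ≠ 0 := fun e => b (by rw [← py, e, p0])
    have q := qq_add w y0
    rw [a, add_zero, show qq y0 = 1 by decide +kernel] at q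
    rcases z2_cases (qq w) with e | e <;> rw [e] at q
    · exact h.cz ((pc w n1).2 e) (by rw [pt, pc _ n2, q]; decide)
    · rw [← py]; exact h.cz ((pc _ n2).2 q) (by rw [pt, yy, pc _ n1, e]; decide))
  have nz : ∀ {a : AA μ θ}, IsConj (μ (pauli xc)) a → IsConj (μ (pauli xc)) (a * μ (pauli Mon.tA)) →
      ¬ IsConj (σ w) (σ (φ a)) := fun a b e => h.nz (iff_of_true a b) (hw ▸ H.cjY e)
  have uu : σ (φ v) * σ (φ v) = 1 := by rw [← px, ← pa', CharTwo.add_self_eq_zero, p0, map_one]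
  have mE : ∀ x, x ∈ zpowers (σ (φ v)) ↔ x = 1 ∨ x = σ (φ v) := fun x => mem_zpowers_invol (orderOf_eq_prime
    (by rw [sq, uu]) fun e => by
      rcases (h.ker v).1 (H.inj (e.trans (map_one σ).symm)) with e | e <;> rw [e] at c
      exacts [M.x_ne (isConj_one_left.1 c), M.not_conj c])
  let A := rng (fun w => σ (φ (ψ w))) pa'
  have nE : ∀ u, IsConj (σ w) (σ (φ (ψ u))) → σ (φ (ψ u)) ∉ zpowers (σ (φ v)) := fun w a b => by
    rcases (mE _).1 b with e | e <;> rw [e] at a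
    exacts [Z.iv.ne (isConj_one_left.1 a), nz c d a]
  have n1 : ∀ w, w ≠ 0 → w + y0 ≠ 0 → φ (ψ w) ≠ 1 := fun w a b e => by
    rcases h.eq_iff.1 (e.trans p0.symm) with e | e
    · exact a (Out.f10_inj M (by simpa [ψ] using e))
    · rw [pt, zero_add] at e
      exact b (by rw [Out.f10_inj M (by simpa [ψ] using e : f10 μ w = f10 μ y0), CharTwo.add_self_eq_zero])
  have c1 := pu w0 (by decide +kernel) (n1 _ (by decide +kernel) (by decide +kernel))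
  have c2 := pu (Pi.single (inl 1) 1) (by decide +kernel) (n1 _ (by decide +kernel) (by decide +kernel))
  have ac : ∀ {s}, s ∈ 𝐍(O) → ∃ t : AA μ θ, ∀ a, s * σ (φ a) * s⁻¹ = σ (φ (t * a * t⁻¹)) := fun a => by
    obtain ⟨y, e⟩ := H.cjH a
    obtain ⟨t, rfl⟩ := sj y
    exact ⟨t, fun a => by simp only [e, map_mul, map_inv]⟩
  obtain ⟨s, hs, -, e⟩ := XT.trans_cos (A := A) (E := zpowers (σ (φ v))) (p := Bender.pt 𝐍(O)) (k := g)
    (by rintro _ ⟨w, rfl⟩; rw [← pa', CharTwo.add_self_eq_zero, p0, map_one]) (zpowers_le.2 ⟨x0, congrArg σ px⟩)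
    (by rintro _ ⟨w, rfl⟩; exact Bender.smul_pt.2 (H.mH _)) (fun s hs e => by
      obtain ⟨t, f⟩ := ac (Bender.smul_pt.1 e)
      have e := (hs _ (mem_zpowers _)).symm
      rw [← conj_eq_iff, f, H.inj.eq_iff, h.eq_iff, coe_mul, coe_mul, coe_inv] at e
      have := mem_normalizer_iff.1 (norm_E10 M (h := k * t * k⁻¹) (by
        rw [← ky, conj_inv, ← conj_mul_conj, ← conj_mul_conj, conj_eq_iff.2 (M.comm_t t.2)]) (by
        rw [← ky, ← kx, conj_inv, ← conj_mul_conj, ← conj_mul_conj, ← conj_mul_conj]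
        exact e.imp (fun e => by rw [e]) fun e => by rw [e]))
      refine mem_norm_of ?_
      rintro _ ⟨w, rfl⟩
      obtain ⟨w', b⟩ := (this _).1 (Out.f10_mem M w)
      exact ⟨w', ((f _).trans (congrArg (fun a => σ (φ a)) (Subtype.ext (by simp only [ψ, b, coe_mul, coe_inv]; group)))).symm⟩) (by
      rintro _ ⟨w, rfl⟩ n q a b
      rcases z2_cases (bb w y0) with e | e
      · exact Z.uniq (pu w e fun k => n ((mE _).2 (.inl ((congrArg σ k).trans (map_one σ))))) (Bender.smul_pt.2 (H.mH _)) q b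
      · refine Z.uniq (pu (w + x0) (by rw [bb_comm, bb_add, bb_comm, e]; decide +kernel) fun k => n ?_)
          (Bender.smul_pt.2 (H.mH _)) q (by rw [pa', px, mul_smul, a (mem_zpowers _), b])
        replace k := congrArg σ k
        rw [pa', px, map_one, mul_eq_one_iff_eq_inv, inv_eq_of_mul_eq_one_right uu] at k
        exact (mE _).2 (.inr k))
    (by rw [centralizer_zpowers]; exact mem_c1.2 hg.symm) (mt Bender.smul_pt.1 ng) ⟨_, rfl⟩ (nE _ c1) ⟨_, rfl⟩ (nE _ c2)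
  have su := conj_eq_iff.2 (hs _ (mem_zpowers _)).symm
  have nD := pc (Pi.single (inl 1) 1 + x0) (by decide +kernel)
  have nD' := pc (Pi.single (inl 1) 1 + x0 + y0) (by decide +kernel)
  rw [show qq (Pi.single (inl 1) 1 + x0) = 0 by decide +kernel] at nD
  rw [show qq (Pi.single (inl 1) 1 + x0 + y0) = 0 by decide +kernel, ← pt] at nD'
  rcases (mE _).1 e with e | e
  · rw [inv_mul_eq_one] at e
    obtain ⟨x, l⟩ := isConj_iff.1 c1
    obtain ⟨t, f⟩ := ac ((mul_mem_cancel_right (H.fw (l ▸ H.mH _))).1 (H.fw (g := s * x) (by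
      rw [← conj_conj', l, e]; exact H.mH _)))
    have : φ (t * ψ (w0 + x0) * t⁻¹) = φ (ψ (Pi.single (inl 1) 1 + x0)) := H.inj (by
      rw [← f, pa', pa', px, conj_mul_conj, e, su])
    have k := (conj_tr (x := μ (pauli xc)) (g := t) rfl).symm.trans (pc (w0 + x0) (by decide +kernel))
    rw [show qq (w0 + x0) = 1 by decide +kernel] at k
    rcases h.eq_iff.1 this with e | e <;> rw [coe_mul, coe_mul, coe_inv] at e <;> rw [e] at k
    exacts [absurd (k.1 (nD.2 rfl)) (by decide), absurd (k.1 (nD'.2 rfl)) (by decide)]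
  · rw [inv_mul_eq_iff_eq_mul, ← mul_inv_eq_iff_eq_mul, inv_eq_of_mul_eq_one_right uu, ← px, ← pa'] at e
    exact nz (nD.2 rfl) (nD'.2 rfl) ((conj_tr e.symm).1 c1)

theorem h3 {e : G} (c : IsConj (σ w) e) (ne : e ≠ σ w) (cm : Commute (σ w) e) {g : G} (hg : Commute (σ w * e) g) : g ∈ 𝐍(O) := by
  have M := h.out
  obtain ⟨x, l⟩ := isConj_iff.1 c
  obtain ⟨e, rfl, -⟩ := H.two (H.cw cm) (l ▸ (P2.sq (by rw [← map_mul, H.as.ww, map_one])).cj x)
  replace c := H.cjY c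
  replace cm := H.cm_iff.1 cm
  rw [← map_mul] at hg
  have k : IsConj w (w * e) → g ∈ 𝐍(O) := fun k => by
    obtain ⟨y, u⟩ := isConj_iff.1 k
    rw [← u, map_mul, map_mul, map_inv] at hg
    exact (mul_mem_cancel_right (H.mH y)).1 (H.fw (by rw [← conj_conj', conj_of_comm hg]; simpa using H.mH (y * w * y⁻¹)))
  have cd := fun v => H.cent_D h sj hw (v := v) (g := g)
  subst hw
  by_cases eQ : e ∈ Q
  · obtain ⟨q, -, a⟩ := h.rb.lq.exists_conj' eQ (fun k => h.rb.lq.z_ne (isConj_one_left.1 (k ▸ c))) fun k => ne (k ▸ rfl)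
    exact k ((conj_tr a).1 c)
  obtain ⟨a, rfl, a1, a2⟩ := h.lift (sj e) c
  obtain ⟨γ, hγ, b⟩ := h.rb.cx _ cm.symm
  have tA := mul_mem hγ tA_mem_PA
  obtain ⟨δ, hδ, n, f⟩ : ∃ δ ∈ PA, ¬ PM δ ∧ μ δ = a * μ (pauli Mon.tA) := by
    have n := mt (h.rb.mem_Q hγ).2 (b ▸ eQ)
    rcases h.eq_iff.1 ((h.eq _ hγ).trans b) with f | f
    exacts [⟨_, tA, by simpa [PM, gOf_pauli] using n, by rw [map_mul, ← f]⟩, ⟨γ, hγ, n, f⟩]
  obtain ⟨g, a3⟩ := isConj_iff.1 a1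
  have v := (not_both M (by
    rw [f, mul_assoc, ← mul_assoc (μ _), ← M.comm_t a.2, mul_assoc, Mon.G.Out.tt, mul_one]
    exact conj_sq a3 rho_xx) n).resolve_left (f ▸ a2)
  have m := mul_mem M.x_mem_A (mem_AA μ θ hδ)
  have pv : φ ⟨_, m⟩ = r (pauli xc) * φ a := by
    rw [← h.eq _ xc_PA, ← map_mul φ, h.eq_iff]
    exact .inr ((congrArg _ f).trans (mul_assoc _ _ _).symm)
  by_cases d : IsConj (μ (pauli xc)) (μ (pauli xc) * μ δ * μ (pauli Mon.tA))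
  · exact cd ⟨_, m⟩ v d (pv ▸ hg)
  · exact k (pv ▸ h.cz (a := ⟨_, m⟩) v d)

end Gl

theorem Gl.iso [Finite G] [IsSimpleGroup G] (H : Gl ρ τ J z w α s σ O) : IsoB G := by
  have A := H.as
  have o : ∀ {y}, y * y = 1 → y ≠ 1 → orderOf (σ y) = 2 := fun a b => (orderOf_injective σ H.inj _).trans (ord2 a b)
  by_cases n : 𝐍(O) = ⊤
  · obtain ⟨e⟩ := A.iso
    rcases (normalizer_eq_top_iff.1 n).eq_bot_or_eq_top with k | k
    · refine ⟨(MulEquiv.ofBijective σ ⟨H.inj, fun g => ?_⟩).symm.trans e⟩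
      obtain ⟨x, l, y, rfl⟩ := H.dec (n.ge (mem_top g))
      exact ⟨y, by rw [mem_bot.1 (k.le l), one_mul]⟩
    · exact absurd (H.dis (k.ge (mem_top _))) A.w1
  obtain ⟨Δ, _, μ, θ, r, Q, φ, h, sj, hw⟩ := as_eb A
  obtain ⟨g, -, e⟩ := Invol.se_exists_conj_mem ((H.zc n).se_simple fun e a b c g k => H.h3 h sj hw a b c (mem_c1.1 k).symm)
    (H.mH w) (o A.ww A.w1) (H.mH z) (o A.zz A.z1)
  exact absurd (H.cjY (isConj_iff.2 ⟨g, e⟩)).symm A.nzw

theorem main [Finite G] [IsSimpleGroup G] {A : Subgroup G} (per : Group.IsPerfect A)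
    (te : ∀ {s g}, s ∈ 𝐂(A) → orderOf s = 2 → g * s * g⁻¹ ∈ 𝐂(A) → g ∈ 𝐍(A)) (hZ : Even (Nat.card (center A)))
    {K : Type*} [Field K] [Fintype K] (hK : Fintype.card K = 4) (e : A ⧸ center A ≃* Lie.twistedE6 K 2) : IsoB G := by
  obtain ⟨ρ, τ, R, j, h⟩ := exists_fq per te hZ hK e
  obtain ⟨Y, _, _, J, z, w, α, s, σ, O, H⟩ := h.exists_gl
  exact H.iso

end CF.StdZ.Bc
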