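import Cfsg.Agent.StdZ.BmH
import Cfsg.Agent.Mon.YL

/-! Lattice facts for the stabiliser of a triangle of minimal vectors. -/

set_option autoImplicit false
set_option maxHeartbeats 400000
set_option maxRecDepth 100000

namespace CF.StdZ.Bb

open Cfsg Subgroup CF.Leech CF.Mon CF.Mon.G CF.Mon.L CF.Mon.Lab CF.Known.Mon MulAction CF.LX CF.Loc
open CF.Even Function Spor CF.MonU CF.Mon.O CF.BabU CF.StdZ.Bm
open scoped commutatorElement Pointwise

def KL : List ℕ := [2254257, 9549656, 14217578, 13459774, 12814011, 1058756, 4279348, 1978347]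

theorem k256 : ∀ e ∈ [yE, dE, fE], ∀ c < 256, c ≠ 0 → ¬ lab (Mon.evL 1 [e] (xorSel KL c)) ≈ₗ lab (xorSel KL c) := by
  decide +kernel

/-- the class of the commutator -/
noncomputable def kp (γ : Gt) (p : Lab) : W2 := G.lam (γ • p) + G.lam p

theorem kp_mul (γ : Gt) (p q : Lab) : kp γ (p * q) = kp γ p + kp γ q := by
  simp only [kp, smul_mul', lam_mul]; abel

theorem kp_eq (γ : Gt) (p : Lab) : kp γ p = G.lam (γ • p * p) := (lam_mul _ _).symm

theorem kp_inv (γ : Gt) (p : Lab) : kp γ p⁻¹ = kp γ p := by simp only [kp, smul_inv', lam_inv]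

theorem big {γ : Gt} (h2 : PM (γ * γ)) (n : ¬ PM γ) (K : Subgroup Lab) (S : List W2) (c : K.index * S.length < 256) :
    ∃ p ∈ K, kp γ p ∉ S := by
  classical
  by_contra! h
  obtain ⟨δ, g, hg, k⟩ := cls_Gt (by rwa [← map_mul]) n
  obtain ⟨e, he, o, rfl⟩ : ∃ e ∈ [yE, dE, fE], e.Ok ∧ gOf e.val = g := by
    rcases hg with rfl | rfl | rfl
    exacts [⟨_, by simp, yE_Ok, gOf_yE⟩, ⟨_, by simp, dE_ok, gOf_dE⟩, ⟨_, by simp, fE_ok, rfl⟩]
  let u : Fin 256 → Lab := fun c => δ⁻¹ • lab (xorSel KL c)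
  haveI := Fintype.ofFinite (Lab ⧸ K)
  obtain ⟨x, y, xy, q⟩ := Fintype.exists_ne_map_eq_of_card_lt (β := (Lab ⧸ K) × S.toFinset)
    (fun c => (u c, ⟨kp γ ((u c : Lab ⧸ K).out⁻¹ * u c), List.mem_toFinset.2 (h _ (QuotientGroup.eq.1 (Quotient.out_eq _)))⟩))
    (by
      rw [Fintype.card_prod, Fintype.card_coe, ← Nat.card_eq_fintype_card, Fintype.card_fin]
      exact (Nat.mul_le_mul_left _ S.toFinset_card_le).trans_lt c)
  simp only [Prod.mk.injEq, Subtype.mk.injEq, kp_mul] at q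
  have a := q.2
  rw [q.1, add_right_inj] at a
  refine k256 e he (x.1 ^^^ y.1) (Nat.xor_lt_two_pow (n := 8) x.2 y.2) (fun z => xy (Fin.ext (Nat.eq_of_xor_eq_zero z))) ?_
  rw [lab_ev o, ← lam_eq_iff, ← lam_eq_iff.2 (bf_gOf k _), xorSel_xor,
    mul_smul, mul_smul, lam_smul, smul_eq_iff_eq_inv_smul, ← map_inv, lam_smul, lam_smul, lam_lab_xor, smul_add, smul_add,
    ← lam_smul, ← lam_smul, ← lam_smul, ← lam_smul]
  have := W2.add_self (G.lam (γ • u y))
  have := W2.add_self (G.lam (u x))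
  change G.lam (γ • u x) + G.lam (γ • u y) = G.lam (u x) + G.lam (u y)
  unfold kp at a
  grind

theorem bigA {γ : Gt} (h2 : PM (γ * γ)) (n : ¬ PM γ) (K : Subgroup Lab) {k : ℕ} (hk : K.index ≤ k) (S : List W2)
    (c : k * (2 * S.length) < 256) : ∃ p ∈ K, ∀ s ∈ S, kp γ p + s ∉ S1 tA := by
  obtain ⟨p, a, b⟩ := big h2 n K (S ++ S.map (· + G.lam tA)) (by
    rw [List.length_append, List.length_map, ← two_mul]; exact (Nat.mul_le_mul_right _ hk).trans_lt c)
  refine ⟨p, a, fun s hs e => b (List.mem_append.2 ((mem_S1.1 e).imp (fun e => by rwa [w2_eq.1 e]) fun e =>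
    List.mem_map.2 ⟨s, hs, ?_⟩))⟩
  rw [← e, add_comm, add_assoc, W2.add_self, add_zero]

theorem idx2 {A : Type*} [Group A] {K H : Subgroup A} (h : ∀ a ∈ H, ∀ b ∈ H, a ∉ K → b ∉ K → a * b ∈ K) {n : ℕ}
    (hn : H.index ≤ n) : (K ⊓ H).index ≤ 2 * n := by
  rw [← relIndex_mul_index (inf_le_right : K ⊓ H ≤ H), inf_relIndex_right]
  refine Nat.mul_le_mul (Nat.le_of_dvd two_pos (relIndex_dvd_two_iff.2 ?_)) hn
  by_cases e : ∀ a ∈ H, a ∈ K
  · exact ⟨1, one_mem _, fun b hb => .inr (e b hb)⟩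
  push Not at e
  obtain ⟨a, ha, n⟩ := e
  exact ⟨a, ha, fun b hb => or_iff_not_imp_right.2 fun k => h b hb a ha k n⟩

/-- the kernel of an additive function -/
def kf (f : Lab → ZMod 2) (h : ∀ p q, f (p * q) = f p + f q) : Subgroup Lab :=
  (MonoidHom.mk' (fun p => Multiplicative.ofAdd (f p)) fun p q => congrArg _ (h p q)).ker

theorem mem_kf {f : Lab → ZMod 2} {h : ∀ p q, f (p * q) = f p + f q} {p : Lab} : p ∈ kf f h ↔ f p = 0 := Iff.rfl

theorem idx_kf {f : Lab → ZMod 2} {h : ∀ p q, f (p * q) = f p + f q} {H : Subgroup Lab} {n : ℕ} (hn : H.index ≤ n) :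
    (kf f h ⊓ H).index ≤ 2 * n := idx2 (fun a _ b _ x y => by
  rw [mem_kf] at x y ⊢
  rw [h, (z2_cases _).resolve_left x, (z2_cases _).resolve_left y]; rfl) hn

/-- the labels commuting with `t` -/
def Pp (t : Lab) : Subgroup Lab := kf (bf · t) fun p q => bf_mul p q t

theorem mem_Pp {t p : Lab} : p ∈ Pp t ↔ bf p t = 0 := Iff.rfl

theorem idx_Pp (t : Lab) : (Pp t).index ≤ 2 := by
  simpa [Pp] using idx_kf (H := ⊤) (n := 1) (by simp)

/-- the labels commuting with the four-group -/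
def UU : Subgroup Lab := (Pp tA ⊓ Pp tB).copy {p | bf p tA = 0 ∧ bf p tB = 0} rfl

theorem idx_UU : UU.index ≤ 4 := by
  rw [show UU = Pp tA ⊓ Pp tB from copy_eq _ _ _]; exact idx_kf (idx_Pp tB)

theorem pauli_PB {p : Lab} : pauli p ∈ PB ↔ p ∈ UU := and_congr pauli_smul_eq_iff pauli_smul_eq_iff

instance (p : Lab) : Decidable (p ∈ UU) := decidable_of_iff (bf p tA = 0 ∧ bf p tB = 0) Iff.rfl

instance (p : Lab) : Decidable (p ∈ C3.RAB) := decidable_of_iff _ C3.mem_RAB.symm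

theorem smul_UU {γ : Gt} (h : γ ∈ PB) {p : Lab} (a : p ∈ UU) : γ • p ∈ UU :=
  ⟨(bf_fix h.1).trans a.1, (bf_fix h.2).trans a.2⟩

/-- the span of the classes of `tA` and `tB` -/
noncomputable def E2 : Submodule (ZMod 2) W2 := Submodule.span _ {G.lam tA, G.lam tB}

theorem A_E2 : G.lam tA ∈ E2 := Submodule.subset_span (by simp)

theorem B_E2 : G.lam tB ∈ E2 := Submodule.subset_span (by simp)

theorem S1_E2 : S1 tA ≤ E2 := Submodule.span_mono (by simp)

theorem mem_E2 {w : W2} : w ∈ E2 ↔ ∃ v ∈ C3.RAB, G.lam v = w := by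
  refine ⟨fun h => ?_, ?_⟩
  · obtain ⟨a, b, rfl⟩ := Submodule.mem_span_pair.1 h
    rcases z2_cases a with rfl | rfl <;> rcases z2_cases b with rfl | rfl
    exacts [⟨1, by decide, by simp [lam_one]⟩, ⟨tB, by decide +kernel, by simp⟩, ⟨tA, by decide +kernel, by simp⟩,
      ⟨tA * tB, by decide +kernel, by simp [lam_mul]⟩]
  · rintro ⟨_, rfl | rfl | rfl | rfl, rfl⟩
    exacts [lam_one ▸ zero_mem _, A_E2, B_E2, lam_mul _ _ ▸ add_mem A_E2 B_E2]

theorem cases_E2 {p : Lab} (h : G.lam p ∈ E2) : ∃ z, ∃ v ∈ C3.RAB, p = xp z * v :=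
  let ⟨v, a, b⟩ := mem_E2.1 h
  ⟨_, v, a, eq_xp_mul (lam_eq_iff.1 b.symm)⟩

theorem mem_E2_of {p : Lab} (h : ∀ r ∈ UU, bf r p = 0) : G.lam p ∈ E2 :=
  mem_of_perp fun r hr => h r ⟨hr _ A_E2, hr _ B_E2⟩

theorem bf_E2 {r q : Lab} (h : r ∈ UU) (hq : G.lam q ∈ E2) : bf r q = 0 := by
  obtain ⟨v, a, b⟩ := mem_E2.1 hq
  rw [← bf_congr b]
  rcases a with rfl | rfl | rfl | rfl
  exacts [bf_one' _, h.1, h.2, by rw [bf_mul', h.1, h.2, add_zero]]

theorem RAB_UU {v : Lab} (h : v ∈ C3.RAB) : v ∈ UU := by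
  rcases h with rfl | rfl | rfl | rfl <;> decide +kernel

theorem E2_UU {p : Lab} (h : G.lam p ∈ E2) : p ∈ UU :=
  ⟨(bf_comm _ _).trans (bf_E2 (by decide +kernel) h), (bf_comm _ _).trans (bf_E2 (by decide +kernel) h)⟩

theorem fix_RAB {γ : Gt} (h : γ ∈ PB) {v : Lab} (a : v ∈ C3.RAB) : γ • v = v := by
  rcases a with rfl | rfl | rfl | rfl
  exacts [smul_one _, h.1, h.2, by rw [smul_mul', h.1, h.2]]

theorem smul_E2 {g : Co0} (a : g • G.lam tA = G.lam tA) (b : g • G.lam tB = G.lam tB) {w : W2} (h : w ∈ E2) :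
    g • w = w := by
  obtain ⟨_, rfl | rfl | rfl | rfl, rfl⟩ := mem_E2.1 h
  exacts [by rw [lam_one, smul_zero], a, b, by rw [lam_mul, smul_add, a, b]]

theorem pm_of_U {γ : Gt} (h : ∀ p ∈ UU, kp γ p ∈ S1 tA) : PM γ := by
  have t : γ • tA ≈ₗ tA := (mem_S1.1 (h tA (by decide +kernel))).elim (fun e => lam_eq_iff.1 (w2_eq.1 e)) fun e =>
    absurd (lam_eq_iff.1 ((add_eq_right.1 e).trans lam_one.symm)) (Gr.not_short_one (short_tA.smul γ))
  have s : ∀ p ∈ UU, G.lam ((γ * γ) • p) = G.lam p := fun p hp => by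
    have := smul_S1 ((lam_smul _ _).symm.trans (lam_eq_iff.2 t)) (h p hp)
    rw [kp, smul_add, ← lam_smul, ← lam_smul, add_comm, add_right_inj] at this
    rwa [mul_smul]
  generalize e : γ * γ = δ at s
  have a : ∀ p, kp δ p ∈ E2 := fun p => kp_eq _ _ ▸ mem_E2_of fun r hr => by
    rw [bf_mul', bf_comm, ← bf_congr (s r hr), bf_smul, bf_comm, z2_add_self]
  have d : PM δ := by
    by_contra n
    obtain ⟨p, -, b⟩ := big (γ := δ) (by
      refine gOf_of_eqv fun p => lam_eq_iff.1 (w2_eq.1 ?_)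
      have := s _ (E2_UU (kp_eq _ _ ▸ a p))
      rw [smul_mul', lam_mul, lam_mul, add_comm (G.lam (δ • p)) (G.lam p), add_left_inj] at this
      rw [mul_smul, this, W2.add_self]) n ⊤ [G.lam 1, G.lam tA, G.lam tB, G.lam (tA * tB)] (by simp)
    obtain ⟨_, rfl | rfl | rfl | rfl, k⟩ := mem_E2.1 (a p) <;> simp [k] at b
  by_contra n
  obtain ⟨p, a, b⟩ := bigA (e ▸ d) n UU idx_UU [0] (by simp)
  exact b 0 (by simp) (by simpa using h p a)

/-! ### the fixed classes of the monomial stabiliser -/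

def fY0 : List ℕ := [
  0x842108421085210842108421084214, 0x84210842108521084210842108420c,
  0x8bdf18c5ef7ae2f7bdef8c5ef8bdef, 0x8420c8421085210842108421084210,
  0x642108421085210842108421084210, 0x842108421085210842908421084210,
  0x842108421085210842108421484210, 0x842108421085210852108421084210,
  0x842108421085210842106421084210, 0x842108421085214842108421084210,
  0x842106421085210842108421084210, 0x8421084210a5210842108421084210,
  0x842908421085210842108421084210, 0x84a1073a10842109421083a5274210,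
  0x84a1083a1084a1094a1283a1084212, 0x8424e73a1084a1094a108421074210,
  0x742508421094a10942108425274210, 0x8420e8425284210842508421274a50,
  0x7421084250849d0942128421284212, 0x742108421284a12842128421274250,
  0x74a507425084210842108425284212, 0x84a10742109421084a1083a1284252,
  0x7421084250941d0842508425284a10, 0x7424e842508421094a508421284210]

def fA0 : List ℕ := [
  7594, 7593, 1462239, 7608, 7595, 1177, 6571, 5843,
  5544, 1840, 2602, 1866, 2962, 9642753, 9697402, 13585201,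
  9454320, 14989499, 9485768, 5743401, 1368755, 8252064, 12940666, 8427858]

def fM0 : List ℕ := [
  0, 0, 0, 0, 0, 0, 0, 4528,
  0, 5041, 4777, 184, 4320, 0, 0, 11260776,
  13918865, 12342032, 7881393, 0, 4608905, 2245052, 2125865, 1823201]

def fY1 : List ℕ := [
  0x8420c842108421084210842108420c, 0x8420c8421084210842108421084214,
  0x8c5f58be2f7c6317be318be2f8c631, 0x8420c8421084210842108521084210,
  0x8420c8421084210842108421064210, 0x8420c8421084210841908421084210,
  0x8420c8421084210842108421484210, 0x8420c8421084210a42108421084210,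
  0x8420c8419084210842108421084210, 0x8420c84210a4210842108421084210,
  0x8420c8421084210842108419084210, 0x8320c8421084210842108421084210,
  0x6420c8421084210842108421084210, 0x8425074a1283a0e84210841d284210,
  0x8420e7421283a0e9420e842108420e, 0x7424e742128421094210849d084210,
  0x73a4e84a1284210842108421274210, 0x8425084210841d0849d084a12839d0,
  0x8420e84212841d08420e742127420e, 0x8424e842109421084a0e84212741d0,
  0x7421084a10841ce84210841d27420e, 0x83a108421083a0e94210841d2841ce,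
  0x83a1084a10841d0841d07421273a10, 0x7421084212841d0941d084a1274210]

def fA1 : List ℕ := [
  18, 17, 8888645, 272, 5448, 6433, 1040, 48,
  83, 6897, 27, 1506, 16, 2750826, 15104448, 14197739,
  4952249, 11297081, 90240, 2181250, 2732867, 13870881, 9396225, 13123827]

def fM1 : List ℕ := [
  0, 0, 0, 0, 0, 0, 9, 0,
  0, 0, 4952, 40, 4944, 0, 0, 0,
  0, 0, 0, 0, 2696024, 12600189, 10281409, 4715384]

theorem f0_ok : isCo fY0 fA0 = true := by decide +kernel
theorem f1_ok : isCo fY1 fA1 = true := by decide +kernel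

theorem red_uB : red uB = wd 3667 :=
  (red_eq_clsN (a := 0x842108421084210842108421083214) (by decide +kernel)).trans
    (congrArg wd (by decide +kernel))

noncomputable def fR (q : ℕ) : ℕ := Nat.xor (Nat.xor (2 ^ q)
  (xorSel fM0 (Nat.xor (xorSel fA0 (xorSel fA0 (2 ^ q))) (2 ^ q))))
  (xorSel fM1 (Nat.xor (xorSel fA1 (xorSel fA1 (2 ^ q))) (2 ^ q)))

theorem fR_check : ∀ q < 24, fR q = 0 ∨ fR q = Nat.xor 1770 3 ∨ fR q = 3 ∨ fR q = Nat.xor 1770 3667 := by
  decide +kernel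

theorem fixB {w : W2} (h : ∀ g : Co0, g • w8 = w8 → g • G.lam tA = G.lam tA → g • G.lam tB = G.lam tB → g • w + w ∈ E2) :
    w ∈ E2 ∨ w + w8 ∈ E2 := by
  have r0 := (coOf_spec f0_ok).2
  have r1 := (coOf_spec f1_ok).2
  generalize coOf fY0 = g0 at r0
  generalize coOf fY1 = g1 at r1
  have u : G.lam tA = wd 1770 := lam_tA.trans red_uA
  have u' : G.lam tB = wd 3667 := lam_tB.trans red_uB
  have key : ∀ v : W2, ∃ c : ZMod 2, v + O.lin fM0 (g0 • g0 • v + v) + O.lin fM1 (g1 • g1 • v + v) + c • w8 ∈ E2 := by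
    refine W2_induction ⟨0, by simp⟩ (fun x y ⟨c, a⟩ ⟨d, b⟩ => ⟨c + d, ?_⟩) fun q hq => ?_
    · convert E2.add_mem a b using 1
      simp only [smul_add, map_add, add_smul]; abel
    · rw [r0.smul_wd, r0.smul_wd, r1.smul_wd, r1.smul_wd, ← wd_xor, ← wd_xor, lin_wd rfl, lin_wd rfl,
        ← wd_xor, ← wd_xor]
      change ∃ c : ZMod 2, wd (fR q) + _ ∈ _
      have a := u ▸ A_E2
      rcases fR_check q hq with e | e | e | e <;> rw [e, w8_eq]
      exacts [⟨0, by simp [wd_zero]⟩, ⟨1, by rwa [wd_xor, one_smul, add_assoc, W2.add_self, add_zero]⟩,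
        ⟨1, by simp [W2.add_self]⟩, ⟨0, by rw [wd_xor, zero_smul, add_zero]; exact add_mem a (u' ▸ B_E2)⟩]
  have sq : ∀ {g : Co0} {A}, RepM g A → xorSel A 3 = 3 ∧ xorSel A 1770 = 1770 ∧ xorSel A 3667 = 3667 →
      g • g • w + w = 0 := fun {g A} r k => by
    have a : g • G.lam tA = G.lam tA := by rw [u, r.smul_wd, k.2.1]
    have b : g • G.lam tB = G.lam tB := by rw [u', r.smul_wd, k.2.2]
    have := smul_E2 a b (h g (by rw [w8_eq, r.smul_wd, k.1]) a b)
    rw [smul_add, add_comm (g • w) w, add_left_inj] at this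
    rw [this, W2.add_self]
  obtain ⟨c, this⟩ := key w
  rw [sq r0 (by decide +kernel), sq r1 (by decide +kernel), map_zero, map_zero, add_zero, add_zero] at this
  rcases z2_cases c with rfl | rfl
  exacts [.inl (by simpa using this), .inr (by simpa using this)]

end CF.StdZ.Bb
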