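import Cfsg.Agent.StdZ.BbA
import Cfsg.Agent.Mon.Cert

/-! Words in explicit elements, and the labels joined to `tA`. -/

set_option autoImplicit false
set_option maxHeartbeats 400000
set_option maxRecDepth 100000

namespace CF.StdZ.Bb

open Cfsg Subgroup CF.Leech CF.Mon CF.Mon.G CF.Mon.L CF.Mon.Lab CF.Known.Mon MulAction CF.LX CF.Loc
open CF.Even Function Spor CF.MonU CF.Mon.O CF.BabU CF.StdZ.Bm
open scoped commutatorElement Pointwise

/-- the generators -/
noncomputable def el (k : ℕ) : El :=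
  Nat.rec (motive := fun _ => El) gP (fun k _ => Nat.rec (motive := fun _ => El) gG (fun k _ => Tr.yT.get (k + 2)) k) k

theorem el_ok {w : List ℕ} : ∀ e ∈ w.map el, e.Ok := by
  simp only [List.mem_map]
  rintro _ ⟨_ | _ | k, -, rfl⟩
  exacts [gP_spec.1, gG_spec.1, Tr.okT _]

/-- the value of a word -/
noncomputable def wg (w : List ℕ) : Gt := prodE (w.map el)

/-- the action of a word -/
noncomputable def ev (w : List ℕ) (x : ℕ) : Lab := lab (Mon.evL 1 (w.map el) x)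

theorem wg_smul (w : List ℕ) (x : ℕ) : wg w • lab x = ev w x := (lab_evL el_ok x).symm

theorem wg_A {w : List ℕ} {p : Lab} (h : ev w 12288 = p) : wg w • tA = p := by rw [← lab_tA, wg_smul, h]

theorem wg_B {w : List ℕ} {p : Lab} (h : ev w 20480 = p) : wg w • tB = p := by rw [← lab_tB, wg_smul, h]

theorem exB (w : List ℕ) (x : ℕ) {p q : Lab} (h : ev w 12288 = tA ∧ ev w 20480 = tB ∧ lab x = p ∧ ev w x = q) :
    ∃ γ ∈ PB, γ • p = q := ⟨_, ⟨wg_A h.1, wg_B h.2.1⟩, by rw [← h.2.2.1, wg_smul, h.2.2.2]⟩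

def sW : List (List ℕ) := [[], [6], [7], [11], [7, 6], [9, 6], [11, 6], [11, 7], [14, 11], [11, 7, 6], [11, 9, 6],
  [10, 11, 6], [14, 11, 6], [10, 11, 7, 6], [14, 11, 7, 6], [10, 11, 9, 6], [14, 10, 11, 6], [6, 10, 11, 7, 6],
  [8, 14, 11, 7, 6], [11, 14, 10, 11, 6], [5, 6, 10, 11, 7, 6], [9, 8, 14, 11, 7, 6]]

def sM : List ℕ := [43275, 0, 0, 4180385, 2695064, 4067994, 600695, 3913554, 2193469, 4059130, 2081388, 1057868,
  3561370, 2421027, 42557, 1179913, 3378149, 1458308, 1179776, 1285312, 1460430, 384, 1179783, 1]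

theorem span_ok : (∀ w ∈ sW, ev w 12288 = tA ∧ ev w 20480 = tB) ∧ ∀ k < 24, lab (2 ^ k) * FP (lab (2 ^ k)) [(tA, X 1), (tB, X 2)] ≈ₗ
    lab (xorSel (sW.map fun w => Mon.evL 1 (w.map el) 25165824) (sM.getD k 0)) := by decide +kernel

theorem X11_PB : pauli (X 11) ∈ PB := pauli_PB.2 ⟨bf_11A, bf_11B⟩

theorem spanB {R : Subgroup Lab} (hR : ∀ γ ∈ PB, ∀ p ∈ R, γ • p ∈ R) (hY : Y0 ∈ R) {p : Lab} (hp : p ∈ UU) : p ∈ R := by
  have hx := xc_mem_of hY (hR _ X11_PB _ hY) bf_11Y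
  have a : ∀ L : List ℕ, (∀ n ∈ L, lab n ∈ R) → ∀ m, lab (xorSel L m) ∈ R := fun L => by
    induction L with
    | nil => exact fun _ _ => (show lab 0 = 1 by decide +kernel) ▸ one_mem R
    | cons n L ih =>
      intro h m
      refine mem_of_eqv hx (lam_eq_iff.1 ((lam_lab_xor _ _).trans (lam_mul _ _).symm))
        (mul_mem ?_ (ih (fun k hk => h k (List.mem_cons_of_mem _ hk)) _))
      change lab (n * (m &&& 1)) ∈ R
      rcases Nat.mod_two_eq_zero_or_one m with e | e <;> rw [Nat.and_one_is_mod, e]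
      exacts [(show lab 0 = 1 by decide +kernel) ▸ one_mem R, (mul_one n).symm ▸ h n List.mem_cons_self]
  have b : ∀ k < 24, lab (2 ^ k) * FP (lab (2 ^ k)) [(tA, X 1), (tB, X 2)] ∈ R := fun k hk =>
    mem_of_eqv hx (span_ok.2 k hk) (a _ (by
      simp only [List.mem_map]
      rintro _ ⟨w, hw, rfl⟩
      exact (congrArg (· ∈ R) (wg_smul w _)).mp (hR _ ⟨wg_A (span_ok.1 w hw).1, wg_B (span_ok.1 w hw).2⟩ _
        ((show Y0 = lab 25165824 by decide +kernel) ▸ hY))) _)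
  have := Lab.induction (P := fun p => p * FP p [(tA, X 1), (tB, X 2)] ∈ R)
    ((show xc = xc * FP xc [(tA, X 1), (tB, X 2)] by decide +kernel) ▸ hx) (fun k => lab_X k ▸ b k (by omega))
    (fun k => lab_Z k ▸ b _ (by omega)) (fun p q a b => mem_of_eqv hx (lam_eq_iff.1 (by
      simp only [lam_mul, lam_FP]; abel)) (mul_mem a b)) p
  rwa [FP_one (by simpa using id (α := _ ∧ _) hp), mul_one] at this

/-- the labels joined to `tA` -/
def DL (p : Lab) : Prop := Short p ∧ Short (tA * p)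

theorem DL.smul {p : Lab} (h : DL p) {γ : Gt} (a : γ ∈ PA) : DL (γ • p) :=
  ⟨h.1.smul γ, by rw [← mem_stabilizer_iff.1 a, ← smul_mul']; exact h.2.smul γ⟩

theorem dl_B : DL tB := ⟨short_tB, short_xB.2.2⟩

theorem dl_YB : DL (Y0 * tB) :=
  ⟨(short_m4 (i := 0) (j := 2) (by decide) (by decide) p02).2.congr (by decide +kernel),
    (short_m4 (i := 1) (j := 2) (by decide) (by decide) p12).2.congr (by decide +kernel)⟩

theorem DL.short {p q : Lab} (h : DL p) (e : G.lam q + G.lam p ∈ S1 tA) : Short q := by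
  rcases mem_S1.1 e with e | e
  exacts [h.1.congr (lam_eq_iff.1 (w2_eq.1 e)),
    h.2.congr (lam_eq_iff.1 (by rw [lam_mul, ← e, add_assoc, W2.add_self, add_zero]))]

theorem DL.rep {p : Lab} (h : DL p) : ∃ x, nm x = 32 ∧ dt x uA = 16 ∧ red x = G.lam p := by
  obtain ⟨⟨x, a, b⟩, c⟩ := h
  rcases Gr.dt_of_short a nm_uA (c.congr (lam_eq_iff.1 (by rw [lam_cls, map_add, lam_mul, lam_tA, lam_eq.2 b, add_comm]))) with e | e
  exacts [⟨x, a, e, (lam_eq.2 b).symm⟩, ⟨-x, (nm_neg x).trans a, by rw [dt_neg_left, e]; rfl, (red_neg x).trans (lam_eq.2 b).symm⟩]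

theorem DL.bf {p : Lab} (h : DL p) : bf p tA = 0 := by
  obtain ⟨x, -, a, b⟩ := h.rep
  rw [Eqv.bf (lam_eq.1 b.symm) (.refl _), ← cls_uA, bf_cls, d8_eq_zero, a]

theorem pair {x y : LL} (hx : nm x = 32) (hy : nm y = 32) (a : dt x uA = 16) (b : dt y uA = 16) (c : bf (cls x) (cls y) = 0)
    (n : red x + red y ∉ S1 tA) : dt x y = 0 ∨ dt x y = 16 := by
  rw [bf_cls, d8_eq_zero] at c
  rcases dt_cases hx hy with rfl | rfl | e | e | e | e | e
  exacts [(n (W2.add_self _ ▸ zero_mem _)).elim, (n (by rw [red_neg, W2.add_self]; exact zero_mem _)).elim, .inr e, by omega,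
    .inl e, by omega, (n (by
      rw [← map_add, sub_eq_zero.1 (nm_eq_zero.1 (by rw [nm_sub, nm_add, dt_add_left, hx, hy, nm_uA, a, b, e]; rfl) :
        x + y - uA = 0), ← lam_tA]
      exact t_mem_S1 _)).elim]

theorem bf_S1' {p q r : Lab} (h : bf r tA = 0) (e : G.lam p + G.lam q ∈ S1 tA) : bf r p = bf r q := by
  have := bf_S1 h (lam_mul p q ▸ e)
  rw [bf_mul'] at this
  linear_combination this - z2_add_self (bf r q)

theorem aff {q : Fin 4 → Lab} (d : ∀ i, DL (q i)) (b : ∀ i, bf (q i) tB = 0) (c : ∀ i j, bf (q i) (q j) = 0)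
    (n0 : ∀ i, G.lam (q i) + G.lam tB ∉ S1 tA) (n : ∀ i j, i ≠ j → G.lam (q i) + G.lam (q j) ∉ S1 tA)
    (t : ∀ i j, i ≠ j → DL (q i * q j * tB)) : False := by
  have ab := dt_uA_uB
  have aa := (dt_self uA).trans nm_uA
  have : ∀ i, ∃ x, nm x = 32 ∧ dt x uA = 16 ∧ dt x uB = 16 ∧ red x + G.lam (q i) ∈ S1 tA := fun i => by
    obtain ⟨x, a, e, f⟩ := (d i).rep
    rcases pair a nm_uB e (dt_comm _ _ ▸ ab) (by rw [cls_uB, ← Eqv.bf (lam_eq.1 f.symm) (.refl _), b])
      (by rw [f, ← lam_tB]; exact n0 i) with k | k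
    · exact ⟨uA - x, by rw [nm_sub, nm_uA, a, dt_comm, e]; rfl, by rw [dt_sub_left, e, aa]; rfl, by rw [dt_sub_left, k, ab]; rfl,
        by rw [red_sub, f, add_assoc, W2.add_self, add_zero, ← lam_tA]; exact t_mem_S1 _⟩
    · exact ⟨x, a, e, k, by rw [f, W2.add_self]; exact zero_mem _⟩
  choose x x1 x2 x3 x4 using this
  have o : ∀ i j, i ≠ j → dt (x i) (x j) = 0 := fun i j e => by
    have s := add_mem (x4 i) (x4 j)
    refine (pair (x1 i) (x1 j) (x2 i) (x2 j) ?_ fun k => n i j e ?_).resolve_right fun k => ?_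
    · rw [bf_S1' (q := q j) (by rw [← cls_uA, bf_cls, d8_eq_zero, x2]) (by rw [lam_cls]; exact x4 j), bf_comm,
        bf_S1' (q := q i) (d j).bf (by rw [lam_cls]; exact x4 i), c]
    · rwa [add_add_add_comm, add_mem_cancel_left k] at s
    · refine not_short64 (y := x i + x j - uB) (by rw [nm_sub, nm_add, dt_add_left, x1, x1, x3, x3, k, nm_uB]; rfl) (.refl _)
        ((t i j e).short ?_)
      convert s using 1
      rw [lam_cls, red_sub, map_add, lam_mul, lam_mul, lam_tB]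
      have := W2.add_self (red uB)
      grind
  have := nm_cases (uA + uB - (x 0 + x 1 + (x 2 + x 3)))
  rw [← nm_eq_zero] at this
  simp only [nm_sub, nm_add, dt_add_left, dt_add_right, dt_comm uA (x _), dt_comm uB (x _), x1, x2, x3, nm_uA, nm_uB, ab,
    o 0 1 (by decide), o 0 2 (by decide), o 0 3 (by decide), o 1 2 (by decide), o 1 3 (by decide), o 2 3 (by decide)] at this
  omega

theorem two (a b : Lab) : ∃ p, DL p ∧ bf p a = 0 ∧ bf p b = 0 := by
  by_contra! h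
  let R : Subgroup Lab :=
    { carrier := {p | ∀ γ ∈ PA, bf (γ • p) a = 0 ∧ bf (γ • p) b = 0}
      one_mem' := fun γ _ => by simp
      mul_mem' := fun x y γ k => by simp [smul_mul', bf_mul, x γ k, y γ k]
      inv_mem' := fun x γ k => by simpa only [smul_inv', Eqv.bf (inv_eqv _) (.refl _)] using x γ k }
  have := perp_le (R := R) (fun γ k p x δ l => mul_smul δ γ p ▸ x _ (mul_mem l k)) (fun γ k => ?_) dl_B.bf 1 (one_mem _)
  · exact h _ (dl_B.smul (one_mem _)) this.1 this.2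
  have d : ∀ i : Fin 8, i ≠ 0 → DL (e9 (vv 0) * e9 (vv i)) ∧ DL (Y0 * (e9 (vv 0) * e9 (vv i))) := fun i n => by
    obtain ⟨σ, hσ, s0, s1, s2⟩ := CF.Comp.Mat.M24_three p01 p02 p12 p01 (oP_inj.ne (Ne.symm n) : oP 0 ≠ oP i)
      fun e => p1_o1 (mem_o1.2 ⟨i, e.symm⟩)
    obtain ⟨δ, c, e⟩ := exists_mm hσ
    have l : δ ∈ PA := by rw [mem_stabilizer_iff, ← mm_A, e, s0, s1]
    have y : δ • Y0 = Y0 := by rw [Y0, smul_xc_mul, mem_Np.1 (C0_le_Np c)]
    have f : e9 (vv 0) * e9 (vv i) ≈ₗ δ • tB := by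
      have := mm_add (oP 0) (oP 2) (oP i)
      rw [mm_swap (oP i) (oP 2)] at this
      rw [← mm_B, e, s0, s2, ← cls_m4_oP, ← cls_m4_oP]
      exact this.symm
    have u := dl_B.smul l
    have v := dl_YB.smul l
    rw [smul_mul', y] at v
    exact ⟨⟨u.1.congr f, u.2.congr ((Eqv.refl _).mul f)⟩, v.1.congr ((Eqv.refl _).mul f),
      v.2.congr ((Eqv.refl _).mul ((Eqv.refl _).mul f))⟩
  by_contra n
  have z : ∀ s t u v : ZMod 2, ¬ (s = 0 ∧ t = 0) → (u = 0 → v ≠ 0) → (s + u = 0 → t + v ≠ 0) → t * u + s * v = 1 := by decide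
  have f := fun i m => z _ _ _ _ n (h _ ((d i m).1.smul k)) (by
    simpa only [smul_mul' γ Y0, bf_mul (γ • Y0)] using h _ ((d i m).2.smul k))
  generalize e : (fun i => e9 (vv 0) * e9 (vv i)) = m
  replace e := fun i => congrFun e i
  simp only [e] at f
  have p : ∀ c, bf (γ • (m 1 * m 2 * m 3 * m 4 * m 5 * m 6 * m 7)) c = 0 := fun c => by
    rw [Eqv.bf (Eqv.smul γ (q := 1) (by simp only [← e]; decide +kernel)) (.refl _), smul_one, bf_one]
  have p1 := p a
  have p2 := p b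
  simp only [smul_mul', bf_mul] at p1 p2
  exact absurd (show (7 : ZMod 2) = 0 by
    linear_combination bf (γ • Y0) b * p1 + bf (γ • Y0) a * p2 - f 1 (by decide) - f 2 (by decide) - f 3 (by decide) -
      f 4 (by decide) - f 5 (by decide) - f 6 (by decide) - f 7 (by decide)) (by decide)

theorem fix0 {c : Finset Pt} (hc : c ∈ CS) (h3 : 2 < cᶜ.card) (ne : c.Nonempty) {u : LL} (hu : nm u = 32)
    (e : Mon.G.eps hc • u = u) : ∃ x, nm x = 32 ∧ Mon.G.eps hc • x = x ∧ (dt x u = 16 ∨ dt x u = -16) := by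
  have z : ∀ i, (u : V) i ≠ 0 → i ∉ c := fun i n k => by
    have := eps_apply hc u i
    rw [e, if_pos k] at this
    omega
  have k : ∀ i j, i ≠ j → i ∉ c → j ∉ c → |(u : V) i| + |(u : V) j| = 4 →
      ∃ x, nm x = 32 ∧ Mon.G.eps hc • x = x ∧ (dt x u = 16 ∨ dt x u = -16) := fun i j n a b d => by
    have f : ∀ {x : LL}, (∀ k, k ≠ i → k ≠ j → (x : V) k = 0) → Mon.G.eps hc • x = x := fun h => LL.ext fun k => by
      rw [eps_apply]
      split_ifs with l
      exacts [by rw [h k (fun e => a (e ▸ l)) fun e => b (e ▸ l), neg_zero], rfl]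
    by_cases s : |(u : V) i + (u : V) j| = 4
    · exact ⟨p4 i j, nm_p4 n, f fun k a b => by simp [p4_apply, a, b], by rw [dt_comm, dt_p4]; grind⟩
    · exact ⟨m4 i j, nm_m4 n, f fun k a b => by simp [m4_apply, a, b], by rw [dt_comm, dt_m4]; grind⟩
  rcases short_cases hu with ⟨i, j, n, a⟩ | ⟨o, ho, δ, a, b, rfl⟩ | ⟨i, d, hd, rfl⟩
  · obtain ⟨l, hl, b⟩ := Finset.exists_mem_notMem_of_card_lt_card (s := {i, j}) (Finset.card_le_two.trans_lt h3)
    simp only [Finset.mem_insert, Finset.mem_singleton, not_or] at b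
    have : |(u : V) i| = 4 ∧ (u : V) l = 0 := by
      rcases a with rfl | rfl | rfl <;> simp [m4_apply, p4_apply, n, b.1, b.2]
    exact k i l (Ne.symm b.1) (z i fun e => by simp [e] at this) (Finset.mem_compl.1 hl) (by simp [this])
  · obtain ⟨i, hi, j, hj, n⟩ := Finset.one_lt_card.1 (show 1 < o.card by rw [ho.2]; decide)
    have : ∀ i ∈ o, |(vT o δ : V) i| = 2 := fun i hi => by
      rw [vT_apply ho.1 b]
      rcases ind_cases δ i with e | e <;> simp [ind, hi, e.1]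
    exact k i j n (z i fun e => by simpa [e] using this i hi) (z j fun e => by simpa [e] using this j hj)
      (by rw [this i hi, this j hj]; rfl)
  · obtain ⟨l, hl⟩ := ne
    refine (z l ?_ hl).elim
    rw [vX_apply _ hd]
    rcases ind_cases d l with e | e <;> split_ifs <;> simp [e.2]

theorem fixD {γ : Gt} (a : γ ∈ PA) (h : PM (γ * γ)) : ∃ p, DL p ∧ kp γ p = 0 := by
  by_cases n : PM γ
  · exact ⟨tB, dl_B, by rw [kp, lam_smul, n.lam, W2.add_self]⟩
  obtain ⟨δ, g, hg, k⟩ := cls_fix short_tA a (by rwa [← map_mul]) n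
  obtain ⟨c, hc, c1, c2, rfl⟩ : ∃ c, ∃ hc : c ∈ CS, 2 < c.card ∧ 2 < cᶜ.card ∧ Mon.G.eps hc = g := by
    rcases hg with rfl | rfl
    exacts [⟨_, o1_CS, by decide +kernel, by decide +kernel, gOf_yE.symm⟩, ⟨_, d1_CS, by decide +kernel, by decide +kernel, gOf_dE.symm⟩]
  have r : ∀ w : W2, gOf (δ * γ * δ⁻¹) • w = Mon.G.eps hc • w := fun w => by
    rcases k with k | k <;> rw [k]
    rw [mul_smul, negCo_red]
  have hu := (co_nm (gOf δ) uA).trans nm_uA
  obtain ⟨x, x1, x2, x3⟩ : ∃ x, nm x = 32 ∧ Mon.G.eps hc • red x = red x ∧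
      (dt x (gOf δ • uA) = 16 ∨ dt x (gOf δ • uA) = -16) := by
    rcases (smul_red_iff (g := Mon.G.eps hc) (hu.trans_le (by norm_num))).1 (by
      rw [← r, red_smul, ← mul_smul, ← map_mul, inv_mul_cancel_right, map_mul, mul_smul, red_uA_fix a]) with e | e
    · obtain ⟨x, x1, x2, x3⟩ := fix0 hc c2 (Finset.card_pos.1 (by omega)) hu e
      exact ⟨x, x1, by rw [← red_smul, x2], x3⟩
    · obtain ⟨x, x1, x2, x3⟩ := fix0 (compl_mem_CS hc) (by rwa [compl_compl]) (Finset.card_pos.1 (by omega)) hu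
        (by rw [eps_compl hc, e, neg_neg])
      exact ⟨x, x1, by rw [← red_smul, ← red_neg, ← eps_compl hc, x2], x3⟩
  have s : ∀ y, nm y = 32 → red y = red (gOf δ • uA) + red x → Short (tA * δ⁻¹ • cls x) := fun y a b =>
    ((short_cls a).smul δ⁻¹).congr (lam_eq_iff.1 (by
      rw [lam_mul, lam_smul, lam_smul, lam_cls, lam_cls, b, smul_add, red_smul, map_inv, inv_smul_smul, lam_tA]))
  refine ⟨δ⁻¹ • cls x, ⟨(short_cls x1).smul _, ?_⟩, ?_⟩
  · rcases x3 with e | e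
    exacts [s _ (by rw [nm_sub, hu, x1, dt_comm, e]; rfl) (red_sub _ _), s _ (by rw [nm_add, hu, x1, dt_comm, e]; rfl) (map_add _ _ _)]
  · rw [kp, w2_eq, ← mul_smul, show γ * δ⁻¹ = δ⁻¹ * (δ * γ * δ⁻¹) by group, mul_smul, lam_smul, lam_smul, lam_smul, lam_cls, r, x2]

end CF.StdZ.Bb
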