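import Cfsg.Agent.StdZ.BbB
import Cfsg.Agent.S2603
import Cfsg.Agent.S0283
import Cfsg.Agent.S1577

/-! The automorphisms of the parabolic subgroup `2 ^ (2 + 1 + 20) . U₆(2)`. -/

set_option autoImplicit false
set_option maxHeartbeats 400000
set_option maxRecDepth 100000

namespace CF.StdZ.Bb

open Cfsg Subgroup CF.Leech CF.Mon CF.Mon.G CF.Mon.L CF.Mon.Lab CF.Known.Mon MulAction CF.LX CF.Loc
open CF.Even Function Spor CF.MonU CF.Mon.O CF.BabU CF.StdZ.Bm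
open scoped commutatorElement Pointwise

section
variable {A L ι : Type*} [Group A] [Group L] {H Z : Subgroup A} {φ : H →* L} {R : Subgroup (A × A)}

theorem exists_aut (hs : Surjective φ) (hk : ∀ a, φ a = 1 ↔ (a : A) ∈ Z) (mem : ∀ a b, (a, b) ∈ R → a ∈ H ∧ b ∈ H)
    (tot : ∀ a ∈ H, ∃ b, (a, b) ∈ R) (sur : ∀ b ∈ H, ∃ a, (a, b) ∈ R) (ker : ∀ a b, (a, b) ∈ R → (a ∈ Z ↔ b ∈ Z)) :
    ∃ θ : MulAut L, ∀ a b : H, ((a : A), (b : A)) ∈ R → θ (φ a) = φ b := by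
  have key : ∀ a b a' b' : H, ((a : A), (b : A)) ∈ R → ((a' : A), (b' : A)) ∈ R →
      (φ a = φ a' ↔ φ b = φ b') := fun a b a' b' h h' => by
    rw [← mul_inv_eq_one, ← mul_inv_eq_one (a := φ b), ← map_inv, ← map_inv, ← map_mul, ← map_mul, hk, hk]
    exact ker _ _ (R.mul_mem h (R.inv_mem h'))
  obtain ⟨θ, hθ⟩ := exists_hom_of_rel
    (fun l l' : L => ∃ a b : H, ((a : A), (b : A)) ∈ R ∧ φ a = l ∧ φ b = l')
    (fun l => by
      obtain ⟨a, rfl⟩ := hs l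
      obtain ⟨b, h⟩ := tot a a.2
      exact ⟨_, a, ⟨b, (mem _ _ h).2⟩, h, rfl, rfl⟩)
    (by rintro _ _ _ ⟨a, b, h, rfl, rfl⟩ ⟨a', b', h', e, rfl⟩; exact (key _ _ _ _ h h').1 e.symm)
    (by rintro _ _ _ _ ⟨a, b, h, rfl, rfl⟩ ⟨a', b', h', rfl, rfl⟩
        exact ⟨a * a', b * b', R.mul_mem h h', map_mul _ _ _, map_mul _ _ _⟩)
  refine ⟨MulEquiv.ofBijective θ ⟨fun l l' e => ?_, fun l => ?_⟩, fun a b h => (hθ _ _).2 ⟨a, b, h, rfl, rfl⟩⟩
  · obtain ⟨a, b, h, rfl, k⟩ := (hθ l _).1 rfl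
    obtain ⟨a', b', h', rfl, k'⟩ := (hθ l' _).1 rfl
    exact (key _ _ _ _ h h').2 (k.trans (e.trans k'.symm))
  · obtain ⟨b, rfl⟩ := hs l
    obtain ⟨a, h⟩ := sur b b.2
    exact ⟨φ ⟨a, (mem _ _ h).1⟩, (hθ _ _).2 ⟨_, b, h, rfl, rfl⟩⟩

theorem real [Fintype ι] [Nonempty ι] (hs : Surjective φ) (hk : ∀ a, φ a = 1 ↔ (a : A) ∈ Z)
    (hL : Nat.card (Cfsg.Out L) = Fintype.card ι) {n : ι → A} (hH : ∀ i, n i ∈ 𝐍(H)) (hZ : ∀ i, n i ∈ 𝐍(Z))
    (nc : ∀ i j, ∀ c ∈ H, (∀ a ∈ H, n i * a * (n i)⁻¹ * (c * n j * a * (c * n j)⁻¹)⁻¹ ∈ Z) → i = j)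
    (mem : ∀ a b, (a, b) ∈ R → a ∈ H ∧ b ∈ H)
    (tot : ∀ a ∈ H, ∃ b, (a, b) ∈ R) (sur : ∀ b ∈ H, ∃ a, (a, b) ∈ R) (ker : ∀ a b, (a, b) ∈ R → (a ∈ Z ↔ b ∈ Z)) :
    ∃ i, ∃ c ∈ H, ∀ a b, (a, b) ∈ R → b * (c * n i * a * (c * n i)⁻¹)⁻¹ ∈ Z := by
  have m := fun i {a} (h : a ∈ H) => (mem_normalizer_iff.1 (hH i) a).1 h
  choose θ hθ using fun i => exists_aut hs hk
    (R := (H ⊓ ⊤).map ((MonoidHom.id A).prod (MulAut.conj (n i)).toMonoidHom))
    (by rintro _ _ ⟨a, h, ⟨⟩⟩; exact ⟨h.1, m i h.1⟩) (fun a h => ⟨_, a, ⟨h, trivial⟩, rfl⟩)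
    (fun b h => ⟨(n i)⁻¹ * b * n i, (n i)⁻¹ * b * n i, ⟨(mem_normalizer_iff''.1 (hH i) b).1 h, trivial⟩, by simp [mul_assoc]⟩)
    (by rintro _ _ ⟨a, h, ⟨⟩⟩; exact mem_normalizer_iff.1 (hZ i) a)
  have k : ∀ {η : MulAut L} {i}, (η : Cfsg.Out L) = θ i → ∃ c ∈ H, ∀ a b : H, η (φ a) = φ b →
      (b : A) * (c * n i * a * (c * n i)⁻¹)⁻¹ ∈ Z := fun {η i} e => by
    obtain ⟨g, e⟩ := QuotientGroup.eq_iff_div_mem.1 e
    obtain ⟨c, rfl⟩ := hs g
    refine ⟨c, c.2, fun a b f => ?_⟩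
    rw [← div_mul_cancel η (θ i), ← e, MulAut.mul_apply, hθ i a ⟨_, m i a.2⟩ ⟨a, ⟨a.2, trivial⟩, rfl⟩, MulAut.conj_apply,
      eq_comm, ← mul_inv_eq_one, ← map_inv, ← map_mul, ← map_mul, ← map_inv, ← map_mul, hk] at f
    rwa [← conj_conj']
  obtain ⟨η, e⟩ := exists_aut hs hk mem tot sur ker
  have : Finite (Cfsg.Out L) := Nat.finite_of_card_ne_zero (hL ▸ Fintype.card_ne_zero)
  obtain ⟨i, f⟩ := (Nat.bijective_iff_injective_and_card fun i => (θ i : Cfsg.Out L)).2 ⟨fun i j f => by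
    obtain ⟨c, a, b⟩ := k f
    exact nc i j c a fun x y => b ⟨x, y⟩ ⟨_, m i y⟩ (hθ i _ _ ⟨x, ⟨y, trivial⟩, rfl⟩),
    by rw [hL, Nat.card_eq_fintype_card]⟩ |>.2 η
  obtain ⟨c, a, b⟩ := k f.symm
  exact ⟨i, c, a, fun x y l => b ⟨x, (mem _ _ l).1⟩ ⟨y, (mem _ _ l).2⟩ (e _ _ l)⟩

end

theorem exists_PB {g : Co0} (a : g • G.lam tA = G.lam tA) (b : g • G.lam tB = G.lam tB) : ∃ γ ∈ PB, gOf γ = g :=
  map_PB.ge ⟨lam_tA ▸ a, lam_tB ▸ b⟩

/-- the preimage of the centre -/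
noncomputable def ZP : Subgroup Gt := (center Co0).comap gOf

theorem mem_ZP {a : Gt} : a ∈ ZP ↔ PM a := pm_iff.symm

theorem exists_U : ∃ (L : Type) (_ : Group L) (_ : Finite L) (φ : PB →* L), Surjective φ ∧ (∀ a, φ a = 1 ↔ (a : Gt) ∈ ZP) ∧
    IsSimpleGroup L ∧ Nat.card L = 9196830720 ∧ Nat.card (Cfsg.Out L) = 6 := by
  obtain ⟨φ, hφ⟩ := exists_hom_of_rel (A := PB) (L := St2 uA uB)
    (fun a l => gOf a = l ∨ gOf a = negCo * l) (fun a => by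
      have d := co_dt (gOf a) uA uB
      have k := dt_uA_uB
      rcases (smul_red_iff (by rw [nm_uA]; norm_num)).1 (red_uA_fix a.2.1) with e | e <;>
        rcases (smul_red_iff (by rw [nm_uB]; norm_num)).1 (lam_tB ▸ lam_fix a.2.2) with f | f
      · exact ⟨⟨_, e, f⟩, Or.inl rfl⟩
      · rw [e, f, dt_neg_right] at d; omega
      · rw [e, f, dt_neg_left] at d; omega
      · exact ⟨⟨negCo * gOf a, mem_St2.2 ⟨by rw [mul_smul, e, negCo_smul, neg_neg], by rw [mul_smul, f, negCo_smul, neg_neg]⟩⟩,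
          Or.inr (by rw [← mul_assoc, negCo_mul_self, one_mul])⟩)
    (fun a l l' h h' => by
      have n : ∀ l l' : St2 uA uB, (l : Co0) ≠ negCo * l' := fun l l' e => uA_ne (by
        have := (mem_St2.1 l.2).1
        rwa [e, mul_smul, (mem_St2.1 l'.2).1, negCo_smul, eq_comm] at this)
      rcases h with h | h <;> rcases h' with h' | h' <;> rw [h] at h'
      exacts [Subtype.ext h', absurd h' (n _ _), absurd h'.symm (n _ _), Subtype.ext (mul_left_cancel h')])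
    fun a l a' l' h h' => by
      rw [Subgroup.coe_mul, map_mul, Subgroup.coe_mul]
      rcases h with h | h <;> rcases h' with h' | h' <;> rw [h, h']
      · exact Or.inl rfl
      · exact Or.inr (by rw [← mul_assoc, negCo_comm, mul_assoc])
      · exact Or.inr (mul_assoc _ _ _)
      · exact Or.inl (by rw [← negCo_comm, mul_assoc, ← mul_assoc negCo, negCo_mul_self, one_mul])
  letI := Fintype.ofFinite (GaloisField 2 2)
  have c4 : Fintype.card (GaloisField 2 2) = 4 := by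
    rw [← Nat.card_eq_fintype_card, GaloisField.card 2 2 two_ne_zero]; rfl
  obtain ⟨e⟩ := Cfsg.Agent.S1577.result uA (-uB) nm_uA ((nm_neg _).trans nm_uB)
    ((dt_neg_right _ _).trans (by rw [dt_uA_uB])) _ c4
  replace e := (MulEquiv.subgroupCongr (St2_neg uA uB)).symm.trans e
  have := Cfsg.Agent.S0283.result (q := 2) c4 6 (by omega) (by omega)
  obtain ⟨ψ, s, -, c⟩ := Cfsg.Agent.S2603.result (p := 2) (f := 1) (q := 2) (n := 6) le_rfl rfl c4 (by omega) (by omega)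
  refine ⟨_, inferInstance, inferInstance, φ, fun l => ?_, fun a => ?_, e.isSimpleGroup, ?_, ?_⟩
  · obtain ⟨a, ha, e⟩ := exists_PB (g := l) (by rw [lam_tA, ← red_smul, l.2.1]) (by rw [lam_tB, ← red_smul, l.2.2])
    exact ⟨⟨a, ha⟩, (hφ _ _).2 (Or.inl e)⟩
  · rw [hφ, Subgroup.coe_one, mul_one, mem_ZP]; rfl
  · rw [Nat.card_congr e.toEquiv]; exact CF.Leech.Psu.card_psu c4 (by decide) (by decide +kernel)
  · rw [Bt.card_out_congr e, ← ψ.ker.index_mul_card, c, index_ker, MonoidHom.range_eq_top.2 s]; simp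

theorem coreB {B : Subgroup Gt} (h : B ≤ PB) (h2 : IsPGroup 2 B) (n : ∀ a ∈ PB, ∀ b ∈ B, a * b * a⁻¹ ∈ B) {b : Gt}
    (hb : b ∈ B) : PM b := by
  obtain ⟨L, _, _, φ, s, k, _, c, -⟩ := exists_U
  haveI : (B.subgroupOf PB).Normal := ⟨fun b hb g => n g g.2 b hb⟩
  haveI := Normal.map this φ s
  exact mem_ZP.1 ((k ⟨b, h hb⟩).1 ((eq_bot_of_simple (N := (B.subgroupOf PB).map φ) (h2.comap_subtype.map _)
    (by rw [c]; norm_num)).le ⟨_, hb, rfl⟩))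

theorem exY : ∃ γ ∈ PB, γ • Z 4 = Y0 * Z 4 :=
  let ⟨γ, a, b⟩ := exB [5] 65536 (p := Z 4) (q := Z 11 * Z 4) (by decide +kernel)
  ⟨pauli (X 11) * γ, mul_mem X11_PB a, by rw [mul_smul, b, pauli_smul']; decide +kernel⟩

theorem Y0_UU : Y0 ∈ UU := by decide +kernel

theorem kap_PB : kap ∈ PB := ⟨kap_mem_stab _, kap_mem_stab _⟩

theorem perfB {K : Subgroup Gt} (hk : kap ∈ K) (h : ∀ a ∈ PB, ∀ b ∈ PB, a * b * a⁻¹ * b⁻¹ ∈ K) : PB ≤ K := by
  have le : ⁅PB, PB⁆ ≤ K := commutator_le.2 h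
  have l2 : ⁅PB, PB⁆ ≤ PB := commutator_le.2 fun a x b y => mul_mem (mul_mem (mul_mem x y) (inv_mem x)) (inv_mem y)
  obtain ⟨L, _, _, φ, s, k, _, c, -⟩ := exists_U
  have u : ∀ p ∈ UU, pauli p ∈ ⁅PB, PB⁆ := fun p => spanB (R := ⁅PB, PB⁆.comap pauli) (fun γ a p b => by
    have := mul_mem (commutator_mem_commutator a (l2 b)) b
    rwa [commutatorElement_def, inv_mul_cancel_right, conj_pauli'] at this) (by
    obtain ⟨γ, a, b⟩ := exY
    have := commutator_mem_commutator a (pauli_PB (p := Z 4).2 (by decide +kernel))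
    rwa [commutatorElement_def, conj_pauli', b, map_mul, mul_inv_cancel_right] at this)
  intro a ha
  have t : (commutator PB).map φ = ⊤ := by
    rw [commutator_def, map_commutator, map_top_of_surjective _ s]
    refine (Normal.eq_bot_or_eq_top inferInstance).resolve_left fun e => ?_
    letI : CommGroup L := { (inferInstance : Group L) with
      mul_comm := fun x y => commutatorElement_eq_one_iff_mul_comm.1 (e.le (commutator_mem_commutator trivial trivial)) }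
    have := (IsSimpleGroup.prime_card (α := L)).eq_one_or_self_of_dvd 2
    omega
  obtain ⟨b, hb, e⟩ := t.ge (mem_top (φ ⟨a, ha⟩))
  have m : b.1 ∈ ⁅PB, PB⁆ := map_subtype_commutator PB ▸ mem_map_of_mem _ hb
  rw [← inv_mul_eq_one, ← map_inv, ← map_mul, k] at e
  have x := (b⁻¹ * ⟨a, ha⟩).2
  refine (mul_mem_cancel_left (inv_mem (le m))).1 ?_
  change ((b⁻¹ * ⟨a, ha⟩ : PB) : Gt) ∈ K
  obtain ⟨q, f | f⟩ := exists_pauli_kap (mem_ZP.1 e) <;> rw [f] at x ⊢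
  exacts [le (u q (pauli_PB.1 x)), mul_mem hk (le (u q (pauli_PB.1 ((mul_mem_cancel_left kap_PB).1 x))))]

theorem fixE {γ : Gt} (h : γ ∈ PB) {p : Lab} (a : G.lam p ∈ E2) : γ • p = p := by
  obtain ⟨z, v, b, rfl⟩ := cases_E2 a
  rw [smul_mul', xp_smul, fix_RAB h b]

theorem nPB {c : Gt} (a : G.lam (c • tA) ∈ E2) (b : G.lam (c • tB) ∈ E2) : c ∈ 𝐍(PB) :=
  inv_mem_iff.1 (mem_norm_of fun γ h => ⟨by simp [mul_smul, fixE h a], by simp [mul_smul, fixE h b]⟩)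

theorem RAB_E2 {v : Lab} (h : v ∈ C3.RAB) : G.lam v ∈ E2 := mem_E2.2 ⟨v, h, rfl⟩

theorem kt_smul {c a : Gt} {t : Lab} : Kt (c • t) (c * a * c⁻¹) ↔ Kt t a := by
  have : ∀ {c a : Gt} {t : Lab}, Kt t a → Kt (c • t) (c * a * c⁻¹) := fun {c a t} ⟨p, x, y⟩ =>
    ⟨c • p, x.imp (fun e => by rw [e, smul_one]) (congrArg _), y.imp (fun e => by rw [e, conj_pauli'])
      fun e => by rw [e, kap_conj, conj_pauli']⟩
  exact ⟨fun h => by simpa [mul_assoc] using this (c := c⁻¹) h, this⟩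

/-- the graph of an isomorphism between two central quotients of `PB` -/
structure Rl (s t : Lab) (R : Subgroup (Gt × Gt)) : Prop where
  hs : s ∈ C3.RAB
  ht : t ∈ C3.RAB
  mem : ∀ {a b}, (a, b) ∈ R → a ∈ PB ∧ b ∈ PB
  tot : ∀ a ∈ PB, ∃ b, (a, b) ∈ R
  sur : ∀ b ∈ PB, ∃ a, (a, b) ∈ R
  k1 : ∀ b, (1, b) ∈ R ↔ Kt t b
  k2 : ∀ a, (a, 1) ∈ R ↔ Kt s a

namespace Rl

variable {s t : Lab} {R : Subgroup (Gt × Gt)} (h : Rl s t R)
include h

theorem symm : Rl t s (R.comap (MulEquiv.prodComm : Gt × Gt ≃* Gt × Gt).toMonoidHom) :=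
  ⟨h.ht, h.hs, fun k => (h.mem k).symm, h.sur, h.tot, h.k2, h.k1⟩

theorem twist {c : Gt} (hc : c ∈ 𝐍(PB)) {u : Lab} (hu : u ∈ C3.RAB) (e : c • u = t) : Rl s u (O.tw c R) where
  hs := h.hs
  ht := hu
  mem k := ⟨(h.mem k).1, (mem_normalizer_iff.1 hc _).2 (h.mem (mem_tw.1 k)).2⟩
  tot a ha := (h.tot a ha).elim fun b k => ⟨c⁻¹ * b * c, mem_tw.2 (by convert k using 2; group)⟩
  sur b hb := h.sur _ ((mem_normalizer_iff.1 hc _).1 hb)
  k1 b := (h.k1 _).trans (e ▸ kt_smul)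
  k2 a := by rw [mem_tw, mul_one, mul_inv_cancel, h.k2]

theorem kapR : (1, kap) ∈ R := (h.k1 _).2 (kt_kap t)

theorem unkap {a b : Gt} (k : (a, kap * b) ∈ R) : (a, b) ∈ R := by
  simpa using Rel.mul (Rel.inv h.kapR) k

theorem cancel {a : Gt} {p q : Lab} (k : (a, pauli p) ∈ R) (l : (a, pauli q) ∈ R) : p * q⁻¹ = 1 ∨ p * q⁻¹ = t :=
  O.kt_pauli.1 ((h.k1 _).1 (by simpa using Rel.mul k (Rel.inv l)))

theorem pm1 {a b : Gt} (k : (a, b) ∈ R) (ha : PM a) : PM b := by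
  refine coreB (B := (R ⊓ ZP.comap (MonoidHom.fst Gt Gt)).map (MonoidHom.snd Gt Gt)) ?_ ?_ ?_ ⟨(a, b), ⟨k, mem_ZP.2 ha⟩, rfl⟩
  · rintro _ ⟨⟨a, b⟩, ⟨k, -⟩, rfl⟩
    exact (h.mem k).2
  · rintro ⟨_, ⟨a, b⟩, ⟨k, l⟩, rfl⟩
    have := R.pow_mem k 4
    rw [Prod.pow_mk, (mem_ZP.1 l : PM a).pow] at this
    exact ⟨4, Subtype.ext (by
      change b ^ 2 ^ 4 = 1
      rw [show 2 ^ 4 = 4 * 4 from rfl, pow_mul, ((h.k1 _).1 this).pm.pow])⟩
  · rintro d hd _ ⟨⟨a, b⟩, ⟨k, l⟩, rfl⟩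
    obtain ⟨c, e⟩ := h.sur d hd
    exact ⟨_, ⟨Rel.conj e k, mem_ZP.2 ((mem_ZP.1 l).conj c)⟩, rfl⟩

theorem ex_pauli {p : Lab} (hp : p ∈ UU) : ∃ q, (pauli p, pauli q) ∈ R := by
  obtain ⟨b, k⟩ := h.tot _ (pauli_PB.2 hp)
  obtain ⟨q, rfl | rfl⟩ := exists_pauli_kap (h.pm1 k (pm_pauli p))
  exacts [⟨q, k⟩, ⟨q, h.unkap k⟩]

omit h in
theorem xn : xc ∉ C3.RAB := by decide +kernel

theorem nx : (pauli xc, 1) ∉ R := fun k =>
  xn ((O.kt_pauli.1 ((h.k2 _).1 k)).elim (fun e => e ▸ one_mem _) fun e => e ▸ h.hs)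

theorem xx : (pauli xc, pauli xc) ∈ R := by
  obtain ⟨p, k⟩ := h.ex_pauli (pauli_PB.1 X11_PB)
  obtain ⟨q, l⟩ := h.ex_pauli Y0_UU
  have := Rel.pmul (Rel.psmul k l) (Rel.pinv l)
  rw [pauli_smul_of_one bf_11Y, pauli_smul', mul_inv_cancel_right, mul_inv_cancel_right] at this
  rcases z2_cases (bf p q) with e | e <;> rw [e] at this
  · exact absurd (by simpa using this) h.nx
  · exact this

theorem xpxp (z : ZMod 2) : (pauli (xp z), pauli (xp z)) ∈ R := by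
  rcases z2_cases z with rfl | rfl
  exacts [by simpa using Rel.one (R := R), h.xx]

theorem of_eqv {p q r : Lab} (k : (pauli p, pauli q) ∈ R) (a : G.lam p = G.lam r) (b : G.lam q = G.lam r) :
    ∃ z, (pauli r, pauli (xp z * r)) ∈ R := by
  have := Rel.pmul (h.xpxp (r.s + p.s)) k
  rw [← eq_xp_mul (lam_eq_iff.1 a.symm), eq_xp_mul (lam_eq_iff.1 b), ← mul_assoc, ← xp_add] at this
  exact ⟨_, this⟩

theorem step2 (h1 : ∀ a b, (a, b) ∈ R → PM (b * a⁻¹)) {p : Lab} (hp : p ∈ UU) : ∃ z, (pauli p, pauli (xp z * p)) ∈ R := by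
  have gl : ∀ {a b}, (a, b) ∈ R → ∀ w : W2, gOf b • w = gOf a • w := fun {a b} k w => by
    rw [← (h1 a b k).lam (gOf a • w), ← mul_smul, ← map_mul, inv_mul_cancel_right]
  obtain ⟨q, k⟩ := h.ex_pauli Y0_UU
  have hq := fixB (w := G.lam q) fun x h8 xA xB => by
    obtain ⟨a, ha, rfl⟩ := exists_PB xA xB
    obtain ⟨b, l⟩ := h.tot a ha
    have m := Rel.pmul (Rel.psmul l k) (Rel.pinv k)
    rw [eq_xp_mul (p := a • Y0) (q := Y0) (lam_eq_iff.1 (by rw [lam_smul, lam_Y0, h8])), mul_inv_cancel_right] at m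
    rw [← gl l, ← lam_smul, ← lam_inv q, ← lam_mul, ← add_zero (G.lam _), ← lam_xp, ← lam_inv (xp _), ← lam_mul]
    exact RAB_E2 ((h.cancel m (h.xpxp _)).elim (fun e => e ▸ one_mem _) fun e => e ▸ h.ht)
  obtain ⟨b, l⟩ := h.tot _ X11_PB
  replace hq := hq.resolve_left fun e => h.nx (by
    simpa [pauli_smul_of_one bf_11Y, fixE (h.mem l).2 e] using Rel.pmul (Rel.psmul l k) (Rel.pinv k))
  obtain ⟨γ, g1, g2⟩ := exY
  obtain ⟨δ, l⟩ := h.tot γ g1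
  obtain ⟨r, a, b⟩ := spanB (p := Z 4) (R :=
    { carrier := {p | ∃ q, (pauli p, pauli q) ∈ R ∧ G.lam q + G.lam p ∈ E2}
      one_mem' := ⟨1, by simpa using Rel.one (R := R), W2.add_self _ ▸ zero_mem _⟩
      mul_mem' := fun ⟨_, a, c⟩ ⟨_, b, d⟩ => ⟨_, Rel.pmul a b, by
        rw [lam_mul, lam_mul, add_add_add_comm]; exact add_mem c d⟩
      inv_mem' := fun ⟨_, a, c⟩ => ⟨_, Rel.pinv a, by rwa [lam_inv, lam_inv]⟩ }) (fun a ha p ⟨q, k, e⟩ => by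
    obtain ⟨b, l⟩ := h.tot a ha
    exact ⟨_, Rel.psmul l k, by rwa [lam_smul, lam_smul, gl l, ← smul_add, smul_E2 (lam_fix ha.1) (lam_fix ha.2) e]⟩)
    ⟨q, k, lam_Y0 ▸ hq⟩ (by decide +kernel)
  refine spanB (R :=
    { carrier := {p | ∃ z, (pauli p, pauli (xp z * p)) ∈ R}
      one_mem' := ⟨0, by simpa using Rel.one (R := R)⟩
      mul_mem' := fun ⟨_, a⟩ ⟨_, b⟩ => h.of_eqv (Rel.pmul a b) rfl (by simp only [lam_mul, lam_xp, zero_add])
      inv_mem' := fun ⟨_, a⟩ => h.of_eqv (Rel.pinv a) rfl (by simp only [lam_mul, lam_inv, lam_xp, zero_add]) })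
    (fun a ha p ⟨z, k⟩ => ?_) (h.of_eqv (Rel.pmul (Rel.psmul l a) (Rel.pinv a)) (by rw [g2, mul_inv_cancel_right]) ?_) hp
  · obtain ⟨b, l⟩ := h.tot a ha
    exact h.of_eqv (Rel.psmul l k) rfl (by simp only [lam_smul, lam_mul, lam_xp, zero_add, gl l])
  · have := smul_E2 (lam_fix g1.1) (lam_fix g1.2) b
    rw [smul_add, ← lam_smul γ (Z 4), g2, lam_mul, ← add_assoc, add_left_inj] at this
    rw [lam_mul, lam_inv, lam_smul, gl l, ← w2_eq, add_right_comm, this, W2.add_self]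

theorem uz {a : Gt} {p : Lab} {y z : ZMod 2} (k : (a, pauli (xp y * p)) ∈ R) (l : (a, pauli (xp z * p)) ∈ R) : y = z := by
  have := h.cancel k l
  have m : xp y * p * (xp z * p)⁻¹ ∈ C3.RAB := this.elim (fun e => e ▸ one_mem _) fun e => e ▸ h.ht
  rw [mul_inv_rev, mul_assoc, mul_inv_cancel_left] at m
  revert m
  generalize y = y, z = z
  revert y z; decide +kernel

theorem step4 (h1 : ∀ a b, (a, b) ∈ R → PM (b * a⁻¹)) (h3 : ∀ p ∈ UU, (pauli p, pauli p) ∈ R) {a : Gt} (ha : a ∈ PB) :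
    (a, a) ∈ R := by
  have key : ∀ a ∈ PB, ∃ c, (∀ b ∈ PB, Commute c b) ∧ (a, c * a) ∈ R := fun a ha => by
    obtain ⟨b, k⟩ := h.tot a ha
    obtain ⟨s, k⟩ : ∃ s, (a, pauli s * a) ∈ R := by
      obtain ⟨s, e | e⟩ := exists_pauli_kap (h1 a b k) <;> rw [mul_inv_eq_iff_eq_mul] at e <;> rw [e] at k
      exacts [⟨s, k⟩, ⟨s, h.unkap (mul_assoc kap _ _ ▸ k)⟩]
    refine ⟨_, fun b hb => ?_, k⟩
    rw [commute_iff_eq, conj_pauli, fixE hb (mem_E2_of fun r hr => ?_)]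
    have := Rel.psmul k (h3 _ (smul_UU (inv_mem ha) hr))
    rw [mul_smul, smul_inv_smul, pauli_smul'] at this
    exact (bf_comm _ _).trans (h.uz this (by simpa using h3 r hr))
  refine perfB (K := R.comap ((MonoidHom.id Gt).prod (MonoidHom.id Gt)))
    (show (kap, kap) ∈ R by simpa only [mul_one, one_mul] using Rel.mul (R := R) (a := kap) (b := 1) h.symm.kapR h.kapR)
    (fun a ha b hb => ?_) ha
  obtain ⟨c, c1, k⟩ := key a ha
  obtain ⟨d, d1, l⟩ := key b hb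
  have := Rel.mul (Rel.conj k l) (Rel.inv l)
  rwa [← conj_conj', conj_of_comm (c1 _ (mul_mem (mul_mem ha (h.mem l).2) (inv_mem ha))).symm, conj_mul_conj,
    conj_of_comm (d1 a ha), mul_inv_rev, ← mul_assoc, mul_assoc d, conj_of_comm (d1 _ (mul_mem (mul_mem (mul_mem ha hb)
      (inv_mem ha)) (inv_mem hb))).symm] at this

end Rl

def nW : Fin 6 → List ℕ := ![[], [1], [13], [1, 13], [13, 1], [1, 13, 1]]

theorem nW_ok : (∀ i, ev (nW i) 12288 ∈ C3.RAB ∧ ev (nW i) 20480 ∈ C3.RAB) ∧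
    (∀ i j, ev (nW i) 12288 = ev (nW j) 12288 → ev (nW i) 20480 = ev (nW j) 20480 → i = j) ∧
    ev (nW 0) 12288 = tA ∧ ev (nW 1) 12288 = tB ∧ ev (nW 4) 12288 = tA * tB := by decide +kernel

/-- six elements permuting the four-group -/
noncomputable def nn (i : Fin 6) : Gt := wg (nW i)

theorem nn_RAB (i : Fin 6) {v : Lab} (h : v ∈ C3.RAB) : nn i • v ∈ C3.RAB := by
  have a : nn i • tA ∈ C3.RAB := wg_A rfl ▸ (nW_ok.1 i).1
  have b : nn i • tB ∈ C3.RAB := wg_B rfl ▸ (nW_ok.1 i).2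
  rcases h with rfl | rfl | rfl | rfl
  exacts [by rw [smul_one]; exact one_mem _, a, b, by rw [smul_mul']; exact mul_mem a b]

theorem A_RAB : tA ∈ C3.RAB := .inr (.inl rfl)

theorem B_RAB : tB ∈ C3.RAB := .inr (.inr (.inl rfl))

theorem nn_inv (i : Fin 6) {v : Lab} (h : v ∈ C3.RAB) : (nn i)⁻¹ • v ∈ C3.RAB := by
  obtain ⟨u, e⟩ := (Finite.injective_iff_surjective (f := fun u : C3.RAB => (⟨_, nn_RAB i u.2⟩ : C3.RAB))).1
    (fun x y e => Subtype.ext (smul_left_cancel _ (congrArg Subtype.val e))) ⟨v, h⟩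
  rw [← show nn i • u.1 = v from congrArg Subtype.val e, inv_smul_smul]
  exact u.2

theorem nn_inj {i j : Fin 6} (a : nn i • tA = nn j • tA) (b : nn i • tB = nn j • tB) : i = j :=
  nW_ok.2.1 i j ((wg_A rfl).symm.trans (a.trans (wg_A rfl))) ((wg_B rfl).symm.trans (b.trans (wg_B rfl)))

theorem nn_PB (i : Fin 6) : nn i ∈ 𝐍(PB) := nPB (RAB_E2 (nn_RAB i A_RAB)) (RAB_E2 (nn_RAB i B_RAB))

theorem RAB_eq {u v : Lab} (a : u ∈ C3.RAB) (b : v ∈ C3.RAB) (e : u ≈ₗ v) : u = v :=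
  e.cases.resolve_right fun k => Rl.xn ((mul_mem_cancel_right b).1 (k ▸ a))

theorem Rl.inner {R : Subgroup (Gt × Gt)} (h : Rl tA tA R) : ∃ c ∈ PA, ∀ a ∈ PB, (a, c * a * c⁻¹) ∈ R := by
  obtain ⟨L, _, _, φ, s, k, -, -, o⟩ := exists_U
  have k1 : ∀ {b}, rho b = 1 ↔ Kt 1 b := by simp [rho_eq_one_iff T.rels0.kap T.rho_xc_ne, Kt]
  obtain ⟨i, c, hc, e⟩ := real s k (ι := Fin 6) o nn_PB (fun i => (normalizer_eq_top (H := ZP) (h := Normal.comap inferInstance _)).ge trivial)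
    (fun i j c hc e => by
      have n := mul_mem (inv_mem (nn_PB i)) (mul_mem (le_normalizer hc) (nn_PB j))
      have m : ∀ v ∈ C3.RAB, ((nn i)⁻¹ * (c * nn j)) • v ∈ C3.RAB := fun v a => by
        rw [mul_smul, mul_smul, fix_RAB hc (nn_RAB j a)]; exact nn_inv i (nn_RAB j a)
      have f : ∀ v ∈ C3.RAB, ((nn i)⁻¹ * (c * nn j)) • v = v → nn i • v = nn j • v := fun v a b => by
        rwa [mul_smul, mul_smul, fix_RAB hc (nn_RAB j a), inv_smul_eq_iff, eq_comm] at b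
      replace e : ∀ a ∈ PB, PM ((nn i)⁻¹ * (c * nn j) * a * ((nn i)⁻¹ * (c * nn j))⁻¹ * a⁻¹) := fun a ha => by
        convert ((mem_ZP.1 (e a ha)).inv.conj (nn i)⁻¹) using 1; group
      generalize (nn i)⁻¹ * (c * nn j) = x at n m f e
      let D := PB.prod PB ⊓ (rho.comp (MonoidHom.snd Gt Gt)).eqLocus
        (rho.comp ((MulAut.conj x).toMonoidHom.comp (MonoidHom.fst Gt Gt)))
      have mD : ∀ {a b}, (a, b) ∈ D ↔ (a ∈ PB ∧ b ∈ PB) ∧ rho b = rho (x * a * x⁻¹) := Iff.rfl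
      have kP : ∀ {b}, Kt 1 b → b ∈ PB := by
        rintro _ ⟨_, rfl | rfl, rfl | rfl⟩ <;> simp only [map_one, mul_one, one_mem, kap_PB]
      have r : Rl 1 1 D := ⟨one_mem _, one_mem _, fun k => k.1, fun a ha => ⟨_, ⟨ha, (mem_normalizer_iff.1 n a).1 ha⟩, rfl⟩,
        fun b hb => ⟨x⁻¹ * b * x, mD.2 ⟨⟨(mem_normalizer_iff''.1 n b).1 hb, hb⟩, by group⟩⟩,
        fun b => by rw [mD, mul_one, mul_inv_cancel, map_one, k1]; exact ⟨And.right, fun k => ⟨⟨one_mem _, kP k⟩, k⟩⟩,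
        fun a => by
          rw [mD, map_one, map_mul, map_mul, map_inv, eq_comm, conj_eq_one_iff, k1]
          exact ⟨And.right, fun k => ⟨⟨kP k, one_mem _⟩, k⟩⟩⟩
      have g : ∀ v ∈ C3.RAB, nn i • v = nn j • v := fun v a => f v a (RAB_eq (m v a) a (by
        obtain ⟨z, l⟩ := r.step2 (fun a b l => by
          rcases (rho_eq_iff T.rels0.kap T.rho_xc_ne).1 (mD.1 l).2 with q | q <;> rw [q]
          exacts [e a l.1.1, mul_assoc kap _ _ ▸ pm_kap.mul (e a l.1.1)]) (RAB_UU a)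
        have := (mD.1 l).2
        rw [conj_pauli', rho_pauli_inj T.rho_xc_ne] at this
        exact this ▸ xp_eqv z v))
      exact nn_inj (g _ A_RAB) (g _ B_RAB))
    (fun _ _ => h.mem) h.tot h.sur fun a b l => by rw [mem_ZP, mem_ZP]; exact ⟨h.pm1 l, h.symm.pm1 l⟩
  have n := mul_mem (le_normalizer hc) (nn_PB i)
  have m : (c * nn i)⁻¹ • tA ∈ C3.RAB := by
    rw [mul_inv_rev, mul_smul, mem_stabilizer_iff.1 (inv_mem hc.1)]; exact nn_inv i A_RAB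
  generalize c * nn i = x at n m e
  have r := h.twist n m (smul_inv_smul _ _)
  have h1 : ∀ a b, (a, b) ∈ O.tw x R → PM (b * a⁻¹) := fun a b l => by
    convert (mem_ZP.1 (e _ _ (mem_tw.1 l))).conj x⁻¹ using 1; group
  choose! χ hχ using fun p => r.step2 h1 (p := p)
  obtain ⟨q, hq⟩ := exists_bf_char (R := UU) (by decide +kernel) χ (fun p a q b => r.uz (hχ _ (mul_mem a b)) (by
      have := Rel.pmul (hχ p a) (hχ q b)
      rwa [mul_assoc, ← mul_assoc p, ← xp_comm, mul_assoc, ← mul_assoc, ← xp_add] at this))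
    (r.uz (hχ _ (by decide +kernel)) (by simpa using r.xx))
  have t := r.cancel (q := 1) (hχ _ (RAB_UU A_RAB)) (by simpa using (r.k2 _).2 (O.kt_pauli.2 (.inr rfl)))
  rw [inv_one, mul_one] at t
  replace t := t.resolve_left fun e => tA_ne (e ▸ (xp_eqv _ _).symm)
  have xA := RAB_eq m A_RAB (t ▸ xp_eqv _ _)
  have qA : pauli q • tA = tA := by rw [pauli_smul', hq _ (RAB_UU A_RAB), t, xA]
  have r' := r.twist (nPB (c := pauli q) (by rw [lam_smul, (pm_pauli q).lam]; exact A_E2)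
    (by rw [lam_smul, (pm_pauli q).lam]; exact B_E2)) A_RAB (qA.trans xA.symm)
  refine ⟨x * pauli q, mul_mem (inv_mem_iff.1 xA) qA, fun a ha => ?_⟩
  have := r'.step4 (fun a b k => by
    have := ((pm_pauli q).inv.mul (h1 _ _ (mem_tw.1 k))).mul ((pm_pauli q).conj a)
    convert this using 1; group) (fun p hp => by rw [mem_tw, conj_pauli', pauli_smul', hq p hp]; exact hχ p hp) ha
  rw [mem_tw, mem_tw] at this
  convert this using 2; group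

end CF.StdZ.Bb
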