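import Cfsg.Agent.StdZ.BbC
import Cfsg.Agent.S2182
import Cfsg.Agent.S2130
import Cfsg.Agent.S2109
import Cfsg.Agent.Recog.Stem

/-! The centraliser of a pure four-group of the Monster. -/

set_option autoImplicit false
set_option maxHeartbeats 400000
set_option maxRecDepth 100000

namespace CF.StdZ.Bb

open Cfsg Subgroup CF.Leech CF.Mon CF.Mon.G CF.Mon.L CF.Mon.Lab CF.Known.Mon MulAction CF.LX CF.Loc
open CF.Even Function Spor CF.MonU CF.Mon.O CF.BabU CF.StdZ.Bm
open scoped commutatorElement Pointwise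

/-- a label of the second kind -/
def m34 : Lab := lab 0x18000

/-- a label of the third kind -/
def t5 : Lab := lab 0x39000

theorem nsh {p : Lab} (a : ℕ) (h : isL a = true ∧ dotIs a a 1088 = true ∧ p ≈ₗ clsD a) : ¬ Short p :=
  not_short64 (y := vl a h.1) ((dt_self _).symm.trans (dot_vec h.2.1)) (by rw [cls_vl]; exact h.2.2)

theorem nsT {v : Lab} (h : v ∈ C3.RAB) : ¬ Short (t5 * v) := by
  rcases h with rfl | rfl | rfl | rfl
  exacts [nsh 0x842108421084210842108419464214 (by decide +kernel), nsh 0x841908421484210842108321084214 (by decide +kernel),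
    nsh 0x832148421064210842108421084214 (by decide +kernel), nsh 0x842108421084190a420c8421084214 (by decide +kernel)]

theorem nsM {v : Lab} (h : v ∈ C3.RAB) (s : Short (m34 * v)) : v = 1 := by
  rcases h with rfl | rfl | rfl | rfl
  exacts [rfl, absurd s (nsh 0x842108421084210842108420ca4194 (by decide +kernel)),
    absurd s (nsh 0x842108421084210842108420ca3214 (by decide +kernel)),
    absurd s (nsh 0x84210842108420c852106421084214 (by decide +kernel))]

theorem sM34 : Short m34 :=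
  (short_m4 (i := 3) (j := 4) (by decide) (by decide) (by decide +kernel)).1.congr (by decide +kernel)

theorem perf_eq {A X : Type*} [Group A] [Group X] {H : Subgroup A} {f e : A → X} (F : Hm H f) (E : Hm H e)
    (p : commutator H = ⊤) {Z : X → Prop} (hz : ∀ u v, Z u → Z v → Commute u v) (hc : ∀ u, Z u → ∀ b ∈ H, Commute u (e b))
    (h : ∀ a ∈ H, Z (f a * (e a)⁻¹)) {a : A} (ha : a ∈ H) : f a = e a := by
  let φ : H →* X := MonoidHom.mk' (fun a => f a * (e a)⁻¹) fun a b => by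
    rw [coe_mul, F _ a.2 _ b.2, E _ a.2 _ b.2, mul_inv_rev, mul_assoc, ← mul_assoc (f b),
      (hc _ (h b b.2) a a.2).inv_right.eq, mul_assoc]
  exact mul_inv_eq_one.1 ((p.ge.trans (commutator_le.2 fun a _ b _ => by
    rw [MonoidHom.mem_ker, map_commutatorElement, commutatorElement_eq_one_iff_commute]
    exact hz _ _ (h a a.2) (h b b.2)) : ⊤ ≤ φ.ker) (mem_top ⟨a, ha⟩))

theorem RAB_sq {v : Lab} (h : v ∈ C3.RAB) : v * v = 1 := by rcases h with rfl | rfl | rfl | rfl <;> decide +kernel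

theorem card_RAB : Nat.card C3.RAB = 4 :=
  (Nat.card_congr (Equiv.refl _)).trans ((Nat.card_coe_set_eq _).trans
    (Set.ncard_eq_four.2 ⟨1, tA, tB, tA * tB, by decide +kernel, by decide +kernel,
      by decide +kernel, by decide +kernel, by decide +kernel, by decide +kernel, rfl⟩))

theorem c4p {K : Type*} [Field K] [Fintype K] (hK : Fintype.card K = 4) : CharP K 2 := by
  obtain ⟨p, _, n, hp, e⟩ := FiniteField.card' K
  obtain rfl : p = 2 := (Nat.prime_dvd_prime_iff_eq hp Nat.prime_two).1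
    (hp.dvd_of_dvd_pow (n := 2) (by rw [show 2 ^ 2 = 4 from rfl, ← hK, e]; exact dvd_pow_self p n.ne_zero))
  assumption

variable {Γ : Type*} [Group Γ] {ρ : Gt →* Γ} {τ : Γ} (O : G.Out ρ τ)
include O

theorem mL {c : Γ} : c ∈ LB ρ τ ↔ Commute c (ρ (pauli tA)) ∧ Commute c (ρ (pauli tB)) := by
  rw [← O.cB, ← O.cA, mem_inf, mem_c1, mem_c1]; rfl

theorem cR {c : Γ} (hc : c ∈ LB ρ τ) {v : Lab} (hv : v ∈ C3.RAB) : Commute c (ρ (pauli v)) := by
  obtain ⟨a, b⟩ := (mL O).1 hc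
  rcases hv with rfl | rfl | rfl | rfl
  exacts [by simp, a, b, by rw [← rho_pauli_mul]; exact a.mul_right b]

theorem cV {c x : Γ} (hc : c ∈ LB ρ τ) (hx : x ∈ EE ρ C3.RAB) : Commute c x := by
  obtain ⟨v, a, rfl⟩ := hx
  exact cR O hc a

omit O in
theorem pL {p : Lab} (h : p ∈ UU) : ρ (pauli p) ∈ LB ρ τ := mem_LB ρ τ (pauli_PB.2 h)

omit O in
theorem VL : EE ρ C3.RAB ≤ LB ρ τ := by rintro _ ⟨p, a, rfl⟩; exact pL (RAB_UU a)

open MonY in
theorem exists_pi {K : Type*} [Field K] [Fintype K] (hK : Fintype.card K = 4) : commutator (LB ρ τ) = ⊤ ∧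
    ∃ π : LB ρ τ →* Lie.twistedE6 K 2, Surjective π ∧ ∀ x, π x = 1 ↔ x.1 ∈ EE ρ C3.RAB := by
  have := O.finite
  have Y := Tr.ymod O certs.g
  have e := C3.Yc_L O certs.c Y
  have cL := O.card_L
  have ce := @cV _ _ _ _ O
  have EL := VL (ρ := ρ) (τ := τ)
  have f3 := C3.f31_t O certs.c certs.c2 Y
  generalize Tr.tN ρ τ = t at Y e f3
  rw [← e] at cL ce EL ⊢
  let s := rs 3 3 3 t
  have cs : YCox 3 3 3 s := rs_cox (Y.cox.mono (by norm_num) (by norm_num) le_rfl)
  have ss : Spider s := rs_spider Y.spider (by decide +kernel)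
  have e3 : pr s ((fW.map s12).map s23) = 1 := Subtype.ext (by rw [rs_pr (by decide +kernel), ← f31_eq]; exact f3)
  refine ⟨perfect_of_odd cs rs_top con333 (by decide +kernel) (by decide +kernel) e3, ?_⟩
  let E := (EE ρ C3.RAB).subgroupOf (Yc 3 3 3 t)
  haveI : E.Normal := ⟨fun x a c => by
    rwa [show c * x * c⁻¹ = x from Subtype.ext (conj_of_comm (ce c.2 a).symm)]⟩
  have m1 : f12 s ∈ E := by
    rw [mem_subgroupOf, f12_eq, rs_pr (by decide +kernel), ← f12_eq,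
      ← f1_eq Y.cox (by norm_num) (by norm_num) (Or.inr le_rfl) Y.spider, Y.f1]
    exact ⟨_, B_RAB, rfl⟩
  have m2 : f21 s ∈ E := by
    rw [mem_subgroupOf, f21_eq, rs_pr (by decide +kernel), ← f21_eq,
      ← f2_eq Y.cox (by norm_num) (by norm_num) (Or.inr le_rfl) Y.spider, Y.f2]
    exact ⟨_, A_RAB, rfl⟩
  obtain ⟨g, a, b⟩ := exists_Y333 hK
  obtain ⟨ψ, hψ⟩ := a.lift b (card_twistedE6 hK).ge (g' := fun n => QuotientGroup.mk' E (s n))
    ⟨cs.map _, ss.map _, (f12_map _).trans ((QuotientGroup.eq_one_iff _).2 m1),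
      (f21_map _).trans ((QuotientGroup.eq_one_iff _).2 m2), (f31_map _).trans (by rw [f31_eq, e3, map_one])⟩
  have su : Surjective ψ := MonoidHom.range_eq_top.1 (eq_top_iff.2 (by
    rw [← map_top_of_surjective _ (QuotientGroup.mk'_surjective E), ← rs_top, map_Yc]
    exact Yc_le.2 fun n x => ⟨_, hψ n x⟩))
  haveI : Finite (Lie.twistedE6 K 2) := Nat.finite_of_card_ne_zero (by rw [card_twistedE6 hK]; norm_num)
  let ε := (MulEquiv.ofBijective ψ (su.bijective_of_nat_card_le (by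
    have := E.card_eq_card_quotient_mul_card_subgroup
    rw [cL, Nat.card_congr (subgroupOfEquivOfLe EL).toEquiv, L.Out.card_EE O, card_RAB] at this
    rw [card_twistedE6 hK]; omega))).symm
  exact ⟨ε.toMonoidHom.comp (QuotientGroup.mk' E), ε.surjective.comp (QuotientGroup.mk'_surjective E), fun x =>
    (EmbeddingLike.map_eq_one_iff (f := ε)).trans (QuotientGroup.eq_one_iff _)⟩

theorem perL : commutator (LB ρ τ) = ⊤ := by
  letI := Fintype.ofFinite (GaloisField 2 2)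
  exact (exists_pi O (K := GaloisField 2 2) (by rw [← Nat.card_eq_fintype_card, GaloisField.card 2 2 two_ne_zero]; rfl)).1

theorem sh_iff {k : Γ} {p q : Lab} (e : k * ρ (pauli p) * k⁻¹ = ρ (pauli q)) : Short p ↔ Short q :=
  ⟨fun h => BabU.short_of O ((conj_tr e).1 (conj_short h)), fun h => BabU.short_of O ((conj_tr e).2 (conj_short h))⟩

theorem intoL {u : Γ} (hu : u ∈ LB ρ τ) (s : u * u ∈ EE ρ C3.RAB) (n : u ∉ EE ρ C3.RAB) :
    ∃ k ∈ LB ρ τ, ∃ r, (r = xc ∨ r = m34 ∨ r = t5) ∧ ∃ v ∈ C3.RAB, k * u * k⁻¹ = ρ (pauli (r * v)) := by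
  letI := Fintype.ofFinite (GaloisField 2 2)
  have c4 : Fintype.card (GaloisField 2 2) = 2 ^ 2 := by rw [← Nat.card_eq_fintype_card, GaloisField.card 2 2 two_ne_zero]
  obtain ⟨π, su, k⟩ := (exists_pi O c4).2
  have cj : ∀ {u r} hu hr, ConjClasses.mk (π ⟨u, hu⟩) = ConjClasses.mk (π ⟨_, pL (p := r) hr⟩) →
      ∃ k ∈ LB ρ τ, ∃ v ∈ C3.RAB, k * u * k⁻¹ = ρ (pauli (r * v)) := fun {u r} hu hr e => by
    obtain ⟨g, e⟩ := isConj_iff.1 (ConjClasses.mk_eq_mk_iff_isConj.1 e)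
    obtain ⟨g, rfl⟩ := su g
    rw [eq_comm, ← inv_mul_eq_one, ← map_inv, ← map_inv, ← map_mul, ← map_mul, ← map_mul, k] at e
    obtain ⟨v, a, e⟩ := e
    exact ⟨g, g.2, v, a, by rw [← rho_pauli_mul]; exact (mul_inv_cancel_left _ _).symm.trans (congrArg _ e.symm)⟩
  have sh : ∀ {p q} hp hq, ConjClasses.mk (π ⟨_, pL (p := p) hp⟩) = ConjClasses.mk (π ⟨_, pL (p := q) hq⟩) →
      ∃ v ∈ C3.RAB, ∀ u ∈ C3.RAB, Short (p * u) → Short (q * (v * u)) := fun hp hq e => by
    obtain ⟨g, a, v, b, e⟩ := cj _ hq e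
    refine ⟨v, b, fun u c => (sh_iff O (k := g) ?_).1⟩
    rw [← mul_assoc, ← rho_pauli_mul, ← rho_pauli_mul _ _ u, ← e, conj_mul_conj, conj_of_comm (cR O a c).symm]
  have o : ∀ {u} hu, u * u ∈ EE ρ C3.RAB → u ∉ EE ρ C3.RAB → ConjClasses.mk (π ⟨u, hu⟩) ∈
      ConjClasses.mk '' {g : Lie.twistedE6 (GaloisField 2 2) 2 | orderOf g = 2} := fun hu a b =>
    ⟨_, ord2 (by rw [← map_mul, k]; exact a) (mt (k _).1 b), rfl⟩
  have o' : ∀ {p}, p * p = 1 ∧ p ∉ C3.RAB → ρ (pauli p) * ρ (pauli p) ∈ EE ρ C3.RAB ∧ ρ (pauli p) ∉ EE ρ C3.RAB := fun a =>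
    ⟨by rw [rho_pauli_mul, a.1, map_one, map_one]; exact one_mem _, fun ⟨_, b, e⟩ => a.2 (O.inj.1 e ▸ b)⟩
  have x1 : xc ∈ UU := by decide +kernel
  have x2 : m34 ∈ UU := by decide +kernel
  have x3 : t5 ∈ UU := by decide +kernel
  have sA : Short (xc * tA) := short_tA.congr (xc_eqv _)
  have t := Cfsg.Agent.S2182.result 2 c4
  have := (Set.eq_of_subset_of_ncard_le (s := {ConjClasses.mk (π ⟨_, pL x1⟩), ConjClasses.mk (π ⟨_, pL x2⟩),
      ConjClasses.mk (π ⟨_, pL x3⟩)}) (by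
    rintro _ (rfl | rfl | rfl) <;> refine o _ (o' ?_).1 (o' ?_).2 <;> decide +kernel) (by
    rw [t, Set.ncard_eq_three.2 ⟨_, _, _, fun e => ?_, fun e => ?_, fun e => ?_, rfl⟩] <;>
      obtain ⟨v, a, b⟩ := sh (by assumption) (by assumption) e
    · have := (nsM (mul_mem a A_RAB) (b _ A_RAB sA)).trans (nsM (mul_mem a B_RAB) (b _ B_RAB short_xB.1)).symm
      exact absurd (mul_left_cancel this) (by decide +kernel)
    · exact nsT (mul_mem a A_RAB) (b _ A_RAB sA)
    · exact nsT (mul_mem a (one_mem _)) (b _ (one_mem _) (by rw [mul_one]; exact sM34)))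
    (Set.finite_of_ncard_ne_zero (by omega))).ge (o hu s n)
  rcases this with e | e | e <;> obtain ⟨g, a, b⟩ := cj _ (by assumption) e
  exacts [⟨g, a, _, .inl rfl, b⟩, ⟨g, a, _, .inr (.inl rfl), b⟩, ⟨g, a, _, .inr (.inr rfl), b⟩]

end CF.StdZ.Bb
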