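import Cfsg.Agent.StdZ.BbD

/-! The double cover of `²E₆(2)` as a quotient of the centraliser of the four-group. -/

set_option autoImplicit false
set_option maxHeartbeats 400000
set_option maxRecDepth 100000

namespace CF.StdZ.Bb

open Cfsg Subgroup CF.Leech CF.Mon CF.Mon.G CF.Mon.L CF.Mon.Lab CF.Known.Mon MulAction CF.LX CF.Loc
open CF.Even Function Spor CF.MonU CF.Mon.O CF.BabU CF.StdZ.Bm
open scoped commutatorElement Pointwise

theorem perf_dc {M S : Type*} [Group M] [Group S] (h : IsNonsplitDoubleCover M S) (p : commutator S = ⊤) :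
    commutator M = ⊤ := by
  obtain ⟨c, ⟨e⟩, n⟩ := h
  let σ := e.toMonoidHom.comp (QuotientGroup.mk' (center M))
  have h3 : (commutator M).map σ = ⊤ := by
    rw [commutator_def, map_commutator, map_top_of_surjective σ (e.surjective.comp (QuotientGroup.mk'_surjective _)),
      ← commutator_def, p]
  have h4 : ∀ x : M, ∃ a ∈ commutator M, x * a⁻¹ ∈ center M := fun x => by
    obtain ⟨a, ha, k⟩ := h3.ge (mem_top (σ x))
    exact ⟨a, ha, (QuotientGroup.eq_one_iff _).1 (e.map_eq_one_iff.1 (show σ _ = 1 by rw [map_mul, map_inv, k, mul_inv_cancel]))⟩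
  obtain ⟨z, hz, u⟩ := (Nat.card_eq_two_iff' (1 : center M)).1 c
  have u' : ∀ {w}, w ∈ center M → w = 1 ∨ w = z := fun {w} hw => or_iff_not_imp_left.2 fun e =>
    congrArg Subtype.val (u ⟨w, hw⟩ fun e' => e (congrArg Subtype.val e'))
  by_contra q
  have hc : z.1 ∉ commutator M := fun hc => q (eq_top_iff.2 fun x _ => by
    obtain ⟨a, ha, k⟩ := h4 x
    refine (mul_mem_cancel_right (inv_mem ha)).1 ?_
    rcases u' k with k | k <;> rw [k]
    exacts [one_mem _, hc])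
  exact n _ (isComplement'_of_disjoint_and_mul_eq_univ (K := commutator M)
    (disjoint_def.2 fun hw hw' => (u' hw).resolve_right fun e => hc (e ▸ hw'))
    (Set.eq_univ_of_forall fun x => let ⟨a, ha, k⟩ := h4 x; ⟨_, k, a, ha, inv_mul_cancel_right _ _⟩))

open CF.Schur in
theorem stem_quot {G A L₁ L₂ : Type*} [Group G] [Finite G] [CommGroup A] [Group L₁] [Group L₂]
    (hA : HasSchurMultiplier G A) {σ₁ : L₁ →* G} {σ₂ : L₂ →* G} (h₁ : IsStemExtension σ₁) (h₂ : IsStemExtension σ₂)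
    (p₁ : commutator L₁ = ⊤) (p₂ : commutator L₂ = ⊤) {n : ℕ} (e₁ : ∀ x ∈ σ₁.ker, x ^ n = 1) (e₂ : ∀ x ∈ σ₂.ker, x ^ n = 1)
    (c₁ : (powMonoidHom n : A →* A).range.index ≤ Nat.card σ₁.ker) :
    ∃ f : L₁ →* L₂, Surjective f ∧ ∀ x, σ₂ (f x) = σ₁ x := by
  have hε := isCov_taut G
  obtain ⟨α⟩ := hε.hasSchurMultiplier_iff.1 hA
  have := (finite_of_hasSchurMultiplier hA).2
  obtain ⟨φ₁, k₁⟩ := hε.exists_lift' (stem_cext h₁)
  obtain ⟨φ₂, k₂⟩ := hε.exists_lift' (stem_cext h₂)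
  have s₁ := Recog.stem_surj hε.toCExt.1 h₁ k₁ p₁
  obtain ⟨f, hf⟩ := exists_hom_of_rel (fun (a : L₁) (b : L₂) => ∃ x : commutator _, φ₁ x = a ∧ φ₂ x = b)
    (fun a => (s₁ a).elim fun x e => ⟨_, x, e, rfl⟩) (by
      rintro _ _ _ ⟨x, rfl, rfl⟩ ⟨y, e, rfl⟩
      obtain ⟨h, a, k⟩ := (Recog.stem_key hε.toCExt.1 α h₁ k₁ e₁ c₁ (x * y⁻¹)).1 (by simp [e])
      have := congrArg (fun u => φ₂ (α.symm u).1) k
      simp only [powMonoidHom_apply, map_pow, coe_pow, MulEquiv.symm_apply_apply] at this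
      rw [e₂ _ ((DFunLike.congr_fun k₂ _).trans (mul_le_ker _ (α.symm a).2))] at this
      simpa [mul_inv_eq_one] using this.symm)
    (by rintro _ _ _ _ ⟨x, rfl, rfl⟩ ⟨y, rfl, rfl⟩; exact ⟨x * y, map_mul _ _ _, map_mul _ _ _⟩)
  refine ⟨f, fun b => ?_, fun a => ?_⟩
  · obtain ⟨x, e⟩ := Recog.stem_surj hε.toCExt.1 h₂ k₂ p₂ b
    exact ⟨_, (hf _ _).2 ⟨x, rfl, e⟩⟩
  · obtain ⟨x, rfl, e⟩ := (hf a _).1 rfl
    rw [← e]
    exact (DFunLike.congr_fun k₂ x.1).trans (DFunLike.congr_fun k₁ x.1).symm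

theorem idx_sq : (powMonoidHom 2 : Multiplicative (ZMod 3 × ZMod 2 × ZMod 2) →* _).range.index ≤ 4 := by
  let f := AddMonoidHom.toMultiplicative (AddMonoidHom.snd (ZMod 3) (ZMod 2 × ZMod 2))
  have : f.ker ≤ (powMonoidHom 2).range := fun x => by revert x; decide
  exact (Nat.le_of_dvd (Nat.pos_of_ne_zero index_ne_zero_of_finite) (index_dvd_of_le this)).trans
    (index_ker f ▸ (card_le_card_group _).trans (by simp))

variable {Γ G : Type*} [Group Γ] [Group G] {ρ : Gt →* Γ} {τ : Γ} {J : Γ → G} {z w : G}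

/-- the stabiliser of the image of `tB` -/
noncomputable def HB (ρ : Gt →* Γ) (τ : Γ) : Subgroup Γ := AA ρ τ ⊓ 𝐍(EE ρ C3.RAB)

/-- `g` acts as `x` -/
def At (ρ : Gt →* Γ) (τ : Γ) (J : Γ → G) (g : G) (x : Γ) : Prop := ∀ m ∈ LB ρ τ, g * J m * g⁻¹ = J (x * m * x⁻¹)

theorem pV {v : Lab} (h : v ∈ C3.RAB) : ρ (pauli v) ∈ EE ρ C3.RAB := ⟨v, h, rfl⟩

theorem T_V {x : Γ} (h : T ρ x) : x ∈ EE ρ C3.RAB := by
  rcases h with rfl | rfl
  exacts [one_mem _, pV A_RAB]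

section
variable (O : Mon.G.Out ρ τ)
include O

theorem nV {γ : Gt} (h : ∀ v ∈ C3.RAB, γ • v ∈ C3.RAB) : ρ γ ∈ 𝐍(EE ρ C3.RAB) :=
  have := O.finite
  rho_mem_norm h

theorem nL {x : Γ} (h : x ∈ 𝐍(EE ρ C3.RAB)) : x ∈ 𝐍(LB ρ τ) :=
  have := O.finite
  mem_norm_of fun m hm => (mL O).2 ⟨comm_cj.2 (cV O hm ((mem_normalizer_iff''.1 h _).1 (pV A_RAB))),
    comm_cj.2 (cV O hm ((mem_normalizer_iff''.1 h _).1 (pV B_RAB)))⟩

theorem LN : LB ρ τ ≤ 𝐍(EE ρ C3.RAB) := fun m hm =>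
  have := O.finite
  mem_norm_of fun x hx => by rwa [conj_of_comm (cV O hm hx).symm]

theorem LH : LB ρ τ ≤ HB ρ τ := fun m hm => ⟨LB_le_AA ρ τ hm, LN O hm⟩

theorem cjL {x m : Γ} (h : x ∈ HB ρ τ) (hm : m ∈ LB ρ τ) : x * m * x⁻¹ ∈ LB ρ τ := (mem_normalizer_iff.1 (nL O h.2) m).1 hm

theorem cenV {x : Γ} (h : ∀ m ∈ LB ρ τ, x * m * x⁻¹ * m⁻¹ ∈ EE ρ C3.RAB) : x ∈ EE ρ C3.RAB := by
  rcases Out.cent_LB O (g := x) fun m hm => comm_of_conj (perf_eq (f := fun m => x * m * x⁻¹) (e := id)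
    (fun _ _ _ _ => conj_mul_conj _ _ _) (fun _ _ _ _ => rfl) (perL O) (Z := (· ∈ EE ρ C3.RAB))
    (fun u v a b => cV O (VL a) b) (fun u a b c => (cV O c a).symm) h hm) with rfl | rfl | rfl | rfl
  exacts [one_mem _, pV A_RAB, pV B_RAB, mul_mem (pV A_RAB) (pV B_RAB)]

theorem HB_b {x : Γ} (h : x ∈ HB ρ τ) : x ∈ LB ρ τ ∨ x * ρ (pauli tB) * x⁻¹ = ρ (pauli (tA * tB)) := by
  have a := O.comm_t h.1
  obtain ⟨_, rfl | rfl | rfl | rfl, e⟩ := (mem_normalizer_iff.1 h.2 _).1 (pV B_RAB) <;>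
    replace e : ρ (pauli _) = _ := e
  · rw [map_one, map_one, eq_comm, conj_eq_one_iff, O.eq_one] at e
    exact absurd e (by decide +kernel)
  · rw [← conj_eq_iff.2 a, mul_left_inj, mul_right_inj, O.inj] at e
    exact absurd e (by decide +kernel)
  exacts [.inl ((mL O).2 ⟨a, conj_eq_iff.1 e.symm⟩), .inr e.symm]

theorem HB_two {x y : Γ} (hx : x ∈ HB ρ τ) (hy : y ∈ HB ρ τ) (a : x ∉ LB ρ τ) (b : y ∉ LB ρ τ) : x * y ∈ LB ρ τ :=
  (mL O).2 ⟨O.comm_t (mul_mem hx.1 hy.1), conj_eq_iff.1 (by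
    rw [← conj_conj', (HB_b O hy).resolve_left b, ← rho_pauli_mul, conj_mul_conj, (HB_b O hx).resolve_left a,
      conj_eq_iff.2 (O.comm_t hx.1), rho_pauli_mul, ← mul_assoc, tA_sq, one_mul])⟩

theorem exists_J {X K : Type*} [Group X] [Field K] [Fintype K] (hK : Fintype.card K = 4)
    (h : IsNonsplitDoubleCover X (Lie.twistedE6 K 2)) :
    ∃ J : Γ → X, Hm (LB ρ τ) J ∧ (∀ x, ∃ m ∈ LB ρ τ, J m = x) ∧ ∀ m ∈ LB ρ τ, (J m = 1 ↔ T ρ m) := by
  classical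
  obtain ⟨p, π, s, k⟩ := exists_pi O hK
  haveI : Finite (Lie.twistedE6 K 2) := Nat.finite_of_card_ne_zero (by rw [MonY.card_twistedE6 hK]; norm_num)
  have p2 := perf_dc h (by rw [commutator_def, ← map_top_of_surjective π s, ← map_commutator, ← commutator_def, p])
  obtain ⟨c, ⟨e⟩, -⟩ := h
  obtain ⟨s2, k2⟩ := Recog.stem_center p2 e
  obtain ⟨f, fs, fk⟩ := stem_quot (Cfsg.Agent.S2109.result hK) (σ₁ := π)
    ⟨s, fun x hx => mem_center_iff.2 fun g => Subtype.ext (cV O g.2 ((k x).1 hx)), p ▸ le_top⟩ s2 p p2 (n := 2)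
    (fun x hx => by
      obtain ⟨v, a, e⟩ := (k x).1 hx
      exact Subtype.ext (by rw [coe_pow, ← e, pow_two, ← map_mul, RAB_sq a, map_one]; rfl))
    (fun x hx => congrArg Subtype.val (c ▸ pow_card_eq_one' (x := (⟨x, k2.le hx⟩ : center _))))
    (idx_sq.trans (by
      rw [show π.ker = (EE ρ C3.RAB).subgroupOf _ from Subgroup.ext k, Nat.card_congr (subgroupOfEquivOfLe VL).toEquiv,
        L.Out.card_EE O, card_RAB]))
  obtain ⟨y, hy, u⟩ := (Nat.card_eq_two_iff' (1 : center X)).1 c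
  let F : Γ → X := fun m => if h : m ∈ LB ρ τ then f ⟨m, h⟩ else 1
  have hF : ∀ {m} (h : m ∈ LB ρ τ), F m = f ⟨m, h⟩ := fun h => dif_pos h
  have hm : Hm (LB ρ τ) F := fun a ha b hb => by rw [hF ha, hF hb, hF (mul_mem ha hb), ← map_mul]; rfl
  have fV : ∀ {m} (h : m ∈ LB ρ τ), m ∈ EE ρ C3.RAB ↔ F m ∈ center X := fun h => by
    rw [← k2, MonoidHom.mem_ker, hF h, fk, k]
  have u' : ∀ {v}, v ∈ C3.RAB → F (ρ (pauli v)) ≠ 1 → F (ρ (pauli v)) = y := fun a n =>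
    congrArg Subtype.val (u ⟨_, (fV (VL (pV a))).1 (pV a)⟩ fun e' => n (congrArg Subtype.val e'))
  have AB := hm _ (VL (pV A_RAB)) _ (VL (pV B_RAB))
  rw [rho_pauli_mul] at AB
  obtain ⟨i, hi⟩ : ∃ i, F (ρ (pauli (nn i • tA))) = 1 := by
    by_contra! n
    have a := n 0
    have b := n 1
    have d := n 4
    rw [nn, wg_A nW_ok.2.2.1] at a
    rw [nn, wg_A nW_ok.2.2.2.1] at b
    rw [nn, wg_A nW_ok.2.2.2.2] at d
    rw [u' A_RAB a, u' B_RAB b, u' (mul_mem A_RAB B_RAB) d, left_eq_mul] at AB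
    exact hy (Subtype.ext AB)
  have nx := nV O fun v => nn_RAB i
  have xL := fun {m} => (mem_normalizer_iff.1 (nL O nx) m).1
  have xV := fun {m} => mem_normalizer_iff.1 nx m
  rw [← rho_conj] at hi
  generalize ρ (nn i) = x at hi nx xL xV
  have sur : ∀ g, ∃ m ∈ LB ρ τ, F (x * m * x⁻¹) = g := fun g => by
    obtain ⟨m, rfl⟩ := fs g
    exact ⟨x⁻¹ * m * x, (mem_normalizer_iff''.1 (nL O nx) _).1 m.2, by rw [← hF]; congr 1; group⟩
  have hm' : Hm (LB ρ τ) fun m => F (x * m * x⁻¹) := fun a ha b hb => by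
    beta_reduce; rw [conj_mul_conj, hm _ (xL ha) _ (xL hb)]
  refine ⟨_, hm', sur, fun m hm => ⟨fun e => ?_, ?_⟩⟩
  swap
  · rintro (rfl | rfl)
    exacts [hm'.one, hi]
  have b : F (x * ρ (pauli tB) * x⁻¹) ≠ 1 := fun b => by
    obtain ⟨m, a, e⟩ := sur y
    obtain ⟨_, rfl | rfl | rfl | rfl, rfl⟩ := xV.2 ((fV (xL a)).2 (e ▸ y.2)) <;> refine hy (Subtype.ext (e.symm.trans ?_))
    exacts [by simpa using hm'.one, hi, b, by
      refine (congrArg (fun m => F (x * m * x⁻¹)) (map_mul _ _ _)).trans ((hm' _ (VL (pV A_RAB)) _ (VL (pV B_RAB))).trans ?_)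
      beta_reduce; rw [hi, b, one_mul]; rfl]
  obtain ⟨_, rfl | rfl | rfl | rfl, rfl⟩ := xV.2 ((fV (xL hm)).2 (e ▸ one_mem _))
  exacts [.inl (map_one _), .inr rfl, absurd e b, absurd (by
    have := hm' _ (VL (pV A_RAB)) _ (VL (pV B_RAB))
    beta_reduce at this
    rw [rho_pauli_mul, hi, one_mul] at this
    exact this.symm.trans e) b]

theorem ex_at (hm : Hm (LB ρ τ) J) (ker : ∀ m ∈ LB ρ τ, (J m = 1 ↔ T ρ m)) {g : G}
    (n : ∀ m ∈ LB ρ τ, ∃ m' ∈ LB ρ τ, J m' = g * J m * g⁻¹) (n' : ∀ m' ∈ LB ρ τ, ∃ m ∈ LB ρ τ, J m' = g * J m * g⁻¹)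
    (c : Commute (J (ρ (pauli tB))) g) : ∃ x ∈ HB ρ τ, At ρ τ J g x := by
  letI := Fintype.ofFinite (GaloisField 2 2)
  have c4 : Fintype.card (GaloisField 2 2) = 2 ^ 2 := by rw [← Nat.card_eq_fintype_card, GaloisField.card 2 2 two_ne_zero]
  obtain ⟨p, π, s, k⟩ := exists_pi O c4
  have bL := VL (τ := τ) (pV (ρ := ρ) B_RAB)
  have bb : ρ (pauli tB) * ρ (pauli tB) = 1 := by rw [rho_pauli_mul, RAB_sq B_RAB, map_one, map_one]
  have cb : ∀ m ∈ LB ρ τ, Commute (J (ρ (pauli tB))) (J m) := fun m a => by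
    rw [commute_iff_eq, ← hm _ bL _ a, ← hm _ a _ bL, (cR O a B_RAB).eq]
  generalize hz : J (ρ (pauli tB)) = z at c cb
  have zz : z * z = 1 := by rw [← hz, ← hm _ bL _ bL, bb, hm.one]
  have kV : ∀ {m}, m ∈ LB ρ τ → (m ∈ EE ρ C3.RAB ↔ J m = 1 ∨ J m = z) := fun {m} a => by
    refine ⟨?_, fun h => h.elim (fun e => T_V ((ker m a).1 e)) fun e => (mul_mem_cancel_right (pV B_RAB)).1
      (T_V ((ker _ (mul_mem a bL)).1 (by rw [hm _ a _ bL, e, hz, zz])))⟩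
    have aL := VL (τ := τ) (pV (ρ := ρ) A_RAB)
    have aa := (ker _ aL).2 (.inr rfl)
    rintro ⟨_, rfl | rfl | rfl | rfl, rfl⟩
    exacts [.inl (by simpa using hm.one), .inl aa, .inr hz, .inr ((congrArg J (map_mul _ _ _)).trans
      ((hm _ aL _ bL).trans (by rw [aa, hz, one_mul])))]
  let R : Subgroup (Γ × Γ) :=
    { carrier := {y | y.1 ∈ LB ρ τ ∧ y.2 ∈ LB ρ τ ∧ J y.2 = g * J y.1 * g⁻¹}
      one_mem' := ⟨one_mem _, one_mem _, by simp [hm.one]⟩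
      mul_mem' := fun a b => ⟨mul_mem a.1 b.1, mul_mem a.2.1 b.2.1,
        (hm _ a.2.1 _ b.2.1).trans (by rw [a.2.2, b.2.2, ← conj_mul_conj]; exact congrArg (g * · * g⁻¹) (hm _ a.1 _ b.1).symm)⟩
      inv_mem' := fun a => ⟨inv_mem a.1, inv_mem a.2.1,
        (hm.inv a.2.1).trans (by rw [a.2.2, conj_inv]; exact congrArg (g * · * g⁻¹) (hm.inv a.1).symm)⟩ }
  have nx := fun i => nV O fun v => nn_RAB i
  obtain ⟨i, d, hd, e⟩ := real (R := R) s k (ι := Fin 6) (Cfsg.Agent.S2130.result 2 1 c4 le_rfl) (fun i => nL O (nx i)) nx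
    (fun i j d hd e => by
      have v := cenV O (x := (ρ (nn i))⁻¹ * (d * ρ (nn j))) fun m a => by
        convert (mem_normalizer_iff''.1 (nx i) _).1 (inv_mem (e m a)) using 1; group
      have f : ∀ u ∈ C3.RAB, nn i • u = nn j • u := fun u a => O.inj.1 (by
        rw [← conj_of_comm (cR O hd (nn_RAB j a)).symm, ← rho_conj, ← rho_conj, conj_conj',
          ← mul_inv_cancel_left (ρ (nn i)) (d * _), ← conj_conj', conj_of_comm (cR O (VL v) a).symm])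
      exact nn_inj (f _ A_RAB) (f _ B_RAB))
    (fun _ _ h => ⟨h.1, h.2.1⟩) (fun m a => (n m a).imp fun _ l => ⟨a, l⟩) (fun m a => (n' m a).imp fun _ l => ⟨l.1, a, l.2⟩)
    fun a b l => by
      rw [kV l.1, kV l.2.1, show J b = _ from l.2.2, conj_eq_one_iff, mul_inv_eq_iff_eq_mul, c.eq, mul_right_inj]
  have xN := mul_mem (LN O hd) (nx i)
  generalize d * ρ (nn i) = x at e xN
  have xL := fun {m} => (mem_normalizer_iff.1 (nL O xN) m).1
  have t : At ρ τ J g x := fun m => perf_eq (f := fun m => g * J m * g⁻¹) (e := fun m => J (x * m * x⁻¹))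
    (fun a ha b hb => by beta_reduce; rw [hm a ha b hb, conj_mul_conj])
    (fun a ha b hb => by beta_reduce; rw [conj_mul_conj, hm _ (xL ha) _ (xL hb)]) p (Z := fun u => u = 1 ∨ u = z)
    (by rintro _ _ (rfl | rfl) (rfl | rfl) <;> simp) (by
      rintro _ (rfl | rfl) b hb
      exacts [Commute.one_left _, cb _ (xL hb)]) fun a ha => by
      obtain ⟨b, hb, l⟩ := n a ha
      rw [← l, ← hm.inv (xL ha), ← hm _ hb _ (inv_mem (xL ha)), ← kV (mul_mem hb (inv_mem (xL ha)))]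
      exact e a b ⟨ha, hb, l⟩
  have aL := VL (τ := τ) (pV (ρ := ρ) A_RAB)
  refine ⟨x, ⟨O.cA ▸ mem_c1.2 (conj_eq_iff.1 (((ker _ (xL aL)).1 ?_).resolve_left fun e => O.t_ne (conj_eq_one_iff.1 e))), xN⟩, t⟩
  rw [← t _ aL, (ker _ aL).2 (.inr rfl), mul_one, mul_inv_cancel]

end

/-- the centraliser of `z` -/
structure Ce (ρ : Gt →* Γ) (τ : Γ) (J : Γ → G) (z w : G) : Prop where
  O : Mon.G.Out ρ τ
  hm : Hm (LB ρ τ) J
  ker : ∀ m ∈ LB ρ τ, (J m = 1 ↔ T ρ m)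
  hz : J (ρ (pauli tB)) = z
  hw : J (ρ (pauli xc)) = w
  cz : ∀ {g}, Commute z g → ∃ x ∈ HB ρ τ, At ρ τ J g x
  cen : ∀ {g}, At ρ τ J g 1 → g = 1 ∨ g = z
  out : ∃ g, Commute z g ∧ ∀ m ∈ LB ρ τ, J m ≠ g

theorem exists_ce {t : G} (ht : orderOf t = 2) (M : Subgroup 𝐂₁(t)) [M.Normal] (hM : M.index = 2) {K : Type*} [Field K] [Fintype K]
    (hK : Fintype.card K = 4) (hout : centralizer (M : Set 𝐂₁(t)) ≤ M) (hcov : IsNonsplitDoubleCover M (Lie.twistedE6 K 2)) :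
    ∃ (ρ : Gt →* Monster) (τ : Monster) (J : Monster → G) (w : G), Ce ρ τ J t w := by
  obtain ⟨ρ, τ, O⟩ := certs.outM
  obtain ⟨F, hm, sur, ker⟩ := exists_J O hK hcov
  obtain ⟨y, -, u⟩ := (Nat.card_eq_two_iff' (1 : center M)).1 hcov.1
  let ι := (𝐂₁(t)).subtype.comp M.subtype
  have inj : Injective ι := Subtype.val_injective.comp Subtype.val_injective
  have t1 : t ≠ 1 := fun e => by simp [e] at ht
  have cen : ∀ {g : G}, Commute t g → (∀ m : M, Commute (ι m) g) → g = 1 ∨ g = t := fun {g} c h => by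
    have k : ∀ {g : G} (c : Commute t g), (∀ m : M, Commute (ι m) g) → g ≠ 1 → g = ι y := fun {g} c h n =>
      congrArg (fun x : center M => ι x) (u ⟨⟨⟨g, mem_c1.2 c.symm⟩, hout fun m a => Subtype.ext (h ⟨m, a⟩)⟩,
        mem_center_iff.2 fun m => inj (by rw [map_mul, map_mul]; exact h m)⟩ fun e => n (congrArg (fun x : center M => ι x) e))
    exact or_iff_not_imp_left.2 fun n => (k c h n).trans (k rfl (fun m => mem_c1.1 m.1.2) t1).symm
  have hm' : Hm (LB ρ τ) fun m => ι (F m) := fun a ha b hb => by beta_reduce; rw [hm a ha b hb, map_mul]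
  have ker' : ∀ m ∈ LB ρ τ, (ι (F m) = 1 ↔ T ρ m) := fun m a => (map_eq_one_iff _ inj).trans (ker m a)
  have bL := VL (τ := τ) (pV (ρ := ρ) B_RAB)
  have hz : ι (F (ρ (pauli tB))) = t := (cen (Commute.symm (mem_c1.1 (F _).1.2)) fun m => by
    obtain ⟨m, a, rfl⟩ := sur m
    exact (hm' _ a _ bL).symm.trans ((congrArg (fun m => ι (F m)) (cR O a B_RAB)).trans (hm' _ bL _ a))).resolve_left fun e =>
      absurd ((T_pauli O).1 ((ker' _ bL).1 e)) (by decide +kernel)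
  have nm : ∀ {g}, Commute t g → ∀ m, ∃ m' ∈ LB ρ τ, ι (F m') = g * ι (F m) * g⁻¹ := fun {g} c m =>
    (sur ⟨_, (inferInstance : M.Normal).conj_mem _ (F m).2 ⟨g, mem_c1.2 c.symm⟩⟩).imp fun _ e => ⟨e.1, congrArg ι e.2⟩
  refine ⟨ρ, τ, _, _, O, hm', ker', hz, rfl, fun c => ex_at O hm' ker' (fun m _ => nm c m) (fun m _ =>
    (nm c.inv_right m).imp fun _ e => ⟨e.1, by rw [e.2]; group⟩) (by rwa [hz]), fun {g} a => ?_, ?_⟩
  · have : ∀ m : M, Commute (ι m) g := fun m => by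
      obtain ⟨m, b, rfl⟩ := sur m
      exact comm_of_conj ((a m b).trans (by simp))
    exact cen (hz ▸ this _) this
  · obtain ⟨g, n, -⟩ := index_eq_two_iff_exists_notMem_and.1 hM
    exact ⟨g, (mem_c1.1 g.2).symm, fun m _ e => n (Subtype.ext e ▸ (F m).2)⟩

end CF.StdZ.Bb
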