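import Cfsg.Agent.StdZ.BbE

/-! The centraliser of the four-group of two central involutions. -/

set_option autoImplicit false
set_option maxHeartbeats 400000
set_option maxRecDepth 100000

namespace CF.StdZ.Bb

open Cfsg Subgroup CF.Leech CF.Mon CF.Mon.G CF.Mon.L CF.Mon.Lab CF.Known.Mon MulAction CF.LX CF.Loc
open CF.Even Function Spor CF.MonU CF.Mon.O CF.BabU CF.StdZ.Bm
open scoped commutatorElement Pointwise

variable {Γ G : Type*} [Group Γ] [Group G] {ρ : Gt →* Γ} {τ : Γ} {J : Γ → G} {z w : G}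

theorem idx_comap {A B : Type*} [Group A] [Group B] (f : A →* B) (H : Subgroup B) (h : ∀ b, ∃ a, (f a)⁻¹ * b ∈ H) :
    (H.comap f).index = H.index :=
  Nat.card_eq_of_bijective (Quotient.map' f fun x y e => by
      rw [QuotientGroup.leftRel_apply] at e ⊢; simpa using e)
    ⟨fun x y => Quotient.inductionOn₂' x y fun x y e => QuotientGroup.eq.2 (by simpa using QuotientGroup.eq.1 e),
      fun y => Quotient.inductionOn' y fun y => (h y).elim fun a e => ⟨a, QuotientGroup.eq.2 e⟩⟩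

/-- the derived group of the centraliser -/
def Dz (d : G) : Subgroup G := ⁅𝐂₁(d), 𝐂₁(d)⁆

theorem Dz_cj {d x : G} (g : G) (h : x ∈ Dz d) : g * x * g⁻¹ ∈ Dz (g * d * g⁻¹) := by
  rw [Dz, ← cj_centralizer_singleton, ← map_commutator]; exact conj_mem_cj g h

theorem Dz_cm {d x : G} (h : x ∈ Dz d) : Commute d x := (mem_c1.1 ((commutator_le_sup _ _).trans (sup_idem _).le h)).symm

theorem Dz_of {d a b : G} (x : Commute d a) (y : Commute d b) : a * b * a⁻¹ * b⁻¹ ∈ Dz d :=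
  commutator_mem_commutator (mem_c1.2 x.symm) (mem_c1.2 y.symm)

theorem nn2 : nn 2 • tA = tA ∧ nn 2 • tB = tA * tB := ⟨wg_A (by decide +kernel), wg_B (by decide +kernel)⟩

theorem xc_UU : xc ∈ UU := by decide +kernel

theorem xp_UU (s : ZMod 2) : xp s ∈ UU := by revert s; decide +kernel

theorem B_UU : tB ∈ UU := RAB_UU B_RAB

theorem S1_mul {p q : Lab} (h : p = q ∨ p = tA * q) : Mon.G.lam p + Mon.G.lam q ∈ S1 tA := by
  rcases h with rfl | rfl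
  exacts [W2.add_self _ ▸ zero_mem _, by rw [lam_mul, add_assoc, W2.add_self, add_zero]; exact t_mem_S1 _]

theorem xp_A {c : ZMod 2} {p : Lab} (h : xp c * p = p ∨ xp c * p = tA * p) : c = 0 := by
  rw [mul_eq_right, mul_left_inj] at h
  revert c; decide +kernel

section
variable (O : Mon.G.Out ρ τ)
include O

theorem At.mul {g k : G} {x y : Γ} (a : At ρ τ J g x) (b : At ρ τ J k y) (hy : y ∈ HB ρ τ) : At ρ τ J (g * k) (x * y) :=
  fun m hm => by rw [← conj_conj', b m hm, a _ (cjL O hy hm), conj_conj']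

theorem At.inv {g : G} {x : Γ} (a : At ρ τ J g x) (hx : x ∈ HB ρ τ) : At ρ τ J g⁻¹ x⁻¹ := fun m hm => by
  have := a _ (cjL O (inv_mem hx) hm)
  rw [conj_conj', mul_inv_cancel, one_mul, inv_one, mul_one] at this
  rw [← this]; group

theorem mH {γ : Gt} (a : γ ∈ PA) (b : γ • tB = tB ∨ γ • tB = tA * tB) : ρ γ ∈ HB ρ τ :=
  ⟨mem_AA ρ τ a, nV O fun v hv => by
    have c : γ • tB ∈ C3.RAB := b.elim (fun e => e.symm ▸ B_RAB) fun e => e.symm ▸ mul_mem A_RAB B_RAB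
    rcases hv with rfl | rfl | rfl | rfl
    exacts [by rw [smul_one]; exact one_mem _, (mem_stabilizer_iff.1 a).symm ▸ A_RAB, c,
      by rw [smul_mul', mem_stabilizer_iff.1 a]; exact mul_mem A_RAB c]⟩

theorem PB_L {γ : Gt} (h : ρ γ ∈ LB ρ τ) : γ ∈ PB :=
  ⟨(rho_comm_iff O.x_ne).1 ((mL O).1 h).1, (rho_comm_iff O.x_ne).1 ((mL O).1 h).2⟩

theorem ofH {γ : Gt} (h : ρ γ ∈ HB ρ τ) : γ • tB = tB ∨ γ • tB = tA * tB :=
  (HB_b O h).imp (fun e => (PB_L O e).2) fun e => O.inj.1 ((rho_conj _ _).symm.trans e)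

theorem H_UU {γ : Gt} (a : γ ∈ PA) (h : ρ γ ∈ HB ρ τ) {p : Lab} (b : p ∈ UU) : γ • p ∈ UU := by
  have := cjL O h (pL b)
  rw [rho_conj] at this
  exact pauli_PB.1 (PB_L O this)

end

namespace Ce

variable (h : Ce ρ τ J z w)
include h

theorem eq_iff {a b : Γ} (ha : a ∈ LB ρ τ) (hb : b ∈ LB ρ τ) : J a = J b ↔ T ρ (a * b⁻¹) := by
  rw [← h.ker _ (mul_mem ha (inv_mem hb)), h.hm _ ha _ (inv_mem hb), h.hm.inv hb, mul_inv_eq_one]

theorem pinj {p q : Lab} (a : p ∈ UU) (b : q ∈ UU) : J (ρ (pauli p)) = J (ρ (pauli q)) ↔ p = q ∨ p = tA * q := by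
  rw [h.eq_iff (pL a) (pL b), ← map_inv, ← map_inv, rho_pauli_mul, T_pauli h.O, mul_inv_eq_one, mul_inv_eq_iff_eq_mul]

theorem hP : Hm PB fun γ => J (ρ γ) := fun a ha b hb => by
  simp only [map_mul, h.hm _ (mem_LB ρ τ ha) _ (mem_LB ρ τ hb)]

theorem pm {p q : Lab} (a : p ∈ UU) (b : q ∈ UU) : J (ρ (pauli (p * q))) = J (ρ (pauli p)) * J (ρ (pauli q)) := by
  rw [← rho_pauli_mul, h.hm _ (pL a) _ (pL b)]

theorem cp {γ : Gt} {p : Lab} (a : γ ∈ PB) (b : p ∈ UU) :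
    J (ρ γ) * J (ρ (pauli p)) * (J (ρ γ))⁻¹ = J (ρ (pauli (γ • p))) := by
  rw [← h.hm.conj (mem_LB ρ τ a) (pL b), rho_conj]

theorem cm {a b : Γ} (ha : a ∈ LB ρ τ) (hb : b ∈ LB ρ τ) (c : Commute a b) : Commute (J a) (J b) := by
  rw [commute_iff_eq, ← h.hm _ ha _ hb, ← h.hm _ hb _ ha, c.eq]

theorem cL {a : Γ} (ha : a ∈ LB ρ τ) : Commute z (J a) := h.hz ▸ h.cm (pL B_UU) ha (cR h.O ha B_RAB).symm

theorem cP {γ : Gt} (a : γ ∈ PB) : Commute w (J (ρ γ)) := h.hw ▸ h.cm (pL xc_UU) (mem_LB ρ τ a) (rho_comm_iff' γ).symm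

theorem j1 : J (ρ (pauli 1)) = 1 := by rw [map_one, map_one, h.hm.one]

theorem jA : J (ρ (pauli tA)) = 1 := (h.ker _ (pL (RAB_UU A_RAB))).2 (.inr rfl)

theorem zz : z * z = 1 := by rw [← h.hz, ← h.pm B_UU B_UU, RAB_sq B_RAB, h.j1]

theorem ww : w * w = 1 := by rw [← h.hw, ← h.pm xc_UU xc_UU, xc_mul_xc, h.j1]

theorem z1 : z ≠ 1 := fun e => absurd ((h.pinj B_UU (one_mem _)).1 (h.hz.trans (e.trans h.j1.symm))) (by decide +kernel)

theorem w1 : w ≠ 1 := fun e => absurd ((h.pinj xc_UU (one_mem _)).1 (h.hw.trans (e.trans h.j1.symm))) (by decide +kernel)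

theorem zw : Commute z w := h.hw ▸ h.cL (pL xc_UU)

theorem z_ne : z ≠ w := fun e => absurd ((h.pinj B_UU xc_UU).1 (h.hz.trans (e.trans h.hw.symm))) (by decide +kernel)

theorem jV {v : Lab} (a : v ∈ C3.RAB) : J (ρ (pauli v)) = 1 ∨ J (ρ (pauli v)) = z := by
  rcases a with rfl | rfl | rfl | rfl
  exacts [.inl h.j1, .inl h.jA, .inr h.hz, .inr (by rw [h.pm (RAB_UU A_RAB) B_UU, h.jA, h.hz, one_mul])]

theorem at_J {m : Γ} (a : m ∈ LB ρ τ) : At ρ τ J (J m) m := fun _ b => (h.hm.conj a b).symm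

theorem up {g : G} {m : Γ} (a : m ∈ LB ρ τ) (b : At ρ τ J g m) : g = J m ∨ g = J m * z := by
  have := ((h.at_J a).inv h.O (LH h.O a)).mul h.O b (LH h.O a)
  rw [inv_mul_cancel] at this
  exact (h.cen this).imp (fun e => (inv_mul_eq_one.1 e).symm) inv_mul_eq_iff_eq_mul.1

theorem in_of {g : G} {m : Γ} (a : m ∈ LB ρ τ) (b : At ρ τ J g m) : ∃ m ∈ LB ρ τ, J m = g := by
  rcases h.up a b with rfl | rfl
  exacts [⟨m, a, rfl⟩, ⟨_, mul_mem a (pL B_UU), by rw [h.hm _ a _ (pL B_UU), h.hz]⟩]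

theorem mD {g : G} : g ∈ Dz z ↔ ∃ m ∈ LB ρ τ, J m = g := by
  let j : LB ρ τ →* G := MonoidHom.mk' (fun m => J m) fun a b => h.hm _ a.2 _ b.2
  refine ⟨fun a => ?_, fun ⟨m, a, e⟩ => ?_⟩
  · refine ((commutator_le.2 fun g a k b => ?_ : Dz z ≤ j.range) a).elim fun m e => ⟨m, m.2, e⟩
    obtain ⟨x, c, d⟩ := h.cz (mem_c1.1 a).symm
    obtain ⟨y, e, f⟩ := h.cz (mem_c1.1 b).symm
    obtain ⟨m, l, q⟩ := h.in_of (m := x * y * x⁻¹ * y⁻¹) (by
      by_cases u : x ∈ LB ρ τ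
      · simpa only [mul_assoc, inv_inv] using mul_mem u (cjL h.O e (inv_mem u))
      by_cases v : y ∈ LB ρ τ
      · exact mul_mem (cjL h.O c v) (inv_mem v)
      · rw [mul_assoc]
        exact mul_mem (HB_two h.O c e u v) (HB_two h.O (inv_mem c) (inv_mem e) (mt inv_mem_iff.1 u) (mt inv_mem_iff.1 v)))
      (((d.mul h.O f e).mul h.O (d.inv h.O c) (inv_mem c)).mul h.O (f.inv h.O e) (inv_mem e))
    exact ⟨⟨m, l⟩, q⟩
  · have : j.range ≤ 𝐂₁(z) := by rintro _ ⟨m, rfl⟩; exact mem_c1.2 (h.cL m.2).symm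
    refine commutator_mono this this ?_
    rw [MonoidHom.range_eq_map, ← map_commutator, ← _root_.commutator_def, perL h.O]
    exact ⟨⟨m, a⟩, trivial, e⟩

theorem mL' {g : G} {x : Γ} (a : g ∈ Dz z) (hx : x ∈ HB ρ τ) (b : At ρ τ J g x) : x ∈ LB ρ τ := by
  obtain ⟨m, c, rfl⟩ := h.mD.1 a
  have := ((h.at_J c).inv h.O (LH h.O c)).mul h.O b hx
  exact (mul_mem_cancel_left (inv_mem c)).1 (VL (cenV h.O fun l d => T_V ((h.eq_iff
    (cjL h.O (mul_mem (inv_mem (LH h.O c)) hx) d) d).1 (by rw [← this l d]; simp))))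

theorem two_z {g k : G} (a : Commute z g) (b : Commute z k) (c : g ∉ Dz z) (d : k ∉ Dz z) : g * k ∈ Dz z := by
  obtain ⟨x, e, f⟩ := h.cz a
  obtain ⟨y, u, v⟩ := h.cz b
  exact h.mD.2 (h.in_of (HB_two h.O e u (fun l => c (h.mD.2 (h.in_of l f))) fun l => d (h.mD.2 (h.in_of l v))) (f.mul h.O v u))

theorem two_in {d g k : G} (e : IsConj z d) (a : Commute d g) (b : Commute d k) (c : g ∉ Dz d) (f : k ∉ Dz d) :
    g * k ∈ Dz d := by
  obtain ⟨x, rfl⟩ := isConj_iff.1 e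
  have := Dz_cj x (h.two_z (comm_cj.1 a) (comm_cj.1 b) (fun l => c (by simpa [mul_assoc] using Dz_cj x l))
    fun l => f (by simpa [mul_assoc] using Dz_cj x l))
  simpa [mul_assoc] using this

theorem sur {x : Γ} (a : x ∈ HB ρ τ) : ∃ g, At ρ τ J g x := by
  by_cases b : x ∈ LB ρ τ
  · exact ⟨_, h.at_J b⟩
  obtain ⟨g, c, n⟩ := h.out
  obtain ⟨y, d, e⟩ := h.cz c
  have := (h.at_J (HB_two h.O a (inv_mem d) b fun l => (h.in_of (inv_mem_iff.1 l) e).elim fun m k => n m k.1 k.2)).mul h.O e d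
  exact ⟨_, inv_mul_cancel_right x y ▸ this⟩

theorem at_z {g : G} {x : Γ} (a : x ∈ HB ρ τ) (b : At ρ τ J g x) : Commute z g := by
  obtain ⟨v, c, e⟩ := (mem_normalizer_iff.1 a.2 _).1 (pV B_RAB)
  have := b _ (pL B_UU)
  rw [h.hz, ← e] at this
  exact (h.jV c).elim (fun k => absurd (conj_eq_one_iff.1 (this.trans k)) h.z1) fun k => comm_of_conj (this.trans k)

theorem cx {g : G} {x : Γ} (a : x ∈ HB ρ τ) (b : At ρ τ J g x) : Commute w g ↔ Commute (ρ (pauli xc)) x := by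
  have := b _ (pL xc_UU)
  rw [h.hw] at this
  refine ⟨fun c => ?_, fun c => comm_of_conj (by rw [this, conj_of_comm c, h.hw])⟩
  rw [conj_of_comm c, ← h.hw, eq_comm, h.eq_iff (cjL h.O a (pL xc_UU)) (pL xc_UU), T, mul_inv_eq_one,
    mul_inv_eq_iff_eq_mul (c := ρ (pauli tA)), rho_pauli_mul] at this
  exact comm_of_conj (this.resolve_right fun e => h.O.not_conj_short (short_tA.congr (by decide +kernel)) (isConj_iff.2 ⟨x, e⟩))

theorem ofD {g : G} (a : Commute z g) (b : Commute w g) : ∃ γ ∈ PA, ρ γ ∈ HB ρ τ ∧ At ρ τ J g (ρ γ) := by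
  obtain ⟨x, c, d⟩ := h.cz a
  obtain ⟨γ, e, rfl⟩ := of_cx h.O c.1 ((h.cx c d).1 b)
  exact ⟨γ, e, c, d⟩

theorem ofP {g : G} (a : g ∈ Dz z) (b : Commute w g) : ∃ γ ∈ PB, J (ρ γ) = g := by
  obtain ⟨m, c, rfl⟩ := h.mD.1 a
  obtain ⟨γ, -, rfl⟩ := of_cx h.O (LB_le_AA ρ τ c) ((h.cx (LH h.O c) (h.at_J c)).1 b)
  exact ⟨γ, PB_L h.O c, rfl⟩

theorem odd : Odd ((𝐂₁(w)).relIndex 𝐂₁(z)) := by
  let j : LB ρ τ →* 𝐂₁(z) := MonoidHom.mk' (fun m => ⟨J m, mem_c1.2 (h.cL m.2).symm⟩) fun a b => Subtype.ext (h.hm _ a.2 _ b.2)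
  have n := mH (τ := τ) h.O nn2.1 (.inr nn2.2)
  rw [relIndex, ← idx_comap j, show ((𝐂₁(w)).subgroupOf 𝐂₁(z)).comap j = (PB.map ρ).subgroupOf _ from ?_]
  · exact (congrArg Odd h.O.iP).mpr (by decide)
  · ext m
    refine ⟨fun a => ?_, fun ⟨γ, a, e⟩ => mem_c1.2 (show Commute (J m) w by rw [← show ρ γ = m from e]; exact (h.cP a).symm)⟩
    obtain ⟨γ, -, e⟩ := of_cx h.O (LB_le_AA ρ τ m.2) ((h.cx (LH h.O m.2) (h.at_J m.2)).1 (mem_c1.1 a).symm)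
    exact ⟨γ, PB_L h.O (e ▸ m.2), e⟩
  · intro g
    obtain ⟨x, a, b⟩ := h.cz (mem_c1.1 g.2).symm
    have k : ∀ m : LB ρ τ, Commute (ρ (pauli xc)) ((m : Γ)⁻¹ * x) → (j m)⁻¹ * g ∈ (𝐂₁(w)).subgroupOf 𝐂₁(z) := fun m c =>
      mem_c1.2 ((h.cx (mul_mem (inv_mem (LH h.O m.2)) a) (((h.at_J m.2).inv h.O (LH h.O m.2)).mul h.O b a)).2 c).symm
    by_cases c : x ∈ LB ρ τ
    · exact ⟨⟨x, c⟩, k _ (by simp)⟩
    · exact ⟨⟨_, HB_two h.O a (inv_mem n) c fun l => absurd ((PB_L h.O (inv_mem_iff.1 l)).2.symm.trans nn2.2)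
        (by decide +kernel)⟩, k _ (by simpa using id (α := Commute _ _) (rho_comm_iff' (nn 2)).symm)⟩

theorem cenQ {g : G} (a : ∀ p ∈ UU, Commute (J (ρ (pauli p))) g) : (g = 1 ∨ g = z) ∨ g = w ∨ g = w * z := by
  obtain ⟨γ, b, c, d⟩ := h.ofD (h.hz ▸ a _ B_UU) (h.hw ▸ a _ xc_UU)
  have f : ∀ p ∈ UU, J (ρ γ * ρ (pauli p) * (ρ γ)⁻¹) = J (ρ (pauli p)) := fun p k => by
    rw [← d _ (pL k), conj_of_comm (a p k)]
  obtain ⟨q, e⟩ := of_pm h.O (pm_of_U fun p k => S1_mul ((h.pinj (H_UU h.O b c k) k).1 (rho_conj (ρ := ρ) γ p ▸ f p k)))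
  rw [← e] at f d c
  obtain ⟨s, v, k, rfl⟩ := cases_E2 (mem_E2_of (p := q) fun p k => bf_comm _ _ ▸ xp_A (by
    have := f p k
    rwa [rho_conj, h.pinj (H_UU h.O (pauli_PA.2 (bf_of h.O c.1)) c k) k, pauli_smul'] at this))
  have u := xp_UU s
  have := h.up (pL (mul_mem u (RAB_UU k))) d
  rw [h.pm u (RAB_UU k)] at this
  rcases z2_cases s with rfl | rfl <;> rcases h.jV k with l | l <;> rw [l] at this
  exacts [.inl (by simpa [h.hm.one] using this), .inl (by simpa [h.hm.one, h.zz, or_comm] using this),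
    .inr (by simpa [xp_one, h.hw] using this), .inr (by simpa [xp_one, h.hw, mul_assoc, h.zz, or_comm] using this)]

end Ce

end CF.StdZ.Bb
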