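import Cfsg.Agent.StdZ.BbF

/-! Fusion in the four-group of the two central involutions. -/

set_option autoImplicit false
set_option maxHeartbeats 400000
set_option maxRecDepth 100000

namespace CF.StdZ.Bb

open Cfsg Subgroup CF.Leech CF.Mon CF.Mon.G CF.Mon.L CF.Mon.Lab CF.Known.Mon MulAction CF.LX CF.Loc
open CF.Even Function Spor CF.MonU CF.Mon.O CF.BabU CF.StdZ.Bm
open scoped commutatorElement Pointwise

variable {Γ G : Type*} [Group Γ] [Group G] {ρ : Gt →* Γ} {τ : Γ} {J : Γ → G} {z w : G}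

/-- the twisted commutator -/
noncomputable def lm (γ : Gt) (p : Lab) : Lab := p * (γ • p)⁻¹

theorem lam_lm (γ : Gt) (p : Lab) : Mon.G.lam (lm γ p) = kp γ p := by rw [lm, lam_mul, lam_inv, add_comm, kp]

theorem lm_mul (γ : Gt) (q p : Lab) : lm γ (q * p) = xp (bf q (lm γ p)) * (lm γ p * lm γ q) := by
  rw [← mul_assoc, ← pauli_smul', pauli_smul, lm, lm, lm, smul_mul']; group

theorem pm_eqv {γ : Gt} (h : PM γ) (p : Lab) : γ • p ≈ₗ p := lam_eq_iff.1 (by rw [lam_smul, h.lam])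

theorem mu {γ : Gt} (h : PM (γ * γ)) (p q : Lab) : bf (p * q) (γ • (p * q)) = bf p (γ • p) + bf q (γ • q) :=
  mu_add (fun p => mul_smul γ γ p ▸ pm_eqv h p) p q

section
variable {K : Subgroup Lab} {β : Lab → G} {γ : Gt} {n : G} (F : Hm K β) (hK : ∀ p ∈ K, γ • p ∈ K)
  (a : ∀ p ∈ K, n * β p * n⁻¹ = β (γ • p))
include hK

theorem lm_mem {p : Lab} (h : p ∈ K) : lm γ p ∈ K := mul_mem h (inv_mem (hK p h))

include F a

theorem lm_cj {p : Lab} (h : p ∈ K) : β p * n * (β p)⁻¹ = β (lm γ p) * n := by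
  rw [lm, F _ h _ (inv_mem (hK p h)), F.inv (hK p h), ← a p h]; group

theorem lm_cm (nn : n * n = 1) {p : Lab} (h : p ∈ K) (m : bf p (γ • p) = 0) : Commute n (β (lm γ p)) := by
  have c : β (lm γ p) * β (lm γ p) = 1 := by
    rw [← F _ (lm_mem hK h) _ (lm_mem hK h), sq_iff.2 (by
      rw [lm, qf_mul, (inv_eqv _).qf, qf_smul, z2_add_self, zero_add, Eqv.bf (.refl _) (inv_eqv _), m]), F.one]
  have d := eq_inv_of_mul_eq_one_left (conj_sq (lm_cj F hK a h) nn)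
  rw [mul_inv_rev, inv_eq_of_mul_eq_one_right c, inv_eq_of_mul_eq_one_right nn] at d
  exact d.symm

end

/-- the classes of a pair -/
def Pq (z x y r : G) : Prop := IsConj x r ∧ IsConj y (r * z) ∨ IsConj x (r * z) ∧ IsConj y r

theorem Pq.same {x y r : G} (h : Pq z x y r) : IsConj x y ↔ IsConj r (r * z) := by
  rcases h with ⟨a, b⟩ | ⟨a, b⟩
  exacts [⟨fun c => a.symm.trans (c.trans b), fun c => a.trans (c.trans b.symm)⟩,
    ⟨fun c => b.symm.trans (c.symm.trans a), fun c => a.trans (c.symm.trans b.symm)⟩]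

theorem m34_UU : m34 ∈ UU := by decide +kernel

theorem t5_UU : t5 ∈ UU := by decide +kernel

/-- an element fixing `m34` -/
def gW : List ℕ := [11, 14, 11, 12, 11, 8, 14, 10, 6, 8, 11, 6, 10, 11]

namespace Ce

variable (h : Ce ρ τ J z w)
include h

theorem cV {t x : G} (e : t = w ∨ t = w * z) (a : Commute z x) : Commute t x ↔ Commute w x := by
  rcases e with rfl | rfl
  exacts [Iff.rfl, ⟨fun b => by simpa using b.mul_left a.inv_left, fun b => b.mul_left a⟩]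

theorem wz_ne : w * z ≠ w := fun e => h.z1 (by simpa using e)

theorem nwz {g : G} (a : Commute z g) : g * w * g⁻¹ ≠ w * z := fun e => by
  obtain ⟨x, b, c⟩ := h.cz a
  have := c _ (pL xc_UU)
  rw [h.hw, e, ← h.hw, ← h.hz, ← h.pm xc_UU B_UU, eq_comm, h.eq_iff (cjL h.O b (pL xc_UU)) (pL (mul_mem xc_UU B_UU)), T,
    mul_inv_eq_one, mul_inv_eq_iff_eq_mul (c := ρ (pauli tA)), rho_pauli_mul] at this
  rcases this with e | e <;> refine h.O.not_conj_short ?_ (isConj_iff.2 ⟨x, e⟩)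
  exacts [short_xB.1, short_xB.2.2.congr (by decide +kernel)]

theorem nP {g : G} (n : ∀ x, Commute z x → Commute w x → Commute z (g * x * g⁻¹) ∧ Commute w (g * x * g⁻¹)) {γ : Gt}
    (a : γ ∈ PB) : ∃ δ ∈ PB, J (ρ δ) = g * J (ρ γ) * g⁻¹ := by
  have F := h.hP
  have m := fun γ (a : γ ∈ PB) => n _ (h.cL (mem_LB ρ τ a)) (h.cP a)
  refine (perfB (K :=
    { carrier := {γ | γ ∈ PB ∧ ∃ δ ∈ PB, J (ρ δ) = g * J (ρ γ) * g⁻¹}
      one_mem' := ⟨one_mem _, 1, one_mem _, by simp [h.hm.one]⟩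
      mul_mem' := fun ⟨a, _, b, c⟩ ⟨d, _, e, f⟩ => ⟨mul_mem a d, _, mul_mem b e, (F _ b _ e).trans (by
        beta_reduce; rw [c, f, ← conj_mul_conj]; exact congrArg (g * · * g⁻¹) (F _ a _ d).symm)⟩
      inv_mem' := fun ⟨a, _, b, c⟩ => ⟨inv_mem a, _, inv_mem b, (F.inv b).trans (by
        rw [c, conj_inv]; exact congrArg (g * · * g⁻¹) (F.inv a).symm)⟩ })
    ⟨kap_PB, 1, one_mem _, by simp [h.O.kap, h.hm.one]⟩ (fun a ha b hb => ?_) a).2
  have c := mul_mem (mul_mem (mul_mem ha hb) (inv_mem ha)) (inv_mem hb)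
  refine ⟨c, h.ofP ?_ (m _ c).2⟩
  have := (F _ (mul_mem (mul_mem ha hb) (inv_mem ha)) _ (inv_mem hb)).trans (congrArg₂ _ (F.conj ha hb) (F.inv hb))
  beta_reduce at this
  rw [this]
  convert Dz_of (m a ha).1 (m b hb).1 using 1; group

theorem act {g t u : G} (a : t = w ∨ t = w * z) (b : u = w ∨ u = w * z) (e : g * z * g⁻¹ = t) (f : g * u * g⁻¹ = z) :
    ∃ c ∈ PA, ∀ γ ∈ PB, c * γ * c⁻¹ ∈ PB ∧ J (ρ (c * γ * c⁻¹)) = g * J (ρ γ) * g⁻¹ := by
  have F := h.hP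
  let R : Subgroup (Gt × Gt) :=
    { carrier := {y | y.1 ∈ PB ∧ y.2 ∈ PB ∧ J (ρ y.2) = g * J (ρ y.1) * g⁻¹}
      one_mem' := ⟨one_mem _, one_mem _, by simp [h.hm.one]⟩
      mul_mem' := fun a b => ⟨mul_mem a.1 b.1, mul_mem a.2.1 b.2.1,
        (F _ a.2.1 _ b.2.1).trans (by beta_reduce; rw [a.2.2, b.2.2, ← conj_mul_conj]; exact congrArg (g * · * g⁻¹) (F _ a.1 _ b.1).symm)⟩
      inv_mem' := fun a => ⟨inv_mem a.1, inv_mem a.2.1,
        (F.inv a.2.1).trans (by rw [a.2.2, conj_inv]; exact congrArg (g * · * g⁻¹) (F.inv a.1).symm)⟩ }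
  have k : ∀ {γ}, Kt tA γ ↔ γ ∈ PB ∧ J (ρ γ) = 1 := fun {γ} => by
    rw [kt_iff h.O]
    exact ⟨fun k => ⟨PB_L h.O (VL (T_V k)), (h.ker _ (VL (T_V k))).2 k⟩, fun k => (h.ker _ (mem_LB ρ τ k.1)).1 k.2⟩
  obtain ⟨c, hc, l⟩ := Rl.inner (R := R) ⟨A_RAB, A_RAB, fun k => ⟨k.1, k.2.1⟩,
    fun γ l => (h.nP (fun x c d => have d : Commute z (g * x * g⁻¹) := f ▸ ((h.cV b c).2 d).conj g
      ⟨d, (h.cV a d).1 (e ▸ c.conj g)⟩) l).imp fun _ q => ⟨l, q⟩,
    fun γ l => (h.nP (g := g⁻¹) (fun x c d => by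
      rw [inv_inv]
      have d : Commute z (g⁻¹ * x * g) := comm_cj.1 (e ▸ (h.cV a c).2 d)
      exact ⟨d, (h.cV b d).1 (comm_cj.1 (f ▸ c))⟩) l).imp fun _ q => ⟨q.1, l, by rw [q.2]; group⟩,
    fun γ => ((and_iff_right (one_mem _)).trans (and_congr_right' (by simp [h.hm.one]))).trans k.symm,
    fun γ => (and_congr_right' ((and_iff_right (one_mem _)).trans (by simp [h.hm.one, eq_comm (a := (1 : G))]))).trans k.symm⟩
  exact ⟨c, hc, fun γ q => (l γ q).2⟩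

theorem exQ : ∃ Q : Subgroup G, IsPGroup 2 Q ∧ ∀ g, g ∈ Q ↔ ∃ p ∈ UU, J (ρ (pauli p)) = g := by
  let j : UU →* G := MonoidHom.mk' (fun p => J (ρ (pauli p))) fun a b => h.pm a.2 b.2
  refine ⟨j.range, ?_, fun g => ⟨fun ⟨p, e⟩ => ⟨p, p.2, e⟩, fun ⟨p, a, e⟩ => ⟨⟨p, a⟩, e⟩⟩⟩
  rintro ⟨_, p, rfl⟩
  refine ⟨2, Subtype.ext (show j p ^ 4 = 1 from ?_)⟩
  rw [← map_pow, show p ^ 4 = 1 from Subtype.ext (pauli_injective (by simpa using (pm_pauli p.1).pow)), map_one]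

theorem dz {d : G} (hd : d = J (ρ (pauli m34)) ∨ d = J (ρ (pauli m34)) * z) (q : ℕ) {y : Lab}
    (a : lab q ∈ UU ∧ bf m34 (lab q) = 0 ∧ ev gW q * (lab q)⁻¹ = y) : J (ρ (pauli y)) ∈ Dz d := by
  have g : wg gW ∈ PB := ⟨wg_A (by decide +kernel), wg_B (by decide +kernel)⟩
  have c : ∀ γ ∈ PB, γ • m34 = m34 → Commute d (J (ρ γ)) := fun γ k e => by
    have := comm_of_conj ((h.cp k m34_UU).trans (by rw [e]))
    rcases hd with rfl | rfl
    exacts [this, this.mul_left (h.cL (mem_LB ρ τ k))]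
  have := Dz_of (c _ g ((wg_smul _ _).trans (by decide +kernel)))
    (c _ (pauli_PB.2 a.1) (pauli_smul_eq_iff.2 (bf_comm _ _ ▸ a.2.1)))
  rwa [h.cp g a.1, ← h.hm.inv (pL a.1), ← map_inv, ← map_inv, ← h.pm (smul_UU g a.1) (inv_mem a.1), wg_smul, a.2.2] at this

theorem cjB {p q : Lab} (a : p ∈ UU) (e : ∃ γ ∈ PB, γ • p = q) :
    IsConj (J (ρ (pauli p))) (J (ρ (pauli q))) ∧ IsConj (J (ρ (pauli p)) * z) (J (ρ (pauli q)) * z) :=
  let ⟨_, b, e⟩ := e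
  ⟨isConj_iff.2 ⟨_, e ▸ h.cp b a⟩, isConj_iff.2 ⟨_, by rw [conj_mul_conj, h.cp b a, e, conj_of_comm (h.cL (mem_LB ρ τ b))]⟩⟩

theorem flip : IsConj (J (ρ (pauli t5))) (J (ρ (pauli t5)) * z) := by
  rw [← h.hz, ← h.pm t5_UU B_UU]
  exact (h.cjB t5_UU (exB [6, 10, 11, 5, 6, 7, 8, 14, 12, 11, 8, 7, 5, 6, 10, 7, 8, 6, 7, 5, 6] 0x39000 (by decide +kernel))).1

theorem zD {d : G} (c : IsConj z d) : d ∈ Dz d :=
  let ⟨g, e⟩ := isConj_iff.1 c
  e ▸ Dz_cj g (h.mD.2 ⟨_, pL B_UU, h.hz⟩)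

theorem typ {d x : G} (c : IsConj z d) (a : x ∈ Dz d) (xx : x * x = 1) (n1 : x ≠ 1) (n2 : x ≠ d) :
    Pq z x (x * d) w ∨ Pq z x (x * d) (J (ρ (pauli m34))) ∨ Pq z x (x * d) (J (ρ (pauli t5))) := by
  obtain ⟨g, rfl⟩ := isConj_iff.1 c
  obtain ⟨u, b, e⟩ := h.mD.1 (by simpa [mul_assoc] using Dz_cj g⁻¹ a)
  obtain rfl : x = g * J u * g⁻¹ := by rw [e]; group
  obtain ⟨k, l, r, m, v, f, q⟩ := intoL h.O b (T_V ((h.ker _ (mul_mem b b)).1 (by
    rwa [← conj_mul_conj, conj_eq_one_iff, ← h.hm _ b _ b] at xx))) fun ⟨v, f, q⟩ => by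
    rcases h.jV f with s | s <;> rw [show ρ (pauli v) = u from q] at s
    exacts [n1 (by simp [s]), n2 (by rw [s])]
  have o : r ∈ UU := by
    rcases m with rfl | rfl | rfl
    exacts [xc_UU, m34_UU, t5_UU]
  have s := congrArg J q
  rw [h.hm.conj l b, h.pm o (RAB_UU f)] at s
  have s1 : IsConj (g * J u * g⁻¹) (J (ρ (pauli r)) * J (ρ (pauli v))) := isConj_iff.2 ⟨J k * g⁻¹, by rw [← s]; group⟩
  have s2 : IsConj (g * J u * g⁻¹ * (g * z * g⁻¹)) (J (ρ (pauli r)) * J (ρ (pauli v)) * z) :=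
    isConj_iff.2 ⟨J k * g⁻¹, by rw [← s, ← conj_mul_conj, ← conj_of_comm (h.cL l), ← conj_mul_conj, conj_of_comm (h.cL l)]; group⟩
  have t : Pq z (g * J u * g⁻¹) (g * J u * g⁻¹ * (g * z * g⁻¹)) (J (ρ (pauli r))) := by
    rcases h.jV f with s | s <;> rw [s] at s1 s2
    exacts [.inl (by simpa using And.intro s1 s2), .inr ⟨s1, by rwa [mul_assoc _ z z, h.zz, mul_one] at s2⟩]
  rcases m with rfl | rfl | rfl
  exacts [.inl (h.hw ▸ t), .inr (.inl t), .inr (.inr t)]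

theorem noT3 (n1 : ¬ IsConj z w) (n2 : ¬ IsConj w (w * z)) : ¬ Pq z z w (J (ρ (pauli m34))) := fun H => by
  have key : ∀ {d y}, IsConj z d → y ∈ Dz d → y * y = 1 → IsConj y (y * d) → IsConj y (J (ρ (pauli t5))) := fun {d y} a b c e => by
    have dd : d * d = 1 := let ⟨_, e⟩ := isConj_iff.1 a; conj_sq e h.zz
    have d1 : d ≠ 1 := fun k => h.z1 (by simpa [k] using a)
    rcases h.typ a b c (fun k => d1 (by simpa [k] using e.symm)) (fun k => d1 (by simpa [k, dd] using e)) with k | k | k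
    exacts [absurd (k.same.1 e) n2, absurd (H.same.2 (k.same.1 e)) n1, k.elim And.left fun k => k.1.trans h.flip.symm]
  have mm : J (ρ (pauli m34)) * J (ρ (pauli m34)) = 1 := by
    rw [← h.pm m34_UU m34_UU, show m34 * m34 = 1 by decide +kernel, h.j1]
  have zd : ∀ {d}, d = J (ρ (pauli m34)) ∨ d = J (ρ (pauli m34)) * z → z ∈ Dz d := fun a =>
    h.hz ▸ h.dz a 0x8149f (by decide +kernel)
  have fin : ∀ {d p q}, d = J (ρ (pauli m34)) ∨ d = J (ρ (pauli m34)) * z → IsConj z d → J (ρ (pauli p)) ∈ Dz d →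
      J (ρ (pauli p)) * d = J (ρ (pauli q)) → (∃ γ ∈ PB, γ • m34 = p) → (∃ γ ∈ PB, γ • m34 = q) → False :=
    fun {d p q} a b c e f g => by
    have zd := zd a
    obtain ⟨f1, f2⟩ := h.cjB m34_UU f
    obtain ⟨g1, g2⟩ := h.cjB m34_UU g
    have sq : ∀ {x y : G}, IsConj x y → x * x = 1 → y * y = 1 := fun k => let ⟨_, e⟩ := isConj_iff.1 k; conj_sq e
    exact n1 (H.same.2 ((f1.trans (key b c (sq f1 mm) (e ▸ f1.symm.trans g1))).trans (f2.trans (key b (mul_mem c zd)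
      (sq f2 (by rw [← pow_two, (h.cL (pL m34_UU)).symm.mul_pow, pow_two, pow_two, mm, h.zz, one_mul]))
      (by rw [mul_assoc, ← (Dz_cm zd).eq, ← mul_assoc, e]; exact f2.symm.trans g2))).symm))
  rcases id H with ⟨a, -⟩ | ⟨a, -⟩
  · exact fin (p := lab 0x48f000) (q := lab 0x497000) (.inl rfl) a (h.dz (.inl rfl) 0x1120 (by decide +kernel))
      (by rw [← h.pm (by decide +kernel) m34_UU, show lab 0x48f000 * m34 = lab 0x497000 by decide +kernel])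
      (exB [7, 6, 10, 11, 14, 9, 8, 7, 6, 10, 11, 9, 6, 7] 0x18000 (by decide +kernel))
      (exB [14, 11, 12, 10, 11, 14, 5] 0x18000 (by decide +kernel))
  · refine fin (p := lab 0xe804ff * m34) (q := lab 0xe804ff * m34 * (m34 * tB)) (.inr rfl) a ?_
      (by rw [h.pm (by decide +kernel) (mul_mem m34_UU B_UU), h.pm m34_UU B_UU, h.hz])
      (exB [14, 5, 6, 10, 11, 10, 7, 8, 6, 7] 0x18000 (by decide +kernel))
      (exB [12, 10, 11, 14, 12, 9, 8, 7, 6, 10, 11, 9, 8, 7, 6, 5] 0x18000 (by decide +kernel))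
    rw [h.pm (by decide +kernel) m34_UU]
    exact mul_mem (h.dz (.inr rfl) 0x20267 (by decide +kernel))
      ((mul_mem_cancel_right (zd (.inr rfl))).1 (h.zD a))

end Ce

end CF.StdZ.Bb
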