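import Cfsg.Agent.StdZ.BbG

/-! The involution swapping two of the central involutions. -/

set_option autoImplicit false
set_option maxHeartbeats 400000
set_option maxRecDepth 100000

namespace CF.StdZ.Bb

open Cfsg Subgroup CF.Leech CF.Mon CF.Mon.G CF.Mon.L CF.Mon.Lab CF.Known.Mon MulAction CF.LX CF.Loc
open CF.Even Function Spor CF.MonU CF.Mon.O CF.BabU CF.StdZ.Bm
open scoped commutatorElement Pointwise

variable {Γ G : Type*} [Group Γ] [Group G] {ρ : Gt →* Γ} {τ : Γ} {J : Γ → G} {z w : G}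

theorem X2_sq : pauli (X 2) * pauli (X 2) = 1 := by rw [← map_mul, X_mul_X, map_one]

theorem X2_A : pauli (X 2) • tA = tA := pauli_smul_eq_iff.2 bf_2A

theorem X2_B : pauli (X 2) • tB = xc * tB := pauli_smul_of_one bf_2B

theorem pauli_nPB (q : Lab) : pauli q ∈ 𝐍(PB) :=
  nPB (by rw [lam_smul, (pm_pauli q).lam]; exact A_E2) (by rw [lam_smul, (pm_pauli q).lam]; exact B_E2)

theorem cjPB (q : Lab) {γ : Gt} (h : γ ∈ PB) : pauli q * γ * (pauli q)⁻¹ ∈ PB := (mem_normalizer_iff.1 (pauli_nPB q) γ).1 h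

namespace Ce

variable (h : Ce ρ τ J z w) [Finite G]
include h

theorem sym {g : G} (a : g * z * g⁻¹ = w ∨ g * z * g⁻¹ = w * z) : ∃ k u, (u = w ∨ u = w * z) ∧
    k * z * k⁻¹ = g * z * g⁻¹ ∧ k * u * k⁻¹ = z := by
  obtain ⟨Q, q1, q2⟩ := h.exQ
  have i := h.odd
  have e : Nat.card ↥(𝐂₁(g⁻¹ * z * g) ⊓ 𝐂₁(z)) = Nat.card ↥(𝐂₁(w) ⊓ 𝐂₁(z)) := by
    rw [← card_cj g, cj_inf, cj_centralizer_singleton, cj_centralizer_singleton, show g * (g⁻¹ * z * g) * g⁻¹ = z by group]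
    exact congrArg (fun H : Subgroup G => Nat.card H) (Subgroup.ext fun x => and_comm.trans (and_congr_left fun k =>
      mem_c1.trans (eq_comm.trans ((h.cV a (mem_c1.1 k).symm).trans (eq_comm.trans mem_c1.symm)))))
  have a1 := card_of_relIndex (inf_le_right : 𝐂₁(w) ⊓ 𝐂₁(z) ≤ _)
  rw [card_of_relIndex (inf_le_right : 𝐂₁(g⁻¹ * z * g) ⊓ 𝐂₁(z) ≤ _), e, inf_relIndex_right, inf_relIndex_right] at a1
  rw [← Nat.eq_of_mul_eq_mul_right Nat.card_pos a1] at i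
  obtain ⟨⟨c, hc⟩, k⟩ := O.exists_conj_cent (isPGroup_subgroupOf q1 (L := 𝐂₁(z))) i
  have d' := conj_of_comm (Commute.inv_right (mem_c1.1 hc).symm)
  have n : g * z * g⁻¹ ≠ z := fun e => a.elim (fun k => h.z_ne (e.symm.trans k)) fun k => h.w1 (by simpa [e] using k)
  refine ⟨g * c⁻¹, c * (g⁻¹ * z * g) * c⁻¹, (h.cenQ fun p l => ?_).resolve_left fun e => e.elim (fun e => h.z1 ?_) fun e => n ?_,
    by rw [← conj_conj', d'], by group⟩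
  · exact (comm_cj.2 (mem_c1.1 (k ⟨_, mem_c1.2 (h.cL (pL l)).symm⟩ ((q2 _).2 ⟨p, l, rfl⟩))).symm).symm
  · exact one_of_cj (conj_eq_one_iff.1 e)
  · calc _ = g * (c⁻¹ * z * c⁻¹⁻¹) * g⁻¹ := by rw [d']
      _ = g * (c⁻¹ * (c * (g⁻¹ * z * g) * c⁻¹) * c⁻¹⁻¹) * g⁻¹ := by rw [e]
      _ = z := by group

theorem nzw : ¬ IsConj z w := fun c => by
  obtain ⟨g, e⟩ := isConj_iff.1 c
  obtain ⟨k, u, a, b, d⟩ := h.sym (.inl e)
  obtain ⟨c, -, f⟩ := h.act (.inl rfl) a (b.trans e) d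
  have := (f _ (pauli_PB.2 xc_UU)).2
  rw [conj_pauli', smul_xc, h.hw] at this
  exact h.z_ne (by simpa using (b.trans e).trans this)

theorem nw (n : ¬ IsConj z (w * z)) : ¬ IsConj w (w * z) := fun c => by
  obtain ⟨Q, q1, q2⟩ := h.exQ
  have key : ∀ S : Subgroup G, Q ≤ S → S ≤ 𝐂₁(z) ⊓ 𝐂₁(w) → 𝐍(S) ≤ 𝐂₁(z) ⊓ 𝐂₁(w) := fun S a b g hg => by
    have k : ∀ {x}, (∀ s ∈ S, Commute x s) → (g * x * g⁻¹ = 1 ∨ g * x * g⁻¹ = z) ∨ g * x * g⁻¹ = w ∨ g * x * g⁻¹ = w * z :=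
      fun c => h.cenQ fun p l => (comm_cj.2 (c _ ((mem_normalizer_iff''.1 hg _).1 (a ((q2 _).2 ⟨p, l, rfl⟩))))).symm
    have e : Commute z g := by
      rcases k fun s hs => (mem_c1.1 (b hs).1).symm with (e | e) | e | e
      exacts [absurd (conj_eq_one_iff.1 e) h.z1, comm_of_conj e, absurd (isConj_iff.2 ⟨g, e⟩) h.nzw,
        absurd (isConj_iff.2 ⟨g, e⟩) n]
    refine ⟨mem_c1.2 e.symm, mem_c1.2 (Commute.symm ?_)⟩
    rcases k fun s hs => (mem_c1.1 (b hs).2).symm with (f | f) | f | f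
    exacts [absurd (conj_eq_one_iff.1 f) h.w1, absurd (isConj_iff.2 ⟨g, f⟩).symm h.nzw, comm_of_conj f, absurd f (h.nwz e)]
  obtain ⟨P, hP⟩ := q1.exists_le_sylow
  have QD : Q ≤ 𝐂₁(z) ⊓ 𝐂₁(w) := fun x a => by
    obtain ⟨p, l, rfl⟩ := (q2 x).1 a
    exact ⟨mem_c1.2 (h.cL (pL l)).symm, mem_c1.2 (h.cP (pauli_PB.2 l)).symm⟩
  have PD : (P : Subgroup G) ≤ 𝐂₁(z) ⊓ 𝐂₁(w) := by
    by_contra m
    exact (lt_inf_normalizer P.isPGroup' (inf_lt_left.2 m)).not_ge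
      (inf_le_inf_left _ (key _ (le_inf hP QD) inf_le_right))
  obtain ⟨g, e⟩ := isConj_iff.1 c
  obtain ⟨m, a, b⟩ := P.conj_eq_normalizer_conj_of_mem_centralizer w g⁻¹ (fun s hs => mem_c1.1 (PD hs).2) (by
    rw [inv_inv, e]
    exact fun s hs => (Commute.mul_right (mem_c1.1 (PD hs).2) (mem_c1.1 (PD hs).1) :))
  refine h.wz_ne ?_
  rw [← e, ← inv_inv g, inv_inv g⁻¹, b, mul_assoc, ← mem_c1.1 (key P hP PD a).2, inv_mul_cancel_left]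

theorem inner (x : ∃ g, Commute z (g * z * g⁻¹) ∧ g * z * g⁻¹ ≠ z) : ∃ y ∈ Dz z, IsConj z y ∧ y ≠ z := by
  obtain ⟨g, c, n⟩ := x
  by_cases m : g * z * g⁻¹ ∈ Dz z
  · exact ⟨_, m, isConj_iff.2 ⟨g, rfl⟩, n⟩
  obtain ⟨⟨k, hk⟩, l⟩ := O.exists_conj_cent (isPGroup_zpowers (x := (⟨_, mem_c1.2 c.symm⟩ : 𝐂₁(z))) (k := 1)
    (Subtype.ext (by simpa [pow_two] using conj_sq (g := g) rfl h.zz))) h.odd
  have kz : Commute z k := (mem_c1.1 hk).symm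
  have d : Commute w (k⁻¹ * (g * z * g⁻¹) * k) := (mem_c1.1 (l _ (mem_zpowers _))).symm
  replace c : Commute z (k⁻¹ * (g * z * g⁻¹) * k) := (kz.inv_right.mul_right c).mul_right kz
  replace m : k⁻¹ * (g * z * g⁻¹) * k ∉ Dz z := fun a => m (by simpa [mul_assoc, ← kz.eq] using Dz_cj k a)
  obtain ⟨f, e⟩ : ∃ f, f * z * f⁻¹ = k⁻¹ * (g * z * g⁻¹) * k := ⟨k⁻¹ * g, by group⟩
  generalize k⁻¹ * (g * z * g⁻¹) * k = n at c d m e
  have nn := conj_sq e h.zz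
  have zn := isConj_iff.2 ⟨f, e⟩
  obtain ⟨γ, a, b, t⟩ := h.ofD c d
  have F : Hm UU fun p => J (ρ (pauli p)) := fun _ a _ b => h.pm a b
  have hK := fun p => H_UU h.O a b (p := p)
  have A : ∀ p ∈ UU, n * J (ρ (pauli p)) * n⁻¹ = J (ρ (pauli (γ • p))) := fun p l => by rw [t _ (pL l), rho_conj]
  have p2 : PM (γ * γ) := pm_of_U fun p l => S1_mul (by
    rw [mul_smul, ← h.pinj (hK _ (hK p l)) l, ← A _ (hK p l), ← A p l, conj_conj', nn]; simp)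
  have np : ¬ PM γ := fun k => m (h.mD.2 (h.in_of (mem_LB ρ τ ⟨a, RAB_eq ((ofH h.O b).elim (fun e => e.symm ▸ B_RAB)
    fun e => e.symm ▸ mul_mem A_RAB B_RAB) B_RAB (pm_eqv k _)⟩) t))
  have i := idx_kf (f := fun p => bf p (γ • p)) (h := mu p2) idx_UU
  obtain ⟨p, p1, p3⟩ := bigA p2 np _ i [0] (by decide)
  obtain ⟨q, q1, q3⟩ := bigA p2 np _ (idx_kf (f := (bf · (lm γ p))) (h := fun _ _ => bf_mul _ _ _) i) [0, kp γ p] (by simp)
  have fin : ∀ r ∈ UU, kp γ r ∉ S1 tA → J (ρ (pauli (lm γ r))) ∈ Dz n → ∃ y ∈ Dz z, IsConj z y ∧ y ≠ z := fun r u v y =>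
    ⟨_, by simpa [← e, mul_assoc] using Dz_cj f⁻¹ (mul_mem y (h.zD zn)), (zn.trans (isConj_iff.2 ⟨_, lm_cj F hK A u⟩)).trans
      (isConj_iff.2 ⟨f⁻¹, by rw [← e]; group⟩), fun s => v (by
        rw [← lam_lm]
        refine S1_of ((T_pauli h.O).1 ((h.ker _ (pL (lm_mem hK u))).1 ?_))
        simpa [← e, mul_assoc, inv_mul_eq_iff_eq_mul, ← mul_assoc f z] using s)⟩
  by_cases u : J (ρ (pauli (lm γ p))) ∈ Dz n
  · exact fin p p1.2 (by simpa using p3) u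
  by_cases v : J (ρ (pauli (lm γ q))) ∈ Dz n
  · exact fin q q1.2.2 (by simpa using q3 0 (by simp)) v
  refine fin (q * p) (mul_mem q1.2.2 p1.2) (kp_mul _ _ _ ▸ q3 _ (by simp)) ?_
  rw [lm_mul, show bf q _ = 0 from q1.1, xp_zero, one_mul, h.pm (lm_mem hK p1.2) (lm_mem hK q1.2.2)]
  exact h.two_in zn (lm_cm F hK A nn p1.2 p1.1) (lm_cm F hK A nn q1.2.2 q1.2.1) u v

theorem pairW (x : ∃ g, Commute z (g * z * g⁻¹) ∧ g * z * g⁻¹ ≠ z) : IsConj z (w * z) := by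
  by_contra n
  have n2 := h.nw n
  have n1 := h.nzw
  obtain ⟨y, a, b, c⟩ := h.inner x
  have fin : ∀ p, p ∈ UU ∧ bf (X 11) p = 0 ∧ bf Y0 p = 0 ∧ bf (X 3) p = 1 → ¬ IsConj z (J (ρ (pauli p))) := fun p k l => by
    have c : ∀ {q}, q ∈ UU → bf q p = 0 → Commute (J (ρ (pauli p))) (J (ρ (pauli q))) := fun u v =>
      comm_of_conj ((h.cp (pauli_PB.2 u) k.1).trans (by rw [pauli_smul_eq_iff.2 v]))
    have x1 := pauli_PB.1 X11_PB
    have m := Dz_of (c x1 k.2.1) (c Y0_UU k.2.2.1)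
    rw [h.cp X11_PB Y0_UU, pauli_smul_of_one bf_11Y, h.pm xc_UU Y0_UU, mul_inv_cancel_right, h.hw] at m
    have s : IsConj z (w * J (ρ (pauli p))) := l.trans (isConj_iff.2 ⟨_, by
      rw [h.cp (pauli_PB.2 (show X 3 ∈ UU by decide +kernel)) k.1, pauli_smul_of_one k.2.2.2, h.pm xc_UU k.1, h.hw]⟩)
    rcases h.typ l m h.ww h.w1 (fun e => n1 (e ▸ l)) with t | t | t
    exacts [t.elim (fun t => n (s.trans t.2)) fun t => n2 t.1,
      h.noT3 n1 n2 (t.symm.imp (fun t => ⟨s.trans t.2, t.1⟩) fun t => ⟨s.trans t.2, t.1⟩),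
      n1 (s.trans (t.same.2 h.flip).symm)]
  have f2 : ∀ r, (r ∈ UU ∧ bf (X 11) r = 0 ∧ bf Y0 r = 0 ∧ bf (X 3) r = 1) ∧ (r * tB ∈ UU ∧ bf (X 11) (r * tB) = 0 ∧
      bf Y0 (r * tB) = 0 ∧ bf (X 3) (r * tB) = 1) → ¬ Pq z y (y * z) (J (ρ (pauli r))) := fun r k t =>
    t.elim (fun t => fin r k.1 (b.trans t.1)) fun t => fin _ k.2 (by rw [h.pm k.1.1 B_UU, h.hz]; exact b.trans t.1)
  obtain ⟨g, e⟩ := isConj_iff.1 b
  rcases h.typ (IsConj.refl z) a (conj_sq e h.zz) (fun k => h.z1 (by simpa [k] using b)) c with t | t | t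
  exacts [t.elim (fun t => n1 (b.trans t.1)) fun t => n (b.trans t.1), f2 _ (by decide +kernel) t, f2 _ (by decide +kernel) t]

theorem exists_r (x : IsConj z (w * z)) : ∃ r, r * r = 1 ∧
    ∀ γ ∈ PB, r * J (ρ γ) * r⁻¹ = J (ρ (pauli (X 2) * γ * (pauli (X 2))⁻¹)) := by
  obtain ⟨g0, e⟩ := isConj_iff.1 x
  obtain ⟨g, u, a, b, d⟩ := h.sym (.inr e)
  replace b := b.trans e
  obtain ⟨c, hc, f⟩ := h.act (.inr rfl) a b d
  have xi : (pauli (X 2))⁻¹ = pauli (X 2) := inv_eq_of_mul_eq_one_right X2_sq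
  obtain ⟨t1, t⟩ := f _ (pauli_PB.2 B_UU)
  rw [conj_pauli'] at t1 t
  rw [h.hz, b, ← h.hw, ← h.hz, ← h.pm xc_UU B_UU, h.pinj (pauli_PB.1 t1) (mul_mem xc_UU B_UU)] at t
  have m := mH (τ := τ) h.O (mul_mem hc (inv_mem X2_A)) (by
    rw [xi, mul_smul, X2_B, smul_xc_mul]
    exact t.imp (fun e => by rw [e, xc_xc]) fun e => by rw [e]; decide +kernel)
  obtain ⟨k, l⟩ := h.sur m
  have rc : ∀ γ ∈ PB, k⁻¹ * g * J (ρ γ) * (k⁻¹ * g)⁻¹ = J (ρ (pauli (X 2) * γ * (pauli (X 2))⁻¹)) := fun γ s => by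
    rw [← conj_conj', ← (f γ s).2, l.inv h.O m _ (mem_LB ρ τ (f γ s).1)]
    simp only [map_mul, map_inv]
    congr 1; group
  generalize k⁻¹ * g = r at rc
  have rz := rc _ (pauli_PB.2 B_UU)
  rw [conj_pauli', X2_B, h.pm xc_UU B_UU, h.hz, h.hw] at rz
  have n : ¬ Commute z r := fun k => h.w1 (by simpa [conj_of_comm k] using rz)
  have rw' : Commute w r := comm_of_conj (by simpa only [conj_pauli', smul_xc, h.hw] using rc _ (pauli_PB.2 xc_UU))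
  rcases h.cenQ (g := r * r) fun p k => comm_of_conj (by
    rw [← conj_conj', rc _ (pauli_PB.2 k), rc _ (cjPB _ (pauli_PB.2 k)), conj_conj', X2_sq]; simp) with (q | q) | q | q
  · exact ⟨r, q, rc⟩
  · exact (n (q ▸ Commute.mul_left rfl rfl)).elim
  · refine ⟨r * z, ?_, fun γ k => by rw [← conj_conj', conj_of_comm (h.cL (mem_LB ρ τ k)).symm, rc γ k]⟩
    calc _ = r * z * r⁻¹ * (r * r) * z := by group
      _ = _ := by rw [rz, q, mul_assoc w, h.zw.eq, ← mul_assoc, h.ww, one_mul, h.zz]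
  · exact (n (by simpa using rw'.inv_left.mul_left (q ▸ Commute.mul_left rfl rfl : Commute (w * z) r))).elim

end Ce

end CF.StdZ.Bb
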