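import Cfsg.Agent.StdZ.BbH

/-! The extraspecial group of order `2 ^ 23`. -/

set_option autoImplicit false
set_option maxHeartbeats 400000
set_option maxRecDepth 100000

namespace CF.StdZ.Bb

open Cfsg Subgroup CF.Leech CF.Mon CF.Mon.G CF.Mon.L CF.Mon.Lab CF.Known.Mon MulAction CF.LX CF.Loc
open CF.Even Function Spor CF.MonU CF.Mon.O CF.BabU CF.StdZ.Bm
open scoped commutatorElement Pointwise

variable {Γ G : Type*} [Group Γ] [Group G] {ρ : Gt →* Γ} {τ : Γ} {J : Γ → G} {z w : G} {α : Lab → G}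

/-- the extraspecial group extends the one of the double cover -/
structure Al (ρ : Gt →* Γ) (τ : Γ) (J : Γ → G) (z w : G) (α : Lab → G) : Prop extends Ce ρ τ J z w where
  hom : Hm (Pp tA) α
  eq : ∀ {p}, p ∈ UU → α p = J (ρ (pauli p))
  cj : ∀ γ ∈ PB, ∀ p ∈ Pp tA, J (ρ γ) * α p * (J (ρ γ))⁻¹ = α (γ • p)

instance (p t : Lab) : Decidable (p ∈ Pp t) := decidable_of_iff (bf p t = 0) Iff.rfl

theorem X2_P : X 2 ∈ Pp tA := bf_2A

theorem sA {γ : Gt} (a : γ ∈ PA) {p : Lab} (b : p ∈ Pp tA) : γ • p ∈ Pp tA := (bf_fix a).trans b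

theorem bf_X2 {p : Lab} (a : p ∈ Pp tA) (h : bf p tB ≠ 0) : p * X 2 ∈ UU :=
  ⟨mul_mem a X2_P, by rw [bf_mul, bf_2B, (z2_cases _).resolve_left h]; rfl⟩

theorem Ce.exists_al [Finite G] (h : Ce ρ τ J z w) (x : IsConj z (w * z)) : ∃ α, Al ρ τ J z w α := by
  obtain ⟨r, rr, rc⟩ := h.exists_r x
  have xi : (pauli (X 2))⁻¹ = pauli (X 2) := inv_eq_of_mul_eq_one_right X2_sq
  have s : ∀ {p q}, p ∈ UU → q ∈ UU → J (ρ (pauli p)) * r * J (ρ (pauli q)) = J (ρ (pauli (p * X 2 * q * X 2))) * r :=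
    fun {p q} a b => by
      have c := cjPB (X 2) (pauli_PB.2 b)
      rw [xi, ← map_mul, ← map_mul] at c
      rw [mul_assoc, mul_inv_eq_iff_eq_mul.1 (rc _ (pauli_PB.2 b)), xi, ← map_mul pauli, ← map_mul pauli, ← mul_assoc,
        ← h.pm a (pauli_PB.1 c)]
      simp only [mul_assoc]
  have xx : ∀ p, p * X 2 * X 2 = p := fun p => by rw [mul_assoc, X_mul_X, mul_one]
  refine ⟨fun p => if bf p tB = 0 then J (ρ (pauli p)) else J (ρ (pauli (p * X 2))) * r, h, fun p u q v => ?_,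
    fun a => if_pos a.2, fun γ k p u => ?_⟩
  · by_cases a : bf p tB = 0 <;> by_cases b : bf q tB = 0
    · rw [if_pos a, if_pos b, if_pos (by rw [bf_mul, a, b, add_zero]), h.pm ⟨u, a⟩ ⟨v, b⟩]
    · rw [if_pos a, if_neg b, if_neg (by rwa [bf_mul, a, zero_add]), ← mul_assoc, ← h.pm ⟨u, a⟩ (bf_X2 v b), mul_assoc p]
    · rw [if_neg a, if_pos b, if_neg (by rwa [bf_mul, b, add_zero]), s (bf_X2 u a) ⟨v, b⟩, xx]
    · rw [if_neg a, if_neg b, if_pos (by rw [bf_mul, (z2_cases _).resolve_left a, (z2_cases _).resolve_left b]; rfl),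
        ← mul_assoc, s (bf_X2 u a) (bf_X2 v b), xx, ← mul_assoc, xx, mul_assoc, rr, mul_one]
  · simp only [bf_fix k.2]
    split_ifs with a
    · exact h.cp k ⟨u, a⟩
    · have b := pauli_PB.2 (bf_X2 u a)
      rw [← h.hP.inv k, mul_assoc, mul_assoc, mul_inv_eq_iff_eq_mul.1 (rc _ (inv_mem k)), ← mul_assoc, ← mul_assoc,
        ← h.hP _ k _ b, ← h.hP _ (mul_mem k b) _ (cjPB _ (inv_mem k)), map_mul pauli (γ • p), ← conj_pauli', map_mul pauli p, xi]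
      simp only [mul_assoc, ← mul_assoc (pauli (X 2)) (pauli (X 2)), X2_sq, one_mul]

/-- `n` acts on the extraspecial group as `γ` -/
def Ac (α : Lab → G) (n : G) (γ : Gt) : Prop := γ ∈ PA ∧ ∀ p ∈ Pp tA, n * α p * n⁻¹ = α (γ • p)

theorem Ac.mul {n m : G} {γ δ : Gt} (a : Ac α n γ) (b : Ac α m δ) : Ac α (n * m) (γ * δ) :=
  ⟨mul_mem a.1 b.1, fun p k => by rw [← conj_conj', b.2 p k, a.2 _ (sA b.1 k), mul_smul]⟩

theorem Ac.inv {n : G} {γ : Gt} (a : Ac α n γ) : Ac α n⁻¹ γ⁻¹ := ⟨inv_mem a.1, fun p k => by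
  have := a.2 _ (sA (inv_mem a.1) k)
  rw [smul_inv_smul] at this
  rw [← this]; group⟩

theorem ac_one : Ac α 1 1 := ⟨one_mem _, fun p _ => by simp⟩

theorem xp_P (c : ZMod 2) : xp c ∈ Pp tA := (xp_UU c).1

/-- the label conjugated by the triality element -/
def x1 : Lab := lab 0x720003

/-- its image -/
noncomputable def y1 : Gt := pE.val ^ 1 * yE.val * (pE.val ^ 1)⁻¹

theorem th_x1 : TH (pauli x1) y1 := by
  have := th_pE 1 T.rels0.xy
  rwa [conj_pauli', show X 0 = lab 1 by decide +kernel, pE_ev,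
    show lab (Mon.evL 1 (List.replicate 1 pE) 1) = x1 by decide +kernel] at this

namespace Al

variable (h : Al ρ τ J z w α)
include h

theorem ax : α xc = w := (h.eq xc_UU).trans h.hw

theorem az : α tB = z := (h.eq B_UU).trans h.hz

theorem acJ {γ : Gt} (a : γ ∈ PB) : Ac α (J (ρ γ)) γ := ⟨a.1, h.cj γ a⟩

theorem acq {q : Lab} (a : q ∈ Pp tA) : Ac α (α q) (pauli q) :=
  ⟨pauli_PA.2 a, fun p b => by rw [pauli_smul, h.hom.conj a b]⟩

theorem axm {p : Lab} (a : p ∈ Pp tA) : α (xc * p) = w * α p := by rw [h.hom _ xc_UU.1 _ a, h.ax]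

theorem inj {p q : Lab} (a : p ∈ Pp tA) (b : q ∈ Pp tA) : α p = α q ↔ p = q ∨ p = tA * q := by
  have c := mul_mem a (inv_mem b)
  rw [← mul_inv_eq_one, ← h.hom.inv b, ← h.hom _ a _ (inv_mem b), ← mul_inv_eq_one (a := p), ← mul_inv_eq_iff_eq_mul (a := p),
    ← T_pauli h.O]
  refine ⟨fun e => ?_, fun e => ?_⟩
  · have u : p * q⁻¹ ∈ UU := ⟨c, xp_A (p := tB) (by
      rw [← h.pinj (mul_mem (xp_UU _) B_UU) B_UU, ← h.eq (mul_mem (xp_UU _) B_UU), ← pauli_smul', ← (h.acq c).2 _ B_UU.1, e,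
        h.eq B_UU]; simp)⟩
    exact (h.ker _ (pL u)).1 ((h.eq u).symm.trans e)
  · have := pauli_PB.1 (PB_L h.O (VL (τ := τ) (T_V e)))
    exact (h.eq this).trans ((h.ker _ (pL this)).2 e)

theorem aA {p : Lab} (a : p ∈ Pp tA) : α (tA * p) = α p := (h.inj (mul_mem (bf_self tA) a) a).2 (.inr rfl)

theorem cw {n : G} {γ : Gt} (a : Ac α n γ) : Commute w n := comm_of_conj (by rw [← h.ax, a.2 _ xc_UU.1, smul_xc])

theorem xz : α (X 2) * z * (α (X 2))⁻¹ = w * z := by rw [← h.az, (h.acq X2_P).2 _ B_UU.1, X2_B, h.axm B_UU.1]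

theorem zwz : IsConj z (w * z) := isConj_iff.2 ⟨_, h.xz⟩

theorem cenA {g : G} (a : ∀ p ∈ Pp tA, Commute (α p) g) : g = 1 ∨ g = w := by
  have n : ¬ Commute z (α (X 2)) := fun c => h.w1 (by simpa [conj_of_comm c] using h.xz)
  have x := (a _ X2_P).symm
  rcases h.cenQ (g := g) fun p b => h.eq b ▸ a p b.1 with (e | rfl) | e | rfl
  exacts [.inl e, (n x).elim, .inr e, (n (by simpa using (h.cw (h.acq X2_P)).inv_left.mul_left x)).elim]

theorem kerA {n : G} {γ : Gt} (a : Ac α n γ) (b : PM γ) : ∃ q ∈ Pp tA, α q = n := by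
  obtain ⟨q, e⟩ : ∃ q, Ac α n (pauli q) := by
    obtain ⟨q, rfl | rfl⟩ := exists_pauli_kap b
    exacts [⟨q, a⟩, ⟨q, (mul_mem_cancel_left kp_PA).1 a.1, fun p k => by rw [a.2 p k, mul_smul, kap_smul']⟩]
  have k := pauli_PA.1 e.1
  have := (h.acq k).inv.mul e
  rw [inv_mul_cancel] at this
  rcases h.cenA fun p l => comm_of_conj ((this.2 p l).trans (by rw [one_smul])) with l | l
  exacts [⟨q, k, inv_mul_eq_one.1 l⟩, ⟨q * xc, mul_mem k xc_UU.1, by rw [h.hom _ k _ xc_UU.1, h.ax, ← l, mul_inv_cancel_left]⟩]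

theorem pm1 {n : G} {γ : Gt} (a : Ac α n γ) (e : n = 1 ∨ n = w) : PM γ := pm_of_U fun p k => S1_mul (by
  rw [← h.inj (sA a.1 k.1) k.1, ← a.2 p k.1]
  rcases e with rfl | rfl
  exacts [by simp, conj_of_comm (h.cw (h.acq k.1)).symm])

theorem acD {g : G} (a : Commute z g) (b : Commute w g) : ∃ γ, Ac α g γ := by
  obtain ⟨γ, c, d, e⟩ := h.ofD a b
  have u : ∀ p ∈ UU, g * α p * g⁻¹ = α (γ • p) := fun p k => by
    rw [h.eq k, e _ (pL k), rho_conj, h.eq (H_UU h.O c d k)]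
  have fin : ∀ δ ∈ PA, (∀ p ∈ UU, δ • p = γ • p) → g * α (X 2) * g⁻¹ = α (δ • X 2) → ∃ γ, Ac α g γ := fun δ k l m =>
    ⟨δ, k, fun p s => by
      by_cases t : bf p tB = 0
      · rw [u p ⟨s, t⟩, l p ⟨s, t⟩]
      have v := bf_X2 s t
      rw [show p = p * X 2 * X 2 by rw [mul_assoc, X_mul_X, mul_one], h.hom _ v.1 _ X2_P, conj_mul_conj, u _ v, m, smul_mul' δ,
        h.hom _ (sA k v.1) _ (sA k X2_P), l _ v]⟩
  have x := sA c X2_P
  have no : ∀ v ∈ UU, qf v = 0 ∧ bf (X 2) v = 1 ∧ bf (X 2) (tA * v) = 1 → (γ • v = v ∨ γ • v = tA * v) →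
      (α (γ • X 2))⁻¹ * (g * α (X 2) * g⁻¹) ≠ α v := fun v k l m s => h.w1 (by
    have y := mul_mem x k.1
    have t : bf (γ • X 2) v = 1 := by
      rcases m with m | m
      exacts [by rw [← m, bf_smul, l.2.1], by
        rw [show v = γ • (tA * v) by rw [smul_mul', m, mem_stabilizer_iff.1 c, ← mul_assoc, tA_sq, one_mul], bf_smul, l.2.2]]
    rw [inv_mul_eq_iff_eq_mul, ← h.hom _ x _ k.1] at s
    rw [← conj_sq s (by rw [← h.hom _ X2_P _ X2_P, X_mul_X, h.hom.one]), ← h.hom _ y _ y, mul_self_eq, qf_mul, qf_smul, l.1, t,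
      show qf (X 2) = 0 by decide +kernel, ← h.ax]
    rfl)
  rcases h.cenQ (g := (α (γ • X 2))⁻¹ * (g * α (X 2) * g⁻¹)) fun p k => comm_of_conj (by
    have l := H_UU h.O (inv_mem c) (map_inv ρ γ ▸ inv_mem d) k
    rw [← h.eq k, ← conj_conj', ← smul_inv_smul γ p, ← u _ l, conj_inv, ← conj_mul_conj, ← conj_mul_conj, (h.acq X2_P).2 _ l.1,
      pauli_smul', u _ (mul_mem (xp_UU _) l), u _ l, smul_mul', xp_smul, ← bf_smul γ, ← pauli_smul',
      ← (h.acq x).2 _ (sA c l.1)]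
    group) with (q | q) | q | q
  · exact fin γ c (fun _ _ => rfl) (inv_mul_eq_one.1 q).symm
  · exact (no tB B_UU (by decide +kernel) (ofH h.O d) (q.trans h.az.symm)).elim
  · refine fin (γ * pauli tB) (mul_mem c (pauli_PA.2 B_UU.1))
      (fun p k => by rw [mul_smul, pauli_smul_eq_iff.2 (bf_comm _ _ ▸ k.2)]) ?_
    rw [mul_smul, pauli_smul_of_one (bf_comm _ _ ▸ bf_2B), smul_xc_mul, h.axm x, (h.cw (h.acq x)).eq, ← q, mul_inv_cancel_left]
  · exact (no (xc * tB) (mul_mem xc_UU B_UU) (by decide +kernel) ((ofH h.O d).imp (fun e => by rw [smul_xc_mul, e])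
      fun e => by rw [smul_xc_mul, e]; decide +kernel) (by rw [q, h.axm B_UU.1, h.az])).elim

theorem nv {g : G} (a : Commute w g) (b : g * z * g⁻¹ = z ∨ g * z * g⁻¹ = w * z) : ∃ γ, Ac α g γ := by
  rcases b with b | b
  · exact h.acD (comm_of_conj b) a
  · have x := h.acq X2_P
    obtain ⟨γ, c⟩ := h.acD (g := g * α (X 2)) (comm_of_conj (by
      rw [← conj_conj', h.xz, conj_mul_conj, b, conj_of_comm a, ← mul_assoc, h.ww, one_mul])) (a.mul_right (h.cw x))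
    exact ⟨_, mul_inv_cancel_right g (α (X 2)) ▸ c.mul x.inv⟩

theorem cX {q : Lab} (k : q ∈ Pp tA) {γ : Gt} (a : γ ∈ PB) : α q * J (ρ γ) * (α q)⁻¹ = J (ρ (pauli q * γ * (pauli q)⁻¹)) := by
  have b : q * γ • q⁻¹ ∈ UU := ⟨mul_mem k (sA a.1 (inv_mem k)), by
    rw [bf_mul, bf_fix a.2, Eqv.bf (inv_eqv _) (.refl _), z2_add_self]⟩
  rw [mul_assoc, ← h.hom.inv k, mul_inv_eq_iff_eq_mul.1 (h.cj γ a _ (inv_mem k)), ← mul_assoc,
    ← h.hom _ k _ (sA a.1 (inv_mem k)), h.eq b, ← h.hP _ (pauli_PB.2 b) _ a, map_mul pauli, mul_assoc, ← conj_pauli, map_inv,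
    mul_assoc]

theorem tY : J τ * w * (J τ)⁻¹ = α Y0 := by
  rw [h.eq Y0_UU, ← h.hw, ← h.hm.conj (tau_mem_LB ρ τ) (pL xc_UU), mul_inv_eq_iff_eq_mul.2 h.O.r0.tau_x]

/-- the second involution normalising the extraspecial group -/
theorem exists_s : ∃ s, s * s = 1 ∧ Commute w s ∧ ∀ n ∈ Np, n ∈ PB → s * J (ρ n) * s⁻¹ = J (ρ (y1 * n * y1⁻¹)) := by
  have tL := tau_mem_LB ρ τ
  have x : x1 ∈ Pp tA := by decide +kernel
  refine ⟨J τ * α x1 * (J τ)⁻¹, by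
    rw [← conj_mul_conj, ← h.hom _ x _ x, show x1 * x1 = 1 by decide +kernel, h.hom.one]; simp, ?_, fun n hn k => ?_⟩
  · have a : Z 11 ∈ UU := by decide +kernel
    rw [← h.hw, ← Out.conj_z h.O, h.hm.conj tL (pL a), ← h.eq a]
    exact Commute.conj (comm_of_conj (((h.acq x).2 _ a.1).trans (by rw [pauli_smul_eq_iff.2 (by decide +kernel)]))) _
  · obtain ⟨m, -, e⟩ := h.O.r0.theta_exists' hn
    have e' : ρ n = τ * ρ m * τ⁻¹ := eq_mul_inv_of_mul_eq e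
    have hm : m ∈ PB := PB_L h.O (by rw [← mul_mem_cancel_left tL, ← e]; exact mul_mem (mem_LB ρ τ k) tL)
    rw [e', h.hm.conj tL (mem_LB ρ τ hm), ← conj_mul_conj, conj_inv, ← conj_mul_conj, h.cX x hm,
      ← h.hm.conj tL (mem_LB ρ τ (cjPB _ hm))]
    simp only [map_mul, map_inv, e', ← mul_inv_eq_iff_eq_mul.2 (C3.theta_any h.O.r0 th_x1)]
    group

end Al

end CF.StdZ.Bb
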