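import Cfsg.Agent.StdZ.BbI

/-! The normaliser of the extraspecial group induces the second Conway group. -/

set_option autoImplicit false
set_option maxHeartbeats 400000
set_option maxRecDepth 100000

namespace CF.StdZ.Bb

open Cfsg Subgroup CF.Leech CF.Mon CF.Mon.G CF.Mon.L CF.Mon.Lab CF.Known.Mon MulAction CF.LX CF.Loc
open CF.Even Function Spor CF.MonU CF.Mon.O CF.BabU CF.StdZ.Bm
open scoped commutatorElement Pointwise

variable {Γ G : Type*} [Group Γ] [Group G] {ρ : Gt →* Γ} {τ : Γ} {J : Γ → G} {z w s : G} {α : Lab → G}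

/-- the action of `y1` -/
noncomputable def yv (x : ℕ) : Lab := lab (Mon.evL 1 (List.replicate 1 pE) (Mon.evL 1 [yE] (Mon.evL 1 (List.replicate 22 pE) x)))

theorem y1_ev (x : ℕ) : y1 • lab x = yv x := by
  rw [y1, mul_smul, mul_smul, pE_inv (by norm_num), pE_ev, ← lab_ev yE_Ok, pE_ev, yv]

theorem lab_Y : lab 25165824 = Y0 := by decide +kernel

theorem y1_A : y1 ∈ PA := by rw [mem_stabilizer_iff, ← lab_tA, y1_ev]; decide +kernel

theorem y1_B : y1 • tB = Y0 * tB := by rw [← lab_tB, y1_ev]; decide +kernel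

theorem y1_Y : y1 • Y0 = Y0 := by rw [← lab_Y, y1_ev]; decide +kernel

/-- the labels commuting with the four-group and `Y0` -/
def UY : Subgroup Lab := (Pp Y0 ⊓ UU).copy {p | bf p Y0 = 0 ∧ p ∈ UU} rfl

theorem idx_UY : UY.index ≤ 8 := by
  rw [show UY = Pp Y0 ⊓ UU from copy_eq _ _ _]; exact idx_kf idx_UU

theorem y1_UY {p : Lab} (a : p ∈ UY) : y1 • p ∈ UY := by
  have : y1 • (Y0 * tB) = tB := by rw [smul_mul', y1_Y, y1_B, ← mul_assoc, YY, one_mul]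
  exact ⟨(bf_fix y1_Y).trans a.1, sA y1_A a.2.1, by rw [← this, bf_smul, bf_mul', a.1, a.2.2, add_zero]⟩

theorem B_UY : tB ∈ UY := ⟨by decide +kernel, B_UU⟩

theorem perpY {d : Lab} (h : ∀ r ∈ UY, bf r d = 0) : ∃ v ∈ C3.RAB, d ≈ₗ v ∨ d ≈ₗ v * Y0 := by
  by_cases e : ∀ r ∈ UU, bf r d = 0
  · exact (mem_E2.1 (mem_E2_of e)).imp fun v k => ⟨k.1, .inl (lam_eq_iff.1 k.2.symm)⟩
  push Not at e
  obtain ⟨u, a, b⟩ := e
  have c := (z2_cases _).resolve_left fun k => b (h u ⟨k, a⟩)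
  obtain ⟨v, k, l⟩ := mem_E2.1 (mem_E2_of (p := d * Y0) fun r k => by
    rcases z2_cases (bf r Y0) with l | l
    · rw [bf_mul', l, h r ⟨l, k⟩, add_zero]
    · have := h (r * u) ⟨by rw [bf_mul, l, c]; rfl, mul_mem k a⟩
      rwa [bf_mul, (z2_cases _).resolve_left b, ← l, ← bf_mul'] at this)
  exact ⟨v, k, .inr (lam_eq_iff.1 (by rw [lam_mul, l, lam_mul, add_assoc, W2.add_self, add_zero]))⟩

/-- the second involution -/
structure As (ρ : Gt →* Γ) (τ : Γ) (J : Γ → G) (z w : G) (α : Lab → G) (s : G) : Prop extends Al ρ τ J z w α where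
  ss : s * s = 1
  sw : Commute w s
  sj : ∀ n ∈ Np, n ∈ PB → s * J (ρ n) * s⁻¹ = J (ρ (y1 * n * y1⁻¹))

/-- the map induced by `s` -/
def Ph (α : Lab → G) (s : G) (p q : Lab) : Prop := p ∈ Pp tA ∧ q ∈ Pp tA ∧ s * α p * s⁻¹ = α (y1 • q)

namespace Al

variable (h : Al ρ τ J z w α)
include h

theorem cjA {p q : Lab} (a : p ∈ Pp tA) (e : ∃ γ ∈ PB, γ • p = q) : IsConj (α p) (α q) :=
  let ⟨_, b, e⟩ := e
  isConj_iff.2 ⟨_, e ▸ h.cj _ b p a⟩

theorem eqv {p q : Lab} (e : p ≈ₗ q) (a : q ∈ Pp tA) (n : Mon.G.lam q ∉ S1 tA) : IsConj (α p) (α q) := by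
  rcases e.cases with rfl | rfl
  · rfl
  · obtain ⟨r, b, c⟩ : ∃ r, bf r tA = 0 ∧ bf r q ≠ 0 := by simpa using mt mem_S1_of n
    exact (isConj_iff.2 ⟨_, ((h.acq b).2 q a).trans (by rw [pauli_smul_of_one ((z2_cases _).resolve_left c)])⟩).symm

theorem xi {c d : ZMod 2} {p : Lab} (a : p ∈ Pp tA) (e : α (xp c * p) = α (xp d * p)) : c = d := by
  rw [h.inj (mul_mem (xp_P c) a) (mul_mem (xp_P d) a), ← mul_assoc, mul_left_inj, mul_left_inj] at e
  clear h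
  revert c d; decide +kernel

theorem mul' {p q r t : Lab} (a : Ph α s p q) (b : Ph α s r t) : Ph α s (p * r) (q * t) :=
  ⟨mul_mem a.1 b.1, mul_mem a.2.1 b.2.1, by
    rw [h.hom _ a.1 _ b.1, conj_mul_conj, a.2.2, b.2.2, smul_mul', h.hom _ (sA y1_A a.2.1) _ (sA y1_A b.2.1)]⟩

theorem phA {p q : Lab} (a : Ph α s p q) : Ph α s p (tA * q) :=
  ⟨a.1, mul_mem (bf_self tA) a.2.1, by rw [smul_mul', mem_stabilizer_iff.1 y1_A, h.aA (sA y1_A a.2.1), a.2.2]⟩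

theorem phu {p q : Lab} {c d : ZMod 2} (a : Ph α s p (xp c * q)) (b : Ph α s p (xp d * q)) : c = d :=
  h.xi (sA y1_A ((mul_mem_cancel_left (xp_P c)).1 a.2.1)) (by simpa only [smul_mul', xp_smul] using a.2.2.symm.trans b.2.2)

theorem nwz' [Finite G] : ¬ IsConj w (w * z) := fun c => h.nzw (h.zwz.trans c.symm)

end Al

namespace As

variable (h : As ρ τ J z w α s)
include h

theorem s2 {p : Lab} (a : p ∈ UY) : Ph α s p p := ⟨a.2.1, a.2.1, by
  rw [h.eq a.2, h.sj _ (mem_NA a.2.1 a.1).1 (pauli_PB.2 a.2), conj_pauli', h.eq (y1_UY a).2]⟩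

theorem s2' {p : Lab} (a : p ∈ UY) : s * α (y1 • p) * s⁻¹ = α p := by
  rw [← (h.s2 a).2.2, conj_conj', h.ss]; simp

theorem sx (c : ZMod 2) : Ph α s (xp c) (xp c) := h.s2 ⟨by simp [xp, bf], xp_UU c⟩

theorem cu {p q : Lab} (k : p ∈ Pp tA) (a : q ∈ UY) : s * α p * s⁻¹ * α q * (s * α p * s⁻¹)⁻¹ =
    α (xp (bf p (y1 • q)) * q) := by
  have b := (y1_UY a).2.1
  rw [← h.s2' a, ← conj_mul_conj, conj_inv, ← conj_mul_conj, (h.acq k).2 _ b, pauli_smul', h.hom _ (xp_P _) _ b, conj_mul_conj,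
    h.s2' a, (h.sx _).2.2, xp_smul, h.hom _ (xp_P _) _ a.2.1]

theorem th {p : Lab} (k : p ∈ Pp tA) : ∃ q, Ph α s p q := by
  obtain ⟨γ, c⟩ := h.nv (g := s * α p * s⁻¹) ((h.sw.mul_right (h.cw (h.acq k))).mul_right h.sw.inv_right) (by
    rw [← h.az, h.cu k B_UY, ← h.axm B_UU.1]
    rcases z2_cases (bf p (y1 • tB)) with k | k <;> rw [k]
    exacts [.inl (by rw [xp_zero, one_mul]), .inr rfl])
  obtain ⟨q, l, e⟩ := h.kerA c (by
    by_contra n
    obtain ⟨r, a, b⟩ := bigA (h.pm1 (c.mul c) (by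
      rw [← conj_mul_conj, ← h.hom _ k _ k, mul_self_eq, (h.sx _).2.2, xp_smul]
      rcases z2_cases (qf p) with k | k <;> rw [k]
      exacts [.inl h.hom.one, .inr h.ax])) n UY idx_UY [0] (by decide)
    have := S1_mul ((h.inj (sA c.1 a.2.1) (mul_mem (xp_P _) a.2.1)).1 ((c.2 r a.2.1).symm.trans (h.cu k a)))
    rw [lam_mul, lam_xp, zero_add] at this
    exact b 0 (by simp) (by rwa [add_zero]))
  exact ⟨y1⁻¹ • q, k, sA (inv_mem y1_A) l, by rw [smul_inv_smul, e]⟩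

theorem phb {p q r t : Lab} (a : Ph α s p q) (b : Ph α s r t) : bf q t = bf p r := by
  have := h.mul' a b
  rw [mul_comm_eq q] at this
  have c := h.mul' (h.sx (bf p r)) (h.mul' b a)
  rw [← mul_comm_eq] at c
  exact h.phu this c

theorem phq {p q : Lab} (a : Ph α s p q) : qf q = qf p := by
  have := h.mul' a a
  rw [mul_self_eq, mul_self_eq, ← mul_one (xp (qf q))] at this
  exact h.phu this ((mul_one (xp (qf p))).symm ▸ h.sx _)

theorem cases {p : Lab} (k : p ∈ Pp tA) : ∃ q, Ph α s p q ∧ ∃ v, (v = 1 ∨ v = tB ∨ v = Y0 ∨ v = tB * Y0) ∧ bf p v = 0 ∧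
    q ≈ₗ p * v := by
  obtain ⟨q, a⟩ := h.th k
  have f : ∀ q, Ph α s p q → ∀ v, (v = 1 ∨ v = tB ∨ v = Y0 ∨ v = tB * Y0) → Mon.G.lam q + Mon.G.lam p = Mon.G.lam v →
      ∃ q, Ph α s p q ∧ ∃ v, (v = 1 ∨ v = tB ∨ v = Y0 ∨ v = tB * Y0) ∧ bf p v = 0 ∧ q ≈ₗ p * v := fun q a v b c => by
    have e : q ≈ₗ p * v := lam_eq_iff.1 (by rw [lam_mul, ← c, add_comm, add_assoc, W2.add_self, add_zero])
    refine ⟨q, a, v, b, ?_, e⟩
    have := e.qf.symm.trans (h.phq a)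
    rwa [qf_mul, show qf v = 0 by rcases b with rfl | rfl | rfl | rfl <;> decide +kernel, add_zero, add_eq_left] at this
  obtain ⟨v, b, c⟩ := perpY (d := q * p) fun r l => by rw [bf_mul', h.phb (h.s2 l) a, z2_add_self]
  simp only [← lam_eq_iff, lam_mul q] at c
  have g : ∀ {u}, Mon.G.lam q + Mon.G.lam p = Mon.G.lam (tA * u) → Mon.G.lam (tA * q) + Mon.G.lam p = Mon.G.lam u := fun e => by
    rw [lam_mul, add_assoc, e, lam_mul, ← add_assoc, W2.add_self, zero_add]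
  rcases b with rfl | rfl | rfl | rfl <;> rcases c with c | c
  exacts [f q a _ (by simp) c, f q a Y0 (by simp) (by rwa [one_mul] at c), f _ (h.phA a) 1 (by simp) (g (by rwa [mul_one])),
    f _ (h.phA a) _ (by simp) (g c), f q a _ (by simp) c, f q a _ (by simp) c, f _ (h.phA a) _ (by simp) (g c),
    f _ (h.phA a) (tB * Y0) (by simp) (g (by rwa [← mul_assoc]))]

theorem wm : IsConj w (J (ρ (pauli m34))) := by
  have a : lab 0x8d9447 ∈ UY := ⟨by decide +kernel, by decide +kernel⟩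
  refine (isConj_iff.2 ⟨_, h.tY⟩).trans ((h.cjA Y0_UU.1 (exB [8, 9, 5, 6] 25165824 (by decide +kernel))).trans
    ((isConj_iff.2 ⟨s, (h.s2 a).2.2⟩).trans ?_))
  rw [← h.aA (y1_UY a).2.1, y1_ev, ← h.eq m34_UU]
  exact (h.cjA m34_UU.1 (exB [11, 14, 12, 11, 8, 9] 0x18000 (by decide +kernel))).symm

variable [Finite G]

theorem nm : ¬ IsConj z (J (ρ (pauli m34)) * z) := fun c => h.noT3 h.nzw h.nwz' (.inr ⟨c, h.wm⟩)

theorem ac_s : ∃ q, Ac α s (y1 * pauli q) := by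
  have sg : ∀ {p q : Lab}, Ph α s p q → q ≈ₗ p * 1 → ∃ c, Ph α s p (xp c * p) := fun {p q} a e =>
    ⟨_, by rwa [eq_xp_mul (mul_one p ▸ e : q ≈ₗ p)] at a⟩
  have u1 : lab 0xe27bff ∈ UU := by decide +kernel
  have u2 : lab 0x10c6a38 ∈ UU := by decide +kernel
  have h1 : ∃ c, Ph α s (lab 0xe27bff) (xp c * lab 0xe27bff) := by
    obtain ⟨q, a, v, rfl | rfl | rfl | rfl, b, c⟩ := h.cases u1.1
    · exact sg a c
    swap
    · exact absurd b (by decide +kernel)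
    swap
    · exact absurd b (by decide +kernel)
    have k : ∀ {p q}, p ∈ UU → Ph α s p q → q ≈ₗ p * tB → ¬ p ≈ₗ 1 ∧ ¬ p ≈ₗ tA → IsConj (α p * z) (α (y1 • p)) :=
      fun {p q} a b c n => by
      rw [← h.az, ← h.hom _ a.1 _ B_UU.1]
      refine (isConj_iff.2 ⟨s, (h.mul' b (h.s2 B_UY)).2.2⟩).trans (h.eqv (Eqv.smul _ ?_) (sA y1_A a.1) fun e => ?_)
      · simpa [mul_assoc, RAB_sq B_RAB] using c.mul (.refl tB)
      · rw [mem_S1, ← lam_one, ← smul_one y1, ← mem_stabilizer_iff.1 y1_A, lam_smul, lam_smul, lam_smul, smul_left_cancel_iff,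
          smul_left_cancel_iff, lam_eq_iff, lam_eq_iff] at e
        exact e.elim n.1 n.2
    have a2 := h.mul' a (h.s2 (p := (lab 0xe27bff)⁻¹ * lab 0x10c6a38) ⟨by decide +kernel, mul_mem (inv_mem u1) u2⟩)
    rw [mul_inv_cancel_left] at a2
    refine (h.nm (h.zwz.trans (IsConj.trans ?_ ((k u1 a c (by decide +kernel)).trans (IsConj.trans ?_
      ((k u2 a2 ((c.mul (.refl _)).trans (by decide +kernel)) (by decide +kernel)).symm.trans ?_)))))).elim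
    · rw [h.eq u1]
      refine IsConj.trans (isConj_iff.2 ⟨J τ, ?_⟩) (h.cjB Y0_UU (exB [11, 7, 6] 25165824 (by decide +kernel))).2
      rw [conj_mul_conj, h.tY, h.eq Y0_UU, conj_of_comm (h.cL (tau_mem_LB ρ τ))]
    · rw [← h.aA (sA y1_A u2.1)]
      refine h.cjA (sA y1_A u1.1) ?_
      rw [y1_ev, y1_ev]
      exact exB [7, 8, 9] 0x1280bfc (by decide +kernel)
    · rw [h.eq u2]
      exact (h.cjB m34_UU (exB [12, 11, 14] 0x18000 (by decide +kernel))).2.symm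
  have h2 : ∃ c, Ph α s (X 2) (xp c * X 2) := by
    obtain ⟨q, a, v, rfl | rfl | rfl | rfl, b, c⟩ := h.cases X2_P
    · exact sg a c
    · exact absurd b (by decide +kernel)
    · obtain ⟨d, e⟩ := h1
      have := h.phb a e
      rw [Eqv.bf c (xp_eqv _ _)] at this
      exact absurd this (by decide +kernel)
    · exact absurd b (by decide +kernel)
  have m : ∀ {p q : Lab}, (∃ c, Ph α s p (xp c * p)) → (∃ c, Ph α s q (xp c * q)) → ∃ c, Ph α s (p * q) (xp c * (p * q)) :=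
    fun ⟨_, a⟩ ⟨_, b⟩ => sg (h.mul' a b) (by rw [mul_one]; exact (xp_eqv _ _).mul (xp_eqv _ _))
  have h3 : ∀ p ∈ UU, ∃ c, Ph α s p (xp c * p) := fun p a => by
    rcases z2_cases (bf p Y0) with l | l
    · exact ⟨0, by simpa using h.s2 ⟨l, a⟩⟩
    · rw [← inv_mul_cancel_right p (lab 0xe27bff)]
      exact m ⟨0, by simpa using h.s2 ⟨by rw [bf_mul, l]; decide +kernel, mul_mem a (inv_mem u1)⟩⟩ h1
  have h4 : ∀ p ∈ Pp tA, ∃ c, Ph α s p (xp c * p) := fun p a => by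
    by_cases l : bf p tB = 0
    · exact h3 p ⟨a, l⟩
    · rw [show p = p * X 2 * X 2 by rw [mul_assoc, X_mul_X, mul_one]]
      exact m (h3 _ (bf_X2 a l)) h2
  choose! χ hχ using h4
  have z0 : ∀ p ∈ UY, χ p = 0 := fun p a => h.phu (hχ p a.2.1) (by simpa using h.s2 a)
  obtain ⟨q, hq⟩ := exists_bf_char (R := Pp tA) xc_UU.1 χ (fun p a q b => h.phu (hχ _ (mul_mem a b)) (by
      have := h.mul' (hχ p a) (hχ q b)
      rwa [mul_assoc, ← mul_assoc p, ← xp_comm, mul_assoc, ← mul_assoc, ← xp_add] at this))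
    (z0 _ ⟨bf_xc _, xc_UU⟩)
  exact ⟨q, mul_mem y1_A (pauli_PA.2 ((hq _ (bf_self _)).trans (z0 _ ⟨by decide +kernel, RAB_UU A_RAB⟩))), fun p a => by
    rw [(hχ p a).2.2, mul_smul, pauli_smul', hq p a]⟩

theorem all {γ : Gt} (a : γ ∈ PA) : ∃ n, Ac α n γ := by
  let H : Subgroup Gt :=
    { carrier := {γ | ∃ n, Ac α n γ}
      one_mem' := ⟨1, ac_one⟩
      mul_mem' := fun ⟨_, a⟩ ⟨_, b⟩ => ⟨_, a.mul b⟩
      inv_mem' := fun ⟨_, a⟩ => ⟨_, a.inv⟩ }
  have B : PB ≤ H := fun γ k => ⟨_, h.acJ k⟩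
  obtain ⟨q, e⟩ := h.ac_s
  have y : y1 ∈ H := (mul_mem_cancel_right (show pauli q ∈ H from
    ⟨_, h.acq (pauli_PA.1 ((mul_mem_cancel_left y1_A).1 e.1))⟩)).1 (show _ ∈ H from ⟨_, e⟩)
  have n := mH (τ := τ) h.O nn2.1 (.inr nn2.2)
  obtain ⟨x, k⟩ := h.sur n
  have c := h.at_z n k
  obtain ⟨δ, d⟩ := h.acD c ((h.cx n k).2 (rho_comm_iff' _).symm)
  have f := ((h.inj (sA d.1 B_UU.1) B_UU.1).1 ((d.2 _ B_UU.1).symm.trans (by rw [h.az, conj_of_comm c]))).resolve_left fun f => by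
    have l := mem_LB ρ τ (C3.PB_of d.1 f)
    have := (h.acJ (C3.PB_of d.1 f)).inv.mul d
    rw [inv_mul_cancel] at this
    refine absurd ((PB_L h.O (h.mL' ?_ n k)).2.symm.trans nn2.2) (by decide +kernel)
    rw [← mul_mem_cancel_left (inv_mem (h.mD.2 ⟨_, l, rfl⟩))]
    rcases h.cenA fun p l => comm_of_conj ((this.2 p l).trans (by rw [one_smul])) with l | l <;> rw [l]
    exacts [one_mem _, h.mD.2 ⟨_, pL xc_UU, h.hw⟩]
  refine ((C3.gen_PA certs.c2).ge.trans (sup_le B (zpowers_le.2 (inv_mem_iff.1 ((mul_mem_cancel_right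
    (mul_mem y (show δ ∈ H from ⟨_, d⟩))).1 (B (C3.PB_of (mul_mem (inv_mem gP_spec.2.1) (mul_mem y1_A d.1)) ?_)))))) :) a
  rw [mul_smul, mul_smul, f, smul_mul', mem_stabilizer_iff.1 y1_A, y1_B, inv_smul_eq_iff, gP_spec.2.2.1]
  decide +kernel

end As

end CF.StdZ.Bb
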