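import Cfsg.Agent.StdZ.BbJ

/-! Transpositions normalising the extraspecial group lie in it. -/

set_option autoImplicit false
set_option maxHeartbeats 400000
set_option maxRecDepth 100000

namespace CF.StdZ.Bb

open Cfsg Subgroup CF.Leech CF.Mon CF.Mon.G CF.Mon.L CF.Mon.Lab CF.Known.Mon MulAction CF.LX CF.Loc
open CF.Even Function Spor CF.MonU CF.Mon.O CF.BabU CF.StdZ.Bm
open scoped commutatorElement Pointwise

variable {Γ G : Type*} [Group Γ] [Group G] {ρ : Gt →* Γ} {τ : Γ} {J : Γ → G} {z w s : G} {α : Lab → G}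

theorem bf_lm {γ : Gt} (h : PM (γ * γ)) (p q : Lab) : bf (lm γ p) (lm γ q) = 0 := by
  have := Eqv.bf (pm_eqv h p) (.refl (γ • q))
  rw [mul_smul, bf_smul] at this
  rw [lm, lm, bf_mul, bf_mul', bf_mul', Eqv.bf (inv_eqv _) (inv_eqv _), Eqv.bf (inv_eqv _) (.refl _), Eqv.bf (.refl _) (inv_eqv _),
    bf_smul, this]
  generalize bf p q = a, bf p (γ • q) = b
  revert a b; decide

theorem four {γ : Gt} (h2 : PM (γ * γ)) (n : ¬ PM γ) (K : Subgroup Lab) (hk : K.index ≤ 8) :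
    ∃ p : Fin 4 → Lab, (∀ i, p i ∈ K ∧ kp γ (p i) ∉ S1 tA) ∧ ∀ i j, i ≠ j → kp γ (p i) + kp γ (p j) ∉ S1 tA := by
  obtain ⟨a, a1, a2⟩ := bigA h2 n K hk [0] (by simp)
  obtain ⟨b, b1, b2⟩ := bigA h2 n K hk [0, kp γ a] (by simp)
  obtain ⟨c, c1, c2⟩ := bigA h2 n K hk [0, kp γ a, kp γ b] (by simp)
  obtain ⟨d, d1, d2⟩ := bigA h2 n K hk [0, kp γ a, kp γ b, kp γ c] (by simp)
  simp only [List.forall_mem_cons, add_zero] at a2 b2 c2 d2
  refine ⟨![a, b, c, d], fun i => by fin_cases i <;> simp [*], fun i j e => ?_⟩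
  fin_cases i <;> fin_cases j <;> first | exact absurd rfl e | (simp [*]; done) | (rw [add_comm]; simp [*])

theorem Al.aS (h : Al ρ τ J z w α) {p : Lab} (a : p ∈ Pp tA) : Mon.G.lam p ∈ S1 tA ↔ α p = 1 ∨ α p = w := by
  rw [← h.hom.one, ← h.ax, h.inj a (one_mem _), h.inj a xc_UU.1]
  refine ⟨fun e => ?_, ?_⟩
  · rcases cases_S1 e with rfl | rfl | rfl | rfl <;> decide +kernel
  · rintro ((rfl | rfl) | rfl | rfl) <;> simp [lam_one, lam_mul, lam_xc, t_mem_S1]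

namespace As

variable (h : As ρ τ J z w α s) [Finite G]
include h

theorem key {u : Γ} (a : u ∈ LB ρ τ) (c : IsConj z (J u)) : ∃ k p, DL p ∧ k ∈ LB ρ τ ∧ k * u * k⁻¹ = ρ (pauli p) := by
  have jv : ∀ {v}, v ∈ C3.RAB → J (ρ (pauli v)) = 1 ∨ J (ρ (pauli v)) = z ∧ DL v ∧ DL (xc * v) := fun {v} b => by
    have d := dl_B.smul nn2.1
    have e := dl_B.smul X2_A
    have f := e.smul nn2.1
    rw [X2_B] at e f
    rw [smul_xc_mul] at f
    rw [nn2.2] at d f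
    rcases id b with rfl | rfl | rfl | rfl
    exacts [.inl h.j1, .inl h.jA, .inr ⟨h.hz, dl_B, e⟩, .inr ⟨by rw [h.pm (RAB_UU A_RAB) B_UU, h.jA, h.hz, one_mul], d, f⟩]
  by_cases n : u ∈ EE ρ C3.RAB
  · obtain ⟨v, b, rfl⟩ := n
    exact ⟨1, v, ((jv b).resolve_left fun e => h.z1 (isConj_one_left.1 (e ▸ c))).2.1, one_mem _, by simp⟩
  obtain ⟨g, e⟩ := isConj_iff.1 c
  obtain ⟨k, l, r, m, v, f, q⟩ := intoL h.O a (T_V ((h.ker _ (mul_mem a a)).1 (by rw [h.hm _ a _ a, conj_sq e h.zz]))) n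
  have o : r ∈ UU := by
    rcases m with rfl | rfl | rfl
    exacts [xc_UU, m34_UU, t5_UU]
  have t := c.trans (isConj_iff.2 ⟨_, (h.hm.conj l a).symm⟩)
  rw [q, h.pm o (RAB_UU f)] at t
  rcases m with rfl | rfl | rfl
  · exact ⟨k, _, ((jv f).resolve_left fun e => h.nzw (by simpa [e, h.hw] using t)).2.2, l, q⟩
  · rcases h.jV f with d | d <;> rw [d] at t
    exacts [(h.nzw ((mul_one (J _) ▸ t).trans h.wm.symm)).elim, (h.nm t).elim]
  · obtain ⟨x, y⟩ := h.all (γ := wg [13, 8, 5, 6, 0, 8, 7]) (wg_A (by decide +kernel))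
    have := y.2 _ t5_UU.1
    rw [show wg _ • t5 = m34 * tB from (wg_smul _ _).trans (by decide +kernel), h.eq t5_UU, h.eq (mul_mem m34_UU B_UU),
      h.pm m34_UU B_UU, h.hz] at this
    refine (h.nm (IsConj.trans ?_ (isConj_iff.2 ⟨x, this⟩))).elim
    rcases h.jV f with d | d <;> rw [d] at t
    exacts [mul_one (J _) ▸ t, t.trans h.flip.symm]

theorem clq {p : Lab} (a : p ∈ Pp tA) (c : IsConj z (α p)) : DL p := by
  obtain ⟨_, d, e, -⟩ := two p p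
  obtain ⟨γ, b, rfl⟩ := mem_orb_tB d.1 d.2
  obtain ⟨n, k⟩ := h.all (inv_mem b)
  have u : γ⁻¹ • p ∈ UU := ⟨sA k.1 a, by rw [← bf_smul γ, smul_inv_smul, bf_comm, e]⟩
  obtain ⟨g, q, l, m, f⟩ := h.key (pL u) (h.eq u ▸ c.trans (isConj_iff.2 ⟨n, k.2 p a⟩))
  exact smul_inv_smul γ p ▸ DL.smul ⟨(sh_iff h.O f).2 l.1, (sh_iff h.O (k := g) (by
    rw [← rho_pauli_mul, ← rho_pauli_mul, conj_mul_conj, f, conj_of_comm (cR h.O m A_RAB).symm])).2 l.2⟩ b

theorem zs {p : Lab} (a : DL p) : ∃ n γ, Ac α n γ ∧ n * α p * n⁻¹ = z := by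
  obtain ⟨γ, b, rfl⟩ := mem_orb_tB a.1 a.2
  obtain ⟨n, k⟩ := h.all (inv_mem b)
  exact ⟨n, _, k, by rw [k.2 _ a.bf, inv_smul_smul, h.az]⟩

theorem inQ {y : G} (a : y ∈ Dz z) (b : Commute w y) (c : IsConj z y) (d : IsConj z (w * y)) : ∃ q, DL q ∧ α q = y := by
  obtain ⟨β, e, rfl⟩ := h.ofP a b
  have l := mem_LB ρ τ e
  have k : ∀ {u}, u ∈ LB ρ τ → IsConj z (J u) → u * u = 1 ∧ ¬ IsConj (ρ (pauli xc)) u := fun a c => by
    obtain ⟨k, p, d, -, e⟩ := h.key a c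
    obtain ⟨g, f⟩ := isConj_iff.1 ((conj_tr e).2 (conj_short d.1))
    exact ⟨conj_sq f Mon.G.Out.tt, fun m => h.O.not_conj_short d.1 ((conj_tr e).1 m)⟩
  obtain ⟨q, f⟩ := of_pm h.O (by_contra fun n => (not_both h.O (k l c).1 n).elim (k l c).2
    (k (mul_mem (pL xc_UU) l) (by rwa [h.hm _ (pL xc_UU) _ l, h.hw])).2)
  have u := pauli_PB.1 (PB_L h.O (f ▸ l))
  rw [← f, ← h.eq u] at c ⊢
  exact ⟨q, h.clq u.1 c, rfl⟩

theorem mem {n c : G} {γ : Gt} (a : Ac α n γ) (hc : Commute w c) (e : c * n * c⁻¹ = z) : ∃ p ∈ Pp tA, α p = n := by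
  refine h.kerA a (by_contra fun np => ?_)
  have e' : c⁻¹ * z * c⁻¹⁻¹ = n := by rw [← e]; group
  have nn := conj_sq e' h.zz
  have zn := isConj_iff.2 ⟨_, e'⟩
  have p2 := h.pm1 (a.mul a) (.inl nn)
  have hK := fun p => sA a.1 (p := p)
  have L := fun {p} => lm_mem hK (p := p)
  have wD : ∀ b, α (xp b) ∈ Dz n := fun b => by
    rcases z2_cases b with rfl | rfl
    exacts [by rw [xp_zero, h.hom.one]; exact one_mem _, by
      rw [xp_one, h.ax, ← e', ← conj_of_comm hc.inv_right]; exact Dz_cj _ (h.mD.2 ⟨_, pL xc_UU, h.hw⟩)]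
  have M : ∀ {p q}, p ∈ Pp tA → q ∈ Pp tA → α (lm γ (q * p)) = α (xp (bf q (lm γ p))) * (α (lm γ p) * α (lm γ q)) :=
    fun u v => by rw [lm_mul, h.hom _ (xp_P _) _ (mul_mem (L u) (L v)), h.hom _ (L u) _ (L v)]
  have l1 : α (lm γ 1) = 1 := by rw [lm, smul_one, mul_inv_cancel, h.hom.one]
  let K : Subgroup Lab :=
    { carrier := {p | p ∈ Pp tA ∧ α (lm γ p) ∈ Dz n}
      one_mem' := ⟨one_mem _, l1 ▸ one_mem _⟩
      mul_mem' := fun u v => ⟨mul_mem u.1 v.1, M v.1 u.1 ▸ mul_mem (wD _) (mul_mem v.2 u.2)⟩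
      inv_mem' := fun {p} u => ⟨inv_mem u.1, (mul_mem_cancel_left u.2).1 ((mul_mem_cancel_left (wD _)).1 (by
        rw [← M u.1 (inv_mem u.1), inv_mul_cancel, l1]; exact one_mem _))⟩ }
  have C := fun {p} => lm_cm h.hom hK a.2 nn (p := p)
  obtain ⟨p, p1, p3⟩ := four p2 np _ (idx2 (K := K) (H := _ ⊓ Pp tA) (fun p u q v x y => ⟨mul_mem u.2 v.2, by
    rw [M v.2 u.2]
    exact mul_mem (wD _) (h.two_in zn (C v.2 v.1) (C u.2 u.1) (fun k => y ⟨v.2, k⟩) fun k => x ⟨u.2, k⟩)⟩)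
    (idx_kf (f := fun p => bf p (γ • p)) (h := mu p2) (idx_Pp tA)))
  have D : ∀ {p}, p ∈ Pp tA → ∀ b, IsConj z (c * (α (xp b) * (α (lm γ p) * n)) * c⁻¹) := fun {p} u b => by
    refine IsConj.trans ?_ (isConj_iff.2 ⟨c * α p * c⁻¹, (?_ : _ = _)⟩ : IsConj (α (xp b) * z) _)
    · rcases z2_cases b with rfl | rfl
      exacts [by rw [xp_zero, h.hom.one, one_mul], by rw [xp_one, h.ax]; exact h.zwz]
    · have k : ∀ g, Commute w g → g * α (xp b) * g⁻¹ = α (xp b) := fun g k => by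
        rcases z2_cases b with rfl | rfl
        exacts [by simp [h.hom.one], by rw [xp_one, h.ax, conj_of_comm k]]
      rw [← lm_cj h.hom hK a.2 u, conj_mul_conj c, k c hc, conj_mul_conj,
        k _ ((hc.mul_right (h.cw (h.acq u))).mul_right hc.inv_right), ← e]
      group
  have P := fun i => (p1 i).1.1.1
  have C' := fun i => C (P i) (p1 i).1.2.1
  choose q q1 q2 using fun i => h.inQ (y := c * (α (lm γ (p i)) * n) * c⁻¹) (e ▸ Dz_cj c (mul_mem (p1 i).1.1.2 (h.zD zn)))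
    ((hc.mul_right ((h.cw (h.acq (L (P i)))).mul_right (h.cw a))).mul_right hc.inv_right)
    (by simpa [h.hom.one] using D (P i) 0) (by
      have := D (P i) 1
      rwa [xp_one, h.ax, conj_mul_conj, conj_of_comm hc] at this)
  have Q := fun i => (q1 i).bf
  have cm : ∀ {u v}, u ∈ Pp tA → v ∈ Pp tA → Commute (α u) (α v) → bf u v = 0 := fun {u v} x y k =>
    h.xi y (by rw [← pauli_smul', ← (h.acq x).2 _ y, conj_of_comm k.symm, xp_zero, one_mul])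
  have sS : ∀ {u v}, u ∈ Pp tA → v ∈ Pp tA → α u = c * α v * c⁻¹ → Mon.G.lam u ∈ S1 tA → Mon.G.lam v ∈ S1 tA :=
    fun x y k l => (h.aS y).2 (((h.aS x).1 l).imp (fun l => conj_eq_one_iff.1 (k.symm.trans l)) fun l => by
      rwa [k, ← conj_of_comm hc, mul_left_inj, mul_right_inj] at l)
  have qq : ∀ i j, α (q i * q j) = c * α (lm γ (p i) * lm γ (p j)) * c⁻¹ := fun i j => by
    rw [h.hom _ (Q i) _ (Q j), q2, q2, ← conj_mul_conj, h.hom _ (L (P i)) _ (L (P j)), ← (C' j).eq, mul_assoc (α _),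
      ← mul_assoc n, nn, one_mul]
  refine aff q1 (fun i => cm (Q i) B_UU.1 ?_) (fun i j => cm (Q i) (Q j) ?_) (fun i k => (p1 i).2 ?_) (fun i j m k => p3 i j m ?_)
    fun i j m => h.clq (mul_mem (mul_mem (Q i) (Q j)) B_UU.1) ?_
  · rw [q2, h.az, ← e]
    exact ((C' i).symm.mul_left rfl).conj c
  · rw [q2, q2]
    have : Commute (α (lm γ (p i))) (α (lm γ (p j))) := by
      rw [commute_iff_eq, ← h.hom _ (L (P i)) _ (L (P j)), ← h.hom _ (L (P j)) _ (L (P i)), Mon.G.comm_iff.2 (bf_lm p2 _ _)]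
    exact ((this.mul_right (C' i).symm).mul_left ((C' j).mul_right rfl)).conj c
  · rw [← lam_lm]
    refine sS (mul_mem (Q i) B_UU.1) (L (P i)) ?_ (lam_mul _ _ ▸ k)
    rw [h.hom _ (Q i) _ B_UU.1, q2, h.az, ← e, ← conj_mul_conj, mul_assoc (α _), nn, mul_one]
  · rw [← lam_lm, ← lam_lm, ← lam_mul]
    exact sS (mul_mem (Q i) (Q j)) (mul_mem (L (P i)) (L (P j))) (qq i j) (lam_mul _ _ ▸ k)
  · have := D (mul_mem (P j) (P i)) (bf (p j) (lm γ (p i)))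
    rw [M (P i) (P j), mul_assoc (α (xp _)), ← mul_assoc (α (xp _)), ← h.hom _ (xp_P _) _ (xp_P _), ← xp_add, z2_add_self, xp_zero,
      h.hom.one, one_mul, ← h.hom _ (L (P i)) _ (L (P j)), conj_mul_conj, e] at this
    rwa [h.hom _ (mul_mem (Q i) (Q j)) _ B_UU.1, qq, h.az]

end As

end CF.StdZ.Bb
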