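import Cfsg.Agent.Loc.Conj
import Cfsg.Agent.Invol.Dihedral

/-! A weakly closed orthogonal space whose normaliser contains the centralisers of its generators. -/

set_option autoImplicit false

namespace CF.StdZ.Bm

open Subgroup CF.Loc Function QuadraticMap

theorem dih {G : Type*} [Group G] [Finite G] (I : Subgroup G) {a b : G} (aa : a * a = 1) (bb : b * b = 1) :
    (∃ m : ℕ, (a * b) ^ m * a * ((a * b) ^ m)⁻¹ * b ∈ I) ∨ ∃ k : ℕ, (a * b) ^ k ∉ I ∧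
      (a * b) ^ k * a * ((a * b) ^ k)⁻¹ * a ∈ I ∧ (a * b) ^ k * b * ((a * b) ^ k)⁻¹ * b ∈ I ∧
      (IsConj a ((a * b) ^ k * a) ∧ IsConj b ((a * b) ^ k * b) ∨
        IsConj b ((a * b) ^ k * a) ∧ IsConj a ((a * b) ^ k * b)) := by
  classical
  have k : ∀ {x}, x * (a * b) * x⁻¹ = (a * b)⁻¹ → ∀ m : ℕ,
      (a * b) ^ m * x * ((a * b) ^ m)⁻¹ = (a * b) ^ (2 * m) * x := fun {x} h m => by
    have := congrArg (·⁻¹) (Invol.conj_pow_of_inverts h m)
    simp only [inv_inv, mul_inv_rev] at this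
    rw [two_mul, pow_add, mul_assoc _ _ x]
    nth_rw 4 [← this]
    simp only [mul_assoc, inv_mul_cancel, mul_one]
  have ka := k (Invol.left_inverts_mul aa bb)
  have kb := k (Invol.right_inverts_mul aa bb)
  have ex : ∃ n, (a * b) ^ (n + 1) ∈ I :=
    ⟨orderOf (a * b) - 1, by rw [Nat.sub_add_cancel (orderOf_pos _), pow_orderOf_eq_one]; exact one_mem _⟩
  have s := Nat.find_spec ex
  have e : ∀ n, (a * b) ^ (n + 1) * b = (a * b) ^ n * a := fun n => by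
    rw [pow_succ, mul_assoc, mul_assoc, bb, mul_one]
  obtain ⟨m, h | h⟩ := Nat.even_or_odd' (Nat.find ex) <;> rw [h] at s
  · exact .inl ⟨m, by rwa [ka, mul_assoc, ← pow_succ]⟩
  · refine .inr ⟨m + 1, Nat.find_min ex (by omega), by rwa [ka, mul_assoc, aa, mul_one],
      by rwa [kb, mul_assoc, bb, mul_one], ?_⟩
    obtain ⟨n, rfl | rfl⟩ := Nat.even_or_odd' m
    · exact .inr ⟨isConj_iff.2 ⟨_, (kb (n + 1)).trans (e _)⟩, isConj_iff.2 ⟨_, (ka n).trans (e _).symm⟩⟩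
    · exact .inl ⟨isConj_iff.2 ⟨_, ka (n + 1)⟩, isConj_iff.2 ⟨_, kb (n + 1)⟩⟩

/-- the local hypotheses -/
structure TI {Y V : Type*} [Group Y] [AddCommGroup V] [Module (ZMod 2) V] (f : V → Y) (Q : QuadraticForm (ZMod 2) V)
    (X : Subgroup Y) (D q : Y → Prop) : Prop where
  add : ∀ u v, f (u + v) = f u * f v
  inj : Injective f
  nd : ∀ v, (∀ u, polar Q u v = 0) → v = 0
  mX : ∀ v, f v ∈ X
  nX : ∀ x ∈ X, ∀ v, ∃ u, x * f v * x⁻¹ = f u
  Dc : ∀ d e, IsConj d e → D d → D e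
  D2 : ∀ d, D d → d * d = 1
  qc : ∀ d g, q d → q (g * d * g⁻¹)
  qf : ∀ v, q (f v) ↔ Q v = 1
  back : ∀ d ∈ X, D d → ∀ g, g * d * g⁻¹ ∈ X → g ∈ X
  mem : ∀ d ∈ X, D d → ∃ v, f v = d
  two : ∀ a b, ∃ v, D (f v) ∧ polar Q v a = 0 ∧ polar Q v b = 0
  fix : ∀ r ∈ X, r * r = 1 → (∃ v, D (f v) ∧ Commute (f v) r) ∨
    q r ∧ ∃ d : Fin 5 → V, ∀ i j, i ≠ j → D (f (d i + d j))

variable {Y V : Type*} [Group Y] [AddCommGroup V] [Module (ZMod 2) V] {f f' : V → Y} {Q : QuadraticForm (ZMod 2) V}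
  {X X' I : Subgroup Y} {D q : Y → Prop}

theorem z2 (a : ZMod 2) : a = 0 ∨ a = 1 := by revert a; decide

namespace TI
variable (h : TI f Q X D q)
include h

theorem cj (g : Y) : TI (fun v => g * f v * g⁻¹) Q (cj[g] X) D q where
  add u v := by rw [h.add]; group
  inj u v e := h.inj (by simpa using e)
  nd := h.nd
  mX v := conj_mem_cj g (h.mX v)
  nX x hx v := (h.nX _ (mem_cj.1 hx) v).imp fun u e => by rw [← e]; group
  Dc := h.Dc
  D2 := h.D2
  qc := h.qc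
  qf v := ⟨fun k => (h.qf v).1 (by simpa [mul_assoc] using h.qc _ g⁻¹ k), fun k => h.qc _ _ ((h.qf v).2 k)⟩
  back d hd k x hx := mem_cj.2 (h.back _ (mem_cj.1 hd) (h.Dc _ _ (isConj_iff.2 ⟨g⁻¹, by group⟩) k) _ (by
    have := mem_cj.1 hx
    convert this using 1; group))
  mem d hd k := (h.mem _ (mem_cj.1 hd) (h.Dc _ _ (isConj_iff.2 ⟨g⁻¹, by group⟩) k)).imp fun v e => by
    rw [e]; group
  two a b := (h.two a b).imp fun v e => ⟨h.Dc _ _ (isConj_iff.2 ⟨g, rfl⟩) e.1, e.2⟩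
  fix r hr rr := (h.fix _ (mem_cj.1 hr) (by
      calc _ = g⁻¹ * (r * r) * g := by group
        _ = 1 := by rw [rr]; group)).imp
    (fun ⟨v, a, b⟩ => ⟨v, h.Dc _ _ (isConj_iff.2 ⟨g, rfl⟩) a, by simpa [mul_assoc] using b.conj g⟩)
    fun ⟨a, d, b⟩ => ⟨by simpa [mul_assoc] using h.qc _ g a, d, fun i j n => h.Dc _ _ (isConj_iff.2 ⟨g, rfl⟩) (b i j n)⟩

theorem zero : f 0 = 1 := by simpa using h.add 0 0

theorem sq (v : V) : f v * f v = 1 := by rw [← h.add, ZModModule.add_self, h.zero]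

theorem inv (v : V) : (f v)⁻¹ = f v := inv_eq_of_mul_eq_one_right (h.sq v)

theorem cm (u v : V) : Commute (f u) (f v) := by rw [Commute, SemiconjBy, ← h.add, ← h.add, add_comm]

/-- the image -/
def A : Subgroup Y where
  carrier := Set.range f
  one_mem' := ⟨0, h.zero⟩
  mul_mem' := by rintro _ _ ⟨u, rfl⟩ ⟨v, rfl⟩; exact ⟨_, h.add u v⟩
  inv_mem' := by rintro _ ⟨u, rfl⟩; exact ⟨u, (h.inv u).symm⟩

theorem Qx {x : Y} {u v : V} (e : x * f u * x⁻¹ = f v) : Q v = Q u := by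
  have a := (h.qf v).1 ∘ (e ▸ h.qc _ x) ∘ (h.qf u).2
  have b := (h.qf u).1 ∘ (show q (f v) → q (f u) from fun k => by simpa [← e, mul_assoc] using h.qc _ x⁻¹ k) ∘ (h.qf v).2
  revert a b
  generalize Q u = s, Q v = t
  revert s t; decide

theorem px {x : Y} {u v u' v' : V} (e : x * f u * x⁻¹ = f v) (e' : x * f u' * x⁻¹ = f v') :
    polar Q v v' = polar Q u u' := by
  rw [polar, polar, h.Qx e, h.Qx e', h.Qx (x := x) (u := u + u') (by rw [h.add, h.add, ← e, ← e']; group)]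

end TI

/-- two spaces meeting in a maximal intersection -/
structure P2 (f f' : V → Y) (Q : QuadraticForm (ZMod 2) V) (X X' I : Subgroup Y) (D q : Y → Prop) : Prop where
  h : TI f Q X D q
  h' : TI f' Q X' D q
  mI : ∀ x, x ∈ I ↔ (∃ u, f u = x) ∧ ∃ u, f' u = x
  nD : ∀ x ∈ I, ¬ D x
  ti : ∀ c ∈ 𝐂(I), ∀ u v, f u ∉ I → c * f u * c⁻¹ = f v → c ∈ X
  ti' : ∀ c ∈ 𝐂(I), ∀ u v, f' u ∉ I → c * f' u * c⁻¹ = f' v → c ∈ X'

namespace P2
variable (p : P2 f f' Q X X' I D q)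
include p

theorem symm : P2 f' f Q X' X I D q := ⟨p.h', p.h, fun x => (p.mI x).trans and_comm, p.nD, p.ti', p.ti⟩

theorem cI (u : V) : f u ∈ 𝐂(I) := fun x hx => by
  obtain ⟨v, rfl⟩ := ((p.mI x).1 hx).1
  exact p.h.cm v u

theorem ti2 {c : Y} (hc : c ∈ 𝐂(I)) {u : V} (n : f u ∉ I) (e : c * f u * c⁻¹ * f u ∈ I) : c ∈ X := by
  obtain ⟨v, k⟩ := ((p.mI _).1 e).1
  exact p.ti c hc u (v + u) n (by rw [p.h.add, k, mul_assoc (c * f u * c⁻¹), p.h.sq, mul_one])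

theorem notX {u : V} (d : D (f' u)) : f' u ∉ X := fun k => p.nD _ ((p.mI _).2 ⟨p.h.mem _ k d, u, rfl⟩) d

theorem inA {c : Y} (hc : c ∈ X) {u : V} (d : D (c * f u)) : ∃ v, f v = c := by
  obtain ⟨v, e⟩ := p.h.mem _ (mul_mem hc (p.h.mX u)) d
  exact ⟨v + u, by rw [p.h.add, e, mul_assoc, p.h.sq, mul_one]⟩

variable [Finite Y]

theorem step {u v : V} (n : f u ∉ I) (d : D (f' v)) : (∃ c ∈ 𝐂(I), c * f u * c⁻¹ * f' v ∈ I) ∨
    ¬ D (f u) ∧ f u ∈ X' ∧ ∃ w, f' w ∉ I ∧ f' w ∈ X := by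
  have m := fun k : ℕ => pow_mem (mul_mem (p.cI u) (p.symm.cI v)) k
  refine (dih I (p.h.sq u) (p.h'.sq v)).imp (fun ⟨k, e⟩ => ⟨_, m k, e⟩) fun ⟨k, a, b, c, e⟩ => ?_
  have x := p.ti2 (m k) n b
  have y := p.symm.ti2 (m k) (fun j => p.nD _ j d) c
  generalize (f u * f' v) ^ k = s at *
  have f1 : ¬ ∃ w, f w = s := by
    rintro ⟨w, rfl⟩
    refine p.notX d (p.ti2 (p.symm.cI v) a ?_)
    have := inv_mem c
    simp only [mul_inv_rev, p.h.inv, p.h'.inv] at this ⊢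
    simpa only [mul_assoc] using this
  rcases e with ⟨e1, e2⟩ | ⟨e1, -⟩
  · obtain ⟨w, rfl⟩ := p.symm.inA y (p.h.Dc _ _ e2 d)
    refine ⟨fun k => f1 (p.inA x (p.h.Dc _ _ e1 k)), p.symm.ti2 (p.cI u) a ?_, w, a, x⟩
    have := inv_mem b
    simp only [mul_inv_rev, p.h.inv, p.h'.inv] at this ⊢
    simpa only [mul_assoc] using this
  · exact absurd (p.inA x (p.h.Dc _ _ e1 d)) f1

omit p [Finite Y] in
theorem seven (Q : QuadraticForm (ZMod 2) V) {x y z : V} (a : Q x = 1) (b : Q y = 1) (c : Q z = 1) (d : Q (x + y) = 1)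
    (e : Q (x + z) = 1) (g : Q (y + z) = 1) : Q (x + y + z) = 0 := by
  have := polar_add_left Q x y z
  simp only [polar, a, b, c, d, e, g] at this
  revert this
  generalize Q (x + y + z) = s
  revert s; decide

omit [Finite Y] in
theorem beta {u : V} (n : f u ∉ I) (m : f u ∈ X') : False := by
  have k : ∀ {f f' X X'} (p : P2 f f' Q X X' I D q) {w}, f' w ∉ I → f' w ∈ X →
      Q w = 1 ∧ ∃ d : Fin 5 → V, ∀ i j, i ≠ j → D (f (d i + d j)) := fun p w n' m' => by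
    refine ((p.h.fix _ m' (p.h'.sq _)).resolve_left fun ⟨v, a, b⟩ => p.symm.notX a ?_).imp_left (p.h'.qf _).1
    exact p.ti' _ (p.cI v) _ _ n' (by rw [b.eq, mul_inv_cancel_right])
  obtain ⟨d, hd⟩ := (k p.symm n m).2
  choose σ hσ using p.h'.nX _ m
  have ad : ∀ a b, σ (a + b) = σ a + σ b := fun a b => p.h'.inj (by rw [p.h'.add, ← hσ, ← hσ, ← hσ, p.h'.add]; group)
  have ss : ∀ a, σ (σ a) = a := fun a => p.h'.inj (by
    rw [← hσ, ← hσ, p.h.inv]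
    calc _ = f u * f u * f' a * (f u * f u) := by simp only [mul_assoc]
      _ = _ := by rw [p.h.sq]; group)
  have mx : ∀ a, f' (σ a + a) ∈ I → f' a ∈ X := fun a e => p.ti2 (p.symm.cI a) n (by
    have := mul_mem (mul_mem (inv_mem e) e) e
    rw [p.h'.inv, ← p.h'.add, ZModModule.add_self, p.h'.zero, one_mul, add_comm, p.h'.add, ← hσ] at this
    simpa only [mul_assoc, p.h.inv, p.h'.inv] using this)
  obtain ⟨e, he⟩ : ∃ e : Fin 5 → V, ∀ i, e i = σ (d i + d 0) + (d i + d 0) := ⟨_, fun _ => rfl⟩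
  have se : ∀ i, σ (e i) = e i := fun i => by rw [he, ad, ss, add_comm]
  have fx : ∀ a, σ a = a → f' a ∉ I → Q a = 1 := fun a c n => (k p n (mx a (by
    rw [c, ZModModule.add_self, p.h'.zero]; exact one_mem _))).1
  have ne : ∀ i j, i ≠ j → f' (e i + e j) ∉ I := fun i j c z => p.notX (hd i j c) (mx _ (by
    convert z using 2
    simp only [he, ad]
    rw [← sub_eq_zero]
    have := ZModModule.add_self (d 0)
    have := ZModModule.add_self (σ (d 0))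
    grind))
  have e0 : e 0 = 0 := by
    have : σ 0 = 0 := by simpa using ad 0 0
    rw [he, ZModModule.add_self, this, add_zero]
  have n0 : ∀ i, i ≠ 0 → Q (e i) = 1 := fun i c => fx _ (se i) (by simpa [e0] using ne i 0 c)
  have n1 : ∀ i j, i ≠ j → Q (e i + e j) = 1 := fun i j c => fx _ (by rw [ad, se, se]) (ne i j c)
  have n2 : ∀ i, i ≠ 0 → i ≠ 1 → i ≠ 2 → f' (e 1 + e 2 + e i) ∈ I := fun i a b c => by
    by_contra z
    have := fx _ (by rw [ad, ad, se, se, se]) z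
    rw [seven Q (n0 1 (by decide)) (n0 2 (by decide)) (n0 i a) (n1 1 2 (by decide)) (n1 1 i b.symm) (n1 2 i c.symm)] at this
    exact zero_ne_one this
  refine ne 3 4 (by decide) ?_
  have := mul_mem (n2 3 (by decide) (by decide) (by decide)) (n2 4 (by decide) (by decide) (by decide))
  rw [← p.h'.add] at this
  convert this using 2
  have := ZModModule.add_self (e 1 + e 2)
  grind

theorem conj {u : V} (n : f u ∉ I) {v : V} (d : D (f' v)) : ∃ c ∈ 𝐂(I), c * f u * c⁻¹ * f' v ∈ I :=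
  (p.step n d).resolve_right fun k => p.beta n k.2.1

theorem gamma : False := by
  obtain ⟨v', d', -⟩ := p.h'.two 0 0
  have tr : ∀ {a b}, f a ∉ I → f b ∉ I → ∃ c ∈ 𝐂(I), ∃ i, f i ∈ I ∧ c * f a * c⁻¹ = f (i + b) ∧ c ∈ X :=
    fun {a b} na nb => by
    obtain ⟨c, hc, e⟩ := p.conj na d'
    obtain ⟨c', hc', e'⟩ := p.conj nb d'
    have m := mul_mem e (inv_mem e')
    obtain ⟨i, hi⟩ := ((p.mI _).1 m).1
    have k : c'⁻¹ * c * f a * (c'⁻¹ * c)⁻¹ = f (i + b) := by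
      rw [p.h.add, ← inv_mul_cancel_left c' (f i), ← hc' _ (hi ▸ m), hi]; group
    have m2 := mul_mem (inv_mem hc') hc
    exact ⟨_, m2, i, hi ▸ m, k, p.ti _ m2 _ _ na k⟩
  let W : Submodule (ZMod 2) V := AddSubgroup.toZModSubmodule 2
    { carrier := {v | f v ∈ I}
      zero_mem' := by change f 0 ∈ I; rw [p.h.zero]; exact one_mem _
      add_mem' := fun a b => by change f _ ∈ I; rw [p.h.add]; exact mul_mem a b
      neg_mem' := fun a => by rwa [ZModModule.neg_eq_self] }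
  have hW : ∀ {v}, v ∈ W ↔ f v ∈ I := Iff.rfl
  have fx : ∀ {c}, c ∈ 𝐂(I) → ∀ {i}, f i ∈ I → c * f i * c⁻¹ = f i := fun hc i m => by
    rw [← hc _ m, mul_inv_cancel_right]
  have o : ∀ {v}, v ∈ LinearMap.BilinForm.orthogonal Q.polarBilin W ↔ ∀ i, f i ∈ I → polar Q i v = 0 := Iff.rfl
  have dj : ∀ v, f v ∈ I → (∀ i, f i ∈ I → polar Q i v = 0) → v = 0 := fun v m z => p.h.nd v fun u => by
    by_contra n
    obtain ⟨w, d, e, -⟩ := p.h.two v v
    obtain ⟨c, hc, i, hi, k, -⟩ := tr (fun k => n (z u k)) (fun k => p.nD _ k d)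
    exact n (by rw [← p.h.px k (fx hc m), polar_add_left, z i hi, e, add_zero])
  haveI := Finite.of_injective _ p.h.inj
  have cp := (LinearMap.BilinForm.isCompl_orthogonal_iff_disjoint (B := Q.polarBilin) (W := W)
    fun x y e => (polar_comm Q y x).trans e).2 (Submodule.disjoint_def.2 fun v a b => dj v a (o.1 b))
  have dc : ∀ v, ∃ i j, f i ∈ I ∧ (∀ i, f i ∈ I → polar Q i j = 0) ∧ i + j = v := fun v => by
    obtain ⟨i, a, j, b, e⟩ := Submodule.mem_sup.1 (cp.sup_eq_top.ge (Submodule.mem_top (x := v)))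
    exact ⟨i, j, a, o.1 b, e⟩
  have cq : ∀ {a b}, (∀ i, f i ∈ I → polar Q i a = 0) → (∀ i, f i ∈ I → polar Q i b = 0) → a ≠ 0 → b ≠ 0 →
      Q b = Q a := fun {a b} ha hb na nb => by
    obtain ⟨c, hc, i, hi, k, -⟩ := tr (fun k => na (dj a k ha)) (fun k => nb (dj b k hb))
    obtain rfl : i = 0 := dj i hi fun j hj => by
      have := p.h.px (fx hc hj) k
      rwa [polar_add_right, ha j hj, hb j hj, add_zero] at this
    exact p.h.Qx (by rw [k, zero_add])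
  have dD : ∀ {i j}, f i ∈ I → D (f (i + j)) → j ≠ 0 := fun hi d e => p.nD _ hi (by rwa [e, add_zero] at d)
  have pp : ∀ j, polar Q j j = 0 := fun j => by rw [polar_self, two_nsmul, CharTwo.add_self_eq_zero]
  obtain ⟨v, d, -⟩ := p.h.two 0 0
  obtain ⟨i, a, hi, ha, rfl⟩ := dc v
  have na := dD hi d
  obtain ⟨u, hu⟩ := not_forall.1 (mt (p.h.nd a) na)
  obtain ⟨i', b, hi', hb, rfl⟩ := dc u
  rw [polar_add_left, ha _ hi', zero_add] at hu
  obtain ⟨w, d', e1, e2⟩ := p.h.two a b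
  obtain ⟨i'', j, hi'', hj, rfl⟩ := dc w
  rw [polar_add_left, ha _ hi'', zero_add] at e1
  rw [polar_add_left, hb _ hi'', zero_add] at e2
  have s : ∀ {x y}, (∀ i, f i ∈ I → polar Q i x = 0) → (∀ i, f i ∈ I → polar Q i y = 0) → x ≠ 0 → y ≠ 0 → x ≠ y →
      polar Q x y = -Q a := fun {x y} hx hy nx ny n => by
    rw [polar, cq ha hx na nx, cq ha hy na ny, cq ha (fun i k => by rw [polar_add_right, hx i k, hy i k, add_zero]) na
      fun e => n (by rwa [← sub_eq_zero, ZModModule.sub_eq_add])]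
    ring
  have nb : b ≠ 0 := fun e => hu (by rw [e, polar_zero_left])
  refine hu ((s hb ha nb na fun e => hu (e ▸ pp b)).trans ((s hj ha (dD hi'' d') na fun e => hu ?_).symm.trans e1))
  rw [polar_comm, ← e, e2]

end P2

theorem TI.top [Finite Y] (h : TI f Q X D q) (g : Y) : g ∈ X := by
  by_contra n
  obtain ⟨g, n, mx⟩ := Set.exists_max_image {g | g ∉ X} (fun g => Nat.card ↥(h.A ⊓ cj[g] h.A)) (Set.toFinite _) ⟨g, n⟩
  have ti : ∀ J ≤ h.A, Nat.card J = Nat.card ↥(h.A ⊓ cj[g] h.A) → ∀ c ∈ 𝐂(J), ∀ u v, f u ∉ J →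
      c * f u * c⁻¹ = f v → c ∈ X := fun J l e c hc u v nu k => by
    by_contra z
    have le : J ≤ h.A ⊓ cj[c] h.A := fun x hx => ⟨l hx, mem_cj.2 (by rw [mul_assoc, hc x hx, inv_mul_cancel_left]; exact l hx)⟩
    have : f v ∈ J := (eq_of_le_of_card_ge le (e ▸ mx c z)).ge ⟨⟨v, rfl⟩, k ▸ conj_mem_cj c ⟨u, rfl⟩⟩
    have e := hc _ this
    rw [mul_inv_eq_iff_eq_mul, e, mul_right_inj] at k
    exact nu (k ▸ this)
  refine P2.gamma (I := h.A ⊓ cj[g] h.A) ⟨h, h.cj g, fun x => and_congr_right' ?_, ?_, ti _ inf_le_left rfl, ?_⟩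
  · exact ⟨fun ⟨_, ⟨u, a⟩, b⟩ => ⟨u, a ▸ b⟩, fun ⟨u, a⟩ => a ▸ conj_mem_cj g ⟨u, rfl⟩⟩
  · rintro _ ⟨⟨u, a⟩, _, ⟨v, rfl⟩, rfl⟩ d
    exact n (h.back _ (h.mX v) (h.Dc _ _ (isConj_iff.2 ⟨g, rfl⟩).symm d) g (by change _ = g * _ * _ at a; rw [← a]; exact h.mX u))
  · intro c hc u v nu k
    refine mem_cj.2 (ti (cj[g⁻¹] (h.A ⊓ cj[g] h.A)) (fun x hx => (conj_mem_cj_iff (g := g)).1 (by simpa using (mem_cj.1 hx).2))
      (card_cj ..) _ (fun x hx => ?_) u v (fun z => nu (by simpa only [inv_inv] using mem_cj.1 z)) ?_)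
    · have := hc _ (mem_cj.1 hx)
      calc _ = g⁻¹ * (g⁻¹⁻¹ * x * g⁻¹ * c) * g := by group
        _ = _ := by rw [this]; group
    · calc _ = g⁻¹ * (c * (g * f u * g⁻¹) * c⁻¹) * g := by group
        _ = _ := by rw [k]; group

end CF.StdZ.Bm
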