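import Cfsg.Agent.StdZ.BmG
import Cfsg.Agent.StdZ.BmA

/-! The centraliser of the second involution normalises the extraspecial group. -/

set_option autoImplicit false
set_option maxHeartbeats 400000
set_option maxRecDepth 100000

namespace CF.StdZ.Bm

open Cfsg Subgroup CF.Leech CF.Mon CF.Mon.G CF.Mon.L CF.Mon.Lab CF.Known.Mon MulAction CF.LX CF.Loc
open CF.Even Function Spor CF.MonU CF.Mon.O CF.BabU
open scoped commutatorElement Pointwise

variable {Γ G : Type*} [Group Γ] [Group G] {ρ : Gt →* Γ} {τ : Γ} {J : Γ → G} {z w s : G} {α : Lab →* G}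

theorem pm_sq {g h : Co0} (e : g = h ∨ g = negCo * h) : g * g = h * h := by
  rcases e with rfl | rfl
  exacts [rfl, by rw [mul_assoc, ← mul_assoc h, negCo_comm h, mul_assoc, ← mul_assoc, negCo_mul_self, one_mul]]

theorem eps_sq {c : Finset Pt} (hc : c ∈ CS) : Mon.G.eps hc * Mon.G.eps hc = 1 :=
  co_ext' fun x => LL.ext fun k => by
    rw [mul_smul, eps_apply, eps_apply, one_smul]
    split_ifs <;> simp

theorem cj_neg {γ : Gt} (δ : Gt) : gOf (δ * γ * δ⁻¹) * gOf (δ * γ * δ⁻¹) = negCo ↔ gOf γ * gOf γ = negCo := by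
  rw [map_mul, map_mul, map_inv, ← conj_mul_conj, mul_inv_eq_iff_eq_mul, ← negCo_comm, mul_right_inj]

theorem no_kap (O : Mon.G.Out ρ τ) {γ : Gt} (h : ρ γ * ρ γ = 1) : gOf γ * gOf γ ≠ negCo := fun g => by
  obtain ⟨δ, e, he, k⟩ := cls_Gt (.inr g) fun k => negCo_ne_one (by
    rw [← g, pm_sq (h := 1) (by simpa using k), one_mul])
  have s : ρ (δ * γ * δ⁻¹) * ρ (δ * γ * δ⁻¹) = 1 := by
    simp only [map_mul, map_inv]; rw [← conj_mul_conj, h]; simp
  have n := (pm_sq k).symm.trans ((cj_neg δ).2 g)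
  rcases he with rfl | rfl | rfl
  · exact negCo_ne_one (n.symm.trans (eps_sq _))
  · exact negCo_ne_one (n.symm.trans (eps_sq _))
  obtain ⟨q, k⟩ := rho_coset O.kap k
  rw [k] at s
  have a := inv_of_sq O.x_ne (r := xc) (by rw [← map_mul, fE_sq]; simp [O.kap]) s
  have b : q * fE.val • q = xc := by rw [eq_inv_of_mul_eq_one_left a]; decide +kernel
  obtain ⟨u, f⟩ := Free.lab (fE_red.free fE_ok) (eqv_of_inv (p := q) (by rw [b]; exact ⟨rfl, rfl⟩))
  have t : ∀ p : Lab, fE.val • fE.val • p = p := fun p => by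
    rw [← mul_smul, fE_sq, mul_smul, kap_smul', pauli_smul, xc_comm, mul_inv_cancel_right]
  have := inv_tr t (p := 1) (q := q) (u := u) (by
    rw [← lam_eq_iff] at f ⊢; rw [lam_mul q, f, one_mul, W2.add_self, lam_one]) (by simp)
  exact absurd (b.symm.trans this) xc_ne_one

theorem m4_mul (i j k : Pt) : cls (m4 i j) * cls (m4 k j) ≈ₗ cls (m4 i k) := by
  rw [show m4 i k = m4 i j - m4 k j from LL.ext fun _ => by simp [m4_apply], Gr.cls_sub]
  exact (cls_add _ _).symm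

theorem trip0 {γ : Gt} {c : Finset Pt} (hc : 2 < c.card) (h : ∀ i ∈ c, ∀ j ∈ c, gOf γ • red (m4 i j) = red (m4 i j)) :
    ∃ p, Short p ∧ γ • p = p := by
  obtain ⟨i, j, k, hi, hj, hk, a, b, d⟩ := Finset.two_lt_card_iff.1 hc
  have e : ∀ {i j}, i ∈ c → j ∈ c → γ • cls (m4 i j) = cls (m4 i j) ∨ γ • cls (m4 i j) = xc * cls (m4 i j) := fun x y =>
    ((smul_eqv_iff (.refl _) (.refl _)).2 (h _ x _ y)).cases
  rcases e hi hj with x | x
  · exact ⟨_, short_cls (nm_m4 a), x⟩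
  rcases e hk hj with y | y
  · exact ⟨_, short_cls (nm_m4 d.symm), y⟩
  exact ⟨_, (short_cls (nm_m4 b)).congr (m4_mul i j k), by
    rw [smul_mul', x, y, mul_assoc, ← mul_assoc _ xc, ← xc_comm, mul_assoc, xc_xc]⟩

theorem trip {γ : Gt} (h : PM (γ * γ)) : gOf γ * gOf γ = negCo ∨ ∃ p, Short p ∧ γ • p = p := by
  by_cases n : PM γ
  · exact .inr (trip0 (c := o1) (by rw [o1_mem.2]; decide) fun _ _ _ _ => n.lam _)
  obtain ⟨δ, e, he, k⟩ := cls_Gt (by rwa [← map_mul]) n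
  have t : ∀ {c} (hc : c ∈ CS), 2 < c.card → e = Mon.G.eps hc → ∃ p, Short p ∧ γ • p = p := fun hc a b => by
    obtain ⟨p, x, y⟩ := trip0 (γ := δ * γ * δ⁻¹) a fun i hi j hj => by
      have := (eps_m4_iff hc (i := i) (j := j)).2 (iff_of_true hi hj)
      rcases k with k | k <;> rw [k, b]
      exacts [this, by rw [mul_smul, this, negCo_red]]
    exact ⟨δ⁻¹ • p, x.smul _, by rw [eq_inv_smul_iff, ← mul_smul, ← mul_smul, y]⟩
  rcases he with e1 | e1 | rfl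
  · exact .inr (t _ (by rw [o1_mem.2]; decide) e1)
  · exact .inr (t _ (by rw [d1, (mem_dodecads.1 XT.Co.u_dod).2]; decide) e1)
  · exact .inl ((cj_neg δ).1 ((pm_sq k).trans (by rw [← map_mul, fE_sq]; simp [gOf_kap, gOf_pauli])))

theorem k5 {i j : Fin 5} (e : i ≠ j) : Short (cls (m4 (pt i) (pt 23)) * cls (m4 (pt j) (pt 23))) :=
  (short_cls (nm_m4 fun k => e (Fin.ext (pt_inj (by omega) (by omega) k)))).congr (m4_mul _ _ _)

theorem exists_bar.{u} {C : Type u} [Group C] [Finite C] {v : C} (c : ∀ g, Commute v g) (o : orderOf v = 2) :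
    ∃ (Y : Type u) (_ : Group Y) (_ : Finite Y) (π : C →* Y), Surjective π ∧ ∀ a b, π a = π b ↔ a = b ∨ a = v * b := by
  haveI : (zpowers v).Normal := ⟨fun x hx g => by
    obtain ⟨k, rfl⟩ := hx
    exact ⟨k, (conj_of_comm ((c g).zpow_left k)).symm⟩⟩
  refine ⟨C ⧸ zpowers v, inferInstance, inferInstance, QuotientGroup.mk' _, QuotientGroup.mk'_surjective _, fun a b => ?_⟩
  rw [eq_comm, QuotientGroup.mk'_apply, QuotientGroup.mk'_apply, QuotientGroup.eq, mem_zpowers_invol o,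
    inv_mul_eq_iff_eq_mul, inv_mul_eq_iff_eq_mul, mul_one, (c b).eq]

namespace Al

variable (h : Al ρ τ J z w α)
include h

theorem uniq {n : G} {γ δ : Gt} (a : Ac α n γ) (b : Ac α n δ) : gOf γ = gOf δ ∨ gOf γ = negCo * gOf δ := by
  have := gOf_of_eqv (γ := γ * δ⁻¹) fun p => by
    rw [mul_smul, h.ainj ((a _).symm.trans (b _)), smul_inv_smul]; exact .refl _
  rwa [map_mul, map_inv, mul_inv_eq_one, mul_inv_eq_iff_eq_mul] at this

theorem pm2 {n : G} {γ : Gt} (a : Ac α n γ) (e : n * n = 1 ∨ n * n = w) : PM (γ * γ) := by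
  have := h.uniq (a.mul a) (δ := 1) (by
    rcases e with e | e <;> rw [e]
    exacts [ac_one, fun p => by rw [conj_of_comm (h.cw (ac_q p)).symm, one_smul]])
  simpa [PM] using this

theorem zwz : IsConj z (w * z) := isConj_iff.2 ⟨_, by rw [← h.az, ac_q (X 0), X0_t, h.axm]⟩

end Al

namespace As

variable (h : As ρ τ J z w α s) [Finite G]
include h

theorem zs {p : Lab} (a : Short p) : ∃ n γ, Ac α n γ ∧ n * α p * n⁻¹ = z :=
  let ⟨γ, e⟩ := exists_smul_short a short_tA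
  let ⟨n, k⟩ := h.all γ
  ⟨n, γ, k, by rw [k, e, h.az]⟩

theorem clq {p : Lab} (a : p * p = 1) (b : p ≠ 1) : IsConj w (α p) ∨ Short p := by
  obtain ⟨x, -, e⟩ := exists_lam p
  obtain ⟨y, c, d⟩ := exists_short' x
  have f := e.trans (cls_eqv_iff_red.2 c.symm)
  rcases d with rfl | d | d | d
  · rw [(eqv_one_iff.1 (f.trans (cls_eqv_one.2 (map_zero _)))).resolve_left b, h.ax]
    exact .inl (IsConj.refl _)
  · exact .inr ⟨y, d, f⟩
  · have := nq_eq_zero.1 ((qf_cls y).symm.trans (f.qf.symm.trans (sq_iff.1 a)))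
    omega
  · obtain ⟨γ, -, c⟩ := orb_Y0.ge ⟨y, d, f⟩
    obtain ⟨n, k⟩ := h.all γ
    exact .inl ((isConj_iff.2 ⟨_, h.tY⟩).trans (isConj_iff.2 ⟨n, (k _).trans (congrArg α c)⟩))

theorem sqw {n : G} {γ : Gt} (a : Ac α n γ) (g : gOf γ * gOf γ = negCo) : n * n ≠ 1 := fun nn => by
  have d : dt (gOf γ • uA) uA = 0 := by
    have := co_dt (gOf γ) (gOf γ • uA) uA
    rw [← mul_smul, g, negCo_smul, dt_neg_left, dt_comm] at this
    omega
  obtain ⟨δ, b, c⟩ := trP ((co_nm _ _).trans nm_uA) ((co_nm _ _).trans nm_uA) yA_cls (cls_uA ▸ smul_cls γ uA)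
    (by rw [d, dts.2.2.2.2.2.2.2])
  obtain ⟨δ, b, -, c⟩ := exists_of_lam X11_PA (t := Y0 * tA) (by decide +kernel) b ((lam_smul _ _).symm.trans (lam_eq_iff.2 c))
  have a' := ((Ac.inv (h.cj δ b)).mul a).mul (h.cj δ b)
  have n2 : (J (ρ δ))⁻¹ * n * J (ρ δ) * ((J (ρ δ))⁻¹ * n * J (ρ δ)) = 1 := by
    simpa using conj_sq (g := (J (ρ δ))⁻¹) rfl nn
  have g' := (cj_neg δ⁻¹).2 g
  have t : (δ⁻¹ * γ * δ) • tA = Y0 * tA := by
    rw [mul_smul, mul_smul, mem_stabilizer_iff.1 b, ← c, inv_smul_smul]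
  rw [inv_inv] at g'
  generalize (J (ρ δ))⁻¹ * n * J (ρ δ) = n at a' n2
  generalize δ⁻¹ * γ * δ = γ at a' g' t
  have y : γ • Y0 = Y0 := by
    have := a'.mul a' tA
    rw [n2, one_mul, inv_one, mul_one, mul_smul, t, smul_mul', t, ← mul_assoc] at this
    rw [eq_inv_of_mul_eq_one_left (mul_eq_right.1 (h.ainj this).symm), inv_eq_of_mul_eq_one_right YY]
  have tY := bf_comm _ _ ▸ bf_YA
  obtain ⟨c, hc, e⟩ := h.ofP (g := s * n) (comm_of_conj (by
    rw [← conj_conj', ← h.az, a', t, ← yE_t, h.s2' (bf_self _) tY])) (h.sw.mul_right (h.cw a'))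
  have cY : c • Y0 = Y0 := h.ainj (by rw [← h.cj c hc, e, ← conj_conj', a', y, h.s2 bf_YA (bf_self _), yE_Y])
  have cN : c ∈ NA := ⟨mem_Np.2 (by simpa [Y0] using cY), hc⟩
  have e' : n = s * J (ρ c) := by rw [e, ← mul_assoc, h.ss, one_mul]
  have m : yE.val * c * yE.val⁻¹ ∈ PA := by
    have : yE.val • (Y0 * tA) = tA := by rw [smul_mul', yE_Y, yE_t, ← mul_assoc, YY, one_mul]
    rw [mem_stabilizer_iff, mul_smul, mul_smul, inv_smul_eq_iff.2 this.symm, smul_mul', cY, mem_stabilizer_iff.1 hc, this]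
  obtain ⟨q, k⟩ := h.ac_s
  refine no_kap h.O (γ := yE.val * c) ?_ ?_
  · have := h.inj _ (mem_AA ρ τ (mul_mem m hc)) (by
      refine (h.hP _ m _ hc).trans ?_
      beta_reduce
      rw [← h.sj c cN, ← n2, e', inv_eq_of_mul_eq_one_right h.ss]; simp only [mul_assoc])
    simpa only [map_mul, map_inv, inv_eq_of_mul_eq_one_right (y_sq h.O), mul_assoc] using this
  · rw [← g', pm_sq (h.uniq a' (e' ▸ k.mul (h.cj c hc)))]
    simp [gOf_pauli]

theorem mem {n : G} {γ : Gt} (a : Ac α n γ) (b : IsConj z n) (c : IsConj z (w * n)) : ∃ p, α p = n := by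
  have nn : n * n = 1 := let ⟨_, e⟩ := isConj_iff.1 b; conj_sq e h.zz
  obtain ⟨p, x, y⟩ := (trip (h.pm2 a (.inl nn))).resolve_left fun g => h.sqw a g nn
  obtain ⟨m, δ, k, l⟩ := h.zs x
  have a' := (k.mul a).mul k.inv
  obtain ⟨β, hβ, e⟩ := h.ofP (g := m * n * m⁻¹) (l ▸ (comm_of_conj ((a p).trans (congrArg α y))).conj m) (h.cw a')
  by_cases f : PM β
  · obtain ⟨q, f⟩ := h.of_pm hβ f
    exact ⟨δ⁻¹ • q, by rw [← k.inv, f, e]; group⟩
  have bA := mem_AA ρ τ hβ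
  have key : ∀ u ∈ AA ρ τ, IsConj (ρ (pauli xc)) u → ¬ IsConj z (J u) := fun u hu c d => by
    obtain ⟨g, hg, q, e⟩ := into_B h.O hu c
    have c' := (conj_tr e).1 c
    obtain ⟨r, f⟩ := isConj_iff.1 c'
    refine h.nzw ((d.trans (isConj_iff.2 ⟨J g, ?_⟩)).trans ((h.clq (p := q) (h.O.eq_one.1
      ((rho_pauli_mul ρ _ _).symm.trans (conj_sq f Mon.G.Out.xx))) fun k => h.O.x_ne (by simpa [k] using f)).resolve_right
        fun k => h.O.not_conj_short k c').symm)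
    rw [← h.hm.conj hg hu, e, h.eq (bf_of h.O (e ▸ mul_mem (mul_mem hg hu) (inv_mem hg)))]
  rcases not_both h.O (γ := β) (h.inj _ (mul_mem bA bA) (by rw [h.hm _ bA _ bA, e, conj_sq rfl nn])) f with g | g
  · exact (key _ bA g (b.trans (isConj_iff.2 ⟨m, e.symm⟩))).elim
  · exact (key _ (mul_mem h.O.x_mem_A bA) g (c.trans (isConj_iff.2 ⟨m, by
      rw [h.hm _ h.O.x_mem_A _ bA, e, h.hw, conj_mul_conj, conj_of_comm (h.cw k)]⟩))).elim

theorem cent {g : G} (c : Commute w g) : ∃ γ, Ac α g γ := by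
  have cw : ∀ n : 𝐂₁(w), Commute w n := fun n => (mem_c1.1 n.2).symm
  obtain ⟨Y, _, _, π, sj, pe⟩ := exists_bar (C := 𝐂₁(w)) (v := ⟨w, mem_c1.2 rfl⟩) (fun g => Subtype.ext (cw g))
    (ord2 (Subtype.ext h.ww) fun e => h.w1 (congrArg Subtype.val e))
  replace pe : ∀ {a b}, π a = π b ↔ (a : G) = b ∨ (a : G) = w * b := fun {a b} => by
    simpa only [Subtype.ext_iff, coe_mul] using pe a b
  let a : Lab →* 𝐂₁(w) := α.codRestrict _ fun p => mem_c1.2 (h.cw (ac_q p)).symm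
  let f : W2 → Y := fun v => π (a (surjInv lam_surjective v))
  have ai : ∀ {p q}, π (a p) = π (a q) ↔ p ≈ₗ q := fun {p q} => by
    rw [pe, eqv_iff]
    exact or_congr h.ainj.eq_iff (by rw [← h.ainj.eq_iff, h.axm]; rfl)
  have fl : ∀ p, f (Mon.G.lam p) = π (a p) := fun p => ai.2 (lam_eq_iff.1 (surjInv_eq _ _))
  have ql : ∀ p, qf (surjInv lam_surjective (Mon.G.lam p)) = qf p := fun p => (lam_eq_iff.1 (surjInv_eq _ _)).qf
  have qm : QM Mon.G.lam (fun v => qf (surjInv lam_surjective v)) xc :=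
    ⟨lam_mul, lam_surjective, fun _ => lam_eq_zero, xc_ne_one, fun x => by rw [ql, sq_iff]⟩
  have po : ∀ {p q}, QuadraticMap.polar qm.form (Mon.G.lam p) (Mon.G.lam q) = 0 ↔ bf p q = 0 :=
    qm.comm_iff.symm.trans Mon.G.comm_iff
  have aw : ∀ {n : G} {γ}, Ac α n γ → Ac α (w * n) γ := fun k p => by
    rw [← conj_conj', k, conj_of_comm (h.cw (ac_q _)).symm]
  let X : Subgroup Y :=
    { carrier := {y | ∃ n, π n = y ∧ ∃ γ, Ac α n γ}
      one_mem' := ⟨1, map_one _, 1, ac_one⟩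
      mul_mem' := fun ⟨n, a, _, b⟩ ⟨m, c, _, d⟩ => ⟨n * m, by rw [map_mul, a, c], _, b.mul d⟩
      inv_mem' := fun ⟨n, a, _, b⟩ => ⟨n⁻¹, by rw [map_inv, a], _, b.inv⟩ }
  have mX : ∀ {n}, π n ∈ X ↔ ∃ γ, Ac α n γ := ⟨fun ⟨m, e, γ, k⟩ => by
    rcases pe.1 e.symm with e | e <;> rw [e]
    exacts [⟨γ, k⟩, ⟨γ, aw k⟩], fun k => ⟨_, rfl, k⟩⟩
  have Dl : ∀ {n}, IsConj (π (a tA)) (π n) → IsConj z n ∧ IsConj z (w * n) := fun {n} k => by
    obtain ⟨y, e⟩ := isConj_iff.1 k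
    obtain ⟨y, rfl⟩ := sj y
    rw [← map_inv, ← map_mul, ← map_mul, eq_comm, pe] at e
    change _ = y * α tA * (y : G)⁻¹ ∨ _ = w * (y * α tA * (y : G)⁻¹) at e
    have a1 : IsConj z (y * z * (y : G)⁻¹) := isConj_iff.2 ⟨_, rfl⟩
    have a2 : IsConj z (w * (y * z * (y : G)⁻¹)) :=
      h.zwz.trans (isConj_iff.2 ⟨(y : G), by rw [conj_mul_conj, conj_of_comm (cw y)]⟩)
    rcases e with e | e <;> rw [e, h.az]
    exacts [⟨a1, a2⟩, ⟨a2, by rwa [← mul_assoc, h.ww, one_mul]⟩]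
  have zs : ∀ {p}, Short p → ∃ x ∈ X, x * π (a p) * x⁻¹ = π (a tA) := fun k =>
    let ⟨n, γ, b, e⟩ := h.zs k
    ⟨π ⟨n, mem_c1.2 (h.cw b).symm⟩, mX.2 ⟨γ, b⟩, by
      rw [← map_inv, ← map_mul, ← map_mul]; exact congrArg π (Subtype.ext (e.trans h.az.symm))⟩
  have Ds : ∀ {p}, Short p → IsConj (π (a tA)) (f (Mon.G.lam p)) := fun k =>
    let ⟨x, _, e⟩ := zs k
    by rw [fl]; exact (isConj_iff.2 ⟨x, e⟩).symm
  have mm : ∀ d ∈ X, IsConj (π (a tA)) d → ∃ p, Short p ∧ π (a p) = d := fun d ⟨n, e, γ, b⟩ k => by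
    subst e
    obtain ⟨p, e⟩ := h.mem b (Dl k).1 (Dl k).2
    have c := e ▸ (Dl k).1
    obtain ⟨y, l⟩ := isConj_iff.1 c
    exact ⟨p, (h.clq (h.ainj (by rw [map_mul, conj_sq l h.zz, map_one])) fun k => h.z1 (by simpa [k] using l)).resolve_left
      fun k => h.nzw (c.trans k.symm), congrArg π (Subtype.ext e)⟩
  have k5' : ∃ d : Fin 5 → Lab, ∀ i j, i ≠ j → IsConj (π (a tA)) (f (Mon.G.lam (d i) + Mon.G.lam (d j))) :=
    ⟨_, fun i j e => lam_mul _ _ ▸ Ds (k5 e)⟩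
  refine mX (n := ⟨g, mem_c1.2 c.symm⟩).1 (TI.top (f := f) (Q := qm.form) (D := IsConj (π (a tA)))
    (q := fun d => ∃ n, π n = d ∧ (n : G) * n = w) ⟨lam_surjective.forall₂.2 fun p q => ?_,
      lam_surjective.forall₂.2 fun p q e => lam_eq_iff.2 (ai.1 (by rwa [fl, fl] at e)),
      lam_surjective.forall.2 fun p e => lam_eq_zero.2 (eqv_one_iff.1 (eqv_one_of_bf fun q => bf_comm p q ▸ po.1 (e _))),
      fun v => mX.2 ⟨_, ac_q _⟩, ?_, fun d e a b => b.trans a, fun d k => ?_, ?_, lam_surjective.forall.2 fun p => ?_,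
      fun d hd k g hg => ?_, fun d hd k => (mm d hd k).elim fun p e => ⟨_, (fl p).trans e.2⟩,
      lam_surjective.forall₂.2 fun p q => ?_, ?_⟩ _)
  · rw [← lam_mul, fl, fl, fl, map_mul, map_mul]
  · rintro _ ⟨n, rfl, γ, b⟩ v
    exact ⟨_, by rw [fl, ← map_inv, ← map_mul, ← map_mul]; exact congrArg π (Subtype.ext (b _))⟩
  · obtain ⟨y, l⟩ := isConj_iff.1 k
    exact conj_sq l (by rw [← map_mul, ← map_mul, tA_sq, map_one, map_one])
  · rintro _ g ⟨n, rfl, e⟩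
    obtain ⟨g, rfl⟩ := sj g
    exact ⟨g * n * g⁻¹, by simp, by rw [coe_mul, coe_mul, coe_inv, ← conj_mul_conj, e, conj_of_comm (cw g)]⟩
  · have e : α p * α p = w ↔ qf p = 1 := by
      rw [← map_mul, ← h.ax, h.ainj.eq_iff, mul_self_eq]
      exact ⟨congrArg Lab.s, fun e => e ▸ rfl⟩
    rw [fl, qm.coe_form]
    beta_reduce
    rw [ql, ← e]
    refine ⟨fun ⟨n, k, l⟩ => ?_, fun k => ⟨_, rfl, k⟩⟩
    rcases pe.1 k with k | k <;> rw [k] at l
    exacts [l, by rwa [← pow_two, (cw _).mul_pow, pow_two, pow_two, h.ww, one_mul] at l]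
  · obtain ⟨p, p1, rfl⟩ := mm d hd k
    obtain ⟨q, q1, e⟩ := mm _ hg (k.trans (isConj_iff.2 ⟨g, rfl⟩))
    obtain ⟨x, hx, e1⟩ := zs p1
    obtain ⟨y, hy, e2⟩ := zs q1
    obtain ⟨n, hn⟩ := sj (y * g * x⁻¹)
    have : π (n * a tA * n⁻¹) = π (a tA) := by
      rw [map_mul, map_mul, map_inv, hn]
      nth_rw 1 [← e1]
      rw [← e2, e]; group
    rw [pe] at this
    exact (mul_mem_cancel_left hy).1 ((mul_mem_cancel_right (inv_mem hx)).1 (hn ▸ mX.2 (h.ac_nv (cw n) (h.az ▸ this))))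
  · obtain ⟨d, k⟩ := k5'
    obtain ⟨i, j, e, l⟩ := Fintype.exists_ne_map_eq_of_card_lt (fun i => (bf (d i) p, bf (d i) q)) (by simp)
    simp only [Prod.mk.injEq] at l
    refine ⟨_, k i j e, ?_⟩
    rw [← lam_mul, po, po, bf_mul, bf_mul, l.1, l.2, z2_add_self, z2_add_self]
    exact ⟨rfl, rfl⟩
  · rintro _ ⟨n, rfl, γ, b⟩ e
    rw [← map_mul, ← map_one π, pe] at e
    replace e : (n : G) * n = 1 ∨ (n : G) * n = w := by simpa using e
    rcases trip (h.pm2 b e) with k | ⟨p, k, l⟩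
    · exact .inr ⟨⟨n, rfl, e.resolve_left (h.sqw b k)⟩, k5'.elim fun d k => ⟨_, k⟩⟩
    · exact .inl ⟨_, Ds k, fl p ▸ Commute.map (show Commute (a p) n from
        Subtype.ext (comm_of_conj ((b p).trans (congrArg α l)))) π⟩

end As

end CF.StdZ.Bm
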