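import Cfsg.Agent.StdZ.BbK
import Cfsg.Agent.StdZ.BmH
import Cfsg.Agent.StdZ.Gen
import Cfsg.Agent.BabU.E4

/-! The Baby Monster is determined by the centraliser of a transposition. -/

set_option autoImplicit false
set_option maxHeartbeats 400000
set_option maxRecDepth 100000

namespace CF.StdZ.Bb

open Cfsg Subgroup CF.Leech CF.Mon CF.Mon.G CF.Mon.L CF.Mon.Lab CF.Known.Mon MulAction CF.LX CF.Loc
open CF.Even Function Spor CF.MonU CF.Mon.O CF.BabU CF.StdZ.Bm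
open scoped commutatorElement Pointwise

variable {Γ G : Type*} [Group Γ] [Group G] {ρ : Gt →* Γ} {τ : Γ} {J : Γ → G} {z w s : G} {α : Lab → G}

theorem Al.exA (h : Al ρ τ J z w α) : ∃ Q : Subgroup G, EX Q w ∧ Nat.card Q = 2 ^ 23 ∧ ∀ g, g ∈ Q ↔ ∃ p ∈ Pp tA, α p = g := by
  let f : PA.comap pauli →* G := MonoidHom.mk' (fun p => α p) fun a b => h.hom _ (pauli_PA.1 a.2) _ (pauli_PA.1 b.2)
  have ex := ex_map f xc_PA exLab (fun e => h.w1 (h.ax.symm.trans e))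
    (fun p _ k => ((h.aS (pauli_PA.1 p.2)).1 (mem_S1_of fun q hq =>
        Mon.G.comm_iff.1 (congrArg Subtype.val (k ⟨q, pauli_PA.2 hq⟩ trivial)))).imp_right fun e => e.trans h.ax.symm)
    ⟨⟨Y0, Y0_PA⟩, trivial, not_or.1 (mt (fun e => (h.aS Y0_UU.1).2 (e.imp_right fun e => e.trans h.ax))
      fun e => absurd (cases_S1 e) (by decide +kernel))⟩
  rw [top_subgroupOf, ← MonoidHom.range_eq_map, show f ⟨xc, xc_PA⟩ = w from h.ax] at ex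
  refine ⟨f.range, ex, ?_, fun g => ⟨fun ⟨p, e⟩ => ⟨p, pauli_PA.1 p.2, e⟩, fun ⟨p, a, e⟩ => ⟨⟨p, pauli_PA.2 a⟩, e⟩⟩⟩
  have a := f.ker.card_mul_index
  have o := orderOf_eq_two' (z := (⟨tA, tA_mem_PA⟩ : PA.comap pauli)) (Subtype.ext tA_sq) (by decide +kernel)
  rw [index_ker, card_comap_PA, show f.ker = zpowers ⟨tA, tA_mem_PA⟩ from ?_, Nat.card_zpowers, o] at a
  · omega
  ext p
  rw [MonoidHom.mem_ker, mem_zpowers_invol o, Subtype.ext_iff, Subtype.ext_iff, ← h.hom.one]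
  exact (h.inj (pauli_PA.1 p.2) (one_mem _)).trans (by rw [mul_one]; rfl)

namespace As

variable (h : As ρ τ J z w α s) [Finite G]
include h

theorem cent {g : G} (c : Commute w g) : ∃ γ, Ac α g γ := by
  have cw : ∀ n : 𝐂₁(w), Commute w n := fun n => (mem_c1.1 n.2).symm
  obtain ⟨Y, _, _, π, sj, pe⟩ := exists_bar (C := 𝐂₁(w)) (v := ⟨w, mem_c1.2 rfl⟩) (fun g => Subtype.ext (cw g))
    (ord2 (Subtype.ext h.ww) fun e => h.w1 (congrArg Subtype.val e))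
  replace pe : ∀ {a b}, π a = π b ↔ (a : G) = b ∨ (a : G) = w * b := fun {a b} => by
    simpa only [Subtype.ext_iff, coe_mul] using pe a b
  obtain ⟨Q, ex, cQ, mQ⟩ := h.exA
  obtain ⟨l, q, qm⟩ := EX.exists_qm (r := 22) (EX.of (isExtraspecial_of_equiv ex.isExtraspecial topEquiv.symm) trivial
    (fun y _ => Subtype.ext (mem_c1.1 (ex.le_c1 y.2))) fun k => ex.z_ne (congrArg Subtype.val k) : EX ⊤ (⟨w, ex.mem⟩ : Q)) cQ
  let a : Q →* 𝐂₁(w) := inclusion ex.le_c1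
  let f : (Fin 22 → ZMod 2) → Y := fun v => π (a (surjInv qm.surj v))
  have ai : ∀ {x y}, π (a x) = π (a y) ↔ l x = l y := fun {x y} => by
    rw [pe, qm.eq_iff, Subtype.ext_iff, Subtype.ext_iff]; rfl
  have fl : ∀ x, f (l x) = π (a x) := fun x => ai.2 (surjInv_eq _ _)
  let b : ∀ {p}, p ∈ Pp tA → Q := fun {p} k => ⟨α p, (mQ _).2 ⟨p, k, rfl⟩⟩
  have sb : ∀ x : Q, ∃ p k, b (p := p) k = x := fun x => let ⟨p, k, e⟩ := (mQ _).1 x.2; ⟨p, k, Subtype.ext e⟩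
  have aw : ∀ {n : G} {γ}, Ac α n γ → Ac α (w * n) γ := fun k => ⟨k.1, fun p m => by
    rw [← conj_conj', k.2 p m, conj_of_comm (h.cw (h.acq (sA k.1 m))).symm]⟩
  let X : Subgroup Y :=
    { carrier := {y | ∃ n, π n = y ∧ ∃ γ, Ac α n γ}
      one_mem' := ⟨1, map_one _, 1, ac_one⟩
      mul_mem' := fun ⟨n, a, _, b⟩ ⟨m, c, _, d⟩ => ⟨n * m, by rw [map_mul, a, c], _, b.mul d⟩
      inv_mem' := fun ⟨n, a, _, b⟩ => ⟨n⁻¹, by rw [map_inv, a], _, b.inv⟩ }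
  have mX : ∀ {n}, π n ∈ X ↔ ∃ γ, Ac α n γ := ⟨fun ⟨m, e, γ, k⟩ => by
    rcases pe.1 e.symm with e | e <;> rw [e]
    exacts [⟨γ, k⟩, ⟨γ, aw k⟩], fun k => ⟨_, rfl, k⟩⟩
  let z' : 𝐂₁(w) := ⟨z, mem_c1.2 h.zw⟩
  have zs : ∀ {p} (k : DL p), ∃ x ∈ X, x * π (a (b k.bf)) * x⁻¹ = π z' := fun k =>
    let ⟨n, γ, b, e⟩ := h.zs k
    ⟨π ⟨n, mem_c1.2 (h.cw b).symm⟩, mX.2 ⟨γ, b⟩, by
      rw [← map_inv, ← map_mul, ← map_mul]; exact congrArg π (Subtype.ext e)⟩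
  have Ds : ∀ {p} (k : DL p), IsConj (π z') (f (l (b k.bf))) := fun k =>
    let ⟨x, _, e⟩ := zs k
    by rw [fl]; exact (isConj_iff.2 ⟨x, e⟩).symm
  have mm : ∀ d ∈ X, IsConj (π z') d → ∃ p, ∃ k : DL p, π (a (b k.bf)) = d := fun d ⟨n, e, γ, k⟩ m => by
    subst e
    obtain ⟨y, e⟩ := isConj_iff.1 m.symm
    obtain ⟨y, rfl⟩ := sj y
    rw [← map_inv, ← map_mul, ← map_mul, pe] at e
    obtain ⟨c, c1, c2⟩ : ∃ c, Commute w c ∧ c * n * c⁻¹ = z := by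
      rcases e with e | e
      exacts [⟨y, cw y, e⟩, ⟨(α (Lab.X 2))⁻¹ * y, (h.cw (h.acq X2_P)).inv_right.mul_right (cw y), by
        rw [← conj_conj', show (y : G) * n * (y : G)⁻¹ = _ from e.trans h.xz.symm]; group⟩]
    obtain ⟨p, p1, e⟩ := h.mem k c1 c2
    exact ⟨p, h.clq p1 (e ▸ (isConj_iff.2 ⟨c, c2⟩).symm), congrArg π (Subtype.ext e)⟩
  refine mX (n := ⟨g, mem_c1.2 c.symm⟩).1 (TI.top (f := f) (Q := q) (D := IsConj (π z'))
    (q := fun d => ∃ n, π n = d ∧ (n : G) * n = w) ⟨qm.surj.forall₂.2 fun x y => ?_,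
      qm.surj.forall₂.2 fun x y e => ai.1 (by rwa [fl, fl] at e),
      qm.surj.forall.2 fun x e => (qm.ker x).2 ((ex.ctr x x.2 fun y k => congrArg Subtype.val
        ((qm.comm_iff (x := ⟨y, k⟩)).2 (e _))).imp Subtype.ext Subtype.ext),
      qm.surj.forall.2 fun x => ?_, ?_, fun d e a b => b.trans a, fun d k => ?_, ?_, qm.surj.forall.2 fun x => ?_,
      fun d hd k g hg => ?_, fun d hd k => (mm d hd k).elim fun p e => ⟨_, (fl _).trans e.2⟩,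
      qm.surj.forall₂.2 fun x y => ?_, ?_⟩ _)
  · rw [← qm.mul, fl, fl, fl, map_mul, map_mul]
  · obtain ⟨p, k, rfl⟩ := sb x
    exact fl _ ▸ mX.2 ⟨_, h.acq k⟩
  · rintro _ ⟨n, rfl, γ, k⟩
    refine qm.surj.forall.2 fun x => ?_
    obtain ⟨p, m, rfl⟩ := sb x
    exact ⟨l (b (sA k.1 m)), by rw [fl, fl, ← map_inv, ← map_mul, ← map_mul]; exact congrArg π (Subtype.ext (k.2 p m))⟩
  · obtain ⟨y, l⟩ := isConj_iff.1 k
    exact conj_sq l (by rw [← map_mul, ← map_one π]; exact congrArg π (Subtype.ext h.zz))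
  · rintro _ g ⟨n, rfl, e⟩
    obtain ⟨g, rfl⟩ := sj g
    exact ⟨g * n * g⁻¹, by simp, by rw [coe_mul, coe_mul, coe_inv, ← conj_mul_conj, e, conj_of_comm (cw g)]⟩
  · have e : (x : G) * x = w ↔ q (l x) = 1 := by
      have := congrArg Subtype.val (qm.sq' x)
      rcases z2_cases (q (l x)) with k | k <;> rw [k] at this ⊢
      exacts [iff_of_false (fun e => h.w1 (e.symm.trans (by simpa using this))) (by decide), iff_of_true (this.trans (pow_one _)) rfl]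
    rw [fl, ← e]
    refine ⟨fun ⟨n, k, l⟩ => ?_, fun k => ⟨_, rfl, k⟩⟩
    rcases pe.1 k with k | k <;> rw [k] at l
    exacts [l, by rwa [← pow_two, (cw _).mul_pow, pow_two, pow_two, h.ww, one_mul] at l]
  · obtain ⟨p, p1, rfl⟩ := mm d hd k
    obtain ⟨q, q1, e⟩ := mm _ hg (k.trans (isConj_iff.2 ⟨g, rfl⟩))
    obtain ⟨x, hx, e1⟩ := zs p1
    obtain ⟨y, hy, e2⟩ := zs q1
    obtain ⟨n, hn⟩ := sj (y * g * x⁻¹)
    have : π (n * z' * n⁻¹) = π z' := by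
      rw [map_mul, map_mul, map_inv, hn]
      nth_rw 1 [← e1]
      rw [← e2, e]; group
    rw [pe] at this
    exact (mul_mem_cancel_left hy).1 ((mul_mem_cancel_right (inv_mem hx)).1 (hn ▸ mX.2 (h.nv (cw n) this)))
  · obtain ⟨p, k, rfl⟩ := sb x
    obtain ⟨r, m, rfl⟩ := sb y
    obtain ⟨d, d1, d2, d3⟩ := two p r
    have : ∀ {p} (k : p ∈ Pp tA), bf d p = 0 → QuadraticMap.polar q (l (b d1.bf)) (l (b k)) = 0 := fun k e =>
      qm.comm_iff.1 (Subtype.ext ((h.hom _ d1.bf _ k).symm.trans ((congrArg α (Mon.G.comm_iff.2 e)).trans (h.hom _ k _ d1.bf))))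
    exact ⟨_, Ds d1, this k d2, this m d3⟩
  · rintro _ ⟨n, rfl, γ, k⟩ e
    rw [← map_mul, ← map_one π, pe] at e
    obtain ⟨p, p1, p2⟩ := fixD k.1 (h.pm1 (k.mul k) (by simpa using e))
    refine .inl ⟨_, Ds p1, comm_of_conj ?_⟩
    rw [fl, ← map_inv, ← map_mul, ← map_mul, pe]
    exact (lam_eq_iff.1 (w2_eq.1 p2)).cases.imp (fun e => (k.2 p p1.bf).trans (congrArg α e))
      fun e => (k.2 p p1.bf).trans ((congrArg α e).trans (h.axm p1.bf))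

theorem iso : IsoB G := by
  obtain ⟨Q, ex, cQ, mQ⟩ := h.exA
  have lq : LQ Q w := ⟨ex, fun g hg => by
      rcases h.cenA (g := g) fun p k => hg _ ((mQ _).2 ⟨p, k, rfl⟩) with rfl | rfl
      exacts [one_mem _, ex.mem],
    fun g hg => mem_normalizer_of_conj_mem fun x hx => by
      obtain ⟨p, k, rfl⟩ := (mQ x).1 hx
      obtain ⟨γ, l⟩ := h.cent (mem_c1.1 hg).symm
      exact (mQ _).2 ⟨_, sA l.1 k, (l.2 p k).symm⟩⟩
  obtain ⟨ψ, ψs, ψk⟩ := exists_phi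
  obtain ⟨φ, hφ⟩ := exists_hom_of_rel (A := 𝐂₁(w)) (fun n c => ∃ γ : PA, Ac α n γ ∧ ψ γ = c)
    (fun n => (h.cent (mem_c1.1 n.2).symm).elim fun γ k => ⟨_, ⟨γ, k.1⟩, k, rfl⟩)
    (by
      rintro _ _ _ ⟨γ, a, rfl⟩ ⟨δ, b, rfl⟩
      rw [← mul_inv_eq_one, ← map_inv, ← map_mul, ψk]
      exact h.pm1 (a.mul b.inv) (.inl (mul_inv_cancel _)))
    (by rintro _ _ _ _ ⟨γ, a, rfl⟩ ⟨δ, b, rfl⟩; exact ⟨γ * δ, a.mul b, map_mul _ _ _⟩)
  have e : φ.ker.map (𝐂₁(w)).subtype = Q := Subgroup.ext fun x => mem_map_c1.trans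
    ⟨fun ⟨_, k⟩ => let ⟨_, a, b⟩ := (hφ _ _).1 k; (mQ x).2 (h.kerA a ((ψk _).1 b)), fun k => ⟨ex.le_c1 k, by
      obtain ⟨p, l, rfl⟩ := (mQ x).1 k
      exact (hφ _ _).2 ⟨⟨_, pauli_PA.2 l⟩, h.acq l, (ψk _).2 (pm_pauli p)⟩⟩⟩
  have c : Nat.card (φ.ker.map (𝐂₁(w)).subtype) = 2 ^ 23 := e ▸ cQ
  obtain ⟨r, R, k⟩ := exists_Rb (Q := φ.ker) (e ▸ lq) ((card_subtype _ _).symm.trans c)
    ⟨(QuotientGroup.quotientKerEquivOfSurjective φ fun c => by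
      obtain ⟨γ, rfl⟩ := ψs c
      obtain ⟨n, k⟩ := h.all γ.2
      exact ⟨⟨n, mem_c1.2 (h.cw k).symm⟩, (hφ _ _).2 ⟨γ, k, rfl⟩⟩).trans Co2Equiv⟩
  refine R.isoB c certs ⟨J τ, ?_⟩
  rw [k, e, h.tY]
  exact ⟨(mQ _).2 ⟨_, Y0_UU.1, rfl⟩, fun e => absurd (cases_S1 ((h.aS Y0_UU.1).2 (.inr e))) (by decide +kernel)⟩

end As

theorem main [Finite G] [IsSimpleGroup G] {t : G} (ht : orderOf t = 2) (M : Subgroup 𝐂₁(t)) [M.Normal] (hM : M.index = 2)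
    {K : Type*} [Field K] [Fintype K] (hK : Fintype.card K = 4) (hout : centralizer (M : Set 𝐂₁(t)) ≤ M)
    (hcov : IsNonsplitDoubleCover M (Lie.twistedE6 K 2)) : IsoB G := by
  obtain ⟨ρ, τ, J, w, C⟩ := exists_ce ht M hM hK hout hcov
  obtain ⟨α, A⟩ := C.exists_al (C.pairW (StdZ.exists_cm ht fun c => C.w1 (by
    have := C.cp X11_PB Y0_UU
    rwa [pauli_smul_of_one bf_11Y, C.pm xc_UU Y0_UU, C.hw, conj_of_comm (c.1.1 _ _), right_eq_mul] at this)))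
  obtain ⟨s, a, b, c⟩ := A.exists_s
  exact As.iso ⟨A, a, b, c⟩

end CF.StdZ.Bb
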