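import Cfsg.Agent.StdZ.BmB
import Cfsg.Agent.StdZ.Gen

/-! The centraliser of a standard double cover of the Baby Monster has Sylow subgroups of order two. -/

set_option autoImplicit false
set_option maxHeartbeats 400000

namespace CF.StdZ.Bm

open Cfsg Subgroup CF.Mon CF.Mon.G CF.Mon.Lab CF.LX CF.Loc Function

theorem fixq {G : Type*} [Group G] [Finite G] {t x : G} {D U : Subgroup G} (tt : t * t = 1) (tD : t ∈ D)
    (cD : D ≤ 𝐂₁(t)) (cU : U ≤ 𝐂₁(t)) (n : U ≤ 𝐍(D)) (hU : IsPGroup 2 U) (hx : x ∈ D) {k : ℕ} (e : x ^ 2 ^ k = 1)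
    (nx : ¬ (x = 1 ∨ x = t)) : ∃ y ∈ D, ¬ (y = 1 ∨ y = t) ∧ (y * y = 1 ∨ y * y = t) ∧
      ∀ u ∈ U, u * y * u⁻¹ = y ∨ u * y * u⁻¹ = y * t := by
  classical
  have : Fact (Nat.Prime 2) := ⟨Nat.prime_two⟩
  obtain ⟨T, hT, le⟩ := exists_isSyl_ge hU (le_sup_right : U ≤ D ⊔ U)
  have nD := sup_le (le_normalizer (H := D)) n
  have hQ := hT.inf_of_le_normalizer le_sup_left nD
  obtain ⟨g, hg, b⟩ := hQ.exists_cj_le (isPGroup_zpowers e) (zpowers_le.2 hx)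
  have m := b (conj_mem_cj g (mem_zpowers x))
  let N := (zpowers t).subgroupOf 𝐂₁(t)
  have mN : ∀ {y : 𝐂₁(t)}, y ∈ N → y.1 = 1 ∨ y.1 = t := fun h => by
    obtain ⟨i, hi, e⟩ := Finset.mem_image.1 ((mem_zpowers_iff_mem_range_orderOf).1 h)
    have := (Finset.mem_range.1 hi).trans_le (orderOf_le_of_pow_eq_one two_pos ((pow_two t).trans tt))
    replace e : t ^ i = _ := e
    interval_cases i
    exacts [.inl (e.symm.trans (pow_zero t)), .inr (e.symm.trans (pow_one t))]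
  have : N.Normal := ⟨fun y hy g => by
    rcases mN hy with e | e <;> rw [mem_subgroupOf, coe_mul, coe_mul, e]
    exacts [by simp, by rw [coe_inv, conj_eq_iff.2 (mem_c1.1 g.2)]; exact mem_zpowers t]⟩
  let π := QuotientGroup.mk' N
  obtain ⟨_, ⟨⟨y, hy, rfl⟩, c⟩, n1⟩ := (bot_or_exists_ne_one _).resolve_left (inf_centralizer_ne_bot
    (Q := ((T ⊓ D).subgroupOf 𝐂₁(t)).map π) (T := (U.subgroupOf 𝐂₁(t)).map π)
    ((hQ.isPGroup.comap_subtype).map _) (hU.comap_subtype.map _) (by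
      rintro _ ⟨u, hu, rfl⟩
      refine mem_normalizer_of_conj_mem ?_
      rintro _ ⟨y, hy, rfl⟩
      exact ⟨u * y * u⁻¹, ⟨T.mul_mem (T.mul_mem (le hu) hy.1) (T.inv_mem (le hu)), conj_mem_of_mem_normalizer (n hu) hy.2⟩, rfl⟩)
    fun z => nx ((mN ((QuotientGroup.eq_one_iff _).1 (z.le ⟨⟨_, cD m.2⟩, m, rfl⟩))).imp conj_eq_one_iff.1 fun e => by
      simpa using e.trans (conj_eq_iff.2 (mem_c1.1 (cD hg))).symm))
  obtain ⟨i, e⟩ := isPGroup_iff_forall.1 hQ.isPGroup _ hy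
  obtain ⟨j, a, b⟩ := exists_sq i e fun k => n1 ((QuotientGroup.eq_one_iff _).2 (by
    rcases k with k | k <;> rw [mem_subgroupOf, show y.1 = _ from k]
    exacts [one_mem _, mem_zpowers t]))
  refine ⟨_, pow_mem hy.2 j, a, b, fun u hu => ?_⟩
  have := (show Commute (π ⟨u, cU hu⟩) (π y) from c _ ⟨_, hu, rfl⟩).pow_right j
  rw [← map_pow, ← commutatorElement_eq_one_iff_commute, ← map_commutatorElement] at this
  refine (mN ((QuotientGroup.eq_one_iff _).1 this)).imp mul_inv_eq_one.1 fun e => (mul_inv_eq_iff_eq_mul.1 e).trans ?_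
  exact (mem_c1.1 (y ^ j).2).symm

variable {Γ G S : Type*} [Group Γ] [Group G] [Group S] {ρ : Gt →* Γ} {τ : Γ}

/-- the standard subgroup is the image of the model -/
structure Mo (O : Mon.G.Out ρ τ) (F : Dt G S) (j : AA ρ τ →* G) : Prop where
  fr : Fr ⊤ F
  inj : Injective j
  rg : ∀ {x}, x ∈ F.L ↔ ∃ a, j a = x
  jz : j ⟨_, O.t_mem_A⟩ = F.z

namespace Mo

variable {O : Mon.G.Out ρ τ} {F E : Dt G S} {j : AA ρ τ →* G} (M : Mo O F j)
include M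

theorem mL (a : AA ρ τ) : j a ∈ F.L := M.rg.2 ⟨a, rfl⟩

theorem cz (a : AA ρ τ) : Commute F.z (j a) := M.fr.cL (M.mL a)

theorem T_iff {a : AA ρ τ} : T ρ a.1 ↔ F.π (j a) = 1 := by
  rw [M.fr.ker (M.cz a)]
  refine ⟨fun h => ?_, fun h => (M.fr.LK (M.mL a) h).imp (fun e => congrArg Subtype.val (M.inj (e.trans (map_one j).symm)))
    fun e => congrArg Subtype.val (M.inj (e.trans M.jz.symm))⟩
  rcases h with e | e
  exacts [(show a = 1 from Subtype.ext e) ▸ map_one j ▸ one_mem _, (show a = ⟨_, O.t_mem_A⟩ from Subtype.ext e) ▸ M.jz ▸ M.fr.zK]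

theorem dec {x : G} (h : Commute F.z x) : ∃ a, ∃ k ∈ F.K, x = j a * k := by
  obtain ⟨l, hl, k, hk, e⟩ := M.fr.dec h trivial
  obtain ⟨a, rfl⟩ := M.rg.1 hl
  exact ⟨a, k, hk, e⟩

theorem cm {a c : AA ρ τ} {k : G} (hk : k ∈ F.K) : Commute (j c) (j a * k) ↔ Commute c.1 a.1 := by
  have := M.fr.cLK (M.mL c) hk
  refine ⟨fun h => congrArg Subtype.val (M.inj (a₁ := c * a) (a₂ := a * c) ?_),
    fun h => ((show Commute c a from Subtype.ext h).map j).mul_right this⟩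
  simpa using (h.mul_right this.inv_right).eq

theorem ya [Finite G] (p : Pr ⊤ F E) (n : ¬ E.Sm) {a : AA ρ τ} {k : G} (hk : k ∈ F.K) (e : E.z = j a * k) : Ya ρ τ a := by
  intro U hU cU
  obtain ⟨x, hx, cx, ⟨i, ex⟩, nx⟩ := p.big trivial n
  have ct : ∀ {c : AA ρ τ}, Commute E.z (j c) ↔ Commute c.1 a := fun {c} => by rw [e, commute_iff_eq, eq_comm]; exact M.cm hk
  obtain ⟨y, ⟨hy, cy⟩, y1, y2, y3⟩ := fixq (D := E.K ⊓ 𝐂₁(F.z)) (U := (U.subgroupOf (AA ρ τ)).map j) p.fe.zz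
    ⟨p.fe.zK, mem_c1.2 p.cm.symm⟩ (fun _ h => mem_c1.2 (p.fe.cK h.1).symm)
    (by rintro _ ⟨u, hu, rfl⟩; exact mem_c1.2 (ct.2 (cU _ hu).2).symm) (by
      rintro _ ⟨u, hu, rfl⟩
      exact mem_normalizer_of_conj_mem fun y hy => ⟨p.fe.nK (ct.2 (cU _ hu).2) hy.1,
        mem_c1.2 (((M.cz u).mul_right (mem_c1.1 hy.2).symm).mul_right (M.cz u).inv_right).symm⟩)
    (hU.comap_subtype.map _) ⟨hx, mem_c1.2 cx.symm⟩ ex nx
  replace cy : Commute F.z y := (mem_c1.1 cy).symm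
  obtain ⟨b, l, hl, f⟩ := M.dec cy
  have πa : F.π (j a) = F.π E.z := by rw [e, M.fr.πLK (M.mL a) hk]
  have πb : F.π (j b) = F.π y := by rw [f, M.fr.πLK (M.mL b) hl]
  let P : AA ρ τ →* S := MonoidHom.mk' (fun a => F.π (j a)) fun a b => by rw [map_mul, M.fr.mul (M.cz a) (M.cz b)]
  have hP : ∀ {x : AA ρ τ}, T ρ x.1 ↔ P x = 1 := M.T_iff
  replace πa : P a = F.π E.z := πa
  replace πb : P b = F.π y := πb
  have yt := p.fe.cK hy
  have y4 : y ^ 2 ^ 2 = 1 := by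
    rw [show 2 ^ 2 = 2 * 2 from rfl, pow_mul, pow_two y, pow_two]
    rcases y2 with e | e <;> rw [e]
    exacts [one_mul _, p.fe.zz]
  have iv : ∀ {w}, w ∈ E.K → w * w = 1 → w ≠ 1 → ∀ {c}, Commute c w → Commute E.z c := fun hw ww w1 c h =>
    p.fe.te hw (ord2 ww w1) (by rwa [conj_of_comm h.symm])
  refine ⟨b, b.2, fun h => y1 (.inl (p.eq_one hy cy y4 (πb ▸ hP.1 h))), fun h => y1 (.inr ?_), hP (x := b * a * b⁻¹ * a⁻¹).2 ?_,
    fun u hu => ?_, fun u hu => ?_, ?_⟩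
  · have := p.eq_one (mul_mem hy p.fe.zK) (cy.mul_right p.cm) (k := 2) (by
      rw [yt.symm.mul_pow, y4, one_mul, show 2 ^ 2 = 2 * 2 from rfl, pow_mul, pow_two E.z, p.fe.zz, one_pow])
      (by rw [M.fr.mul cy p.cm, ← πa, ← πb, ← map_mul]; exact hP.1 h)
    rw [eq_inv_of_mul_eq_one_left this, p.fe.zi]
  · simp only [map_mul, map_inv, πa, πb]
    rw [← (M.fr.comm p.cm cy yt).eq]; group
  · have := y3 _ ⟨⟨u, (cU u hu).1⟩, hu, rfl⟩
    have c := M.fr.conj (M.cz ⟨u, (cU u hu).1⟩) cy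
    refine this.imp (fun q => hP (x := ⟨u, (cU u hu).1⟩ * b * (⟨u, (cU u hu).1⟩ : AA ρ τ)⁻¹ * b⁻¹).2 ?_)
      fun q => hP (x := ⟨u, (cU u hu).1⟩ * b * (⟨u, (cU u hu).1⟩ : AA ρ τ)⁻¹ * b⁻¹ * a).2 ?_ <;>
      simp only [map_mul, map_inv, πa, πb] <;> rw [q] at c <;> erw [← c]
    · exact mul_inv_cancel _
    · rw [M.fr.mul cy p.cm, ← (M.fr.comm p.cm cy yt).eq, mul_inv_cancel_right, p.ττ]
  · refine (M.cm (c := ⟨u, (cU u hu).1⟩ * ⟨u, (cU u hu).1⟩) hl).1 (comm_of_conj ?_).symm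
    rw [← f, map_mul, ← conj_conj']
    rcases y3 _ ⟨⟨u, (cU u hu).1⟩, hu, rfl⟩ with q | q <;> rw [q]
    · exact q
    · rw [← conj_mul, q, conj_of_comm (ct.2 (cU _ hu).2), mul_assoc, p.fe.zz, mul_one]
  · refine y2.symm.imp (fun q => hP (x := b * b * a).2 ?_) fun q => ⟨hP (x := b * b).2 ?_, fun c hc h => ct (c := ⟨c, hc⟩).1 ?_⟩
    · rw [map_mul, map_mul, πa, πb, ← M.fr.mul cy cy, q, p.ττ]
    · rw [map_mul, πb, ← M.fr.mul cy cy, q, M.fr.one]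
    rcases h with h | h
    · exact iv hy q (fun z => y1 (.inl z)) (f ▸ (M.cm hl).2 h)
    · refine iv (mul_mem hy p.fe.zK) (by rw [← pow_two, yt.symm.mul_pow, pow_two, pow_two, q, p.fe.zz, one_mul])
        (fun z => y1 (.inr (by rw [eq_inv_of_mul_eq_one_left z, p.fe.zi]))) ?_
      rw [f, e, mul_assoc, ← mul_assoc l, ← (M.fr.cLK (M.mL a) hl).eq, mul_assoc, ← mul_assoc, ← map_mul]
      exact (M.cm (mul_mem hl hk)).2 h

theorem sm [Finite G] [IsSimpleGroup G] (hG : ¬ IsMulCommutative G) : F.Sm := by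
  by_contra n
  obtain ⟨E, p⟩ := M.fr.exists_pr' hG
  obtain ⟨a, k, hk, e⟩ := M.dec p.cm
  have π : F.π (j a) = F.π E.z := by rw [e, M.fr.πLK (M.mL a) hk]
  refine noY O a.2 (fun h => p.τ1 (π ▸ M.T_iff.1 h)) (M.T_iff (a := a * a).2 (by
    rw [map_mul, M.fr.mul (M.cz a) (M.cz a), π, p.ττ])) fun h hh => ?_
  obtain ⟨g, rfl⟩ := p.cj
  have c := M.cz ⟨h, hh⟩
  have q : j ⟨h, hh⟩ * g * F.z * (j ⟨h, hh⟩ * g)⁻¹ = j ⟨h, hh⟩ * (F.cj g).z * (j ⟨h, hh⟩)⁻¹ := (conj_conj' _ _ _).symm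
  have p' := M.fr.pr (g := j ⟨h, hh⟩ * g) (q ▸ (c.mul_right p.cm).mul_right c.inv_right) fun z => p.ne (by
    rw [q, ← conj_of_comm c] at z
    simpa using z)
  refine M.ya p' (mt p'.sm_iff.1 n) (a := ⟨h, hh⟩ * a * (⟨h, hh⟩ : AA ρ τ)⁻¹) hk (q.trans ?_)
  rw [e, map_mul, map_mul, map_inv, mul_assoc (_ * _), (M.fr.cLK (M.mL _) hk).inv_left.eq]; group

theorem cent [Finite G] [IsSimpleGroup G] (hG : ¬ IsMulCommutative G) (b : centralizerPPrimeCore 2 F.z = ⊥) {g : G}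
    (c : Commute F.z g) : ∃ a, j a = g :=
  have s := M.sm hG
  M.rg.1 ((M.fr.cent_eq (fun _ => M.fr.K_le (M.fr.bal s b) s) fun _ _ => trivial).le (mem_c1.2 c.symm))

end Mo

end CF.StdZ.Bm
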