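import Cfsg.Agent.StdZ.BbL
import Cfsg.Agent.StdZ.BmC

/-! Frames for a standard subgroup of type `²E₆(2)` with centre of even order. -/

set_option autoImplicit false
set_option maxHeartbeats 400000
set_option maxRecDepth 100000

namespace CF.StdZ.Bc

open Cfsg Subgroup CF.Leech CF.Mon CF.Mon.G CF.Mon.L CF.Mon.Lab CF.Known.Mon MulAction CF.LX CF.Loc
open CF.Even Function Spor CF.MonU CF.Mon.O CF.BabU CF.StdZ.Bm CF.StdZ.Bb
open scoped commutatorElement Pointwise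

section
variable {G : Type*} [Group G] {a b g : G}

/-- elements of order a power of two -/
def P2 (g : G) : Prop := ∃ k, g ^ 2 ^ k = 1

theorem P2.sq (h : a * a = 1) : P2 a := ⟨1, by rwa [pow_one, pow_two]⟩

theorem P2.four (h : a ^ 4 = 1) : P2 a := ⟨2, h⟩

theorem P2.root (h : P2 (a * a)) : P2 a := h.elim fun k e => ⟨k + 1, by rwa [pow_succ', pow_mul, pow_two]⟩

theorem P2.cj (h : P2 a) (g : G) : P2 (g * a * g⁻¹) := h.imp fun k e => by rw [conj_pow, e]; simp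

theorem P2.inv (h : P2 a) : P2 a⁻¹ := h.imp fun k e => by rw [inv_pow, e, inv_one]

theorem P2.pow (h : P2 a) (n : ℕ) : P2 (a ^ n) := h.imp fun k e => by rw [← pow_mul, mul_comm, pow_mul, e, one_pow]

theorem P2.mul (h : P2 a) (k : P2 b) (c : Commute a b) : P2 (a * b) :=
  let ⟨m, e⟩ := h
  let ⟨n, f⟩ := k
  ⟨m + n, by rw [c.mul_pow, pow_add, pow_mul a, e, mul_comm (2 ^ m), pow_mul b, f]; simp⟩

theorem P2.odd (h : P2 a) (o : Odd (orderOf a)) : a = 1 := h.elim fun _ e => eq_one_of_odd o e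

theorem P2.odd' (h : P2 a) {m : ℕ} (o : Odd m) (e : a ^ m = 1) : a = 1 :=
  h.odd (o.of_dvd_nat (orderOf_dvd_of_pow_eq_one e))

theorem P2.map {H : Type*} [Group H] (f : G →* H) (h : P2 a) : P2 (f a) := h.imp fun k e => by rw [← map_pow, e, map_one]

theorem P2.inv_pow (h : P2 a) (n : a ≠ 1) : ∃ m : ℕ, orderOf (a ^ m) = 2 := by
  obtain ⟨k, e⟩ := h
  obtain ⟨m, x, y⟩ := exists_sq (t := 1) k e (by simpa using n)
  exact ⟨m, ord2 (by simpa using y) (by simpa using x)⟩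

theorem pg {S : Subgroup G} : IsPGroup 2 S ↔ ∀ x ∈ S, P2 x := isPGroup_iff_forall

theorem lift2 {L : Type*} [Group L] [Finite L] [Finite G] (hL : IsPGroup 2 L) (R : Subgroup (L × G))
    (tot : ∀ l, ∃ a, (l, a) ∈ R) (k : ∀ a, (1, a) ∈ R → a ^ 3 = 1) : ∃ j : L →* G, ∀ l, (l, j l) ∈ R := by
  have : Fact (Nat.Prime 2) := ⟨Nat.prime_two⟩
  have : Fact (Nat.Prime 3) := ⟨Nat.prime_three⟩
  let π := (MonoidHom.fst L G).comp R.subtype
  have s : Surjective π := fun l => (tot l).elim fun a h => ⟨⟨_, h⟩, rfl⟩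
  obtain ⟨m, a⟩ := hL.exists_card_eq
  obtain ⟨n, b⟩ := (isPGroup_iff_forall (p := 3) (Q := π.ker)).2 (fun x hx => ⟨1, Subtype.ext (Prod.ext
    (by rw [coe_pow, Prod.pow_fst, show x.1.1 = 1 from hx, one_pow]; rfl)
    (k _ (by rw [← show x.1.1 = 1 from hx]; exact x.2)))⟩) |>.exists_card_eq
  obtain ⟨H, hH⟩ := exists_right_complement'_of_coprime (N := π.ker) (by
    rw [index_ker, MonoidHom.range_eq_top.2 s, card_top, a, b]
    exact Nat.Coprime.pow _ _ (by decide))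
  have bj : Bijective (π.comp H.subtype) := ⟨(injective_iff_map_eq_one _).2 fun x e =>
    Subtype.ext (disjoint_def.1 hH.disjoint e x.2), fun l => by
      obtain ⟨x, rfl⟩ := s l
      obtain ⟨⟨y, z⟩, rfl, -⟩ := hH.existsUnique x
      exact ⟨z, by rw [map_mul, show π y = 1 from y.2, one_mul]; rfl⟩⟩
  let e := MulEquiv.ofBijective _ bj
  refine ⟨((MonoidHom.snd L G).comp (R.subtype.comp H.subtype)).comp e.symm.toMonoidHom, fun l => ?_⟩
  have := (e.symm l).1.2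
  rwa [← Prod.mk.eta (p := (e.symm l).1.1), show (e.symm l).1.1.1 = l from e.apply_symm_apply l] at this

end

variable {Γ G : Type*} [Group Γ] [Group G] {ρ : Gt →* Γ} {τ : Γ} {A : Subgroup G} {R : Subgroup (Γ × G)} {j : Lab → G}

/-- a frame -/
structure Fq (ρ : Gt →* Γ) (τ : Γ) (A : Subgroup G) (R : Subgroup (Γ × G)) (j : Lab → G) : Prop where
  O : Mon.G.Out ρ τ
  mem : ∀ {m a}, (m, a) ∈ R → m ∈ LB ρ τ ∧ a ∈ A
  tot : ∀ {m}, m ∈ LB ρ τ → ∃ a, (m, a) ∈ R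
  sur : ∀ {a}, a ∈ A → ∃ m, (m, a) ∈ R
  k1 : ∀ {m}, (m, 1) ∈ R → T ρ m
  k2 : ∀ {a}, (1, a) ∈ R ↔ a ∈ A ∧ a ∈ 𝐂(A) ∧ a ^ 3 = 1
  hj : Hm UU j
  jR : ∀ {p}, p ∈ UU → (ρ (pauli p), j p) ∈ R
  per : Group.IsPerfect A
  te : ∀ {s g}, s ∈ 𝐂(A) → orderOf s = 2 → g * s * g⁻¹ ∈ 𝐂(A) → g ∈ 𝐍(A)

theorem p4 (p : Lab) : p ^ 4 = 1 := pauli_injective (by simpa using (pm_pauli p).pow)

theorem nnv {v : Lab} (a : v ∈ C3.RAB) (n : v ≠ 1) : ∃ i, nn i • tA = v := by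
  rcases a with rfl | rfl | rfl | rfl
  exacts [absurd rfl n, ⟨0, wg_A nW_ok.2.2.1⟩, ⟨1, wg_A nW_ok.2.2.2.1⟩, ⟨4, wg_A nW_ok.2.2.2.2⟩]

theorem six0 : ∀ y : Multiplicative (ZMod 3 × ZMod 2 × ZMod 2), y ^ 6 = 1 := by decide

theorem pickV {P : Lab → Prop} (pm : ∀ {u v}, u ∈ C3.RAB → v ∈ C3.RAB → P u → P v → P (u * v)) (n : ¬ (P tA ∧ P tB)) :
    ∃ v ∈ C3.RAB, v ≠ 1 ∧ ∀ u ∈ C3.RAB, P u → u = 1 ∨ u = v := by
  have ab := mul_mem A_RAB B_RAB
  have x : P tA → P (tA * tB) → P tB := fun a b => by simpa only [← mul_assoc, tA_sq, one_mul] using pm A_RAB ab a b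
  have y : P (tA * tB) → P tB → P tA := fun a b => by simpa only [mul_assoc, RAB_sq B_RAB, mul_one] using pm ab B_RAB a b
  by_cases a : P tA
  · refine ⟨tA, A_RAB, by decide +kernel, ?_⟩
    rintro _ (rfl | rfl | rfl | rfl) h
    exacts [.inl rfl, .inr rfl, (n ⟨a, h⟩).elim, (n ⟨a, x a h⟩).elim]
  by_cases b : P tB
  · refine ⟨tB, B_RAB, by decide +kernel, ?_⟩
    rintro _ (rfl | rfl | rfl | rfl) h
    exacts [.inl rfl, (a h).elim, .inr rfl, (a (y h b)).elim]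
  · refine ⟨_, ab, by decide +kernel, ?_⟩
    rintro _ (rfl | rfl | rfl | rfl) h
    exacts [.inl rfl, (a h).elim, (b h).elim, .inr rfl]

theorem exists_fq [Finite G] (per : Group.IsPerfect A)
    (te : ∀ {s g}, s ∈ 𝐂(A) → orderOf s = 2 → g * s * g⁻¹ ∈ 𝐂(A) → g ∈ 𝐍(A)) (hZ : Even (Nat.card (center A)))
    {K : Type*} [Field K] [Fintype K] (hK : Fintype.card K = 4) (e : A ⧸ center A ≃* Lie.twistedE6 K 2) :
    ∃ (ρ : Gt →* Monster) (τ : Monster) (R : Subgroup (Monster × G)) (j : Lab → G), Fq ρ τ A R j := by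
  have : Fact (Nat.Prime 2) := ⟨Nat.prime_two⟩
  obtain ⟨ρ, τ, O⟩ := certs.outM
  obtain ⟨p, π, s, k⟩ := exists_pi O hK
  haveI : Finite (Lie.twistedE6 K 2) := Nat.finite_of_card_ne_zero (by rw [MonY.card_twistedE6 hK]; norm_num)
  obtain ⟨s2, k2⟩ := Recog.stem_center per.commutator_eq_top e
  generalize e.toMonoidHom.comp (QuotientGroup.mk' (center A)) = σ at s2 k2
  have six : ∀ x ∈ center A, x ^ 6 = 1 := fun x hx => by
    obtain ⟨f, fs⟩ := Schur.HasSchur.exists_surjective (Cfsg.Agent.S2109.result hK) (Schur.stem_cext s2)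
    obtain ⟨y, e⟩ := fs ⟨x, k2.ge hx, s2.2.2 (k2.ge hx)⟩
    simpa [e, Subtype.ext_iff] using congrArg f (six0 y)
  let X : Subgroup A :=
    { carrier := {x | x ∈ center A ∧ x ^ 3 = 1}
      one_mem' := ⟨one_mem _, one_pow _⟩
      mul_mem' := fun {a b} x y => ⟨mul_mem x.1 y.1, by
        rw [(show Commute a b from mem_center_iff.1 y.1 a).mul_pow, x.2, y.2, one_mul]⟩
      inv_mem' := fun x => ⟨inv_mem x.1, by rw [inv_pow, x.2, inv_one]⟩ }
  haveI : X.Normal := ⟨fun x hx g => by rwa [mem_center_iff.1 hx.1 g, mul_inv_cancel_right]⟩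
  let q := QuotientGroup.mk' X
  have qs : Surjective q := QuotientGroup.mk'_surjective X
  have q1 : ∀ {a}, q a = 1 ↔ a ∈ X := QuotientGroup.eq_one_iff _
  let σ' := QuotientGroup.lift X σ fun x hx => k2.ge hx.1
  have p2 : _root_.commutator (A ⧸ X) = ⊤ := by
    rw [_root_.commutator_def, ← map_top_of_surjective q qs, ← map_commutator, ← _root_.commutator_def, per.commutator_eq_top]
  obtain ⟨f, fs, fk⟩ := stem_quot (Cfsg.Agent.S2109.result hK) (σ₁ := π) (σ₂ := σ')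
    ⟨s, fun x hx => mem_center_iff.2 fun g => Subtype.ext (cV O g.2 ((k x).1 hx)), p ▸ le_top⟩
    ⟨fun y => (s2.1 y).elim fun a e => ⟨q a, e⟩, qs.forall.2 fun x hx => mem_center_iff.2 (qs.forall.2 fun g => by
      rw [← map_mul, mem_center_iff.1 (k2.le hx) g, map_mul]), p2 ▸ le_top⟩ p p2 (n := 2)
    (fun x hx => by
      obtain ⟨v, a, e⟩ := (k x).1 hx
      exact Subtype.ext (by rw [coe_pow, ← e, pow_two, ← map_mul, RAB_sq a, map_one]; rfl))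
    (qs.forall.2 fun x hx => by
      rw [← map_pow, q1]
      exact ⟨pow_mem (k2.le hx) 2, by rw [← pow_mul, six x (k2.le hx)]⟩)
    (idx_sq.trans (by
      rw [show π.ker = (EE ρ C3.RAB).subgroupOf _ from Subgroup.ext k, Nat.card_congr (subgroupOfEquivOfLe VL).toEquiv,
        L.Out.card_EE O, card_RAB]))
  let P : Lab → Prop := fun v => ∀ h, f ⟨ρ (pauli v), h⟩ = 1
  have fV : ∀ m, f m = 1 → m.1 ∈ EE ρ C3.RAB := fun m e => (k m).1 (by rw [← fk, e, map_one])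
  have pm : ∀ {u v}, u ∈ C3.RAB → v ∈ C3.RAB → P u → P v → P (u * v) := fun a b c d h => by
    have := map_mul f ⟨_, VL (pV a)⟩ ⟨_, VL (pV b)⟩
    rw [c, d, one_mul] at this
    exact (congrArg f (Subtype.ext (rho_pauli_mul _ _ _).symm)).trans this
  have nAB : ¬ (P tA ∧ P tB) := fun ⟨a, b⟩ => by
    obtain ⟨⟨y, hy⟩, o⟩ := exists_prime_orderOf_dvd_card' 2 (even_iff_two_dvd.1 hZ)
    obtain ⟨⟨m, l⟩, e⟩ := fs (q y)
    obtain ⟨v, c, rfl⟩ := (k ⟨m, l⟩).1 (by rw [← fk, e]; exact k2.ge hy)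
    have : P v := by
      rcases c with rfl | rfl | rfl | rfl
      exacts [fun h => by rw [← map_one f]; exact congrArg f (Subtype.ext (map_one (ρ.comp pauli))), a, b, pm A_RAB B_RAB a b]
    have := orderOf_dvd_of_pow_eq_one (q1.1 (e.symm.trans (this l))).2
    rw [← orderOf_coe] at o
    rw [o] at this
    exact absurd this (by decide)
  obtain ⟨v, hv, n, u⟩ := pickV pm nAB
  obtain ⟨i, rfl⟩ := nnv hv n
  have nx := nV O fun v => nn_RAB i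
  have xL := fun {m} => mem_normalizer_iff.1 (nL O nx) m
  have xA := rho_conj (ρ := ρ) (nn i) tA
  generalize ρ (nn i) = x at nx xL xA
  let c : LB ρ τ →* A ⧸ X := f.comp ((LB ρ τ).normalizerMonoidHom ⟨x, nL O nx⟩).toMonoidHom
  have cs : Surjective c := fs.comp (MulEquiv.surjective _)
  let R : Subgroup (Monster × G) := ((c.comp (.fst _ _)).eqLocus (q.comp (.snd _ _))).map ((LB ρ τ).subtype.prodMap A.subtype)
  have mR : ∀ {m a}, (m, a) ∈ R ↔ ∃ h k, c ⟨m, h⟩ = q ⟨a, k⟩ := ⟨by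
    rintro ⟨⟨m, a⟩, e, ⟨⟩⟩
    exact ⟨m.2, a.2, e⟩, fun ⟨h, k, e⟩ => ⟨(⟨_, h⟩, ⟨_, k⟩), e, rfl⟩⟩
  have tot : ∀ {m}, m ∈ LB ρ τ → ∃ a, (m, a) ∈ R := fun h => (qs (c ⟨_, h⟩)).elim fun a e => ⟨a, mR.2 ⟨h, a.2, e.symm⟩⟩
  have k2' : ∀ {a}, (1, a) ∈ R ↔ a ∈ A ∧ a ∈ 𝐂(A) ∧ a ^ 3 = 1 := fun {a} => mR.trans ⟨fun ⟨h, k, e⟩ =>
    have := q1.1 (e.symm.trans (map_one c))
    ⟨k, fun b l => congrArg Subtype.val (mem_center_iff.1 this.1 ⟨b, l⟩), congrArg Subtype.val this.2⟩,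
    fun ⟨k, l, e⟩ => ⟨one_mem _, k, (map_one c).trans (q1.2 ⟨mem_center_iff.2 fun b => Subtype.ext (l _ b.2),
      Subtype.ext e⟩).symm⟩⟩
  obtain ⟨j, hj⟩ := lift2 (L := UU) (fun p => ⟨2, Subtype.ext (p4 _)⟩)
    (R.comap (((ρ.comp pauli).comp UU.subtype).prodMap (MonoidHom.id G))) (fun p => tot (pL p.2))
    fun a h => (k2'.1 (by simpa using h)).2.2
  refine ⟨ρ, τ, R, fun p => if h : p ∈ UU then j ⟨p, h⟩ else 1, O, fun h => (mR.1 h).elim fun a b => ⟨a, b.1⟩, tot,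
    fun h => (cs (q ⟨_, h⟩)).elim fun m e => ⟨m, mR.2 ⟨m.2, h, e⟩⟩, fun {m} h => ?_, k2', fun a ha b hb => ?_,
    fun h => ?_, per, te⟩
  · obtain ⟨h, _, e⟩ := mR.1 h
    replace e : f ⟨_, xL.1 h⟩ = 1 := e.trans (map_one q)
    obtain ⟨w, a, b⟩ := fV _ e
    replace b : ρ (pauli w) = x * m * x⁻¹ := b
    rcases u w a fun _ => (congrArg f (Subtype.ext b)).trans e with rfl | rfl
    exacts [.inl (conj_eq_one_iff.1 (b.symm.trans (by simp))), .inr (by simpa using b.symm.trans xA.symm)]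
  · rw [dif_pos ha, dif_pos hb, dif_pos (mul_mem ha hb), ← map_mul]; rfl
  · rw [dif_pos h]; exact mem_comap.1 (hj ⟨_, h⟩)

end CF.StdZ.Bc
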