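import Cfsg.Agent.StdZ.BcA

/-! The action of the normaliser of the standard subgroup. -/

set_option autoImplicit false
set_option maxHeartbeats 400000
set_option maxRecDepth 100000

namespace CF.StdZ.Bc

open Cfsg Subgroup CF.Leech CF.Mon CF.Mon.G CF.Mon.L CF.Mon.Lab CF.Known.Mon MulAction CF.LX CF.Loc
open CF.Even Function Spor CF.MonU CF.Mon.O CF.BabU CF.StdZ.Bm CF.StdZ.Bb
open scoped commutatorElement Pointwise

variable {Γ G : Type*} [Group Γ] [Group G] {ρ : Gt →* Γ} {τ : Γ} {A : Subgroup G} {R : Subgroup (Γ × G)} {j : Lab → G}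

theorem act {x m : Γ} {g a : G} (h : (x, g) ∈ 𝐍(R)) (k : (m, a) ∈ R) : (x * m * x⁻¹, g * a * g⁻¹) ∈ R :=
  conj_mem_of_mem_normalizer h k

theorem act' {x m : Γ} {g a : G} (h : (x, g) ∈ 𝐍(R)) (k : (m, a) ∈ R) : (x⁻¹ * m * x, g⁻¹ * a * g) ∈ R :=
  conj_mem_of_mem_normalizer' h k

theorem mul' {S : Subgroup (Γ × G)} {x y : Γ} {g k : G} (a : (x, g) ∈ S) (b : (y, k) ∈ S) : (x * y, g * k) ∈ S := mul_mem a b

theorem inv' {S : Subgroup (Γ × G)} {x : Γ} {g : G} (a : (x, g) ∈ S) : (x⁻¹, g⁻¹) ∈ S := inv_mem a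

theorem mcj {m : Γ} {a g : G} : (m, a) ∈ cj[((1 : Γ), g)] R ↔ (m, g⁻¹ * a * g) ∈ R :=
  mem_cj.trans (by simp)

theorem cK {k a : G} (h : k ∈ 𝐂(A)) (b : a ∈ A) : Commute a k := h a b

theorem KN : 𝐂(A) ≤ 𝐍(A) := centralizer_le_normalizer _

theorem nK {g k : G} (h : g ∈ 𝐍(A)) (a : k ∈ 𝐂(A)) : g * k * g⁻¹ ∈ 𝐂(A) :=
  conj_mem_of_mem_normalizer (normalizer_le_normalizer_centralizer _ h) a

theorem mIn {g : G} : g ∈ A ⊔ 𝐂(A) ↔ ∃ a ∈ A, ∃ k ∈ 𝐂(A), a * k = g := mem_sup_of_le_normalizer KN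

theorem InN : A ⊔ 𝐂(A) ≤ 𝐍(A) := sup_le le_normalizer KN

theorem nIn {g x : G} (h : g ∈ 𝐍(A)) (a : x ∈ A ⊔ 𝐂(A)) : g * x * g⁻¹ ∈ A ⊔ 𝐂(A) :=
  conj_mem_of_mem_normalizer (le_normalizer_sup le_rfl (normalizer_le_normalizer_centralizer _) h) a

theorem cmc {a b u v : G} (h1 : Commute a u) (h2 : Commute b u) (h3 : Commute v u) (h4 : Commute a v) (h5 : Commute b v) :
    u * a * (v * b) * (u * a)⁻¹ * (v * b)⁻¹ = a * b * a⁻¹ * b⁻¹ := by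
  rw [← conj_conj', conj_of_comm ((h1.mul_left (h3.mul_left h2)).mul_left h1.inv_left), conj_mul_conj,
    conj_of_comm h4.symm, ← conj_of_comm (((h4.mul_left h5).mul_left h4.inv_left).mul_left h5.inv_left)]
  group

theorem VV {x : Γ} (h : x ∈ EE ρ C3.RAB) : x * x = 1 := by
  obtain ⟨v, a, rfl⟩ := h
  rw [← map_mul, RAB_sq a, map_one]

theorem smul_of {γ : Gt} (O : Mon.G.Out ρ τ) (h : ρ γ ∈ 𝐍(EE ρ C3.RAB)) {v : Lab} (a : v ∈ C3.RAB) : γ • v ∈ C3.RAB := by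
  obtain ⟨u, b, e⟩ := conj_mem_of_mem_normalizer h (pV a)
  rwa [← O.inj.1 (e.trans (rho_conj _ _) : ρ (pauli u) = _)]

theorem sUU {γ : Gt} (O : Mon.G.Out ρ τ) (h : ρ γ ∈ 𝐍(EE ρ C3.RAB)) {p : Lab} (a : p ∈ UU) : γ • p ∈ UU := by
  have := conj_mem_of_mem_normalizer (nL O h) (pL a)
  rw [rho_conj] at this
  exact pauli_PB.1 (PB_L O this)

theorem twoV (O : Mon.G.Out ρ τ) {u : Lab} (hu : u ∈ C3.RAB) (u1 : u ≠ 1) {x y : Γ} (a : x ∈ 𝐍(EE ρ C3.RAB))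
    (b : y ∈ 𝐍(EE ρ C3.RAB)) (c : Commute (ρ (pauli u)) x) (d : Commute (ρ (pauli u)) y) (e : x ∉ LB ρ τ) (f : y ∉ LB ρ τ) :
    x * y ∈ LB ρ τ := by
  obtain ⟨i, k⟩ := nnv hu u1
  have nx := Bb.nV O fun v => nn_RAB i
  rw [← k, ← rho_conj] at c d
  generalize ρ (nn i) = n at c d nx
  have xL := fun {m} => mem_normalizer_iff''.1 (nL O nx) m
  have H : ∀ {x}, x ∈ 𝐍(EE ρ C3.RAB) → Commute (n * ρ (pauli tA) * n⁻¹) x → n⁻¹ * x * n ∈ HB ρ τ := fun l m =>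
    ⟨O.cA.le (mem_c1.2 (comm_cj.1 m).symm), (𝐍(EE ρ C3.RAB)).mul_mem (mul_mem (inv_mem nx) l) nx⟩
  refine xL.2 ?_
  convert HB_two O (H a c) (H b d) (mt xL.2 e) (mt xL.2 f) using 1; group

namespace Fq

variable (h : Fq ρ τ A R j)
include h

theorem cj (g : G) : Fq ρ τ (cj[g] A) (cj[((1 : Γ), g)] R) fun p => g * j p * g⁻¹ where
  O := h.O
  mem := fun k => (h.mem (mcj.1 k)).imp_right mem_cj.2
  tot := fun k => (h.tot k).elim fun a e => ⟨g * a * g⁻¹, mcj.2 (by simpa [mul_assoc] using e)⟩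
  sur := fun k => (h.sur (mem_cj.1 k)).imp fun _ => mcj.2
  k1 := fun k => h.k1 (by simpa using mcj.1 k)
  k2 := fun {a} => by
    rw [mcj, h.k2, ← cj_centralizer, mem_cj, mem_cj, ← inv_inv g, inv_inv g⁻¹, conj_pow, conj_eq_one_iff]
  hj := fun a ha b hb => by beta_reduce; rw [h.hj a ha b hb, conj_mul_conj]
  jR := fun k => mcj.2 (by simpa [mul_assoc] using h.jR k)
  per := have := h.per; Group.IsPerfect.ofSurjective (f := (MulAut.conj g).toMonoidHom.subgroupMap A)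
    (MonoidHom.subgroupMap_surjective _ _)
  te := fun {s x} a b c => by
    rw [← cj_centralizer, mem_cj] at a c
    rw [← cj_normalizer, mem_cj]
    exact h.te a (by simpa [b] using ord_cj g⁻¹ s) (by simpa [mul_assoc] using c)

theorem jA {p : Lab} (a : p ∈ UU) : j p ∈ A := (h.mem (h.jR a)).2

theorem j4 {p : Lab} (a : p ∈ UU) : j p ^ 4 = 1 := by
  have := congrArg (MonoidHom.mk' (fun p : UU => j p) fun a b => h.hj _ a.2 _ b.2) (show (⟨p, a⟩ : UU) ^ 4 = 1 from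
    Subtype.ext (p4 p))
  rwa [map_pow, map_one] at this

theorem j2 {p : Lab} (a : p ∈ UU) : P2 (j p) := .four (h.j4 a)

theorem uniq {m : Γ} {a b : G} (x : (m, a) ∈ R) (y : (m, b) ∈ R) (u : P2 a) (v : P2 b) : a = b := by
  obtain ⟨-, c, d⟩ := h.k2.1 (mul_inv_cancel m ▸ mul' x (inv' y))
  exact mul_inv_eq_one.1 ((u.mul v.inv (by simpa using ((cK c (h.mem y).2).mul_right rfl).symm.inv_right)).odd' (by decide) d)

theorem pinj {p q : Lab} (a : p ∈ UU) (b : q ∈ UU) (e : j p = j q) : p = q ∨ p = tA * q := by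
  have := mul' (h.jR a) (inv' (h.jR b))
  rw [e, mul_inv_cancel, ← map_inv, ← map_inv, rho_pauli_mul] at this
  simpa only [mul_inv_eq_one, mul_inv_eq_iff_eq_mul (c := tA)] using (T_pauli h.O).1 (h.k1 this)

theorem jS {p q : Lab} (a : p ∈ UU) (b : q ∈ UU) (e : j p = j q) : Mon.G.lam p + Mon.G.lam q ∈ S1 tA := S1_mul (h.pinj a b e)

theorem cenK {g : G} (n : g ∈ 𝐍(A)) (c : ∀ a ∈ A, a⁻¹ * (g * a * g⁻¹) ∈ 𝐂(A)) : g ∈ 𝐂(A) := fun _ a =>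
  comm_of_perfect h.per (fun l x m y => (cK (c l x) y).symm) (fun _ => conj_mem_of_mem_normalizer n) a

variable [Finite G]

theorem mkN {x : Γ} {g : G} (c : ∀ m a, (m, a) ∈ R → (x * m * x⁻¹, g * a * g⁻¹) ∈ R) : (x, g) ∈ 𝐍(R) :=
  have := h.O.finite
  mem_norm_of fun y => c y.1 y.2

theorem nA {x : Γ} {g : G} (c : (x, g) ∈ 𝐍(R)) : g ∈ 𝐍(A) :=
  mem_norm_of fun _ a => (h.sur a).elim fun _ e => (h.mem (act c e)).2

omit [Finite G] in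
theorem nV {x : Γ} {g : G} (c : (x, g) ∈ 𝐍(R)) : x ∈ 𝐍(EE ρ C3.RAB) :=
  have := h.O.finite
  mem_norm_of fun v a => cenV h.O fun m b => (h.tot b).elim fun _ e => by
    rw [conj_of_comm (comm_cj.2 (cV h.O (h.mem (act' c e)).1 a).symm).symm, mul_inv_cancel]; exact one_mem _

theorem ofK {g : G} (c : g ∈ 𝐂(A)) : ((1 : Γ), g) ∈ 𝐍(R) :=
  h.mkN fun m a e => by simpa [conj_of_comm (cK c (h.mem e).2)] using e

theorem ofV {x : Γ} (c : x ∈ EE ρ C3.RAB) : (x, (1 : G)) ∈ 𝐍(R) :=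
  h.mkN fun m a e => by simpa [conj_of_comm (cV h.O (h.mem e).1 c)] using e

theorem kV {x : Γ} {g : G} (c : (x, g) ∈ 𝐍(R)) : x ∈ EE ρ C3.RAB ↔ g ∈ 𝐂(A) := by
  refine ⟨fun v => h.cenK (h.nA c) fun a b => (h.sur b).elim fun m e => ?_, fun k => cenV h.O fun m b =>
    (h.tot b).elim fun a e => T_V (h.k1 ?_)⟩
  · have := mul' (inv' e) (act c e)
    rw [conj_of_comm (cV h.O (h.mem e).1 v), inv_mul_cancel] at this
    exact (h.k2.1 this).2.1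
  · simpa [conj_of_comm (cK k (h.mem e).2)] using mul' (act c e) (inv' e)

theorem inL {x : Γ} {g : G} (c : (x, g) ∈ 𝐍(R)) : x ∈ LB ρ τ ↔ g ∈ A ⊔ 𝐂(A) := by
  refine ⟨fun l => (h.tot l).elim fun a e => mIn.2 ⟨a, (h.mem e).2, _, (h.kV (mul' (inv' (le_normalizer e)) c)).1
    (by simp), mul_inv_cancel_left _ _⟩, fun l => ?_⟩
  obtain ⟨a, b, k, d, rfl⟩ := mIn.1 l
  obtain ⟨m, e⟩ := h.sur b
  exact (mul_mem_cancel_left (inv_mem (h.mem e).1)).1 (VL ((h.kV (mul' (inv' (le_normalizer e)) c)).2 (by simpa using d)))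

theorem jK {v : Lab} (a : v ∈ C3.RAB) : j v ∈ 𝐂(A) := (h.kV (le_normalizer (h.jR (RAB_UU a)))).1 (pV a)

theorem zV {c : G} (a : c ∈ A) (b : c ∈ 𝐂(A)) (d : P2 c) : ∃ v ∈ C3.RAB, j v = c := by
  obtain ⟨m, e⟩ := h.sur a
  obtain ⟨v, k, rfl⟩ := (h.kV (le_normalizer e)).2 b
  exact ⟨v, k, h.uniq (h.jR (RAB_UU k)) e (h.j2 (RAB_UU k)) d⟩

theorem six {c : G} (a : c ∈ A) (b : c ∈ 𝐂(A)) : c ^ 6 = 1 := by
  obtain ⟨m, e⟩ := h.sur a
  have := mul' e e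
  rw [VV ((h.kV (le_normalizer e)).2 b)] at this
  rw [show 6 = 2 * 3 by rfl, pow_mul, pow_two, (h.k2.1 this).2.2]

omit [Finite G] in
theorem aj {x : Γ} {g : G} (c : (x, g) ∈ 𝐍(R)) {p q : Lab} (a : p ∈ UU) (e : x * ρ (pauli p) * x⁻¹ = ρ (pauli q)) :
    g * j p * g⁻¹ = j q := by
  have := act c (h.jR a)
  rw [e] at this
  have b := pauli_PB.1 (PB_L h.O (h.mem this).1)
  exact h.uniq this (h.jR b) ((h.j2 a).cj g) (h.j2 b)

omit [Finite G] in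
theorem ac {γ : Gt} {g : G} (c : (ρ γ, g) ∈ 𝐍(R)) {p : Lab} (a : p ∈ UU) : g * j p * g⁻¹ = j (γ • p) :=
  h.aj c a (rho_conj _ _)

theorem ex {g : G} (n : g ∈ 𝐍(A)) : ∃ d ∈ LB ρ τ, ∃ i, (d * ρ (nn i), g) ∈ 𝐍(R) := by
  letI := Fintype.ofFinite (GaloisField 2 2)
  have O := h.O
  have c4 : Fintype.card (GaloisField 2 2) = 2 ^ 2 := by rw [← Nat.card_eq_fintype_card, GaloisField.card 2 2 two_ne_zero]
  obtain ⟨p, π, s, k⟩ := exists_pi O c4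
  let S : Subgroup (Γ × Γ) :=
    { carrier := {y | ∃ a, (y.1, a) ∈ R ∧ (y.2, g * a * g⁻¹) ∈ R}
      one_mem' := ⟨1, one_mem _, by simpa using id (α := ((1 : Γ), (1 : G)) ∈ R) (one_mem R)⟩
      mul_mem' := fun ⟨a, b, c⟩ ⟨d, e, f⟩ => ⟨a * d, mul' b e, conj_mul_conj g a d ▸ mul' c f⟩
      inv_mem' := fun ⟨a, b, c⟩ => ⟨a⁻¹, inv' b, conj_inv (a := a) (b := g) ▸ inv' c⟩ }
  have nx := fun i => Bb.nV O fun v => nn_RAB i
  have tot : ∀ {m a}, (m, a) ∈ R → ∃ m', (m', g * a * g⁻¹) ∈ R := fun e => h.sur (conj_mem_of_mem_normalizer n (h.mem e).2)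
  obtain ⟨i, d, hd, e⟩ := real (R := S) s k (ι := Fin 6) (Cfsg.Agent.S2130.result 2 1 c4 le_rfl) (fun i => nL O (nx i)) nx
    (fun i j d hd e => by
      have v := cenV O (x := (ρ (nn i))⁻¹ * (d * ρ (nn j))) fun m a => by
        convert (mem_normalizer_iff''.1 (nx i) _).1 (inv_mem (e m a)) using 1; group
      have f : ∀ u ∈ C3.RAB, nn i • u = nn j • u := fun u a => O.inj.1 (by
        rw [← conj_of_comm (cR O hd (nn_RAB j a)).symm, ← rho_conj, ← rho_conj, conj_conj',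
          ← mul_inv_cancel_left (ρ (nn i)) (d * _), ← conj_conj', conj_of_comm (cR O (VL v) a).symm])
      exact nn_inj (f _ A_RAB) (f _ B_RAB))
    (fun _ _ ⟨_, a, b⟩ => ⟨(h.mem a).1, (h.mem b).1⟩)
    (fun m a => (h.tot a).elim fun b c => (tot c).imp fun _ l => ⟨b, c, l⟩)
    (fun m a => (h.tot a).elim fun b c => (h.sur (conj_mem_of_mem_normalizer' n (h.mem c).2)).imp fun _ l =>
      ⟨_, l, by simpa [mul_assoc] using c⟩)
    fun a b ⟨c, l, m⟩ => by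
      rw [h.kV (le_normalizer l), h.kV (le_normalizer m)]
      exact mem_normalizer_iff.1 (normalizer_le_normalizer_centralizer _ n) c
  refine ⟨d, hd, i, h.mkN fun m a l => ?_⟩
  have xL := fun {m} => (mem_normalizer_iff.1 (nL O (mul_mem (LN O hd) (nx i))) m).1
  generalize d * ρ (nn i) = x at e xL
  have X : ∀ {m a b}, (m, a) ∈ R → (m, b) ∈ R → (x * m * x⁻¹, g * a * g⁻¹) ∈ R → (x * m * x⁻¹, g * b * g⁻¹) ∈ R :=
    fun {m a b} u v w => by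
      obtain ⟨c1, c2, c3⟩ := h.k2.1 (inv_mul_cancel m ▸ mul' (inv' u) v)
      simpa [mul_assoc] using mul' w (h.k2.2 ⟨conj_mem_of_mem_normalizer n c1, nK n c2, by rw [conj_pow, c3]; simp⟩)
  let D : Subgroup (LB ρ τ) :=
    { carrier := {m | ∃ a, (m.1, a) ∈ R ∧ (x * m * x⁻¹, g * a * g⁻¹) ∈ R}
      one_mem' := ⟨1, one_mem _, by simpa using id (α := ((1 : Γ), (1 : G)) ∈ R) (one_mem R)⟩
      mul_mem' := fun ⟨a, b, c⟩ ⟨d, e, f⟩ => ⟨a * d, mul' b e, by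
        rw [coe_mul, conj_mul_conj, conj_mul_conj g]; exact mul' c f⟩
      inv_mem' := fun ⟨a, b, c⟩ => ⟨a⁻¹, inv' b, by rw [coe_inv, ← conj_inv, ← conj_inv]; exact inv' c⟩ }
  refine ((p.ge.trans (commutator_le.2 fun m _ l _ => ?_ : _ ≤ D)) (mem_top ⟨m, (h.mem l).1⟩)).elim fun b u => X u.1 l u.2
  obtain ⟨a, u⟩ := h.tot m.2
  obtain ⟨b, v⟩ := h.tot l.2
  obtain ⟨m', u'⟩ := tot u
  obtain ⟨l', v'⟩ := tot v
  refine ⟨⁅a, b⁆, mul' (mul' (mul' u v) (inv' u)) (inv' v), ?_⟩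
  have := mul' (mul' (mul' u' v') (inv' u')) (inv' v')
  have e1 := e _ _ ⟨a, u, u'⟩
  have e2 := e _ _ ⟨b, v, v'⟩
  convert this using 2
  · rw [← inv_mul_cancel_right m' (x * m * x⁻¹), ← inv_mul_cancel_right l' (x * l * x⁻¹),
      cmc (cV O (xL m.2) e1) (cV O (xL l.2) e1) (cV O (VL e2) e1) (cV O (xL m.2) e2) (cV O (xL l.2) e2)]
    simp only [commutatorElement_def, coe_mul, coe_inv]; group
  · simp only [commutatorElement_def]; group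

theorem ex' {g : G} (n : g ∈ 𝐍(A)) : ∃ x, (x, g) ∈ 𝐍(R) := let ⟨_, _, _, e⟩ := h.ex n; ⟨_, e⟩

omit [Finite G] in
theorem cp {p q : Lab} (a : p ∈ UU) (b : q ∈ UU) : j p * j q * (j p)⁻¹ = j (xp (bf p q) * q) :=
  (h.ac (le_normalizer (h.jR a)) b).trans (by rw [pauli_smul'])

omit [Finite G] in
theorem cm {p q : Lab} (a : p ∈ UU) (b : q ∈ UU) : Commute (j q) (j p) ↔ bf p q = 0 :=
  ⟨fun c => xp_A (h.pinj (mul_mem (xp_UU _) b) b ((h.cp a b).symm.trans (conj_of_comm c))),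
    fun e => comm_of_conj (by rw [h.cp a b, e, xp_zero, one_mul])⟩

omit [Finite G] in
theorem vv {v : Lab} (a : v ∈ UU) (b : v * v = 1) : j v * j v = 1 := by rw [← h.hj _ a _ a, b, h.hj.one]

omit [Finite G] in
theorem ww : j xc * j xc = 1 := h.vv xc_UU xc_mul_xc

omit [Finite G] in
theorem zz : j tB * j tB = 1 := h.vv B_UU (RAB_sq B_RAB)

omit [Finite G] in
theorem z1 : j tB ≠ 1 := fun e => absurd (h.pinj B_UU (one_mem _) (e.trans h.hj.one.symm)) (by decide +kernel)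

theorem jK' {p : Lab} (a : p ∈ UU) (b : j p ∈ 𝐂(A)) : p ∈ C3.RAB := by
  obtain ⟨v, c, e⟩ := (h.kV (le_normalizer (h.jR a))).2 b
  rwa [← h.O.inj.1 (e : ρ (pauli v) = _)]

theorem wK : j xc ∉ 𝐂(A) := fun a => Rl.xn (h.jK' xc_UU a)

omit [Finite G] in
theorem cN {s g : G} (a : s ∈ 𝐂(A)) (b : s * s = 1) (n : s ≠ 1) (c : Commute s g) : g ∈ 𝐍(A) :=
  h.te a (ord2 b n) (by rwa [conj_of_comm c])

theorem zN {g : G} (c : Commute (j tB) g) : g ∈ 𝐍(A) := h.cN (h.jK B_RAB) h.zz h.z1 c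

omit [Finite G] in
theorem cx {x : Γ} {g : G} (c : (x, g) ∈ 𝐍(R)) : Commute (j xc) g ↔ Commute (ρ (pauli xc)) x := by
  refine ⟨fun k => ?_, fun k => comm_of_conj (h.aj c xc_UU (conj_of_comm k))⟩
  have := mul' (act c (h.jR xc_UU)) (inv' (h.jR xc_UU))
  rw [conj_of_comm k, mul_inv_cancel] at this
  have := h.k1 this
  rw [T, mul_inv_eq_one, mul_inv_eq_iff_eq_mul (c := ρ (pauli tA)), rho_pauli_mul] at this
  exact comm_of_conj (this.resolve_right fun e => h.O.not_conj_short (short_tA.congr (by decide +kernel)) (isConj_iff.2 ⟨x, e⟩))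

theorem cw {g : G} (n : g ∈ 𝐍(A)) (c : Commute (j xc) g) : ∃ γ, (ρ γ, g) ∈ 𝐍(R) := by
  obtain ⟨x, e⟩ := h.ex' n
  obtain ⟨γ, k⟩ := Out.of_comm_x h.O ((h.cx e).1 c).symm
  exact ⟨γ, k ▸ e⟩

theorem pmq {γ : Gt} {g : G} (c : (ρ γ, g) ∈ 𝐍(R)) (p : PM γ) : ∃ q ∈ UU, ∃ k ∈ 𝐂(A), g = j q * k := by
  obtain ⟨q, e⟩ := of_pm h.O p
  rw [← e] at c
  have f : ∀ {v}, v ∈ C3.RAB → pauli q • v = v := fun a => RAB_eq (smul_of h.O (h.nV c) a) a (pm_eqv (pm_pauli q) _)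
  have u := pauli_PB.1 ⟨f A_RAB, f B_RAB⟩
  exact ⟨q, u, _, (h.kV (mul' (inv' (le_normalizer (h.jR u))) c)).1 (by simp), (mul_inv_cancel_left _ _).symm⟩

theorem pmU {γ : Gt} {g : G} (c : (ρ γ, g) ∈ 𝐍(R)) (e : ∀ p ∈ UU, Commute (j p) g) : PM γ :=
  pm_of_U fun p a => h.jS (sUU h.O (h.nV c) a) a (by rw [← h.ac c a, conj_of_comm (e p a)])

theorem jE {q : Lab} (a : Mon.G.lam q ∈ E2) : j q ∈ 𝐂(A) ∨ j xc * j q ∈ 𝐂(A) := by
  obtain ⟨s, v, k, rfl⟩ := cases_E2 a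
  rw [h.hj _ (xp_UU s) _ (RAB_UU k)]
  rcases z2_cases s with rfl | rfl
  exacts [.inl (by simpa [h.hj.one] using h.jK k), .inr (by rw [xp_one, ← mul_assoc, h.ww, one_mul]; exact h.jK k)]

theorem cq {g : G} (e : ∀ p ∈ UU, Commute (j p) g) : g ∈ 𝐂(A) ∨ j xc * g ∈ 𝐂(A) := by
  obtain ⟨γ, c⟩ := h.cw (h.zN (e _ B_UU)) (e _ xc_UU)
  obtain ⟨q, a, k, b, rfl⟩ := h.pmq c (h.pmU c e)
  exact (h.jE (mem_E2_of fun p l => bf_comm _ _ ▸ (h.cm a l).1 (by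
    simpa using (e p l).mul_right (cK b (h.jA l)).inv_right))).imp (mul_mem · b) fun d => mul_assoc _ _ k ▸ mul_mem d b

theorem two {s g k : G} (a : s ∈ A) (b : s ∈ 𝐂(A)) (ss : s * s = 1) (n : s ≠ 1) (c : Commute s g) (d : Commute s k)
    (e : g ∉ A ⊔ 𝐂(A)) (f : k ∉ A ⊔ 𝐂(A)) : g * k ∈ A ⊔ 𝐂(A) := by
  have O := h.O
  obtain ⟨v, hv, rfl⟩ := h.zV a b (.sq ss)
  obtain ⟨u, hu, u1, key⟩ : ∃ u ∈ C3.RAB, u ≠ 1 ∧ ∀ {x g}, (x, g) ∈ 𝐍(R) → Commute (j v) g → Commute (ρ (pauli u)) x := by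
    by_cases t : (ρ (pauli tA), (1 : G)) ∈ R
    · exact ⟨tA, A_RAB, by decide +kernel, fun l _ => comm_of_conj ((h.k1 (by simpa using act l t)).resolve_left
        fun e => O.t_ne (conj_eq_one_iff.1 e))⟩
    · refine ⟨v, hv, fun e => n (e ▸ h.hj.one), fun l m => comm_of_conj (mul_inv_eq_one.1 ?_)⟩
      have := mul' (act l (h.jR (RAB_UU hv))) (inv' (h.jR (RAB_UU hv)))
      rw [conj_of_comm m, mul_inv_cancel] at this
      exact (h.k1 this).resolve_right fun e => t (e ▸ this)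
  obtain ⟨x', x⟩ := h.ex' (h.cN b ss n c)
  obtain ⟨y', y⟩ := h.ex' (h.cN b ss n d)
  exact (h.inL (mul' x y)).1 (twoV O hu u1 (h.nV x) (h.nV y) (key x c) (key y d) (mt (h.inL x).1 e) (mt (h.inL y).1 f))

theorem fac {g : G} (n : g ∈ 𝐍(A)) : ∃ m a, (m, a) ∈ R ∧ Commute (j xc) (a⁻¹ * g) := by
  obtain ⟨d, b, i, e⟩ := h.ex n
  obtain ⟨a, c⟩ := h.tot b
  exact ⟨d, a, c, (h.cx (mul' (inv' (le_normalizer c)) e)).2 (by simpa using id (α := Commute _ _) (rho_comm_iff' (nn i)).symm)⟩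

theorem odd : Odd ((𝐂₁(j xc)).relIndex 𝐍(A)) := by
  let f : R →* 𝐍(A) := ((MonoidHom.snd _ _).comp R.subtype).codRestrict _ fun y => le_normalizer (h.mem y.2).2
  let e : R →* LB ρ τ := ((MonoidHom.fst _ _).comp R.subtype).codRestrict _ fun y => (h.mem y.2).1
  rw [relIndex, ← idx_comap f, show ((𝐂₁(j xc)).subgroupOf 𝐍(A)).comap f = ((PB.map ρ).subgroupOf _).comap e from ?_, idx_comap e]
  · exact (congrArg Odd h.O.iP).mpr (by decide)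
  · exact fun m => (h.tot m.2).elim fun a k => ⟨⟨_, k⟩, (inv_mul_cancel m).symm ▸ one_mem _⟩
  · ext ⟨⟨m, a⟩, k⟩
    refine (mem_c1.trans ⟨fun c => ?_, fun ⟨γ, _, e⟩ => ((h.cx (le_normalizer k)).2 ?_).symm⟩ : a ∈ 𝐂₁(j xc) ↔ m ∈ PB.map ρ)
    · obtain ⟨γ, rfl⟩ := Out.of_comm_x h.O ((h.cx (le_normalizer k)).1 c.symm).symm
      exact ⟨γ, PB_L h.O (h.mem k).1, rfl⟩
    · exact e ▸ (rho_comm_iff' γ).symm
  · exact fun g => let ⟨_, _, k, c⟩ := h.fac g.2; ⟨⟨_, k⟩, mem_c1.2 c.symm⟩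

theorem syl {S : Subgroup G} (a : IsPGroup 2 S) (b : S ≤ 𝐍(A)) : ∃ c ∈ A, ∀ s ∈ S, Commute (c * j xc * c⁻¹) s := by
  obtain ⟨⟨g, n⟩, k⟩ := O.exists_conj_cent (isPGroup_subgroupOf a (L := 𝐍(A))) h.odd
  obtain ⟨m, c, d, e⟩ := h.fac n
  refine ⟨c, (h.mem d).2, fun s l => ?_⟩
  rw [← conj_of_comm e, conj_conj', mul_inv_cancel_left]
  exact comm_cj.2 (mem_c1.1 (k ⟨s, b l⟩ l)).symm

theorem into {a : G} (b : a ∈ A) (c : P2 a) (d : a * a ∈ 𝐂(A)) (n : a ∉ 𝐂(A)) : ∃ k ∈ A, ∃ p ∈ UU, k * a * k⁻¹ = j p := by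
  obtain ⟨m, e⟩ := h.sur b
  obtain ⟨k, l, r, u, v, f, q⟩ := intoL h.O (h.mem e).1 ((h.kV (le_normalizer (mul' e e))).2 d)
    (mt (h.kV (le_normalizer e)).1 n)
  have o : r * v ∈ UU := mul_mem (by
    rcases u with rfl | rfl | rfl
    exacts [xc_UU, m34_UU, t5_UU]) (RAB_UU f)
  obtain ⟨g, s⟩ := h.tot l
  exact ⟨g, (h.mem s).2, _, o, h.uniq (q ▸ act (le_normalizer s) e) (h.jR o) (c.cj g) (h.j2 o)⟩

end Fq

end CF.StdZ.Bc
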