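import Cfsg.Agent.StdZ.BcB

/-! Two-subgroups of a second centraliser normalising the standard subgroup. -/

set_option autoImplicit false
set_option maxHeartbeats 400000
set_option maxRecDepth 100000

namespace CF.StdZ.Bc

open Cfsg Subgroup CF.Leech CF.Mon CF.Mon.G CF.Mon.L CF.Mon.Lab CF.Known.Mon MulAction CF.LX CF.Loc
open CF.Even Function Spor CF.MonU CF.Mon.O CF.BabU CF.StdZ.Bm CF.StdZ.Bb
open scoped commutatorElement Pointwise

variable {Γ G : Type*} [Group Γ] [Group G] {ρ : Gt →* Γ} {τ : Γ} {A K : Subgroup G} {R : Subgroup (Γ × G)} {j : Lab → G}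

/-- the class of the commutator of a word -/
noncomputable def dn (w : List ℕ) (x : ℕ) : ℕ := Nat.xor (Mon.evL 1 (w.map el) x) x

theorem lm_dn (w : List ℕ) {p : Lab} {x : ℕ} (e : Mon.G.lam p = Mon.G.lam (lab x)) :
    Mon.G.lam (lm (wg w) p) = Mon.G.lam (lab (dn w x)) := by
  rw [lam_lm, kp, lam_smul, e, ← lam_smul, wg_smul, dn, lam_lab_xor, ev]

theorem trip_ok : ∀ k < 24, lab (dn [5] (dn [8] (dn [10] (2 ^ k)))) ≈ₗ if bf (lab (2 ^ k)) Y0 = 0 then 1 else Y0 := by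
  decide +kernel

theorem trip (p : Lab) : Mon.G.lam (lm (wg [5]) (lm (wg [8]) (lm (wg [10]) p))) = bf p Y0 • Mon.G.lam Y0 := by
  have b : ∀ k < 24, Mon.G.lam (lm (wg [5]) (lm (wg [8]) (lm (wg [10]) (lab (2 ^ k))))) = bf (lab (2 ^ k)) Y0 • Mon.G.lam Y0 :=
    fun k hk => by
    rw [lm_dn _ (lm_dn _ (lm_dn _ rfl)), lam_eq_iff.2 (trip_ok k hk)]
    rcases z2_cases (bf (lab (2 ^ k)) Y0) with e | e <;> simp [e, lam_one]
  refine Lab.induction (P := fun p => Mon.G.lam (lm (wg [5]) (lm (wg [8]) (lm (wg [10]) p))) = bf p Y0 • Mon.G.lam Y0) ?_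
    (fun k => lab_X k ▸ b k (by omega)) (fun k => lab_Z k ▸ b _ (by omega)) (fun p q a b => ?_) p
  · simp [lm, lam_one, bf_xc]
  · rw [bf_mul, add_smul, ← a, ← b]
    simp only [lam_lm, kp, lam_smul, lam_mul, smul_add]; abel

theorem irr {S : Subgroup Lab} {x : Lab} (n : Mon.G.lam x ∉ E2) (h : ∀ γ ∈ PB, lm γ x ∈ S)
    (i : ∀ γ ∈ PB, ∀ p ∈ S, γ • p ∈ S) : tB ∈ S := by
  obtain ⟨r, a, b⟩ : ∃ r ∈ UU, bf r x ≠ 0 := by simpa using mt mem_E2_of n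
  have c := h _ (pauli_PB.2 a)
  rw [lm, pauli_smul_of_one ((z2_cases _).resolve_left b), mul_inv_rev, mul_inv_cancel_left, inv_mem_iff] at c
  let D : Subgroup Lab :=
    { carrier := {p | ∀ γ ∈ PB, bf (γ • p) x = 0}
      one_mem' := fun γ _ => by rw [smul_one, bf_comm, bf_one']
      mul_mem' := fun a b γ k => by rw [smul_mul', bf_mul, a γ k, b γ k, add_zero]
      inv_mem' := fun a γ k => by rw [smul_inv', Eqv.bf (inv_eqv _) (.refl _), a γ k] }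
  obtain ⟨γ, k, e⟩ : ∃ γ ∈ PB, bf (γ • Y0) x ≠ 0 := by
    by_contra! e
    exact b (by simpa using spanB (R := D) (fun γ k p l δ m => mul_smul δ γ p ▸ l _ (mul_mem m k)) e a 1 (one_mem _))
  have w : ∀ n, ev [n] 12288 = tA ∧ ev [n] 20480 = tB → wg [n] ∈ PB := fun n e => ⟨wg_A e.1, wg_B e.2⟩
  have w1 := w 10 (by decide +kernel)
  have t := trip (γ⁻¹ • x)
  rw [← bf_smul γ, smul_inv_smul, bf_comm, (z2_cases _).resolve_left e, one_smul, lam_eq_iff] at t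
  refine spanB i (mem_of_eqv c t.symm (lm_mem (i _ (w 5 (by decide +kernel))) (lm_mem (i _ (w 8 (by decide +kernel))) ?_))) B_UU
  have := i _ (inv_mem k) _ (h _ (mul_mem (mul_mem k w1) (inv_mem k)))
  rwa [lm, smul_mul', smul_inv', mul_smul, mul_smul, inv_smul_smul] at this

theorem perpA {a d : Lab} (h : ∀ r ∈ UU, bf r a = 0 → bf r d = 0) : Mon.G.lam d ∈ E2 ∨ Mon.G.lam (d * a) ∈ E2 := by
  refine or_iff_not_imp_left.2 fun n => mem_E2_of fun r k => ?_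
  obtain ⟨u, c, b⟩ : ∃ r ∈ UU, bf r d ≠ 0 := by simpa using mt mem_E2_of n
  have e := (z2_cases _).resolve_left fun k => b (h u c k)
  rcases z2_cases (bf r a) with l | l
  · rw [bf_mul', l, h r k l, add_zero]
  · have := h (r * u) (mul_mem k c) (by rw [bf_mul, l, e]; rfl)
    rwa [bf_mul, (z2_cases _).resolve_left b, ← l, ← bf_mul'] at this

theorem q8 (a : Lab) : ∃ u ∈ UU, bf u a = 0 ∧ u * u = xc := by
  rcases z2_cases (bf (lab 0x8008) a) with e | e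
  · exact ⟨_, by decide +kernel, e, by decide +kernel⟩
  rcases z2_cases (bf (lab 0x10018) a) with f | f
  · exact ⟨_, by decide +kernel, f, by decide +kernel⟩
  · exact ⟨lab 0x8008 * lab 0x10018, by decide +kernel, by rw [bf_mul, e, f]; rfl, by decide +kernel⟩

/-- a second tightly embedded subgroup -/
structure Op (A K : Subgroup G) : Prop where
  c1 : ∀ {s g}, s ∈ K → s * s = 1 → s ≠ 1 → Commute s g → g ∈ 𝐍(K)
  c2 : ∀ {s}, s ∈ K → s ∈ 𝐂(A) → P2 s → s = 1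

theorem Op.cj (o : Op A K) {b : G} (h : b ∈ 𝐍(A)) : Op A (cj[b] K) where
  c1 := fun {s g} a c n e => by
    rw [← cj_normalizer, mem_cj]
    exact o.c1 (mem_cj.1 a) (conj_sq (g := b⁻¹) (by rw [inv_inv]) c) (mt one_of_cj n) (by simpa using e.conj b⁻¹)
  c2 := fun {s} a c e => one_of_cj (o.c2 (mem_cj.1 a) (by simpa using nK (inv_mem h) c) (by simpa using e.cj b⁻¹))

namespace Fq

variable (h : Fq ρ τ A R j)
include h

theorem exS {S : Subgroup Lab} (hS : S ≤ UU) : ∃ Q : Subgroup G, IsPGroup 2 Q ∧ ∀ g, g ∈ Q ↔ ∃ p ∈ S, j p = g :=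
  ⟨(MonoidHom.mk' (fun p : S => j p) fun a b => h.hj _ (hS a.2) _ (hS b.2)).range,
    pg.2 fun _ ⟨p, e⟩ => e ▸ h.j2 (hS p.2), fun _ => ⟨fun ⟨p, e⟩ => ⟨p, p.2, e⟩, fun ⟨p, a, e⟩ => ⟨⟨p, a⟩, e⟩⟩⟩

variable [Finite G]

theorem pmIn {γ : Gt} {q : Lab} {k : G} (a : q ∈ UU) (b : k ∈ 𝐂(A)) (c : (ρ γ, j q * k) ∈ 𝐍(R)) : PM γ := by
  have := mul' (inv' (le_normalizer (h.jR a))) c
  rw [inv_mul_cancel_left, ← map_inv, ← map_mul] at this
  exact mem_ZP.1 ((mul_mem_cancel_left (inv_mem (mem_ZP.2 (pm_pauli q)))).1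
    (mem_ZP.2 (h.pmU this fun p l => cK b (h.jA l))))

variable (o : Op A K)
include o

theorem endM {x : Lab} {k l : G} (hk : k ∈ 𝐂(A)) (hl : l ∈ 𝐂(A)) (a : j xc * k ∈ K) (b : P2 (j xc * k)) (hx : x ∈ UU)
    (n : Mon.G.lam x ∉ E2) (c : j x * l ∈ K) : False := by
  have cw := cK hk (h.jA xc_UU)
  have s : j xc * k * (j xc * k) = 1 := o.c2 (mul_mem a a) (by
    rw [← pow_two, cw.mul_pow, pow_two, h.ww, one_mul]; exact pow_mem hk 2) (b.mul b rfl)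
  have N : ∀ {γ g}, (ρ γ, g) ∈ R → g ∈ 𝐍(K) := fun {γ g} e => o.c1 a s
    (fun e => h.wK (by rw [eq_inv_of_mul_eq_one_left e]; exact inv_mem hk))
    (((h.cx (le_normalizer e)).2 (rho_comm_iff' γ).symm).mul_left (cK hk (h.mem e).2).symm)
  let S : Subgroup Lab :=
    { carrier := {p | p ∈ UU ∧ j p ∈ K}
      one_mem' := ⟨one_mem _, h.hj.one ▸ one_mem _⟩
      mul_mem' := fun a b => ⟨mul_mem a.1 b.1, h.hj _ a.1 _ b.1 ▸ mul_mem a.2 b.2⟩
      inv_mem' := fun a => ⟨inv_mem a.1, h.hj.inv a.1 ▸ inv_mem a.2⟩ }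
  refine h.z1 (o.c2 (irr (S := S) n (fun γ e => ?_) fun γ e p l => ?_).2 (h.jK B_RAB) (h.j2 B_UU)) <;>
    obtain ⟨g, f⟩ := h.tot (mem_LB ρ τ e)
  · have u := smul_UU e hx
    refine ⟨mul_mem hx (inv_mem u), ?_⟩
    have := mul_mem c (inv_mem (conj_mem_of_mem_normalizer (N f) c))
    rwa [conj_mul_conj, conj_of_comm (cK hl (h.mem f).2).symm, h.ac (le_normalizer f) hx, mul_inv_rev, mul_assoc,
      mul_inv_cancel_left, ← h.hj.inv u, ← h.hj _ hx _ (inv_mem u)] at this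
  · exact ⟨smul_UU e l.1, h.ac (le_normalizer f) l.1 ▸ conj_mem_of_mem_normalizer (N f) l.2⟩

theorem M0 {a : Lab} {k s t : G} (ha : a ∈ UU) (hk : k ∈ 𝐂(A)) (e : s = j a * k) (hs : s ∈ K) (ss : s * s = 1) (s1 : s ≠ 1)
    (ht : t ∈ K) (tN : t ∈ 𝐍(A)) (t2 : P2 t) (c : Commute s t) : t = 1 ∨ t = s := by
  by_contra n
  obtain ⟨U, u1, u2⟩ := h.exS (S := Pp a ⊓ UU) inf_le_right
  have cs : ∀ {p}, p ∈ Pp a ⊓ UU → Commute s (j p) := fun l =>
    e ▸ ((h.cm l.2 ha).2 l.1).mul_left (cK hk (h.jA l.2)).symm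
  have UA : U ≤ 𝐍(A) ⊓ 𝐂₁(s) := fun x l => by
    obtain ⟨p, m, rfl⟩ := (u2 x).1 l
    exact ⟨le_normalizer (h.jA m.2), mem_c1.2 (cs m).symm⟩
  obtain ⟨m, t2⟩ := t2
  obtain ⟨y, ⟨yK, yN, ys⟩, n, yy, f⟩ := fixq (D := K ⊓ (𝐍(A) ⊓ 𝐂₁(s))) ss
    ⟨hs, e ▸ mul_mem (le_normalizer (h.jA ha)) (KN hk), mem_c1.2 rfl⟩ (inf_le_right.trans inf_le_right)
    (UA.trans inf_le_right) (le_normalizer_inf (fun x l => o.c1 hs ss s1 (mem_c1.1 (UA l).2).symm) (UA.trans le_normalizer))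
    u1 ⟨ht, tN, mem_c1.2 c.symm⟩ t2 n
  replace ys : Commute s y := (mem_c1.1 ys).symm
  replace f := fun p l => f (j p) ((u2 _).2 ⟨p, l, rfl⟩)
  have f' : ∀ {p}, p ∈ Pp a ⊓ UU → ¬ Commute (j p) y → y * j p * y⁻¹ = j p * s := fun l m => by
    have := (f _ l).resolve_left fun e => m (comm_of_conj e).symm
    rw [← (cs l).eq, mul_inv_eq_iff_eq_mul, mul_assoc, mul_inv_eq_iff_eq_mul.1 this, ← mul_assoc, ← mul_assoc, ys.eq,
      mul_assoc y, ss, mul_one]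
  have sq : ∀ {p q}, p ∈ Pp a ⊓ UU → q ∈ Pp a ⊓ UU → ¬ Commute (j p) y → ¬ Commute (j q) y → Commute (j (p * q)) y :=
    fun u v b c => comm_of_conj (by
      rw [h.hj _ u.2 _ v.2, conj_mul_conj, f' u b, f' v c, ← (cs v).eq, mul_assoc, ← mul_assoc s, ss, one_mul])
  obtain ⟨γ, g⟩ := h.cw yN (by
    obtain ⟨u, b, c, d⟩ := q8 a
    rw [← d]
    by_cases m : Commute (j u) y
    exacts [h.hj _ b _ b ▸ m.mul_left m, sq ⟨c, b⟩ ⟨c, b⟩ m m])
  have y2 : P2 y := .root (yy.elim (fun e => e ▸ .sq (one_mul 1)) fun e => e ▸ .sq ss)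
  obtain ⟨x, hx, l, hl, d⟩ := h.pmq g (by
    by_contra np
    have g2 := mul' g g
    rw [← map_mul] at g2
    let C : Subgroup Lab :=
      { carrier := {p | p ∈ UU ∧ Commute (j p) y}
        one_mem' := ⟨one_mem _, h.hj.one ▸ Commute.one_left _⟩
        mul_mem' := fun a b => ⟨mul_mem a.1 b.1, h.hj _ a.1 _ b.1 ▸ a.2.mul_left b.2⟩
        inv_mem' := fun a => ⟨inv_mem a.1, h.hj.inv a.1 ▸ a.2.inv_left⟩ }
    obtain ⟨p, b, c⟩ := bigA (yy.elim (fun e => h.pmU g2 fun _ _ => e ▸ Commute.one_right _) fun f =>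
      h.pmIn ha hk (e ▸ f ▸ g2)) np _ (idx2 (K := C) (H := Pp a ⊓ UU) (fun p u q v b c => ⟨mul_mem u.2 v.2,
        sq u v (fun m => b ⟨u.2, m⟩) fun m => c ⟨v.2, m⟩⟩) (idx_kf idx_UU)) [0] (by decide)
    exact c 0 (by simp) (by
      rw [add_zero]; exact h.jS (sUU h.O (h.nV g) b.1.1) b.1.1 (by rw [← h.ac g b.1.1, conj_of_comm b.1.2])))
  have fin : ∀ {x l y}, l ∈ 𝐂(A) → y = j x * l → y ∈ K → P2 y → Commute s y → ¬ (y = 1 ∨ y = s) → Mon.G.lam x ∉ E2 :=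
    fun {x l y} hl d yK y2 ys n m => by
    have b := (h.jE m).resolve_left fun b => n (.inl (o.c2 yK (d ▸ mul_mem b hl) y2))
    have d' : y = j xc * (j xc * j x * l) := by rw [d, ← mul_assoc, ← mul_assoc, h.ww, one_mul]
    by_cases m' : Mon.G.lam a ∈ E2
    · have b' := (h.jE m').resolve_left fun b => s1 (o.c2 hs (e ▸ mul_mem b hk) (.sq ss))
      refine n (.inr (inv_mul_eq_one.1 (o.c2 (mul_mem (inv_mem hs) yK) ?_ ((P2.sq ss).inv.mul y2 ys.inv_left))).symm)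
      convert mul_mem (inv_mem (mul_mem b' hk)) (mul_mem b hl) using 1
      rw [e, d]; group
    · exact h.endM o (mul_mem b hl) hk (d' ▸ yK) (d' ▸ y2) ha m' (e ▸ hs)
  by_cases m : ∀ p ∈ UU, bf p a = 0 → bf p x = 0
  · refine (perpA m).elim (fin hl d yK y2 ys n) (fin (mul_mem hl hk) (y := y * s) ?_ (mul_mem yK hs) (y2.mul (.sq ss) ys.symm)
      (ys.mul_right rfl) fun q => n ?_)
    · rw [d, e, h.hj _ hx _ ha, mul_assoc, mul_assoc, ← mul_assoc l, ← (cK hl (h.jA ha)).eq, mul_assoc]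
    · exact q.symm.imp (by simp) fun q => by rw [eq_inv_of_mul_eq_one_left q, inv_eq_of_mul_eq_one_left ss]
  push Not at m
  obtain ⟨p, b, c, m⟩ := m
  have := f p ⟨c, b⟩
  rw [d, conj_mul_conj, h.cp b hx, conj_of_comm (cK hl (h.jA b)).symm, (z2_cases _).resolve_left m, xp_one,
    h.hj _ xc_UU _ hx, mul_assoc, ← d, ← ys.eq, mul_eq_right, mul_left_inj] at this
  have sw := this.resolve_left fun e => h.wK (e ▸ one_mem _)
  exact h.endM o (one_mem _) hl (by rwa [mul_one, sw]) (by rw [mul_one]; exact h.j2 xc_UU) hx (fun q => m (bf_E2 b q)) (d ▸ yK)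

theorem lemM {s t : G} (si : s ∈ A ⊔ 𝐂(A)) (hs : s ∈ K) (ss : s * s = 1) (s1 : s ≠ 1)
    (ht : t ∈ K) (tN : t ∈ 𝐍(A)) (t2 : P2 t) (c : Commute s t) : t = 1 ∨ t = s := by
  obtain ⟨a, ha, k, hk, e⟩ := mIn.1 si
  have ck := cK hk ha
  have a2 : a ^ 2 ∈ 𝐂(A) := by
    rw [← e, ← pow_two, ck.mul_pow] at ss
    rw [eq_inv_of_mul_eq_one_left ss]; exact inv_mem (pow_mem hk 2)
  have e3 : s = a ^ 3 * k ^ 3 := by rw [← ck.mul_pow, e, pow_odd ss (by decide)]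
  obtain ⟨b, hb, p, hp, q⟩ := h.into (pow_mem ha 3) (.four (by rw [← h.six (pow_mem ha 2) a2, ← pow_mul, ← pow_mul]))
    (by rw [← pow_add, show 3 + 3 = 2 * 3 by rfl, pow_mul]; exact pow_mem a2 3)
    fun l => s1 (o.c2 hs (e3 ▸ mul_mem l (pow_mem hk 3)) (.sq ss))
  have n := le_normalizer hb
  simpa using h.M0 (o.cj n) hp (nK n (pow_mem hk 3)) (by rw [← q, ← conj_mul_conj, ← e3]) (conj_mem_cj b hs) (conj_sq rfl ss)
    (by simpa using s1) (conj_mem_cj b ht) (mul_mem (mul_mem n tN) (inv_mem n)) (t2.cj b) (c.conj b)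

end Fq

end CF.StdZ.Bc
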