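import Cfsg.Agent.StdZ.BcC
import Cfsg.Agent.S1911

/-! The Sylow subgroups of the centraliser of the standard subgroup have order two. -/

set_option autoImplicit false
set_option maxHeartbeats 400000
set_option maxRecDepth 100000

namespace CF.StdZ.Bc

open Cfsg Subgroup CF.Leech CF.Mon CF.Mon.G CF.Mon.L CF.Mon.Lab CF.Known.Mon MulAction CF.LX CF.Loc
open CF.Even Function Spor CF.MonU CF.Mon.O CF.BabU CF.StdZ.Bm CF.StdZ.Bb
open scoped commutatorElement Pointwise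

variable {Γ G : Type*} [Group Γ] [Group G] {ρ : Gt →* Γ} {τ : Γ} {A B : Subgroup G} {R : Subgroup (Γ × G)} {j : Lab → G}

/-- another conjugate -/
def Pr (A B : Subgroup G) : Prop := ∃ g, g ∉ 𝐍(A) ∧ B = cj[g] A

theorem Pr.cj (p : Pr A B) (x : G) : Pr (cj[x] A) (cj[x] B) :=
  let ⟨g, a, e⟩ := p
  ⟨x * g * x⁻¹, by rwa [← cj_normalizer, conj_mem_cj_iff], by rw [e, ← cj_mul, ← cj_mul, inv_mul_cancel_right]⟩

theorem Pr.symm (p : Pr A B) : Pr B A :=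
  let ⟨g, a, e⟩ := p
  ⟨g⁻¹, by rwa [e, ← cj_normalizer, mem_cj, inv_mul_cancel_right, inv_mem_iff], by rw [e, cj_inv_cj]⟩

/-- a central involution -/
structure Zi (A : Subgroup G) (t : G) : Prop where
  a : t ∈ A
  k : t ∈ 𝐂(A)
  sq : t * t = 1
  ne : t ≠ 1

theorem Zi.cj {t : G} (z : Zi A t) (g : G) : Zi (cj[g] A) (g * t * g⁻¹) :=
  ⟨conj_mem_cj g z.a, cj_centralizer g A ▸ conj_mem_cj g z.k, conj_sq rfl z.sq, by simpa using z.ne⟩

theorem even_inv {H : Subgroup G} [Finite G] (e : ¬ Odd (Nat.card H)) : ∃ s ∈ H, orderOf s = 2 :=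
  have : Fact (Nat.Prime 2) := ⟨Nat.prime_two⟩
  exists_orderOf_eq_of_dvd_card (even_iff_two_dvd.1 (Nat.not_odd_iff_even.1 e))

namespace Fq

variable (h : Fq ρ τ A R j)
include h

theorem fr (p : Pr A B) : ∃ R j, Fq ρ τ B R j := let ⟨g, _, e⟩ := p; e ▸ ⟨_, _, h.cj g⟩

theorem cjA {c : G} (n : c ∈ 𝐍(A)) : Fq ρ τ A (cj[((1 : Γ), c)] R) fun p => c * j p * c⁻¹ := by
  have := h.cj c
  rwa [cj_eq_self n] at this

theorem op (p : Pr A B) : Op A 𝐂(B) := by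
  obtain ⟨g, n, rfl⟩ := p
  refine ⟨fun a b c d => normalizer_le_normalizer_centralizer _ ((h.cj g).cN a b c d), fun {s} a b c => by_contra fun e => ?_⟩
  obtain ⟨m, o⟩ := c.inv_pow e
  rw [← cj_centralizer, mem_cj] at a
  exact n (inv_mem_iff.1 (h.te (pow_mem b m) o (by rw [← conj_pow]; exact pow_mem (by rwa [inv_inv]) m)))

variable [Finite G]

theorem zi : Zi A (j tB) := ⟨h.jA B_UU, h.jK B_RAB, h.zz, h.z1⟩

theorem nKA : 𝐍(𝐂(A)) = 𝐍(A) := le_antisymm (fun _ a => h.te h.zi.k (ord2 h.zz h.z1) (conj_mem_of_mem_normalizer a h.zi.k))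
  (normalizer_le_normalizer_centralizer _)

theorem fixZ {s : G} (n : s ∈ 𝐍(A)) (ss : s * s = 1) : ∃ z, Zi A z ∧ Commute z s := by
  have : Fact (Nat.Prime 2) := ⟨Nat.prime_two⟩
  obtain ⟨U, u1, u2⟩ := h.exS (S := C3.RAB) fun _ => RAB_UU
  obtain ⟨z, ⟨a, b⟩, c⟩ := (bot_or_exists_ne_one _).resolve_left (inf_centralizer_ne_bot u1
    (isPGroup_zpowers (x := s) (k := 1) (by rwa [pow_one, pow_two])) (zpowers_le.2 (mem_norm_of fun x l => by
      obtain ⟨v, m, rfl⟩ := (u2 x).1 l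
      exact (u2 _).2 (h.zV (conj_mem_of_mem_normalizer n (h.jA (RAB_UU m))) (nK n (h.jK m)) ((h.j2 (RAB_UU m)).cj s))))
    fun e => h.z1 (mem_bot.1 (e.le ((u2 _).2 ⟨_, B_RAB, rfl⟩))))
  obtain ⟨v, m, rfl⟩ := (u2 z).1 a
  exact ⟨_, ⟨h.jA (RAB_UU m), h.jK m, h.vv (RAB_UU m) (RAB_sq m), c⟩, (b _ (mem_zpowers s)).symm⟩

theorem init [IsSimpleGroup G] : ∃ B z n, Pr A B ∧ Zi A z ∧ Zi B n ∧ Commute z n := by
  have oz := ord2 h.zz h.z1
  by_cases e : ∀ g, g ∉ 𝐍(𝐂(A)) → Odd (Nat.card ↥(cj[g] 𝐂(A) ⊓ 𝐍(𝐂(A))))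
  · exfalso
    rcases Cfsg.Agent.S1911.result 𝐂(A) ⟨even_iff_two_dvd.2 (oz ▸ orderOf_dvd_natCard _ h.zi.k), fun g n => by_contra fun o => by
      obtain ⟨s, a, b⟩ := even_inv o
      exact ne_of b ((h.op ⟨g, h.nKA ▸ n, rfl⟩).c2 (cj_centralizer g A ▸ a.2) a.1 (.sq (sq_of b)))⟩ e with n | n
    · rcases n.eq_bot_or_eq_top with n | n
      exacts [h.z1 (mem_bot.1 (n.le h.zi.k)), h.wK (n.ge (mem_top _))]
    have t : normalClosure (𝐂(A) : Set G) = ⊤ := (normalClosure_normal.eq_bot_or_eq_top).resolve_left fun e =>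
      h.z1 (mem_bot.1 (e.le (subset_normalClosure h.zi.k)))
    obtain ⟨g, a, b⟩ := Invol.se_exists_conj_mem n (s := ⟨j tB, t.ge (mem_top _)⟩) (t := ⟨j xc, t.ge (mem_top _)⟩)
      (le_normalizer h.zi.k) (by rw [← orderOf_coe, oz]) (h.nKA.ge (le_normalizer (h.jA xc_UU)))
      (by rw [← orderOf_coe]; exact ord2 h.ww fun e => h.wK ((show j xc = 1 from e) ▸ one_mem _))
    exact h.wK ((show _ = j xc from congrArg Subtype.val b) ▸ conj_mem_of_mem_normalizer a h.zi.k)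
  push Not at e
  obtain ⟨g, n, o⟩ := e
  obtain ⟨s, a, b⟩ := even_inv o
  rw [h.nKA] at n a
  obtain ⟨z, c, d⟩ := h.fixZ a.2 (sq_of b)
  obtain ⟨y, e, f⟩ := (h.cj g).fixZ ((h.cj g).cN (cj_centralizer g A ▸ a.1) (sq_of b) (ne_of b) d.symm) c.sq
  exact ⟨_, z, y, ⟨g, n, rfl⟩, c, e, f.symm⟩

theorem inner0 {n : G} (p : Pr A B) (zn : Zi B n) (nN : n ∈ 𝐍(A)) (m : n ∉ A ⊔ 𝐂(A)) (d : Commute (j xc) n) :
    ∃ D t, Pr B D ∧ Zi D t ∧ t ∈ B ⊔ 𝐂(B) := by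
  obtain ⟨R', j', h'⟩ := h.fr p
  obtain ⟨γ, t⟩ := h.cw nN d
  have hK := fun p => sUU h.O (h.nV t) (p := p)
  have C := fun p => h.ac t (p := p)
  have p2 : PM (γ * γ) := h.pmU (map_mul ρ γ γ ▸ mul' t t) fun _ _ => zn.sq ▸ Commute.one_right _
  have np : ¬ PM γ := fun k => let ⟨q, a, l, b, e⟩ := h.pmq t k; m (mIn.2 ⟨_, h.jA a, l, b, e.symm⟩)
  have i := idx_kf (f := fun p => bf p (γ • p)) (h := mu p2) idx_UU
  obtain ⟨p', p1, p3⟩ := bigA p2 np _ i [0] (by decide)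
  obtain ⟨q, q1, q3⟩ := bigA p2 np _ (idx_kf (f := (bf · (lm γ p'))) (h := fun _ _ => bf_mul _ _ _) i) [0, kp γ p'] (by simp)
  have fin : ∀ r ∈ UU, kp γ r ∉ S1 tA → j (lm γ r) ∈ B ⊔ 𝐂(B) → ∃ D t, Pr B D ∧ Zi D t ∧ t ∈ B ⊔ 𝐂(B) := fun r u v y => by
    have e := lm_cj h.hj hK C u
    have z := zn.cj (j r)
    rw [e] at z
    by_cases b : j r ∈ 𝐍(B)
    swap
    · exact ⟨_, _, ⟨_, b, rfl⟩, z, mul_mem y (mem_sup_left zn.a)⟩
    rw [cj_eq_self b] at z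
    have l := lm_mem hK u
    have c : Commute (j (lm γ r)) n := by simpa using (cK zn.k z.a).mul_left (Commute.refl n).inv_left
    rcases h.lemM (h.op p) (mem_sup_left (h.jA l)) ((mul_mem_cancel_right zn.k).1 z.k) (by
      have := z.sq
      rwa [← pow_two, c.mul_pow, pow_two n, zn.sq, mul_one, pow_two] at this)
      (fun e => v (by simpa only [lam_lm, lam_one, add_zero] using h.jS l (one_mem _) (e.trans h.hj.one.symm)))
      zn.k nN (.sq zn.sq) c with k | k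
    exacts [(zn.ne k).elim, (m (k ▸ mem_sup_left (h.jA l))).elim]
  by_cases u : j (lm γ p') ∈ B ⊔ 𝐂(B)
  · exact fin p' p1.2 (by simpa using p3) u
  by_cases v : j (lm γ q) ∈ B ⊔ 𝐂(B)
  · exact fin q q1.2.2 (by simpa using q3 0 (by simp)) v
  refine fin (q * p') (mul_mem q1.2.2 p1.2) (kp_mul _ _ _ ▸ q3 _ (by simp)) ?_
  rw [lm_mul, show bf q _ = 0 from q1.1, xp_zero, one_mul, h.hj _ (lm_mem hK p1.2) _ (lm_mem hK q1.2.2)]
  exact h'.two zn.a zn.k zn.sq zn.ne (lm_cm h.hj hK C zn.sq p1.2 p1.1) (lm_cm h.hj hK C zn.sq q1.2.2 q1.2.1) u v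

theorem inner [IsSimpleGroup G] : ∃ B t, Pr A B ∧ Zi B t ∧ t ∈ A ⊔ 𝐂(A) := by
  obtain ⟨B, z, n, p, a, b, c⟩ := h.init
  by_cases m : n ∈ A ⊔ 𝐂(A)
  · exact ⟨B, n, p, b, m⟩
  have nN := h.cN a.k a.sq a.ne c
  obtain ⟨x, d, e⟩ := h.syl (isPGroup_zpowers (x := n) (k := 1) (by rw [pow_one, pow_two, b.sq])) (zpowers_le.2 nN)
  obtain ⟨D, t, q, u, v⟩ := (h.cjA (le_normalizer d)).inner0 p b nN m (e _ (mem_zpowers n))
  obtain ⟨g, -, f⟩ := p.symm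
  exact ⟨_, _, f ▸ q.cj g, u.cj g, by rw [f, ← cj_centralizer, ← cj_sup]; exact conj_mem_cj g v⟩

theorem sm [IsSimpleGroup G] : (∀ k ∈ 𝐂(A), P2 k → k = 1 ∨ k = j tB) ∧ ∃ g, g ∉ 𝐍(A) ∧ g * j tB * g⁻¹ ∈ A := by
  obtain ⟨B, t, p, u, v⟩ := h.inner
  obtain ⟨R', j', h'⟩ := h.fr p
  obtain ⟨a, ha, k, hk, e⟩ := mIn.1 v
  have ck := cK hk ha
  have z := h.zi
  have e3 : t = a ^ 3 * k ^ 3 := by rw [← ck.mul_pow, e, pow_odd u.sq (by decide)]
  have k2 : P2 (k ^ 3) := .four (by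
    have := u.sq
    rw [← e, ← pow_two, ck.mul_pow] at this
    rw [← h.six (c := k ^ 2) (by rw [eq_inv_of_mul_eq_one_right this]; exact inv_mem (pow_mem ha 2)) (pow_mem hk 2),
      ← pow_mul, ← pow_mul])
  have zt : Commute t (j tB) := e ▸ (cK z.k ha).mul_left (cK hk z.a).symm
  have key : ∀ y ∈ 𝐂(A), P2 y → Commute t y → y = 1 ∨ y = j tB := fun y hy ⟨m, y2⟩ c => by_contra fun n => by
    obtain ⟨i, n, yy⟩ := exists_sq m y2 n
    have y2 := P2.pow ⟨m, y2⟩ i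
    replace hy := pow_mem hy i
    replace c := c.pow_right i
    generalize y ^ i = y at n yy y2 hy c
    have zy := cK hy z.a
    have M := fun {s x} si hs ss s1 hx (c : Commute t x) => h'.lemM (h'.op p.symm) (s := s) si hs ss s1 hx (h'.cN u.k u.sq u.ne c)
    have T := fun {x y} => h'.two (g := x) (k := y) u.a u.k u.sq u.ne
    have zI : j tB ∉ B ⊔ 𝐂(B) := fun b => n (M b z.k z.sq z.ne hy c y2 zy)
    have yI : y ∉ B ⊔ 𝐂(B) := fun b => yy.elim (fun yy => (M b hy yy (fun e => n (.inl e)) z.k zt (.sq z.sq) zy.symm).elim z.ne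
      fun e => n (.inr e.symm)) fun yy => zI (yy ▸ mul_mem b b)
    rcases yy with yy | yy
    · exact (M (T zt c zI yI) (mul_mem z.k hy) (by rw [← pow_two, zy.mul_pow, pow_two, pow_two, yy, z.sq, one_mul])
        (fun e => n (.inr (by rw [eq_inv_of_mul_eq_one_right e, inv_eq_of_mul_eq_one_left z.sq]))) z.k zt (.sq z.sq)
        ((Commute.refl _).mul_left zy.symm)).elim z.ne fun e => n (.inl (by simpa using e))
    · exact zI (yy ▸ T c c yI yI)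
  have k3 := key _ (pow_mem hk 3) k2 (e3 ▸ (cK (pow_mem hk 3) (pow_mem ha 3)).mul_left rfl)
  have S : ∀ k ∈ 𝐂(A), P2 k → k = 1 ∨ k = j tB := fun x hx x2 => key x hx x2 (e3 ▸ (cK hx (pow_mem ha 3)).mul_left (by
    rcases k3 with e | e <;> rw [e]
    exacts [Commute.one_left _, cK hx z.a]))
  obtain ⟨g, n, rfl⟩ := p
  have w := u.cj g⁻¹
  rw [cj_inv_cj] at w
  refine ⟨S, g, n, ?_⟩
  rw [← (S _ w.k (.sq w.sq)).resolve_left w.ne, conj_conj', mul_inv_cancel, one_mul, inv_one, mul_one, e3]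
  rcases k3 with e | e <;> rw [e]
  exacts [by simpa using pow_mem ha 3, mul_mem (pow_mem ha 3) z.a]

end Fq

end CF.StdZ.Bc
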