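import Cfsg.Agent.StdZ.BcD
import Cfsg.Agent.S0028

/-! The normaliser of the odd part of the centraliser. -/

set_option autoImplicit false
set_option maxHeartbeats 400000
set_option maxRecDepth 100000

namespace CF.StdZ.Bc

open Cfsg Subgroup CF.Leech CF.Mon CF.Mon.G CF.Mon.L CF.Mon.Lab CF.Known.Mon MulAction CF.LX CF.Loc
open CF.Even Function Spor CF.MonU CF.Mon.O CF.BabU CF.StdZ.Bm CF.StdZ.Bb
open scoped commutatorElement Pointwise

variable {Γ G : Type*} [Group Γ] [Group G] {ρ : Gt →* Γ} {τ : Γ} {A B O : Subgroup G} {R R' : Subgroup (Γ × G)} {j j' : Lab → G}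

theorem exO [Finite G] {K : Subgroup G} {z : G} (oz : orderOf z = 2) (zK : z ∈ K) (c : ∀ k ∈ K, Commute z k)
    (s : ∀ k ∈ K, P2 k → k = 1 ∨ k = z) : ∃ O : Subgroup G, ∀ k, k ∈ O ↔ k ∈ K ∧ Odd (orderOf k) := by
  have : Fact (Nat.Prime 2) := ⟨Nat.prime_two⟩
  have zz := sq_of oz
  have le : zpowers z ≤ K := zpowers_le.2 zK
  have pz : IsPGroup 2 (zpowers z) := isPGroup_zpowers (k := 1) (by rw [pow_one, pow_two, zz])
  have cases : ∀ {x}, x ∈ zpowers z → x = 1 ∨ x = z := fun a => s _ (le a) (pg.1 pz _ a)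
  have sy : IsSyl 2 (zpowers z) K := by
    obtain ⟨T, hT, a⟩ := exists_isSyl_ge pz le
    refine le_antisymm a (fun x hx => ?_) ▸ hT
    rcases s x (hT.le hx) (pg.1 hT.isPGroup x hx) with rfl | rfl
    exacts [one_mem _, mem_zpowers _]
  have nn : ((zpowers z).subgroupOf K).Normal := ⟨fun x hx g => by
    rcases cases (x := x.1) hx with e | e
    · rw [show x = 1 from Subtype.ext e]; simp
    · rw [mem_subgroupOf, coe_mul, coe_mul, coe_inv, e, conj_of_comm (c _ g.2)]; exact mem_zpowers _⟩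
  have c2 : Nat.card ((zpowers z).subgroupOf K) = 2 := by
    rw [Nat.card_congr (subgroupOfEquivOfLe le).toEquiv, Nat.card_zpowers, oz]
  obtain ⟨H, hH⟩ := exists_right_complement'_of_coprime (N := (zpowers z).subgroupOf K)
    (by rw [c2]; exact (Nat.Prime.coprime_iff_not_dvd Nat.prime_two).2 sy.not_dvd_relIndex)
  have oH : Odd (Nat.card H) := by
    rw [← hH.symm.index_eq_card]
    exact Nat.not_even_iff_odd.1 fun e => sy.not_dvd_relIndex (even_iff_two_dvd.1 e)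
  refine ⟨H.map K.subtype, fun k => ⟨?_, fun ⟨a, b⟩ => ?_⟩⟩
  · rintro ⟨x, hx, rfl⟩
    exact ⟨x.2, by rw [subtype_apply, orderOf_coe]; exact oH.of_dvd_nat (orderOf_dvd_natCard _ hx)⟩
  · obtain ⟨⟨x, y⟩, e, -⟩ := hH.existsUnique ⟨k, a⟩
    have e : x.1.1 * y.1.1 = k := congrArg Subtype.val e
    rcases cases (x := x.1.1) x.2 with d | d <;> rw [d] at e
    · exact ⟨y, y.2, by simpa using e⟩
    · have := congrArg (· ^ (orderOf k * Nat.card H)) e
      simp only [(c _ y.1.2).mul_pow, pow_odd zz (b.mul oH), pow_mul k, pow_orderOf_eq_one, one_pow] at this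
      rw [mul_comm (orderOf k), pow_mul, show y.1.1 ^ Nat.card H = 1 from
        congrArg (fun x : H => x.1.1) (pow_card_eq_one' (x := (⟨y.1, y.2⟩ : H)))] at this
      exact absurd (by simpa using this) (ne_of oz)

theorem pxq [Finite G] {U : Subgroup G} {v x : G} (hU : IsPGroup 2 U) (vv : v * v = 1) (o : Odd (orderOf x)) (c : Commute x v)
    (a : v ∈ 𝐍(U)) (b : x ∈ 𝐍(U)) (d : ∀ u ∈ U, Commute v u → Commute x u) {u : G} (hu : u ∈ U) : Commute u x :=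
  have : Fact (Nat.Prime 2) := ⟨Nat.prime_two⟩
  Cfsg.Agent.S0028.result 2 (zpowers v) (zpowers x) U (isPGroup_zpowers (k := 1) (by rwa [pow_one, pow_two]))
    (by rw [Nat.card_zpowers]; exact Nat.coprime_two_right.2 o) hU
    (by rw [centralizer_zpowers]; exact zpowers_le.2 (mem_c1.2 c.symm)) (zpowers_le.2 a) (zpowers_le.2 b)
    (fun y l => by rw [centralizer_zpowers]; exact mem_c1.2 (d y l.1 (l.2 _ (mem_zpowers v))).symm) (mem_zpowers x) u hu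

theorem sq_odd {H : Subgroup G} {x : G} (o : Odd (orderOf x)) (h : x * x ∈ H) : x ∈ H := by
  obtain ⟨k, e⟩ := o
  have := pow_mem h (k + 1)
  rwa [← pow_two, ← pow_mul, mul_add, mul_one, pow_succ, ← e, pow_orderOf_eq_one, one_mul] at this

namespace Fq

variable (h : Fq ρ τ A R j) [Finite G]
include h

theorem nQ {Q : Subgroup G} (q : ∀ g, g ∈ Q ↔ ∃ p ∈ UU, j p = g) {g : G} (a : Commute (j tB) g) (b : Commute (j xc) g) :
    g ∈ 𝐍(Q) := by
  obtain ⟨γ, c⟩ := h.cw (h.zN a) b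
  refine mem_norm_of fun x l => ?_
  obtain ⟨p, m, rfl⟩ := (q x).1 l
  exact (q _).2 ⟨_, sUU h.O (h.nV c) m, (h.ac c m).symm⟩

variable (s : ∀ k ∈ 𝐂(A), P2 k → k = 1 ∨ k = j tB) (hO : ∀ k, k ∈ O ↔ k ∈ 𝐂(A) ∧ Odd (orderOf k))
include hO

omit h in
theorem nO : 𝐍(A) ≤ 𝐍(O) := fun g n => mem_norm_of fun x l => (hO _).2 ⟨nK n ((hO x).1 l).1, (ord_cj g x).symm ▸ ((hO x).1 l).2⟩

include s

theorem leK (h' : Fq ρ τ B R' j') {a : Lab} (ha : a ∈ UU) (e : j' tB = j a) (c : ∀ p ∈ Pp a ⊓ UU, Commute (j' xc) (j p)) :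
    O ≤ 𝐂(B) := fun x hx => by
  obtain ⟨xK, ox⟩ := (hO x).1 hx
  have cz := (c tB ⟨(bf_comm _ _).trans ha.2, B_UU⟩).symm
  obtain ⟨γ, g⟩ := h.cw (h.zN cz) (c xc ⟨bf_xc _, xc_UU⟩).symm
  obtain ⟨q, hq, k, hk, d⟩ := h.pmq g (by
    by_contra n
    obtain ⟨p, b, f⟩ := bigA (h.pmU (map_mul ρ γ γ ▸ mul' g g) fun _ _ => h'.ww ▸ Commute.one_right _) n _ (idx_kf idx_UU) [0]
      (by decide)
    exact f 0 (by simp) (by
      rw [add_zero]; exact h.jS (sUU h.O (h.nV g) b.2) b.2 (by rw [← h.ac g b.2, conj_of_comm (c p b).symm])))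
  have wA : j' xc ∈ A := by
    rcases s k hk (by
      rw [← inv_mul_cancel_left (j q) k, ← d]
      exact (h.j2 hq).inv.mul (h'.j2 xc_UU) (d ▸ ((Commute.refl _).mul_right (cK hk (h.jA hq))).inv_left)) with l | l <;> rw [d, l]
    exacts [by simpa using h.jA hq, mul_mem (h.jA hq) h.zi.a]
  obtain ⟨Q, q1, q2⟩ := h'.exS le_rfl
  have xw := cK xK wA
  have xN := h'.nQ q2 (e ▸ cK xK (h.jA ha)) xw
  refine (h'.cq fun p l => pxq q1 h.zz ox (cK xK h.zi.a).symm (h'.nQ q2 (e ▸ (cK h.zi.k (h.jA ha))) cz.symm) xN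
    (fun u l m => comm_of_conj (mul_inv_eq_one.1 ?_)) ((q2 _).2 ⟨p, l, rfl⟩)).elim id fun l => sq_odd ox ?_
  · refine P2.odd (pg.1 q1 _ ?_) ((hO _).1 (mul_mem (conj_mem_of_mem_normalizer (nO hO (h.zN m)) hx) (inv_mem hx))).2
    simpa only [mul_assoc] using mul_mem l (conj_mem_of_mem_normalizer xN (inv_mem l))
  · have := mul_mem l l
    rwa [← pow_two, xw.mul_pow, pow_two, h'.ww, one_mul, pow_two] at this

theorem exN {g : G} (n : g ∉ 𝐍(A)) (a : g * j tB * g⁻¹ ∈ A) : ∃ g ∈ 𝐍(O), g ∉ 𝐍(A) ∧ g * j tB * g⁻¹ ∈ A := by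
  have z := h.zi.cj g
  obtain ⟨b, hb, p, hp, e⟩ := h.into a (.sq z.sq) (z.sq ▸ one_mem _) fun l => z.ne ((h.op ⟨g, n, rfl⟩).c2 z.k l (.sq z.sq))
  rw [conj_conj'] at e
  have h1 := h.cj (b * g)
  obtain ⟨U, u1, u2⟩ := h.exS (S := Pp p ⊓ UU) inf_le_right
  obtain ⟨c, hc, f⟩ := h1.syl u1 fun x l => h1.zN (by
    obtain ⟨q, m, rfl⟩ := (u2 x).1 l
    exact e ▸ (h.cm m.2 hp).2 m.1)
  have le := h.leK s hO (h1.cjA (le_normalizer hc)) hp ((conj_of_comm (cK h1.zi.k hc).symm).trans e)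
    fun q m => f _ ((u2 _).2 ⟨q, m, rfl⟩)
  refine ⟨b * g, inv_mem_iff.1 (mem_norm_of fun x l => (hO _).2 ⟨?_, (ord_cj _ x).symm ▸ ((hO x).1 l).2⟩),
    by rwa [mul_mem_cancel_left (le_normalizer hb)], e ▸ h.jA hp⟩
  rw [inv_inv, ← mem_cj, cj_centralizer]
  exact le l

end Fq

end CF.StdZ.Bc
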