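import Cfsg.Agent.StdZ.BbL

/-! The centraliser of a transposition without outer automorphism: fusion. -/

set_option autoImplicit false
set_option maxHeartbeats 400000
set_option maxRecDepth 100000

namespace CF.StdZ.Bc

open Cfsg Subgroup CF.Leech CF.Mon CF.Mon.G CF.Mon.L CF.Mon.Lab CF.Known.Mon MulAction CF.LX CF.Loc
open CF.Even Function Spor CF.MonU CF.Mon.O CF.BabU CF.StdZ.Bm CF.StdZ.Bb
open scoped commutatorElement Pointwise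

variable {Γ G : Type*} [Group Γ] [Group G] {ρ : Gt →* Γ} {τ : Γ} {J : Γ → G} {z w : G}

/-- the centraliser of `z` is the double cover -/
structure Cz (ρ : Gt →* Γ) (τ : Γ) (J : Γ → G) (z w : G) : Prop where
  O : Mon.G.Out ρ τ
  hm : Hm (LB ρ τ) J
  ker : ∀ m ∈ LB ρ τ, (J m = 1 ↔ T ρ m)
  hz : J (ρ (pauli tB)) = z
  hw : J (ρ (pauli xc)) = w
  cz : ∀ {g}, Commute z g → ∃ x ∈ HB ρ τ, At ρ τ J g x
  cen : ∀ {g}, At ρ τ J g 1 → g = 1 ∨ g = z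
  no : ∀ {g}, Commute z g → ∃ m ∈ LB ρ τ, J m = g

namespace Cz

variable (h : Cz ρ τ J z w)
include h

theorem eq_iff {a b : Γ} (ha : a ∈ LB ρ τ) (hb : b ∈ LB ρ τ) : J a = J b ↔ T ρ (a * b⁻¹) := by
  rw [← h.ker _ (mul_mem ha (inv_mem hb)), h.hm _ ha _ (inv_mem hb), h.hm.inv hb, mul_inv_eq_one]

theorem pinj {p q : Lab} (a : p ∈ UU) (b : q ∈ UU) : J (ρ (pauli p)) = J (ρ (pauli q)) ↔ p = q ∨ p = tA * q := by
  rw [h.eq_iff (pL a) (pL b), ← map_inv, ← map_inv, rho_pauli_mul, T_pauli h.O, mul_inv_eq_one, mul_inv_eq_iff_eq_mul]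

theorem hP : Hm PB fun γ => J (ρ γ) := fun a ha b hb => by
  simp only [map_mul, h.hm _ (mem_LB ρ τ ha) _ (mem_LB ρ τ hb)]

theorem pm {p q : Lab} (a : p ∈ UU) (b : q ∈ UU) : J (ρ (pauli (p * q))) = J (ρ (pauli p)) * J (ρ (pauli q)) := by
  rw [← rho_pauli_mul, h.hm _ (pL a) _ (pL b)]

theorem cp {γ : Gt} {p : Lab} (a : γ ∈ PB) (b : p ∈ UU) :
    J (ρ γ) * J (ρ (pauli p)) * (J (ρ γ))⁻¹ = J (ρ (pauli (γ • p))) := by
  rw [← h.hm.conj (mem_LB ρ τ a) (pL b), rho_conj]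

theorem cm {a b : Γ} (ha : a ∈ LB ρ τ) (hb : b ∈ LB ρ τ) (c : Commute a b) : Commute (J a) (J b) := by
  rw [commute_iff_eq, ← h.hm _ ha _ hb, ← h.hm _ hb _ ha, c.eq]

theorem cL {a : Γ} (ha : a ∈ LB ρ τ) : Commute z (J a) := h.hz ▸ h.cm (pL B_UU) ha (cR h.O ha B_RAB).symm

theorem cP {γ : Gt} (a : γ ∈ PB) : Commute w (J (ρ γ)) := h.hw ▸ h.cm (pL xc_UU) (mem_LB ρ τ a) (rho_comm_iff' γ).symm

theorem j1 : J (ρ (pauli 1)) = 1 := by rw [map_one, map_one, h.hm.one]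

theorem jA : J (ρ (pauli tA)) = 1 := (h.ker _ (pL (RAB_UU A_RAB))).2 (.inr rfl)

theorem zz : z * z = 1 := by rw [← h.hz, ← h.pm B_UU B_UU, RAB_sq B_RAB, h.j1]

theorem ww : w * w = 1 := by rw [← h.hw, ← h.pm xc_UU xc_UU, xc_mul_xc, h.j1]

theorem z1 : z ≠ 1 := fun e => absurd ((h.pinj B_UU (one_mem _)).1 (h.hz.trans (e.trans h.j1.symm))) (by decide +kernel)

theorem w1 : w ≠ 1 := fun e => absurd ((h.pinj xc_UU (one_mem _)).1 (h.hw.trans (e.trans h.j1.symm))) (by decide +kernel)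

theorem zw : Commute z w := h.hw ▸ h.cL (pL xc_UU)

theorem z_ne : z ≠ w := fun e => absurd ((h.pinj B_UU xc_UU).1 (h.hz.trans (e.trans h.hw.symm))) (by decide +kernel)

theorem jV {v : Lab} (a : v ∈ C3.RAB) : J (ρ (pauli v)) = 1 ∨ J (ρ (pauli v)) = z := by
  rcases a with rfl | rfl | rfl | rfl
  exacts [.inl h.j1, .inl h.jA, .inr h.hz, .inr (by rw [h.pm (RAB_UU A_RAB) B_UU, h.jA, h.hz, one_mul])]

theorem at_J {m : Γ} (a : m ∈ LB ρ τ) : At ρ τ J (J m) m := fun _ b => (h.hm.conj a b).symm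

theorem up {g : G} {m : Γ} (a : m ∈ LB ρ τ) (b : At ρ τ J g m) : g = J m ∨ g = J m * z := by
  have := ((h.at_J a).inv h.O (LH h.O a)).mul h.O b (LH h.O a)
  rw [inv_mul_cancel] at this
  exact (h.cen this).imp (fun e => (inv_mul_eq_one.1 e).symm) inv_mul_eq_iff_eq_mul.1

theorem in_of {g : G} {m : Γ} (a : m ∈ LB ρ τ) (b : At ρ τ J g m) : ∃ m ∈ LB ρ τ, J m = g := by
  rcases h.up a b with rfl | rfl
  exacts [⟨m, a, rfl⟩, ⟨_, mul_mem a (pL B_UU), by rw [h.hm _ a _ (pL B_UU), h.hz]⟩]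

theorem mD {g : G} : g ∈ Dz z ↔ ∃ m ∈ LB ρ τ, J m = g := by
  let j : LB ρ τ →* G := MonoidHom.mk' (fun m => J m) fun a b => h.hm _ a.2 _ b.2
  refine ⟨fun a => ?_, fun ⟨m, a, e⟩ => ?_⟩
  · refine ((commutator_le.2 fun g a k b => ?_ : Dz z ≤ j.range) a).elim fun m e => ⟨m, m.2, e⟩
    obtain ⟨x, c, d⟩ := h.cz (mem_c1.1 a).symm
    obtain ⟨y, e, f⟩ := h.cz (mem_c1.1 b).symm
    obtain ⟨m, l, q⟩ := h.in_of (m := x * y * x⁻¹ * y⁻¹) (by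
      by_cases u : x ∈ LB ρ τ
      · simpa only [mul_assoc, inv_inv] using mul_mem u (cjL h.O e (inv_mem u))
      by_cases v : y ∈ LB ρ τ
      · exact mul_mem (cjL h.O c v) (inv_mem v)
      · rw [mul_assoc]
        exact mul_mem (HB_two h.O c e u v) (HB_two h.O (inv_mem c) (inv_mem e) (mt inv_mem_iff.1 u) (mt inv_mem_iff.1 v)))
      (((d.mul h.O f e).mul h.O (d.inv h.O c) (inv_mem c)).mul h.O (f.inv h.O e) (inv_mem e))
    exact ⟨⟨m, l⟩, q⟩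
  · have : j.range ≤ 𝐂₁(z) := by rintro _ ⟨m, rfl⟩; exact mem_c1.2 (h.cL m.2).symm
    refine commutator_mono this this ?_
    rw [MonoidHom.range_eq_map, ← map_commutator, ← _root_.commutator_def, perL h.O]
    exact ⟨⟨m, a⟩, trivial, e⟩

theorem two_z {g k : G} (a : Commute z g) (b : Commute z k) (c : g ∉ Dz z) (d : k ∉ Dz z) : g * k ∈ Dz z := by
  obtain ⟨x, e, f⟩ := h.cz a
  obtain ⟨y, u, v⟩ := h.cz b
  exact h.mD.2 (h.in_of (HB_two h.O e u (fun l => c (h.mD.2 (h.in_of l f))) fun l => d (h.mD.2 (h.in_of l v))) (f.mul h.O v u))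

theorem two_in {d g k : G} (e : IsConj z d) (a : Commute d g) (b : Commute d k) (c : g ∉ Dz d) (f : k ∉ Dz d) :
    g * k ∈ Dz d := by
  obtain ⟨x, rfl⟩ := isConj_iff.1 e
  have := Dz_cj x (h.two_z (comm_cj.1 a) (comm_cj.1 b) (fun l => c (by simpa [mul_assoc] using Dz_cj x l))
    fun l => f (by simpa [mul_assoc] using Dz_cj x l))
  simpa [mul_assoc] using this

theorem cx {g : G} {x : Γ} (a : x ∈ HB ρ τ) (b : At ρ τ J g x) : Commute w g ↔ Commute (ρ (pauli xc)) x := by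
  have := b _ (pL xc_UU)
  rw [h.hw] at this
  refine ⟨fun c => ?_, fun c => comm_of_conj (by rw [this, conj_of_comm c, h.hw])⟩
  rw [conj_of_comm c, ← h.hw, eq_comm, h.eq_iff (cjL h.O a (pL xc_UU)) (pL xc_UU), T, mul_inv_eq_one,
    mul_inv_eq_iff_eq_mul (c := ρ (pauli tA)), rho_pauli_mul] at this
  exact comm_of_conj (this.resolve_right fun e => h.O.not_conj_short (short_tA.congr (by decide +kernel)) (isConj_iff.2 ⟨x, e⟩))

theorem ofD {g : G} (a : Commute z g) (b : Commute w g) : ∃ γ ∈ PA, ρ γ ∈ HB ρ τ ∧ At ρ τ J g (ρ γ) := by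
  obtain ⟨x, c, d⟩ := h.cz a
  obtain ⟨γ, e, rfl⟩ := of_cx h.O c.1 ((h.cx c d).1 b)
  exact ⟨γ, e, c, d⟩

theorem ofP {g : G} (a : g ∈ Dz z) (b : Commute w g) : ∃ γ ∈ PB, J (ρ γ) = g := by
  obtain ⟨m, c, rfl⟩ := h.mD.1 a
  obtain ⟨γ, -, rfl⟩ := of_cx h.O (LB_le_AA ρ τ c) ((h.cx (LH h.O c) (h.at_J c)).1 b)
  exact ⟨γ, PB_L h.O c, rfl⟩

theorem odd : Odd ((𝐂₁(w)).relIndex 𝐂₁(z)) := by
  let j : LB ρ τ →* 𝐂₁(z) := MonoidHom.mk' (fun m => ⟨J m, mem_c1.2 (h.cL m.2).symm⟩) fun a b => Subtype.ext (h.hm _ a.2 _ b.2)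
  have n := mH (τ := τ) h.O nn2.1 (.inr nn2.2)
  rw [relIndex, ← idx_comap j, show ((𝐂₁(w)).subgroupOf 𝐂₁(z)).comap j = (PB.map ρ).subgroupOf _ from ?_]
  · exact (congrArg Odd h.O.iP).mpr (by decide)
  · ext m
    refine ⟨fun a => ?_, fun ⟨γ, a, e⟩ => mem_c1.2 (show Commute (J m) w by rw [← show ρ γ = m from e]; exact (h.cP a).symm)⟩
    obtain ⟨γ, -, e⟩ := of_cx h.O (LB_le_AA ρ τ m.2) ((h.cx (LH h.O m.2) (h.at_J m.2)).1 (mem_c1.1 a).symm)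
    exact ⟨γ, PB_L h.O (e ▸ m.2), e⟩
  · intro g
    obtain ⟨x, a, b⟩ := h.cz (mem_c1.1 g.2).symm
    have k : ∀ m : LB ρ τ, Commute (ρ (pauli xc)) ((m : Γ)⁻¹ * x) → (j m)⁻¹ * g ∈ (𝐂₁(w)).subgroupOf 𝐂₁(z) := fun m c =>
      mem_c1.2 ((h.cx (mul_mem (inv_mem (LH h.O m.2)) a) (((h.at_J m.2).inv h.O (LH h.O m.2)).mul h.O b a)).2 c).symm
    by_cases c : x ∈ LB ρ τ
    · exact ⟨⟨x, c⟩, k _ (by simp)⟩
    · exact ⟨⟨_, HB_two h.O a (inv_mem n) c fun l => absurd ((PB_L h.O (inv_mem_iff.1 l)).2.symm.trans nn2.2)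
        (by decide +kernel)⟩, k _ (by simpa using id (α := Commute _ _) (rho_comm_iff' (nn 2)).symm)⟩

theorem cenQ {g : G} (a : ∀ p ∈ UU, Commute (J (ρ (pauli p))) g) : (g = 1 ∨ g = z) ∨ g = w ∨ g = w * z := by
  obtain ⟨γ, b, c, d⟩ := h.ofD (h.hz ▸ a _ B_UU) (h.hw ▸ a _ xc_UU)
  have f : ∀ p ∈ UU, J (ρ γ * ρ (pauli p) * (ρ γ)⁻¹) = J (ρ (pauli p)) := fun p k => by
    rw [← d _ (pL k), conj_of_comm (a p k)]
  obtain ⟨q, e⟩ := of_pm h.O (pm_of_U fun p k => S1_mul ((h.pinj (H_UU h.O b c k) k).1 (rho_conj (ρ := ρ) γ p ▸ f p k)))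
  rw [← e] at f d c
  obtain ⟨s, v, k, rfl⟩ := cases_E2 (mem_E2_of (p := q) fun p k => bf_comm _ _ ▸ xp_A (by
    have := f p k
    rwa [rho_conj, h.pinj (H_UU h.O (pauli_PA.2 (bf_of h.O c.1)) c k) k, pauli_smul'] at this))
  have u := xp_UU s
  have := h.up (pL (mul_mem u (RAB_UU k))) d
  rw [h.pm u (RAB_UU k)] at this
  rcases z2_cases s with rfl | rfl <;> rcases h.jV k with l | l <;> rw [l] at this
  exacts [.inl (by simpa [h.hm.one] using this), .inl (by simpa [h.hm.one, h.zz, or_comm] using this),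
    .inr (by simpa [xp_one, h.hw] using this), .inr (by simpa [xp_one, h.hw, mul_assoc, h.zz, or_comm] using this)]

theorem cV {t x : G} (e : t = w ∨ t = w * z) (a : Commute z x) : Commute t x ↔ Commute w x := by
  rcases e with rfl | rfl
  exacts [Iff.rfl, ⟨fun b => by simpa using b.mul_left a.inv_left, fun b => b.mul_left a⟩]

theorem wz_ne : w * z ≠ w := fun e => h.z1 (by simpa using e)

theorem nwz {g : G} (a : Commute z g) : g * w * g⁻¹ ≠ w * z := fun e => by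
  obtain ⟨x, b, c⟩ := h.cz a
  have := c _ (pL xc_UU)
  rw [h.hw, e, ← h.hw, ← h.hz, ← h.pm xc_UU B_UU, eq_comm, h.eq_iff (cjL h.O b (pL xc_UU)) (pL (mul_mem xc_UU B_UU)), T,
    mul_inv_eq_one, mul_inv_eq_iff_eq_mul (c := ρ (pauli tA)), rho_pauli_mul] at this
  rcases this with e | e <;> refine h.O.not_conj_short ?_ (isConj_iff.2 ⟨x, e⟩)
  exacts [short_xB.1, short_xB.2.2.congr (by decide +kernel)]

theorem nP {g : G} (n : ∀ x, Commute z x → Commute w x → Commute z (g * x * g⁻¹) ∧ Commute w (g * x * g⁻¹)) {γ : Gt}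
    (a : γ ∈ PB) : ∃ δ ∈ PB, J (ρ δ) = g * J (ρ γ) * g⁻¹ := by
  have F := h.hP
  have m := fun γ (a : γ ∈ PB) => n _ (h.cL (mem_LB ρ τ a)) (h.cP a)
  refine (perfB (K :=
    { carrier := {γ | γ ∈ PB ∧ ∃ δ ∈ PB, J (ρ δ) = g * J (ρ γ) * g⁻¹}
      one_mem' := ⟨one_mem _, 1, one_mem _, by simp [h.hm.one]⟩
      mul_mem' := fun ⟨a, _, b, c⟩ ⟨d, _, e, f⟩ => ⟨mul_mem a d, _, mul_mem b e, (F _ b _ e).trans (by
        beta_reduce; rw [c, f, ← conj_mul_conj]; exact congrArg (g * · * g⁻¹) (F _ a _ d).symm)⟩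
      inv_mem' := fun ⟨a, _, b, c⟩ => ⟨inv_mem a, _, inv_mem b, (F.inv b).trans (by
        rw [c, conj_inv]; exact congrArg (g * · * g⁻¹) (F.inv a).symm)⟩ })
    ⟨kap_PB, 1, one_mem _, by simp [h.O.kap, h.hm.one]⟩ (fun a ha b hb => ?_) a).2
  have c := mul_mem (mul_mem (mul_mem ha hb) (inv_mem ha)) (inv_mem hb)
  refine ⟨c, h.ofP ?_ (m _ c).2⟩
  have := (F _ (mul_mem (mul_mem ha hb) (inv_mem ha)) _ (inv_mem hb)).trans (congrArg₂ _ (F.conj ha hb) (F.inv hb))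
  beta_reduce at this
  rw [this]
  convert Dz_of (m a ha).1 (m b hb).1 using 1; group

theorem act {g t u : G} (a : t = w ∨ t = w * z) (b : u = w ∨ u = w * z) (e : g * z * g⁻¹ = t) (f : g * u * g⁻¹ = z) :
    ∃ c ∈ PA, ∀ γ ∈ PB, c * γ * c⁻¹ ∈ PB ∧ J (ρ (c * γ * c⁻¹)) = g * J (ρ γ) * g⁻¹ := by
  have F := h.hP
  let R : Subgroup (Gt × Gt) :=
    { carrier := {y | y.1 ∈ PB ∧ y.2 ∈ PB ∧ J (ρ y.2) = g * J (ρ y.1) * g⁻¹}
      one_mem' := ⟨one_mem _, one_mem _, by simp [h.hm.one]⟩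
      mul_mem' := fun a b => ⟨mul_mem a.1 b.1, mul_mem a.2.1 b.2.1,
        (F _ a.2.1 _ b.2.1).trans (by beta_reduce; rw [a.2.2, b.2.2, ← conj_mul_conj]; exact congrArg (g * · * g⁻¹) (F _ a.1 _ b.1).symm)⟩
      inv_mem' := fun a => ⟨inv_mem a.1, inv_mem a.2.1,
        (F.inv a.2.1).trans (by rw [a.2.2, conj_inv]; exact congrArg (g * · * g⁻¹) (F.inv a.1).symm)⟩ }
  have k : ∀ {γ}, Kt tA γ ↔ γ ∈ PB ∧ J (ρ γ) = 1 := fun {γ} => by
    rw [kt_iff h.O]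
    exact ⟨fun k => ⟨PB_L h.O (VL (T_V k)), (h.ker _ (VL (T_V k))).2 k⟩, fun k => (h.ker _ (mem_LB ρ τ k.1)).1 k.2⟩
  obtain ⟨c, hc, l⟩ := Rl.inner (R := R) ⟨A_RAB, A_RAB, fun k => ⟨k.1, k.2.1⟩,
    fun γ l => (h.nP (fun x c d => have d : Commute z (g * x * g⁻¹) := f ▸ ((h.cV b c).2 d).conj g
      ⟨d, (h.cV a d).1 (e ▸ c.conj g)⟩) l).imp fun _ q => ⟨l, q⟩,
    fun γ l => (h.nP (g := g⁻¹) (fun x c d => by
      rw [inv_inv]
      have d : Commute z (g⁻¹ * x * g) := comm_cj.1 (e ▸ (h.cV a c).2 d)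
      exact ⟨d, (h.cV b d).1 (comm_cj.1 (f ▸ c))⟩) l).imp fun _ q => ⟨q.1, l, by rw [q.2]; group⟩,
    fun γ => ((and_iff_right (one_mem _)).trans (and_congr_right' (by simp [h.hm.one]))).trans k.symm,
    fun γ => (and_congr_right' ((and_iff_right (one_mem _)).trans (by simp [h.hm.one, eq_comm (a := (1 : G))]))).trans k.symm⟩
  exact ⟨c, hc, fun γ q => (l γ q).2⟩

theorem exQ : ∃ Q : Subgroup G, IsPGroup 2 Q ∧ ∀ g, g ∈ Q ↔ ∃ p ∈ UU, J (ρ (pauli p)) = g := by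
  let j : UU →* G := MonoidHom.mk' (fun p => J (ρ (pauli p))) fun a b => h.pm a.2 b.2
  refine ⟨j.range, ?_, fun g => ⟨fun ⟨p, e⟩ => ⟨p, p.2, e⟩, fun ⟨p, a, e⟩ => ⟨⟨p, a⟩, e⟩⟩⟩
  rintro ⟨_, p, rfl⟩
  refine ⟨2, Subtype.ext (show j p ^ 4 = 1 from ?_)⟩
  rw [← map_pow, show p ^ 4 = 1 from Subtype.ext (pauli_injective (by simpa using (pm_pauli p.1).pow)), map_one]

theorem dz {d : G} (hd : d = J (ρ (pauli m34)) ∨ d = J (ρ (pauli m34)) * z) (q : ℕ) {y : Lab}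
    (a : lab q ∈ UU ∧ bf m34 (lab q) = 0 ∧ ev gW q * (lab q)⁻¹ = y) : J (ρ (pauli y)) ∈ Dz d := by
  have g : wg gW ∈ PB := ⟨wg_A (by decide +kernel), wg_B (by decide +kernel)⟩
  have c : ∀ γ ∈ PB, γ • m34 = m34 → Commute d (J (ρ γ)) := fun γ k e => by
    have := comm_of_conj ((h.cp k m34_UU).trans (by rw [e]))
    rcases hd with rfl | rfl
    exacts [this, this.mul_left (h.cL (mem_LB ρ τ k))]
  have := Dz_of (c _ g ((wg_smul _ _).trans (by decide +kernel)))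
    (c _ (pauli_PB.2 a.1) (pauli_smul_eq_iff.2 (bf_comm _ _ ▸ a.2.1)))
  rwa [h.cp g a.1, ← h.hm.inv (pL a.1), ← map_inv, ← map_inv, ← h.pm (smul_UU g a.1) (inv_mem a.1), wg_smul, a.2.2] at this

theorem cjB {p q : Lab} (a : p ∈ UU) (e : ∃ γ ∈ PB, γ • p = q) :
    IsConj (J (ρ (pauli p))) (J (ρ (pauli q))) ∧ IsConj (J (ρ (pauli p)) * z) (J (ρ (pauli q)) * z) :=
  let ⟨_, b, e⟩ := e
  ⟨isConj_iff.2 ⟨_, e ▸ h.cp b a⟩, isConj_iff.2 ⟨_, by rw [conj_mul_conj, h.cp b a, e, conj_of_comm (h.cL (mem_LB ρ τ b))]⟩⟩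

theorem flip : IsConj (J (ρ (pauli t5))) (J (ρ (pauli t5)) * z) := by
  rw [← h.hz, ← h.pm t5_UU B_UU]
  exact (h.cjB t5_UU (exB [6, 10, 11, 5, 6, 7, 8, 14, 12, 11, 8, 7, 5, 6, 10, 7, 8, 6, 7, 5, 6] 0x39000 (by decide +kernel))).1

theorem zD {d : G} (c : IsConj z d) : d ∈ Dz d :=
  let ⟨g, e⟩ := isConj_iff.1 c
  e ▸ Dz_cj g (h.mD.2 ⟨_, pL B_UU, h.hz⟩)

theorem typ {d x : G} (c : IsConj z d) (a : x ∈ Dz d) (xx : x * x = 1) (n1 : x ≠ 1) (n2 : x ≠ d) :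
    Pq z x (x * d) w ∨ Pq z x (x * d) (J (ρ (pauli m34))) ∨ Pq z x (x * d) (J (ρ (pauli t5))) := by
  obtain ⟨g, rfl⟩ := isConj_iff.1 c
  obtain ⟨u, b, e⟩ := h.mD.1 (by simpa [mul_assoc] using Dz_cj g⁻¹ a)
  obtain rfl : x = g * J u * g⁻¹ := by rw [e]; group
  obtain ⟨k, l, r, m, v, f, q⟩ := intoL h.O b (T_V ((h.ker _ (mul_mem b b)).1 (by
    rwa [← conj_mul_conj, conj_eq_one_iff, ← h.hm _ b _ b] at xx))) fun ⟨v, f, q⟩ => by
    rcases h.jV f with s | s <;> rw [show ρ (pauli v) = u from q] at s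
    exacts [n1 (by simp [s]), n2 (by rw [s])]
  have o : r ∈ UU := by
    rcases m with rfl | rfl | rfl
    exacts [xc_UU, m34_UU, t5_UU]
  have s := congrArg J q
  rw [h.hm.conj l b, h.pm o (RAB_UU f)] at s
  have s1 : IsConj (g * J u * g⁻¹) (J (ρ (pauli r)) * J (ρ (pauli v))) := isConj_iff.2 ⟨J k * g⁻¹, by rw [← s]; group⟩
  have s2 : IsConj (g * J u * g⁻¹ * (g * z * g⁻¹)) (J (ρ (pauli r)) * J (ρ (pauli v)) * z) :=
    isConj_iff.2 ⟨J k * g⁻¹, by rw [← s, ← conj_mul_conj, ← conj_of_comm (h.cL l), ← conj_mul_conj, conj_of_comm (h.cL l)]; group⟩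
  have t : Pq z (g * J u * g⁻¹) (g * J u * g⁻¹ * (g * z * g⁻¹)) (J (ρ (pauli r))) := by
    rcases h.jV f with s | s <;> rw [s] at s1 s2
    exacts [.inl (by simpa using And.intro s1 s2), .inr ⟨s1, by rwa [mul_assoc _ z z, h.zz, mul_one] at s2⟩]
  rcases m with rfl | rfl | rfl
  exacts [.inl (h.hw ▸ t), .inr (.inl t), .inr (.inr t)]

theorem noT3 (n1 : ¬ IsConj z w) (n2 : ¬ IsConj w (w * z)) : ¬ Pq z z w (J (ρ (pauli m34))) := fun H => by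
  have key : ∀ {d y}, IsConj z d → y ∈ Dz d → y * y = 1 → IsConj y (y * d) → IsConj y (J (ρ (pauli t5))) := fun {d y} a b c e => by
    have dd : d * d = 1 := let ⟨_, e⟩ := isConj_iff.1 a; conj_sq e h.zz
    have d1 : d ≠ 1 := fun k => h.z1 (by simpa [k] using a)
    rcases h.typ a b c (fun k => d1 (by simpa [k] using e.symm)) (fun k => d1 (by simpa [k, dd] using e)) with k | k | k
    exacts [absurd (k.same.1 e) n2, absurd (H.same.2 (k.same.1 e)) n1, k.elim And.left fun k => k.1.trans h.flip.symm]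
  have mm : J (ρ (pauli m34)) * J (ρ (pauli m34)) = 1 := by
    rw [← h.pm m34_UU m34_UU, show m34 * m34 = 1 by decide +kernel, h.j1]
  have zd : ∀ {d}, d = J (ρ (pauli m34)) ∨ d = J (ρ (pauli m34)) * z → z ∈ Dz d := fun a =>
    h.hz ▸ h.dz a 0x8149f (by decide +kernel)
  have fin : ∀ {d p q}, d = J (ρ (pauli m34)) ∨ d = J (ρ (pauli m34)) * z → IsConj z d → J (ρ (pauli p)) ∈ Dz d →
      J (ρ (pauli p)) * d = J (ρ (pauli q)) → (∃ γ ∈ PB, γ • m34 = p) → (∃ γ ∈ PB, γ • m34 = q) → False :=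
    fun {d p q} a b c e f g => by
    have zd := zd a
    obtain ⟨f1, f2⟩ := h.cjB m34_UU f
    obtain ⟨g1, g2⟩ := h.cjB m34_UU g
    have sq : ∀ {x y : G}, IsConj x y → x * x = 1 → y * y = 1 := fun k => let ⟨_, e⟩ := isConj_iff.1 k; conj_sq e
    exact n1 (H.same.2 ((f1.trans (key b c (sq f1 mm) (e ▸ f1.symm.trans g1))).trans (f2.trans (key b (mul_mem c zd)
      (sq f2 (by rw [← pow_two, (h.cL (pL m34_UU)).symm.mul_pow, pow_two, pow_two, mm, h.zz, one_mul]))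
      (by rw [mul_assoc, ← (Dz_cm zd).eq, ← mul_assoc, e]; exact f2.symm.trans g2))).symm))
  rcases id H with ⟨a, -⟩ | ⟨a, -⟩
  · exact fin (p := lab 0x48f000) (q := lab 0x497000) (.inl rfl) a (h.dz (.inl rfl) 0x1120 (by decide +kernel))
      (by rw [← h.pm (by decide +kernel) m34_UU, show lab 0x48f000 * m34 = lab 0x497000 by decide +kernel])
      (exB [7, 6, 10, 11, 14, 9, 8, 7, 6, 10, 11, 9, 6, 7] 0x18000 (by decide +kernel))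
      (exB [14, 11, 12, 10, 11, 14, 5] 0x18000 (by decide +kernel))
  · refine fin (p := lab 0xe804ff * m34) (q := lab 0xe804ff * m34 * (m34 * tB)) (.inr rfl) a ?_
      (by rw [h.pm (by decide +kernel) (mul_mem m34_UU B_UU), h.pm m34_UU B_UU, h.hz])
      (exB [14, 5, 6, 10, 11, 10, 7, 8, 6, 7] 0x18000 (by decide +kernel))
      (exB [12, 10, 11, 14, 12, 9, 8, 7, 6, 10, 11, 9, 8, 7, 6, 5] 0x18000 (by decide +kernel))
    rw [h.pm (by decide +kernel) m34_UU]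
    exact mul_mem (h.dz (.inr rfl) 0x20267 (by decide +kernel))
      ((mul_mem_cancel_right (zd (.inr rfl))).1 (h.zD a))

variable [Finite G]

theorem sym {g : G} (a : g * z * g⁻¹ = w ∨ g * z * g⁻¹ = w * z) : ∃ k u, (u = w ∨ u = w * z) ∧
    k * z * k⁻¹ = g * z * g⁻¹ ∧ k * u * k⁻¹ = z := by
  obtain ⟨Q, q1, q2⟩ := h.exQ
  have i := h.odd
  have e : Nat.card ↥(𝐂₁(g⁻¹ * z * g) ⊓ 𝐂₁(z)) = Nat.card ↥(𝐂₁(w) ⊓ 𝐂₁(z)) := by
    rw [← card_cj g, cj_inf, cj_centralizer_singleton, cj_centralizer_singleton, show g * (g⁻¹ * z * g) * g⁻¹ = z by group]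
    exact congrArg (fun H : Subgroup G => Nat.card H) (Subgroup.ext fun x => and_comm.trans (and_congr_left fun k =>
      mem_c1.trans (eq_comm.trans ((h.cV a (mem_c1.1 k).symm).trans (eq_comm.trans mem_c1.symm)))))
  have a1 := card_of_relIndex (inf_le_right : 𝐂₁(w) ⊓ 𝐂₁(z) ≤ _)
  rw [card_of_relIndex (inf_le_right : 𝐂₁(g⁻¹ * z * g) ⊓ 𝐂₁(z) ≤ _), e, inf_relIndex_right, inf_relIndex_right] at a1
  rw [← Nat.eq_of_mul_eq_mul_right Nat.card_pos a1] at i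
  obtain ⟨⟨c, hc⟩, k⟩ := O.exists_conj_cent (isPGroup_subgroupOf q1 (L := 𝐂₁(z))) i
  have d' := conj_of_comm (Commute.inv_right (mem_c1.1 hc).symm)
  have n : g * z * g⁻¹ ≠ z := fun e => a.elim (fun k => h.z_ne (e.symm.trans k)) fun k => h.w1 (by simpa [e] using k)
  refine ⟨g * c⁻¹, c * (g⁻¹ * z * g) * c⁻¹, (h.cenQ fun p l => ?_).resolve_left fun e => e.elim (fun e => h.z1 ?_) fun e => n ?_,
    by rw [← conj_conj', d'], by group⟩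
  · exact (comm_cj.2 (mem_c1.1 (k ⟨_, mem_c1.2 (h.cL (pL l)).symm⟩ ((q2 _).2 ⟨p, l, rfl⟩))).symm).symm
  · exact one_of_cj (conj_eq_one_iff.1 e)
  · calc _ = g * (c⁻¹ * z * c⁻¹⁻¹) * g⁻¹ := by rw [d']
      _ = g * (c⁻¹ * (c * (g⁻¹ * z * g) * c⁻¹) * c⁻¹⁻¹) * g⁻¹ := by rw [e]
      _ = z := by group

theorem nzw : ¬ IsConj z w := fun c => by
  obtain ⟨g, e⟩ := isConj_iff.1 c
  obtain ⟨k, u, a, b, d⟩ := h.sym (.inl e)
  obtain ⟨c, -, f⟩ := h.act (.inl rfl) a (b.trans e) d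
  have := (f _ (pauli_PB.2 xc_UU)).2
  rw [conj_pauli', smul_xc, h.hw] at this
  exact h.z_ne (by simpa using (b.trans e).trans this)

theorem nw (n : ¬ IsConj z (w * z)) : ¬ IsConj w (w * z) := fun c => by
  obtain ⟨Q, q1, q2⟩ := h.exQ
  have key : ∀ S : Subgroup G, Q ≤ S → S ≤ 𝐂₁(z) ⊓ 𝐂₁(w) → 𝐍(S) ≤ 𝐂₁(z) ⊓ 𝐂₁(w) := fun S a b g hg => by
    have k : ∀ {x}, (∀ s ∈ S, Commute x s) → (g * x * g⁻¹ = 1 ∨ g * x * g⁻¹ = z) ∨ g * x * g⁻¹ = w ∨ g * x * g⁻¹ = w * z :=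
      fun c => h.cenQ fun p l => (comm_cj.2 (c _ ((mem_normalizer_iff''.1 hg _).1 (a ((q2 _).2 ⟨p, l, rfl⟩))))).symm
    have e : Commute z g := by
      rcases k fun s hs => (mem_c1.1 (b hs).1).symm with (e | e) | e | e
      exacts [absurd (conj_eq_one_iff.1 e) h.z1, comm_of_conj e, absurd (isConj_iff.2 ⟨g, e⟩) h.nzw,
        absurd (isConj_iff.2 ⟨g, e⟩) n]
    refine ⟨mem_c1.2 e.symm, mem_c1.2 (Commute.symm ?_)⟩
    rcases k fun s hs => (mem_c1.1 (b hs).2).symm with (f | f) | f | f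
    exacts [absurd (conj_eq_one_iff.1 f) h.w1, absurd (isConj_iff.2 ⟨g, f⟩).symm h.nzw, comm_of_conj f, absurd f (h.nwz e)]
  obtain ⟨P, hP⟩ := q1.exists_le_sylow
  have QD : Q ≤ 𝐂₁(z) ⊓ 𝐂₁(w) := fun x a => by
    obtain ⟨p, l, rfl⟩ := (q2 x).1 a
    exact ⟨mem_c1.2 (h.cL (pL l)).symm, mem_c1.2 (h.cP (pauli_PB.2 l)).symm⟩
  have PD : (P : Subgroup G) ≤ 𝐂₁(z) ⊓ 𝐂₁(w) := by
    by_contra m
    exact (lt_inf_normalizer P.isPGroup' (inf_lt_left.2 m)).not_ge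
      (inf_le_inf_left _ (key _ (le_inf hP QD) inf_le_right))
  obtain ⟨g, e⟩ := isConj_iff.1 c
  obtain ⟨m, a, b⟩ := P.conj_eq_normalizer_conj_of_mem_centralizer w g⁻¹ (fun s hs => mem_c1.1 (PD hs).2) (by
    rw [inv_inv, e]
    exact fun s hs => (Commute.mul_right (mem_c1.1 (PD hs).2) (mem_c1.1 (PD hs).1) :))
  refine h.wz_ne ?_
  rw [← e, ← inv_inv g, inv_inv g⁻¹, b, mul_assoc, ← mem_c1.1 (key P hP PD a).2, inv_mul_cancel_left]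

theorem inner (x : ∃ g, Commute z (g * z * g⁻¹) ∧ g * z * g⁻¹ ≠ z) : ∃ y ∈ Dz z, IsConj z y ∧ y ≠ z := by
  obtain ⟨g, c, n⟩ := x
  by_cases m : g * z * g⁻¹ ∈ Dz z
  · exact ⟨_, m, isConj_iff.2 ⟨g, rfl⟩, n⟩
  obtain ⟨⟨k, hk⟩, l⟩ := O.exists_conj_cent (isPGroup_zpowers (x := (⟨_, mem_c1.2 c.symm⟩ : 𝐂₁(z))) (k := 1)
    (Subtype.ext (by simpa [pow_two] using conj_sq (g := g) rfl h.zz))) h.odd
  have kz : Commute z k := (mem_c1.1 hk).symm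
  have d : Commute w (k⁻¹ * (g * z * g⁻¹) * k) := (mem_c1.1 (l _ (mem_zpowers _))).symm
  replace c : Commute z (k⁻¹ * (g * z * g⁻¹) * k) := (kz.inv_right.mul_right c).mul_right kz
  replace m : k⁻¹ * (g * z * g⁻¹) * k ∉ Dz z := fun a => m (by simpa [mul_assoc, ← kz.eq] using Dz_cj k a)
  obtain ⟨f, e⟩ : ∃ f, f * z * f⁻¹ = k⁻¹ * (g * z * g⁻¹) * k := ⟨k⁻¹ * g, by group⟩
  generalize k⁻¹ * (g * z * g⁻¹) * k = n at c d m e
  have nn := conj_sq e h.zz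
  have zn := isConj_iff.2 ⟨f, e⟩
  obtain ⟨γ, a, b, t⟩ := h.ofD c d
  have F : Hm UU fun p => J (ρ (pauli p)) := fun _ a _ b => h.pm a b
  have hK := fun p => H_UU h.O a b (p := p)
  have A : ∀ p ∈ UU, n * J (ρ (pauli p)) * n⁻¹ = J (ρ (pauli (γ • p))) := fun p l => by rw [t _ (pL l), rho_conj]
  have p2 : PM (γ * γ) := pm_of_U fun p l => S1_mul (by
    rw [mul_smul, ← h.pinj (hK _ (hK p l)) l, ← A _ (hK p l), ← A p l, conj_conj', nn]; simp)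
  have np : ¬ PM γ := fun k => m (h.mD.2 (h.in_of (mem_LB ρ τ ⟨a, RAB_eq ((ofH h.O b).elim (fun e => e.symm ▸ B_RAB)
    fun e => e.symm ▸ mul_mem A_RAB B_RAB) B_RAB (pm_eqv k _)⟩) t))
  have i := idx_kf (f := fun p => bf p (γ • p)) (h := mu p2) idx_UU
  obtain ⟨p, p1, p3⟩ := bigA p2 np _ i [0] (by decide)
  obtain ⟨q, q1, q3⟩ := bigA p2 np _ (idx_kf (f := (bf · (lm γ p))) (h := fun _ _ => bf_mul _ _ _) i) [0, kp γ p] (by simp)
  have fin : ∀ r ∈ UU, kp γ r ∉ S1 tA → J (ρ (pauli (lm γ r))) ∈ Dz n → ∃ y ∈ Dz z, IsConj z y ∧ y ≠ z := fun r u v y =>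
    ⟨_, by simpa [← e, mul_assoc] using Dz_cj f⁻¹ (mul_mem y (h.zD zn)), (zn.trans (isConj_iff.2 ⟨_, lm_cj F hK A u⟩)).trans
      (isConj_iff.2 ⟨f⁻¹, by rw [← e]; group⟩), fun s => v (by
        rw [← lam_lm]
        refine S1_of ((T_pauli h.O).1 ((h.ker _ (pL (lm_mem hK u))).1 ?_))
        simpa [← e, mul_assoc, inv_mul_eq_iff_eq_mul, ← mul_assoc f z] using s)⟩
  by_cases u : J (ρ (pauli (lm γ p))) ∈ Dz n
  · exact fin p p1.2 (by simpa using p3) u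
  by_cases v : J (ρ (pauli (lm γ q))) ∈ Dz n
  · exact fin q q1.2.2 (by simpa using q3 0 (by simp)) v
  refine fin (q * p) (mul_mem q1.2.2 p1.2) (kp_mul _ _ _ ▸ q3 _ (by simp)) ?_
  rw [lm_mul, show bf q _ = 0 from q1.1, xp_zero, one_mul, h.pm (lm_mem hK p1.2) (lm_mem hK q1.2.2)]
  exact h.two_in zn (lm_cm F hK A nn p1.2 p1.1) (lm_cm F hK A nn q1.2.2 q1.2.1) u v

theorem pairW (x : ∃ g, Commute z (g * z * g⁻¹) ∧ g * z * g⁻¹ ≠ z) : IsConj z (w * z) := by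
  by_contra n
  have n2 := h.nw n
  have n1 := h.nzw
  obtain ⟨y, a, b, c⟩ := h.inner x
  have fin : ∀ p, p ∈ UU ∧ bf (X 11) p = 0 ∧ bf Y0 p = 0 ∧ bf (X 3) p = 1 → ¬ IsConj z (J (ρ (pauli p))) := fun p k l => by
    have c : ∀ {q}, q ∈ UU → bf q p = 0 → Commute (J (ρ (pauli p))) (J (ρ (pauli q))) := fun u v =>
      comm_of_conj ((h.cp (pauli_PB.2 u) k.1).trans (by rw [pauli_smul_eq_iff.2 v]))
    have x1 := pauli_PB.1 X11_PB
    have m := Dz_of (c x1 k.2.1) (c Y0_UU k.2.2.1)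
    rw [h.cp X11_PB Y0_UU, pauli_smul_of_one bf_11Y, h.pm xc_UU Y0_UU, mul_inv_cancel_right, h.hw] at m
    have s : IsConj z (w * J (ρ (pauli p))) := l.trans (isConj_iff.2 ⟨_, by
      rw [h.cp (pauli_PB.2 (show X 3 ∈ UU by decide +kernel)) k.1, pauli_smul_of_one k.2.2.2, h.pm xc_UU k.1, h.hw]⟩)
    rcases h.typ l m h.ww h.w1 (fun e => n1 (e ▸ l)) with t | t | t
    exacts [t.elim (fun t => n (s.trans t.2)) fun t => n2 t.1,
      h.noT3 n1 n2 (t.symm.imp (fun t => ⟨s.trans t.2, t.1⟩) fun t => ⟨s.trans t.2, t.1⟩),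
      n1 (s.trans (t.same.2 h.flip).symm)]
  have f2 : ∀ r, (r ∈ UU ∧ bf (X 11) r = 0 ∧ bf Y0 r = 0 ∧ bf (X 3) r = 1) ∧ (r * tB ∈ UU ∧ bf (X 11) (r * tB) = 0 ∧
      bf Y0 (r * tB) = 0 ∧ bf (X 3) (r * tB) = 1) → ¬ Pq z y (y * z) (J (ρ (pauli r))) := fun r k t =>
    t.elim (fun t => fin r k.1 (b.trans t.1)) fun t => fin _ k.2 (by rw [h.pm k.1.1 B_UU, h.hz]; exact b.trans t.1)
  obtain ⟨g, e⟩ := isConj_iff.1 b
  rcases h.typ (IsConj.refl z) a (conj_sq e h.zz) (fun k => h.z1 (by simpa [k] using b)) c with t | t | t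
  exacts [t.elim (fun t => n1 (b.trans t.1)) fun t => n (b.trans t.1), f2 _ (by decide +kernel) t, f2 _ (by decide +kernel) t]

end Cz

end CF.StdZ.Bc
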