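import Cfsg.Agent.StdZ.BcF

/-! The centraliser of a transposition has an outer automorphism. -/

set_option autoImplicit false
set_option maxHeartbeats 400000
set_option maxRecDepth 100000

namespace CF.StdZ.Bc

open Cfsg Subgroup CF.Leech CF.Mon CF.Mon.G CF.Mon.L CF.Mon.Lab CF.Known.Mon MulAction CF.LX CF.Loc
open CF.Even Function Spor CF.MonU CF.Mon.O CF.BabU CF.StdZ.Bm CF.StdZ.Bb
open scoped commutatorElement Pointwise

variable {Γ G : Type*} [Group Γ] [Group G] {ρ : Gt →* Γ} {τ : Γ} {J : Γ → G} {z w s : G} {α : Lab → G}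

theorem pm_of_Y {γ : Gt} (a : γ • tA = tA) (h : ∀ p ∈ UY, γ • p = p ∨ γ • p = tA * p) : PM γ := by
  have s : ∀ p ∈ UY, (γ * γ) • p = p := fun p hp => by
    rw [mul_smul]
    rcases h p hp with e | e
    exacts [by rw [e, e], by rw [e, smul_mul', a, e, ← mul_assoc, tA_sq, one_mul]]
  have k : ∀ {δ}, PM (δ * δ) → (∀ p ∈ UY, δ • p = p ∨ δ • p = tA * p) → PM δ := fun {δ} d f => by
    by_contra n
    obtain ⟨p, b, c⟩ := bigA d n UY idx_UY [0] (by decide)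
    exact c 0 (by simp) (by rw [add_zero]; exact S1_mul (f p b))
  refine k (k ?_ fun p b => .inl (s p b)) h
  generalize γ * γ = δ at s
  refine gOf_of_eqv fun p => lam_eq_iff.1 (w2_eq.1 ?_)
  obtain ⟨u, b, c⟩ : ∃ u ∈ UY, δ • p * p ≈ₗ u := by
    obtain ⟨v, b, c⟩ := perpY (d := δ • p * p) fun r hr => by
      rw [bf_mul', ← s r hr, bf_smul, s r hr, z2_add_self]
    have : v ∈ UY := ⟨bf_comm _ _ ▸ bf_E2 Y0_UU (RAB_E2 b), RAB_UU b⟩
    exact c.elim (⟨v, this, ·⟩) (⟨_, mul_mem this ⟨bf_self _, Y0_UU⟩, ·⟩)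
  have := lam_eq_iff.2 (c.smul δ)
  rw [s u b, ← lam_eq_iff.2 c, smul_mul', lam_mul, lam_mul, add_comm (Mon.G.lam (δ • p)) (Mon.G.lam p), add_left_inj] at this
  rw [mul_smul, this, W2.add_self]

/-- an element fixing `Y0` -/
noncomputable def c1 : Gt := wg [11, 10, 7, 8, 13] * pauli (X 2)

theorem c1_A : c1 • tA = tA := by rw [c1, mul_smul, X2_A]; exact wg_A (by decide +kernel)

theorem c1_B : c1 • tB = tA * (xc * tB) := by
  rw [c1, mul_smul, X2_B, smul_xc_mul, wg_B (p := tA * tB) (by decide +kernel)]; decide +kernel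

theorem c1_Y : c1 • Y0 = Y0 := by
  rw [c1, mul_smul, pauli_smul_eq_iff.2 (by decide +kernel), ← lab_Y, wg_smul]; decide +kernel

theorem wd_B : (y1 * wg [7, 11] * y1 * wg [11, 7] * y1 * pauli (X 2)) • tB = tA * tB := by
  simp only [mul_smul, X2_B, smul_xc_mul]
  rw [← lab_tB, y1_ev, yv, wg_smul, ev, y1_ev, yv, wg_smul, ev, y1_ev]
  decide +kernel

namespace Cz

variable (h : Cz ρ τ J z w)
include h

theorem no2 {g : G} {c : Gt} (hc : c ∈ PA) (f : ∀ γ ∈ PB, c * γ * c⁻¹ ∈ PB ∧ J (ρ (c * γ * c⁻¹)) = g * J (ρ γ) * g⁻¹) :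
    c • tB ≠ tA * (xc * tB) := fun e => by
  have O := h.O
  have tL := tau_mem_LB ρ τ
  have i : c1⁻¹ • tB = tA * (xc * tB) := by
    rw [inv_smul_eq_iff, smul_mul', smul_xc_mul, c1_A, c1_B]; decide +kernel
  have b : c1 * c⁻¹ ∈ PB := inv_mem_iff.1 (C3.PB_of (by simpa using mul_mem hc (inv_mem c1_A)) (by
    rw [mul_inv_rev, inv_inv, mul_smul, i, smul_mul', smul_xc_mul, mem_stabilizer_iff.1 hc, e]; decide +kernel))
  let D : Γ → Prop := fun m => m ∈ LB ρ τ ∧ Commute (ρ (pauli xc)) m ∧ Commute (ρ (pauli Y0)) m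
  have xz : ρ (pauli xc) * ρ (pauli Y0) = ρ (pauli (Z 11)) := by rw [rho_pauli_mul]; exact congrArg (fun p => ρ (pauli p)) (by decide +kernel)
  have key : ∀ m, D m → D (ρ c1 * τ * m * (ρ c1 * τ)⁻¹) ∧
      J (ρ (c1 * c⁻¹)) * g * J τ * J m * (J (ρ (c1 * c⁻¹)) * g * J τ)⁻¹ = J (ρ c1 * τ * m * (ρ c1 * τ)⁻¹) := fun m ⟨k, l, n⟩ => by
    have x : Commute (ρ (pauli xc)) (τ * m * τ⁻¹) := by rw [← Out.conj_z O, ← xz]; exact (l.mul_left n).conj τ
    have y : Commute (ρ (pauli Y0)) (τ * m * τ⁻¹) := O.conj_x ▸ l.conj τ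
    obtain ⟨γ, q⟩ := Out.of_comm_x O x.symm
    have u := PB_L O (q ▸ mul_mem (mul_mem tL k) (inv_mem tL))
    have v := mul_mem (mul_mem b (f γ u).1) (inv_mem b)
    have r : c1 * c⁻¹ * (c * γ * c⁻¹) * (c1 * c⁻¹)⁻¹ = c1 * γ * c1⁻¹ := by group
    rw [← conj_conj', ← conj_conj', ← conj_conj', ← h.hm.conj tL k, ← q, ← (f γ u).2, ← h.hP.conj b (f γ u).1, r, ← map_inv,
      ← map_mul, ← map_mul]
    refine ⟨⟨mem_LB ρ τ (r ▸ v), (rho_comm_iff' _).symm, ?_⟩, rfl⟩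
    rw [map_mul, map_mul, map_inv, q, ← c1_Y, ← rho_conj]
    exact y.conj _
  generalize J (ρ (c1 * c⁻¹)) * g * J τ = k at key
  have tA' : ρ c1 * τ * ρ (pauli tA) * (ρ c1 * τ)⁻¹ = ρ (pauli tA) := by
    rw [← conj_conj', conj_of_comm (cR O tL A_RAB).symm, rho_conj, c1_A]
  have tB' : ρ c1 * τ * ρ (pauli tB) * (ρ c1 * τ)⁻¹ = ρ (pauli tA) * (ρ (pauli xc) * ρ (pauli tB)) := by
    rw [← conj_conj', conj_of_comm (cR O tL B_RAB).symm, rho_conj, c1_B, rho_pauli_mul, rho_pauli_mul]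
  have t1 : ρ c1 * τ * ρ (pauli xc) * (ρ c1 * τ)⁻¹ = ρ (pauli Y0) := by rw [← conj_conj', O.conj_x, rho_conj, c1_Y]
  have t2 : ρ c1 * τ * ρ (pauli Y0) * (ρ c1 * τ)⁻¹ = ρ (pauli xc) * ρ (pauli Y0) := by
    rw [← conj_conj', O.conj_y, ← xz, conj_mul_conj, rho_conj, rho_conj, c1_Y, smul_xc]
  generalize ρ c1 * τ = y at key tA' tB' t1 t2
  have k3 : ∀ m, D m → D (y * y * y * m * (y * y * y)⁻¹) ∧ k * k * k * J m * (k * k * k)⁻¹ = J (y * y * y * m * (y * y * y)⁻¹) :=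
    fun m a => by
    simp only [← conj_conj']
    exact ⟨(key _ (key _ (key m a).1).1).1, by rw [(key m a).2, (key _ (key m a).1).2, (key _ (key _ (key m a).1).1).2]⟩
  obtain ⟨δ, d⟩ := Out.of_comm_x O (g := y * y * y) (mul_inv_eq_iff_eq_mul.1 (by
    simp only [← conj_conj', t1, t2, conj_mul_conj y (ρ _) (ρ _), rho_pauli_mul]
    rw [← rho_pauli_mul, conj_mul_conj, t1, t2, rho_pauli_mul, rho_pauli_mul]; exact congrArg (fun p => ρ (pauli p)) (by decide +kernel)))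
  have dA : δ • tA = tA := O.inj.1 (by rw [← rho_conj, d]; simp only [← conj_conj', tA'])
  have dB : δ • tB = tA * tB := O.inj.1 (by
    rw [← rho_conj, d]
    simp only [← conj_conj', tB', conj_mul_conj y, tA', t1, t2]
    simp only [rho_pauli_mul]; exact congrArg (fun p => ρ (pauli p)) (by decide +kernel))
  rw [← d] at k3
  have DY : ∀ {p}, p ∈ UY → D (ρ (pauli p)) := fun a => ⟨pL a.2, (rho_comm_iff' _).symm,
    ((rho_comm_iff O.x_ne).2 (pauli_smul_eq_iff.2 a.1)).symm⟩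
  have cz : Commute z (k * k * k) := comm_of_conj (by
    rw [← h.hz, (k3 _ (DY B_UY)).2, rho_conj, dB, h.pm (RAB_UU A_RAB) B_UU, h.jA, one_mul])
  obtain ⟨β, u, v⟩ := h.ofP (h.mD.2 (h.no cz)) (comm_of_conj (by
    rw [← h.hw, (k3 _ (DY ⟨bf_xc _, xc_UU⟩)).2, rho_conj, smul_xc]))
  have := pm_eqv (pm_of_Y (γ := β⁻¹ * δ) (by rw [mul_smul, dA, mem_stabilizer_iff.1 (inv_mem u).1]) fun p a => by
    obtain ⟨l, n⟩ := k3 _ (DY a)
    rw [rho_conj] at l n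
    rw [← v, h.cp u a.2, eq_comm, h.pinj (pauli_PB.1 (PB_L O l.1)) (smul_UU u a.2)] at n
    rw [mul_smul]
    exact n.imp (fun e => by rw [e, inv_smul_smul]) fun e => by
      rw [e, smul_mul', inv_smul_smul, mem_stabilizer_iff.1 (inv_mem u).1]) tB
  rw [mul_smul, dB, fix_RAB (inv_mem u) (mul_mem A_RAB B_RAB)] at this
  exact absurd this (by decide +kernel)

variable [Finite G]

theorem exists_r (x : IsConj z (w * z)) : ∃ r, r * r = 1 ∧
    ∀ γ ∈ PB, r * J (ρ γ) * r⁻¹ = J (ρ (pauli (X 2) * γ * (pauli (X 2))⁻¹)) := by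
  obtain ⟨g0, e⟩ := isConj_iff.1 x
  obtain ⟨g, u, a, b, d⟩ := h.sym (.inr e)
  replace b := b.trans e
  obtain ⟨c, hc, f⟩ := h.act (.inr rfl) a b d
  have xi : (pauli (X 2))⁻¹ = pauli (X 2) := inv_eq_of_mul_eq_one_right X2_sq
  obtain ⟨t1, t⟩ := f _ (pauli_PB.2 B_UU)
  rw [conj_pauli'] at t1 t
  rw [h.hz, b, ← h.hw, ← h.hz, ← h.pm xc_UU B_UU, h.pinj (pauli_PB.1 t1) (mul_mem xc_UU B_UU)] at t
  have m0 := mem_LB ρ τ (C3.PB_of (mul_mem hc (inv_mem X2_A)) (by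
    rw [xi, mul_smul, X2_B, smul_xc_mul, t.resolve_right (h.no2 hc f), xc_xc]))
  have m := LH h.O m0
  have l := h.at_J m0
  generalize J (ρ (c * (pauli (X 2))⁻¹)) = k at l
  have rc : ∀ γ ∈ PB, k⁻¹ * g * J (ρ γ) * (k⁻¹ * g)⁻¹ = J (ρ (pauli (X 2) * γ * (pauli (X 2))⁻¹)) := fun γ s => by
    rw [← conj_conj', ← (f γ s).2, l.inv h.O m _ (mem_LB ρ τ (f γ s).1)]
    simp only [map_mul, map_inv]
    congr 1; group
  generalize k⁻¹ * g = r at rc
  have rz := rc _ (pauli_PB.2 B_UU)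
  rw [conj_pauli', X2_B, h.pm xc_UU B_UU, h.hz, h.hw] at rz
  have n : ¬ Commute z r := fun k => h.w1 (by simpa [conj_of_comm k] using rz)
  have rw' : Commute w r := comm_of_conj (by simpa only [conj_pauli', smul_xc, h.hw] using rc _ (pauli_PB.2 xc_UU))
  rcases h.cenQ (g := r * r) fun p k => comm_of_conj (by
    rw [← conj_conj', rc _ (pauli_PB.2 k), rc _ (cjPB _ (pauli_PB.2 k)), conj_conj', X2_sq]; simp) with (q | q) | q | q
  · exact ⟨r, q, rc⟩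
  · exact (n (q ▸ Commute.mul_left rfl rfl)).elim
  · refine ⟨r * z, ?_, fun γ k => by rw [← conj_conj', conj_of_comm (h.cL (mem_LB ρ τ k)).symm, rc γ k]⟩
    calc _ = r * z * r⁻¹ * (r * r) * z := by group
      _ = _ := by rw [rz, q, mul_assoc w, h.zw.eq, ← mul_assoc, h.ww, one_mul, h.zz]
  · exact (n (by simpa using rw'.inv_left.mul_left (q ▸ Commute.mul_left rfl rfl : Commute (w * z) r))).elim

end Cz

/-- the extraspecial group extends the one of the double cover -/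
structure Az (ρ : Gt →* Γ) (τ : Γ) (J : Γ → G) (z w : G) (α : Lab → G) : Prop extends Cz ρ τ J z w where
  hom : Hm (Pp tA) α
  eq : ∀ {p}, p ∈ UU → α p = J (ρ (pauli p))
  cj : ∀ γ ∈ PB, ∀ p ∈ Pp tA, J (ρ γ) * α p * (J (ρ γ))⁻¹ = α (γ • p)

theorem Cz.exists_al [Finite G] (h : Cz ρ τ J z w) (x : IsConj z (w * z)) : ∃ α, Az ρ τ J z w α := by
  obtain ⟨r, rr, rc⟩ := h.exists_r x
  have xi : (pauli (X 2))⁻¹ = pauli (X 2) := inv_eq_of_mul_eq_one_right X2_sq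
  have s : ∀ {p q}, p ∈ UU → q ∈ UU → J (ρ (pauli p)) * r * J (ρ (pauli q)) = J (ρ (pauli (p * X 2 * q * X 2))) * r :=
    fun {p q} a b => by
      have c := cjPB (X 2) (pauli_PB.2 b)
      rw [xi, ← map_mul, ← map_mul] at c
      rw [mul_assoc, mul_inv_eq_iff_eq_mul.1 (rc _ (pauli_PB.2 b)), xi, ← map_mul pauli, ← map_mul pauli, ← mul_assoc,
        ← h.pm a (pauli_PB.1 c)]
      simp only [mul_assoc]
  have xx : ∀ p, p * X 2 * X 2 = p := fun p => by rw [mul_assoc, X_mul_X, mul_one]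
  refine ⟨fun p => if bf p tB = 0 then J (ρ (pauli p)) else J (ρ (pauli (p * X 2))) * r, h, fun p u q v => ?_,
    fun a => if_pos a.2, fun γ k p u => ?_⟩
  · by_cases a : bf p tB = 0 <;> by_cases b : bf q tB = 0
    · rw [if_pos a, if_pos b, if_pos (by rw [bf_mul, a, b, add_zero]), h.pm ⟨u, a⟩ ⟨v, b⟩]
    · rw [if_pos a, if_neg b, if_neg (by rwa [bf_mul, a, zero_add]), ← mul_assoc, ← h.pm ⟨u, a⟩ (bf_X2 v b), mul_assoc p]
    · rw [if_neg a, if_pos b, if_neg (by rwa [bf_mul, b, add_zero]), s (bf_X2 u a) ⟨v, b⟩, xx]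
    · rw [if_neg a, if_neg b, if_pos (by rw [bf_mul, (z2_cases _).resolve_left a, (z2_cases _).resolve_left b]; rfl),
        ← mul_assoc, s (bf_X2 u a) (bf_X2 v b), xx, ← mul_assoc, xx, mul_assoc, rr, mul_one]
  · simp only [bf_fix k.2]
    split_ifs with a
    · exact h.cp k ⟨u, a⟩
    · have b := pauli_PB.2 (bf_X2 u a)
      rw [← h.hP.inv k, mul_assoc, mul_assoc, mul_inv_eq_iff_eq_mul.1 (rc _ (inv_mem k)), ← mul_assoc, ← mul_assoc,
        ← h.hP _ k _ b, ← h.hP _ (mul_mem k b) _ (cjPB _ (inv_mem k)), map_mul pauli (γ • p), ← conj_pauli', map_mul pauli p, xi]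
      simp only [mul_assoc, ← mul_assoc (pauli (X 2)) (pauli (X 2)), X2_sq, one_mul]

namespace Az

variable (h : Az ρ τ J z w α)
include h

theorem ax : α xc = w := (h.eq xc_UU).trans h.hw

theorem az : α tB = z := (h.eq B_UU).trans h.hz

theorem acJ {γ : Gt} (a : γ ∈ PB) : Ac α (J (ρ γ)) γ := ⟨a.1, h.cj γ a⟩

theorem acq {q : Lab} (a : q ∈ Pp tA) : Ac α (α q) (pauli q) :=
  ⟨pauli_PA.2 a, fun p b => by rw [pauli_smul, h.hom.conj a b]⟩

theorem axm {p : Lab} (a : p ∈ Pp tA) : α (xc * p) = w * α p := by rw [h.hom _ xc_UU.1 _ a, h.ax]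

theorem inj {p q : Lab} (a : p ∈ Pp tA) (b : q ∈ Pp tA) : α p = α q ↔ p = q ∨ p = tA * q := by
  have c := mul_mem a (inv_mem b)
  rw [← mul_inv_eq_one, ← h.hom.inv b, ← h.hom _ a _ (inv_mem b), ← mul_inv_eq_one (a := p), ← mul_inv_eq_iff_eq_mul (a := p),
    ← T_pauli h.O]
  refine ⟨fun e => ?_, fun e => ?_⟩
  · have u : p * q⁻¹ ∈ UU := ⟨c, xp_A (p := tB) (by
      rw [← h.pinj (mul_mem (xp_UU _) B_UU) B_UU, ← h.eq (mul_mem (xp_UU _) B_UU), ← pauli_smul', ← (h.acq c).2 _ B_UU.1, e,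
        h.eq B_UU]; simp)⟩
    exact (h.ker _ (pL u)).1 ((h.eq u).symm.trans e)
  · have := pauli_PB.1 (PB_L h.O (VL (τ := τ) (T_V e)))
    exact (h.eq this).trans ((h.ker _ (pL this)).2 e)

theorem aA {p : Lab} (a : p ∈ Pp tA) : α (tA * p) = α p := (h.inj (mul_mem (bf_self tA) a) a).2 (.inr rfl)

theorem cw {n : G} {γ : Gt} (a : Ac α n γ) : Commute w n := comm_of_conj (by rw [← h.ax, a.2 _ xc_UU.1, smul_xc])

theorem xz : α (X 2) * z * (α (X 2))⁻¹ = w * z := by rw [← h.az, (h.acq X2_P).2 _ B_UU.1, X2_B, h.axm B_UU.1]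

theorem zwz : IsConj z (w * z) := isConj_iff.2 ⟨_, h.xz⟩

theorem cenA {g : G} (a : ∀ p ∈ Pp tA, Commute (α p) g) : g = 1 ∨ g = w := by
  have n : ¬ Commute z (α (X 2)) := fun c => h.w1 (by simpa [conj_of_comm c] using h.xz)
  have x := (a _ X2_P).symm
  rcases h.cenQ (g := g) fun p b => h.eq b ▸ a p b.1 with (e | rfl) | e | rfl
  exacts [.inl e, (n x).elim, .inr e, (n (by simpa using (h.cw (h.acq X2_P)).inv_left.mul_left x)).elim]

theorem kerA {n : G} {γ : Gt} (a : Ac α n γ) (b : PM γ) : ∃ q ∈ Pp tA, α q = n := by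
  obtain ⟨q, e⟩ : ∃ q, Ac α n (pauli q) := by
    obtain ⟨q, rfl | rfl⟩ := exists_pauli_kap b
    exacts [⟨q, a⟩, ⟨q, (mul_mem_cancel_left kp_PA).1 a.1, fun p k => by rw [a.2 p k, mul_smul, kap_smul']⟩]
  have k := pauli_PA.1 e.1
  have := (h.acq k).inv.mul e
  rw [inv_mul_cancel] at this
  rcases h.cenA fun p l => comm_of_conj ((this.2 p l).trans (by rw [one_smul])) with l | l
  exacts [⟨q, k, inv_mul_eq_one.1 l⟩, ⟨q * xc, mul_mem k xc_UU.1, by rw [h.hom _ k _ xc_UU.1, h.ax, ← l, mul_inv_cancel_left]⟩]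

theorem pm1 {n : G} {γ : Gt} (a : Ac α n γ) (e : n = 1 ∨ n = w) : PM γ := pm_of_U fun p k => S1_mul (by
  rw [← h.inj (sA a.1 k.1) k.1, ← a.2 p k.1]
  rcases e with rfl | rfl
  exacts [by simp, conj_of_comm (h.cw (h.acq k.1)).symm])

theorem acD {g : G} (a : Commute z g) (b : Commute w g) : ∃ γ, Ac α g γ := by
  obtain ⟨γ, c, d, e⟩ := h.ofD a b
  have u : ∀ p ∈ UU, g * α p * g⁻¹ = α (γ • p) := fun p k => by
    rw [h.eq k, e _ (pL k), rho_conj, h.eq (H_UU h.O c d k)]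
  have fin : ∀ δ ∈ PA, (∀ p ∈ UU, δ • p = γ • p) → g * α (X 2) * g⁻¹ = α (δ • X 2) → ∃ γ, Ac α g γ := fun δ k l m =>
    ⟨δ, k, fun p s => by
      by_cases t : bf p tB = 0
      · rw [u p ⟨s, t⟩, l p ⟨s, t⟩]
      have v := bf_X2 s t
      rw [show p = p * X 2 * X 2 by rw [mul_assoc, X_mul_X, mul_one], h.hom _ v.1 _ X2_P, conj_mul_conj, u _ v, m, smul_mul' δ,
        h.hom _ (sA k v.1) _ (sA k X2_P), l _ v]⟩
  have x := sA c X2_P
  have no : ∀ v ∈ UU, qf v = 0 ∧ bf (X 2) v = 1 ∧ bf (X 2) (tA * v) = 1 → (γ • v = v ∨ γ • v = tA * v) →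
      (α (γ • X 2))⁻¹ * (g * α (X 2) * g⁻¹) ≠ α v := fun v k l m s => h.w1 (by
    have y := mul_mem x k.1
    have t : bf (γ • X 2) v = 1 := by
      rcases m with m | m
      exacts [by rw [← m, bf_smul, l.2.1], by
        rw [show v = γ • (tA * v) by rw [smul_mul', m, mem_stabilizer_iff.1 c, ← mul_assoc, tA_sq, one_mul], bf_smul, l.2.2]]
    rw [inv_mul_eq_iff_eq_mul, ← h.hom _ x _ k.1] at s
    rw [← conj_sq s (by rw [← h.hom _ X2_P _ X2_P, X_mul_X, h.hom.one]), ← h.hom _ y _ y, mul_self_eq, qf_mul, qf_smul, l.1, t,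
      show qf (X 2) = 0 by decide +kernel, ← h.ax]
    rfl)
  rcases h.cenQ (g := (α (γ • X 2))⁻¹ * (g * α (X 2) * g⁻¹)) fun p k => comm_of_conj (by
    have l := H_UU h.O (inv_mem c) (map_inv ρ γ ▸ inv_mem d) k
    rw [← h.eq k, ← conj_conj', ← smul_inv_smul γ p, ← u _ l, conj_inv, ← conj_mul_conj, ← conj_mul_conj, (h.acq X2_P).2 _ l.1,
      pauli_smul', u _ (mul_mem (xp_UU _) l), u _ l, smul_mul', xp_smul, ← bf_smul γ, ← pauli_smul',
      ← (h.acq x).2 _ (sA c l.1)]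
    group) with (q | q) | q | q
  · exact fin γ c (fun _ _ => rfl) (inv_mul_eq_one.1 q).symm
  · exact (no tB B_UU (by decide +kernel) (ofH h.O d) (q.trans h.az.symm)).elim
  · refine fin (γ * pauli tB) (mul_mem c (pauli_PA.2 B_UU.1))
      (fun p k => by rw [mul_smul, pauli_smul_eq_iff.2 (bf_comm _ _ ▸ k.2)]) ?_
    rw [mul_smul, pauli_smul_of_one (bf_comm _ _ ▸ bf_2B), smul_xc_mul, h.axm x, (h.cw (h.acq x)).eq, ← q, mul_inv_cancel_left]
  · exact (no (xc * tB) (mul_mem xc_UU B_UU) (by decide +kernel) ((ofH h.O d).imp (fun e => by rw [smul_xc_mul, e])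
      fun e => by rw [smul_xc_mul, e]; decide +kernel) (by rw [q, h.axm B_UU.1, h.az])).elim

theorem nv {g : G} (a : Commute w g) (b : g * z * g⁻¹ = z ∨ g * z * g⁻¹ = w * z) : ∃ γ, Ac α g γ := by
  rcases b with b | b
  · exact h.acD (comm_of_conj b) a
  · have x := h.acq X2_P
    obtain ⟨γ, c⟩ := h.acD (g := g * α (X 2)) (comm_of_conj (by
      rw [← conj_conj', h.xz, conj_mul_conj, b, conj_of_comm a, ← mul_assoc, h.ww, one_mul])) (a.mul_right (h.cw x))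
    exact ⟨_, mul_inv_cancel_right g (α (X 2)) ▸ c.mul x.inv⟩

theorem cX {q : Lab} (k : q ∈ Pp tA) {γ : Gt} (a : γ ∈ PB) : α q * J (ρ γ) * (α q)⁻¹ = J (ρ (pauli q * γ * (pauli q)⁻¹)) := by
  have b : q * γ • q⁻¹ ∈ UU := ⟨mul_mem k (sA a.1 (inv_mem k)), by
    rw [bf_mul, bf_fix a.2, Eqv.bf (inv_eqv _) (.refl _), z2_add_self]⟩
  rw [mul_assoc, ← h.hom.inv k, mul_inv_eq_iff_eq_mul.1 (h.cj γ a _ (inv_mem k)), ← mul_assoc,
    ← h.hom _ k _ (sA a.1 (inv_mem k)), h.eq b, ← h.hP _ (pauli_PB.2 b) _ a, map_mul pauli, mul_assoc, ← conj_pauli, map_inv,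
    mul_assoc]

theorem tY : J τ * w * (J τ)⁻¹ = α Y0 := by
  rw [h.eq Y0_UU, ← h.hw, ← h.hm.conj (tau_mem_LB ρ τ) (pL xc_UU), mul_inv_eq_iff_eq_mul.2 h.O.r0.tau_x]

/-- the second involution normalising the extraspecial group -/
theorem exists_s : ∃ s, s * s = 1 ∧ Commute w s ∧ ∀ n ∈ Np, n ∈ PB → s * J (ρ n) * s⁻¹ = J (ρ (y1 * n * y1⁻¹)) := by
  have tL := tau_mem_LB ρ τ
  have x : x1 ∈ Pp tA := by decide +kernel
  refine ⟨J τ * α x1 * (J τ)⁻¹, by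
    rw [← conj_mul_conj, ← h.hom _ x _ x, show x1 * x1 = 1 by decide +kernel, h.hom.one]; simp, ?_, fun n hn k => ?_⟩
  · have a : Z 11 ∈ UU := by decide +kernel
    rw [← h.hw, ← Out.conj_z h.O, h.hm.conj tL (pL a), ← h.eq a]
    exact Commute.conj (comm_of_conj (((h.acq x).2 _ a.1).trans (by rw [pauli_smul_eq_iff.2 (by decide +kernel)]))) _
  · obtain ⟨m, -, e⟩ := h.O.r0.theta_exists' hn
    have e' : ρ n = τ * ρ m * τ⁻¹ := eq_mul_inv_of_mul_eq e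
    have hm : m ∈ PB := PB_L h.O (by rw [← mul_mem_cancel_left tL, ← e]; exact mul_mem (mem_LB ρ τ k) tL)
    rw [e', h.hm.conj tL (mem_LB ρ τ hm), ← conj_mul_conj, conj_inv, ← conj_mul_conj, h.cX x hm,
      ← h.hm.conj tL (mem_LB ρ τ (cjPB _ hm))]
    simp only [map_mul, map_inv, e', ← mul_inv_eq_iff_eq_mul.2 (C3.theta_any h.O.r0 th_x1)]
    group

theorem cjA {p q : Lab} (a : p ∈ Pp tA) (e : ∃ γ ∈ PB, γ • p = q) : IsConj (α p) (α q) :=
  let ⟨_, b, e⟩ := e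
  isConj_iff.2 ⟨_, e ▸ h.cj _ b p a⟩

theorem eqv {p q : Lab} (e : p ≈ₗ q) (a : q ∈ Pp tA) (n : Mon.G.lam q ∉ S1 tA) : IsConj (α p) (α q) := by
  rcases e.cases with rfl | rfl
  · rfl
  · obtain ⟨r, b, c⟩ : ∃ r, bf r tA = 0 ∧ bf r q ≠ 0 := by simpa using mt mem_S1_of n
    exact (isConj_iff.2 ⟨_, ((h.acq b).2 q a).trans (by rw [pauli_smul_of_one ((z2_cases _).resolve_left c)])⟩).symm

theorem xi {c d : ZMod 2} {p : Lab} (a : p ∈ Pp tA) (e : α (xp c * p) = α (xp d * p)) : c = d := by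
  rw [h.inj (mul_mem (xp_P c) a) (mul_mem (xp_P d) a), ← mul_assoc, mul_left_inj, mul_left_inj] at e
  clear h
  revert c d; decide +kernel

theorem mul' {p q r t : Lab} (a : Ph α s p q) (b : Ph α s r t) : Ph α s (p * r) (q * t) :=
  ⟨mul_mem a.1 b.1, mul_mem a.2.1 b.2.1, by
    rw [h.hom _ a.1 _ b.1, conj_mul_conj, a.2.2, b.2.2, smul_mul', h.hom _ (sA y1_A a.2.1) _ (sA y1_A b.2.1)]⟩

theorem phA {p q : Lab} (a : Ph α s p q) : Ph α s p (tA * q) :=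
  ⟨a.1, mul_mem (bf_self tA) a.2.1, by rw [smul_mul', mem_stabilizer_iff.1 y1_A, h.aA (sA y1_A a.2.1), a.2.2]⟩

theorem phu {p q : Lab} {c d : ZMod 2} (a : Ph α s p (xp c * q)) (b : Ph α s p (xp d * q)) : c = d :=
  h.xi (sA y1_A ((mul_mem_cancel_left (xp_P c)).1 a.2.1)) (by simpa only [smul_mul', xp_smul] using a.2.2.symm.trans b.2.2)

theorem nwz' [Finite G] : ¬ IsConj w (w * z) := fun c => h.nzw (h.zwz.trans c.symm)

end Az

/-- the second involution -/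
structure Sz (ρ : Gt →* Γ) (τ : Γ) (J : Γ → G) (z w : G) (α : Lab → G) (s : G) : Prop extends Az ρ τ J z w α where
  ss : s * s = 1
  sw : Commute w s
  sj : ∀ n ∈ Np, n ∈ PB → s * J (ρ n) * s⁻¹ = J (ρ (y1 * n * y1⁻¹))

namespace Sz

variable (h : Sz ρ τ J z w α s)
include h

theorem s2 {p : Lab} (a : p ∈ UY) : Ph α s p p := ⟨a.2.1, a.2.1, by
  rw [h.eq a.2, h.sj _ (mem_NA a.2.1 a.1).1 (pauli_PB.2 a.2), conj_pauli', h.eq (y1_UY a).2]⟩

theorem s2' {p : Lab} (a : p ∈ UY) : s * α (y1 • p) * s⁻¹ = α p := by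
  rw [← (h.s2 a).2.2, conj_conj', h.ss]; simp

theorem sx (c : ZMod 2) : Ph α s (xp c) (xp c) := h.s2 ⟨by simp [xp, bf], xp_UU c⟩

theorem cu {p q : Lab} (k : p ∈ Pp tA) (a : q ∈ UY) : s * α p * s⁻¹ * α q * (s * α p * s⁻¹)⁻¹ =
    α (xp (bf p (y1 • q)) * q) := by
  have b := (y1_UY a).2.1
  rw [← h.s2' a, ← conj_mul_conj, conj_inv, ← conj_mul_conj, (h.acq k).2 _ b, pauli_smul', h.hom _ (xp_P _) _ b, conj_mul_conj,
    h.s2' a, (h.sx _).2.2, xp_smul, h.hom _ (xp_P _) _ a.2.1]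

theorem th {p : Lab} (k : p ∈ Pp tA) : ∃ q, Ph α s p q := by
  obtain ⟨γ, c⟩ := h.nv (g := s * α p * s⁻¹) ((h.sw.mul_right (h.cw (h.acq k))).mul_right h.sw.inv_right) (by
    rw [← h.az, h.cu k B_UY, ← h.axm B_UU.1]
    rcases z2_cases (bf p (y1 • tB)) with k | k <;> rw [k]
    exacts [.inl (by rw [xp_zero, one_mul]), .inr rfl])
  obtain ⟨q, l, e⟩ := h.kerA c (by
    by_contra n
    obtain ⟨r, a, b⟩ := bigA (h.pm1 (c.mul c) (by
      rw [← conj_mul_conj, ← h.hom _ k _ k, mul_self_eq, (h.sx _).2.2, xp_smul]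
      rcases z2_cases (qf p) with k | k <;> rw [k]
      exacts [.inl h.hom.one, .inr h.ax])) n UY idx_UY [0] (by decide)
    have := S1_mul ((h.inj (sA c.1 a.2.1) (mul_mem (xp_P _) a.2.1)).1 ((c.2 r a.2.1).symm.trans (h.cu k a)))
    rw [lam_mul, lam_xp, zero_add] at this
    exact b 0 (by simp) (by rwa [add_zero]))
  exact ⟨y1⁻¹ • q, k, sA (inv_mem y1_A) l, by rw [smul_inv_smul, e]⟩

theorem phb {p q r t : Lab} (a : Ph α s p q) (b : Ph α s r t) : bf q t = bf p r := by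
  have := h.mul' a b
  rw [mul_comm_eq q] at this
  have c := h.mul' (h.sx (bf p r)) (h.mul' b a)
  rw [← mul_comm_eq] at c
  exact h.phu this c

theorem phq {p q : Lab} (a : Ph α s p q) : qf q = qf p := by
  have := h.mul' a a
  rw [mul_self_eq, mul_self_eq, ← mul_one (xp (qf q))] at this
  exact h.phu this ((mul_one (xp (qf p))).symm ▸ h.sx _)

theorem cases {p : Lab} (k : p ∈ Pp tA) : ∃ q, Ph α s p q ∧ ∃ v, (v = 1 ∨ v = tB ∨ v = Y0 ∨ v = tB * Y0) ∧ bf p v = 0 ∧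
    q ≈ₗ p * v := by
  obtain ⟨q, a⟩ := h.th k
  have f : ∀ q, Ph α s p q → ∀ v, (v = 1 ∨ v = tB ∨ v = Y0 ∨ v = tB * Y0) → Mon.G.lam q + Mon.G.lam p = Mon.G.lam v →
      ∃ q, Ph α s p q ∧ ∃ v, (v = 1 ∨ v = tB ∨ v = Y0 ∨ v = tB * Y0) ∧ bf p v = 0 ∧ q ≈ₗ p * v := fun q a v b c => by
    have e : q ≈ₗ p * v := lam_eq_iff.1 (by rw [lam_mul, ← c, add_comm, add_assoc, W2.add_self, add_zero])
    refine ⟨q, a, v, b, ?_, e⟩
    have := e.qf.symm.trans (h.phq a)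
    rwa [qf_mul, show qf v = 0 by rcases b with rfl | rfl | rfl | rfl <;> decide +kernel, add_zero, add_eq_left] at this
  obtain ⟨v, b, c⟩ := perpY (d := q * p) fun r l => by rw [bf_mul', h.phb (h.s2 l) a, z2_add_self]
  simp only [← lam_eq_iff, lam_mul q] at c
  have g : ∀ {u}, Mon.G.lam q + Mon.G.lam p = Mon.G.lam (tA * u) → Mon.G.lam (tA * q) + Mon.G.lam p = Mon.G.lam u := fun e => by
    rw [lam_mul, add_assoc, e, lam_mul, ← add_assoc, W2.add_self, zero_add]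
  rcases b with rfl | rfl | rfl | rfl <;> rcases c with c | c
  exacts [f q a _ (by simp) c, f q a Y0 (by simp) (by rwa [one_mul] at c), f _ (h.phA a) 1 (by simp) (g (by rwa [mul_one])),
    f _ (h.phA a) _ (by simp) (g c), f q a _ (by simp) c, f q a _ (by simp) c, f _ (h.phA a) _ (by simp) (g c),
    f _ (h.phA a) (tB * Y0) (by simp) (g (by rwa [← mul_assoc]))]

theorem wm : IsConj w (J (ρ (pauli m34))) := by
  have a : lab 0x8d9447 ∈ UY := ⟨by decide +kernel, by decide +kernel⟩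
  refine (isConj_iff.2 ⟨_, h.tY⟩).trans ((h.cjA Y0_UU.1 (exB [8, 9, 5, 6] 25165824 (by decide +kernel))).trans
    ((isConj_iff.2 ⟨s, (h.s2 a).2.2⟩).trans ?_))
  rw [← h.aA (y1_UY a).2.1, y1_ev, ← h.eq m34_UU]
  exact (h.cjA m34_UU.1 (exB [11, 14, 12, 11, 8, 9] 0x18000 (by decide +kernel))).symm

variable [Finite G]

theorem nm : ¬ IsConj z (J (ρ (pauli m34)) * z) := fun c => h.noT3 h.nzw h.nwz' (.inr ⟨c, h.wm⟩)

theorem ac_s : ∃ q, Ac α s (y1 * pauli q) := by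
  have sg : ∀ {p q : Lab}, Ph α s p q → q ≈ₗ p * 1 → ∃ c, Ph α s p (xp c * p) := fun {p q} a e =>
    ⟨_, by rwa [eq_xp_mul (mul_one p ▸ e : q ≈ₗ p)] at a⟩
  have u1 : lab 0xe27bff ∈ UU := by decide +kernel
  have u2 : lab 0x10c6a38 ∈ UU := by decide +kernel
  have h1 : ∃ c, Ph α s (lab 0xe27bff) (xp c * lab 0xe27bff) := by
    obtain ⟨q, a, v, rfl | rfl | rfl | rfl, b, c⟩ := h.cases u1.1
    · exact sg a c
    swap
    · exact absurd b (by decide +kernel)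
    swap
    · exact absurd b (by decide +kernel)
    have k : ∀ {p q}, p ∈ UU → Ph α s p q → q ≈ₗ p * tB → ¬ p ≈ₗ 1 ∧ ¬ p ≈ₗ tA → IsConj (α p * z) (α (y1 • p)) :=
      fun {p q} a b c n => by
      rw [← h.az, ← h.hom _ a.1 _ B_UU.1]
      refine (isConj_iff.2 ⟨s, (h.mul' b (h.s2 B_UY)).2.2⟩).trans (h.eqv (Eqv.smul _ ?_) (sA y1_A a.1) fun e => ?_)
      · simpa [mul_assoc, RAB_sq B_RAB] using c.mul (.refl tB)
      · rw [mem_S1, ← lam_one, ← smul_one y1, ← mem_stabilizer_iff.1 y1_A, lam_smul, lam_smul, lam_smul, smul_left_cancel_iff,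
          smul_left_cancel_iff, lam_eq_iff, lam_eq_iff] at e
        exact e.elim n.1 n.2
    have a2 := h.mul' a (h.s2 (p := (lab 0xe27bff)⁻¹ * lab 0x10c6a38) ⟨by decide +kernel, mul_mem (inv_mem u1) u2⟩)
    rw [mul_inv_cancel_left] at a2
    refine (h.nm (h.zwz.trans (IsConj.trans ?_ ((k u1 a c (by decide +kernel)).trans (IsConj.trans ?_
      ((k u2 a2 ((c.mul (.refl _)).trans (by decide +kernel)) (by decide +kernel)).symm.trans ?_)))))).elim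
    · rw [h.eq u1]
      refine IsConj.trans (isConj_iff.2 ⟨J τ, ?_⟩) (h.cjB Y0_UU (exB [11, 7, 6] 25165824 (by decide +kernel))).2
      rw [conj_mul_conj, h.tY, h.eq Y0_UU, conj_of_comm (h.cL (tau_mem_LB ρ τ))]
    · rw [← h.aA (sA y1_A u2.1)]
      refine h.cjA (sA y1_A u1.1) ?_
      rw [y1_ev, y1_ev]
      exact exB [7, 8, 9] 0x1280bfc (by decide +kernel)
    · rw [h.eq u2]
      exact (h.cjB m34_UU (exB [12, 11, 14] 0x18000 (by decide +kernel))).2.symm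
  have h2 : ∃ c, Ph α s (X 2) (xp c * X 2) := by
    obtain ⟨q, a, v, rfl | rfl | rfl | rfl, b, c⟩ := h.cases X2_P
    · exact sg a c
    · exact absurd b (by decide +kernel)
    · obtain ⟨d, e⟩ := h1
      have := h.phb a e
      rw [Eqv.bf c (xp_eqv _ _)] at this
      exact absurd this (by decide +kernel)
    · exact absurd b (by decide +kernel)
  have m : ∀ {p q : Lab}, (∃ c, Ph α s p (xp c * p)) → (∃ c, Ph α s q (xp c * q)) → ∃ c, Ph α s (p * q) (xp c * (p * q)) :=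
    fun ⟨_, a⟩ ⟨_, b⟩ => sg (h.mul' a b) (by rw [mul_one]; exact (xp_eqv _ _).mul (xp_eqv _ _))
  have h3 : ∀ p ∈ UU, ∃ c, Ph α s p (xp c * p) := fun p a => by
    rcases z2_cases (bf p Y0) with l | l
    · exact ⟨0, by simpa using h.s2 ⟨l, a⟩⟩
    · rw [← inv_mul_cancel_right p (lab 0xe27bff)]
      exact m ⟨0, by simpa using h.s2 ⟨by rw [bf_mul, l]; decide +kernel, mul_mem a (inv_mem u1)⟩⟩ h1
  have h4 : ∀ p ∈ Pp tA, ∃ c, Ph α s p (xp c * p) := fun p a => by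
    by_cases l : bf p tB = 0
    · exact h3 p ⟨a, l⟩
    · rw [show p = p * X 2 * X 2 by rw [mul_assoc, X_mul_X, mul_one]]
      exact m (h3 _ (bf_X2 a l)) h2
  choose! χ hχ using h4
  have z0 : ∀ p ∈ UY, χ p = 0 := fun p a => h.phu (hχ p a.2.1) (by simpa using h.s2 a)
  obtain ⟨q, hq⟩ := exists_bf_char (R := Pp tA) xc_UU.1 χ (fun p a q b => h.phu (hχ _ (mul_mem a b)) (by
      have := h.mul' (hχ p a) (hχ q b)
      rwa [mul_assoc, ← mul_assoc p, ← xp_comm, mul_assoc, ← mul_assoc, ← xp_add] at this))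
    (z0 _ ⟨bf_xc _, xc_UU⟩)
  exact ⟨q, mul_mem y1_A (pauli_PA.2 ((hq _ (bf_self _)).trans (z0 _ ⟨by decide +kernel, RAB_UU A_RAB⟩))), fun p a => by
    rw [(hχ p a).2.2, mul_smul, pauli_smul', hq p a]⟩

theorem absurd' : False := by
  let H : Subgroup Gt :=
    { carrier := {γ | ∃ n, Ac α n γ}
      one_mem' := ⟨1, ac_one⟩
      mul_mem' := fun ⟨_, a⟩ ⟨_, b⟩ => ⟨_, a.mul b⟩
      inv_mem' := fun ⟨_, a⟩ => ⟨_, a.inv⟩ }
  have B : ∀ u, ev u 12288 = tA ∧ ev u 20480 = tB → wg u ∈ H := fun u k => ⟨_, h.acJ ⟨wg_A k.1, wg_B k.2⟩⟩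
  obtain ⟨q, e⟩ := h.ac_s
  have y : y1 ∈ H := (mul_mem_cancel_right (show pauli q ∈ H from
    ⟨_, h.acq (pauli_PA.1 ((mul_mem_cancel_left y1_A).1 e.1))⟩)).1 (show _ ∈ H from ⟨_, e⟩)
  obtain ⟨n, k⟩ := mul_mem (mul_mem (mul_mem (mul_mem (mul_mem y (B [7, 11] (by decide +kernel))) y) (B [11, 7] (by decide +kernel))) y)
    (show pauli (X 2) ∈ H from ⟨_, h.acq X2_P⟩)
  obtain ⟨β, u, v⟩ := h.ofP (h.mD.2 (h.no (comm_of_conj (by rw [← h.az, k.2 _ B_UU.1, wd_B, h.aA B_UU.1])))) (h.cw k)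
  have := pm_eqv (h.pm1 ((v ▸ h.acJ u).inv.mul k) (.inl (inv_mul_cancel _))) tB
  rw [mul_smul, wd_B, fix_RAB (inv_mem u) (mul_mem A_RAB B_RAB)] at this
  exact absurd this (by decide +kernel)

end Sz

theorem Cz.elim [Finite G] (h : Cz ρ τ J z w) (x : ∃ g, Commute z (g * z * g⁻¹) ∧ g * z * g⁻¹ ≠ z) : False := by
  obtain ⟨α, A⟩ := h.exists_al (h.pairW x)
  obtain ⟨s, a, b, c⟩ := A.exists_s
  exact Sz.absurd' ⟨A, a, b, c⟩

end CF.StdZ.Bc
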