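import Cfsg.Agent.StdZ.BcE
import Cfsg.Agent.StdZ.BcG
import Cfsg.Agent.S1704
import Cfsg.Agent.S2058

/-! The Baby Monster inside the normaliser of the odd part. -/

set_option autoImplicit false
set_option maxHeartbeats 400000
set_option maxRecDepth 100000

namespace CF.StdZ.Bc

open Cfsg Subgroup CF.Leech CF.Mon CF.Mon.G CF.Mon.L CF.Mon.Lab CF.Known.Mon MulAction CF.LX CF.Loc
open CF.Even Function Spor CF.MonU CF.Mon.O CF.BabU CF.StdZ.Bm CF.StdZ.Bb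
open scoped commutatorElement Pointwise

universe u

variable {Γ : Type*} {G : Type u} [Group Γ] [Group G] {ρ : Gt →* Γ} {τ : Γ} {A O : Subgroup G} {R : Subgroup (Γ × G)} {j : Lab → G}

theorem exists_psi [Finite G] (O : Subgroup G) : ∃ (Y : Type u) (_ : Group Y) (_ : Finite Y) (ψ : G → Y), Hm 𝐍(O) ψ ∧
    (∀ y, ∃ g ∈ 𝐍(O), ψ g = y) ∧ ∀ g ∈ 𝐍(O), ψ g = 1 ↔ g ∈ O := by
  classical
  refine ⟨𝐍(O) ⧸ O.subgroupOf 𝐍(O), inferInstance, inferInstance, fun g => if h : g ∈ 𝐍(O) then (⟨g, h⟩ : 𝐍(O)) else 1,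
    fun a ha b hb => ?_, fun y => ?_, fun g h => ?_⟩
  · beta_reduce; rw [dif_pos ha, dif_pos hb, dif_pos (mul_mem ha hb)]; rfl
  · obtain ⟨g, rfl⟩ := QuotientGroup.mk_surjective y
    exact ⟨g, g.2, dif_pos g.2⟩
  · beta_reduce; rw [dif_pos h, QuotientGroup.eq_one_iff, mem_subgroupOf]

theorem exists_as {Y : Type*} [Group Y] [Finite Y] {J : Γ → Y} {z w : Y} (O : Mon.G.Out ρ τ) (hm : Hm (LB ρ τ) J)
    (ker : ∀ m ∈ LB ρ τ, (J m = 1 ↔ T ρ m)) (hz : J (ρ (pauli tB)) = z) (hw : J (ρ (pauli xc)) = w)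
    (cz : ∀ {g}, Commute z g → ∃ x ∈ HB ρ τ, At ρ τ J g x) (cen : ∀ {g}, At ρ τ J g 1 → g = 1 ∨ g = z)
    (x : ∃ g, Commute z (g * z * g⁻¹) ∧ g * z * g⁻¹ ≠ z) : ∃ α s, Bb.As ρ τ J z w α s := by
  by_cases o : ∃ g, Commute z g ∧ ∀ m ∈ LB ρ τ, J m ≠ g
  · have C : Bb.Ce ρ τ J z w := ⟨O, hm, ker, hz, hw, cz, cen, o⟩
    obtain ⟨α, A⟩ := C.exists_al (C.pairW x)
    obtain ⟨s, a, b, c⟩ := A.exists_s
    exact ⟨α, s, A, a, b, c⟩
  · push Not at o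
    exact (Cz.elim ⟨O, hm, ker, hz, hw, cz, cen, o _⟩ x).elim

/-- the Baby Monster is a direct factor of the normaliser of `O` -/
structure Gl {Y : Type*} [Group Y] (ρ : Gt →* Γ) (τ : Γ) (J : Γ → Y) (z w : Y) (α : Lab → Y) (s : Y) (σ : Y →* G)
    (O : Subgroup G) : Prop where
  as : Bb.As ρ τ J z w α s
  odd : ∀ {x}, x ∈ O → Odd (orderOf x)
  cm : ∀ {x}, x ∈ O → ∀ y, Commute x (σ y)
  dis : ∀ {y}, σ y ∈ O → y = 1
  dec : ∀ {g}, g ∈ 𝐍(O) → ∃ x ∈ O, ∃ y, g = x * σ y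
  cz : ∀ {g}, Commute (σ z) g → g ∈ 𝐍(O)

theorem exists_sec [Finite G] {Y : Type*} [Group Y] {ψ : G → Y} (F : Hm 𝐍(O) ψ) (sj : ∀ y, ∃ g ∈ 𝐍(O), ψ g = y)
    (k : ∀ g ∈ 𝐍(O), ψ g = 1 ↔ g ∈ O) (odd : ∀ x ∈ O, Odd (orderOf x)) (e : IsoB Y) {a b : G} (ha : a ∈ 𝐂(O)) (hb : b ∈ 𝐂(O))
    (n : ¬ Commute (ψ a) (ψ b)) : ∃ σ : Y →* G, ∀ y, σ y ∈ 𝐂(O) ∧ ψ (σ y) = y := by
  obtain ⟨e⟩ := e
  have := Cfsg.Agent.S1704.result.1
  have := e.isSimpleGroup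
  have CN : 𝐂(O) ≤ 𝐍(O) := centralizer_le_normalizer _
  let f : 𝐂(O) →* Y := MonoidHom.mk' (fun c => ψ c) fun a b => F _ (CN a.2) _ (CN b.2)
  have N : ((commutator 𝐂(O)).map f).Normal := ⟨by
    rintro _ ⟨c, l, rfl⟩ y
    obtain ⟨g, m, rfl⟩ := sj y
    let θ := 𝐂(O).normalizerMonoidHom ⟨g, normalizer_le_normalizer_centralizer _ m⟩
    exact ⟨θ c, characteristic_iff_map_le.1 inferInstance θ ⟨c, l, rfl⟩, F.conj m (CN c.2)⟩⟩
  have s := N.eq_bot_or_eq_top.resolve_left fun e => n (commutatorElement_eq_one_iff_commute.1 (by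
    have := e.le ⟨_, commutator_mem_commutator (mem_top ⟨a, ha⟩) (mem_top ⟨b, hb⟩), rfl⟩
    rwa [map_commutatorElement] at this))
  obtain ⟨π, p⟩ := Schur.HasSchur.exists_surjective (Schur.HasSchur.congr_left Cfsg.Agent.S2058.result e.symm) (ξ := f)
    ⟨fun y => (s.ge (mem_top y)).imp fun _ => And.right, fun c l => mem_center_iff.2 fun d =>
      Subtype.ext (d.2 _ ((k _ (CN c.2)).1 l)).symm⟩
  have bj : Bijective (f.comp (commutator 𝐂(O)).subtype) := ⟨(injective_iff_map_eq_one _).2 fun c l => by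
    obtain ⟨x, e⟩ := p ⟨c.1, l, c.2⟩
    have : x * x = 1 := by clear e; revert x; decide
    refine Subtype.ext (Subtype.ext ((P2.sq ?_).odd (odd _ ((k _ (CN c.1.2)).1 l))))
    simpa [e, Subtype.ext_iff] using congrArg π this,
    fun y => let ⟨c, l, e⟩ := s.ge (mem_top y); ⟨⟨c, l⟩, e⟩⟩
  let ε := MulEquiv.ofBijective _ bj
  exact ⟨((𝐂(O).subtype.comp (commutator 𝐂(O)).subtype)).comp ε.symm.toMonoidHom, fun y =>
    ⟨(ε.symm y).1.2, ε.apply_symm_apply y⟩⟩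

theorem Fq.exists_gl [Finite G] [IsSimpleGroup G] (h : Fq ρ τ A R j) : ∃ (Y : Type u) (_ : Group Y) (_ : Finite Y) (J : Γ → Y)
    (z w : Y) (α : Lab → Y) (s : Y) (σ : Y →* G) (O : Subgroup G), Gl ρ τ J z w α s σ O := by
  obtain ⟨S, g, n, a⟩ := h.sm
  have z := h.zi
  obtain ⟨O, hO⟩ := exO (ord2 z.sq z.ne) z.k (fun k l => cK l z.a) S
  obtain ⟨g, gO, n, a⟩ := h.exN S hO n a
  obtain ⟨Y, _, _, ψ, F, sj, k⟩ := exists_psi O
  have NO := nO hO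
  have AO : ∀ {a}, a ∈ A → a ∈ 𝐍(O) := fun a => NO (le_normalizer a)
  have AC : ∀ {a}, a ∈ A → a ∈ 𝐂(O) := fun a x l => (cK ((hO x).1 l).1 a).symm
  have eq : ∀ {a b}, a ∈ 𝐍(O) → b ∈ 𝐍(O) → (ψ a = ψ b ↔ a⁻¹ * b ∈ O) := fun a b => by
    rw [← k _ (mul_mem (inv_mem a) b), F _ (inv_mem a) _ b, F.inv a, inv_mul_eq_one]
  choose! c hc using fun m => h.tot (m := m)
  have jc : ∀ {m a}, (m, a) ∈ R → ψ (c m) = ψ a := fun {m a} l => by
    have u := hc m (h.mem l).1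
    obtain ⟨-, v, x⟩ := h.k2.1 (inv_mul_cancel m ▸ mul' (inv' u) l)
    exact (eq (AO (h.mem u).2) (AO (h.mem l).2)).2 ((hO _).2 ⟨v, Odd.of_dvd_nat (by decide) (orderOf_dvd_of_pow_eq_one x)⟩)
  have jA : j tA = 1 := (S _ (h.jK A_RAB) (h.j2 (RAB_UU A_RAB))).resolve_right fun e =>
    absurd (h.pinj (RAB_UU A_RAB) B_UU e) (by decide +kernel)
  have uz : ∀ {t}, t ∈ 𝐍(O) → t * t = 1 → ψ (j tB) = ψ t → t = j tB := fun {t} a b e => by
    obtain ⟨u, v⟩ := (hO _).1 ((eq (AO z.a) a).1 e)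
    exact (inv_mul_eq_one.1 (((P2.sq z.sq).inv.mul (.sq b) (by
      simpa using ((Commute.refl _).mul_right (cK u z.a)).inv_left)).odd v)).symm
  have cN : ∀ {g}, g ∈ 𝐍(O) → Commute (ψ (j tB)) (ψ g) → g ∈ 𝐍(A) := fun {g} a b => h.zN (comm_of_conj
    (uz (mul_mem (mul_mem a (AO z.a)) (inv_mem a)) (conj_sq rfl z.sq) (by rw [F.conj a (AO z.a), conj_of_comm b])))
  obtain ⟨α, s, as⟩ := exists_as (J := fun m => ψ (c m)) h.O
    (fun a ha b hb => (jc (mul' (hc a ha) (hc b hb))).trans (F _ (AO (h.mem (hc a ha)).2) _ (AO (h.mem (hc b hb)).2)))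
    (fun m l => ⟨fun e => by
      have u := hc m l
      obtain ⟨v, o⟩ := (hO _).1 ((k _ (AO (h.mem u).2)).1 e)
      have := mul' (inv' (h.k2.2 ⟨(h.mem u).2, v, ((P2.sq ?_).odd' o ?_ : c m ^ 3 = 1)⟩)) u
      · exact h.k1 (by simpa using this)
      · rw [← pow_add, h.six (h.mem u).2 v]
      · rw [← pow_mul, mul_comm, pow_mul, pow_orderOf_eq_one, one_pow], by
      rintro (rfl | rfl)
      exacts [(jc (one_mem R)).trans F.one, (jc (h.jR (RAB_UU A_RAB))).trans (jA ▸ F.one)]⟩) (jc (h.jR B_UU)) rfl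
    (fun {y} b => by
      obtain ⟨g, a, rfl⟩ := sj y
      obtain ⟨x, d⟩ := h.ex' (cN a b)
      refine ⟨x, ⟨h.O.cA.le (mem_c1.2 (conj_eq_iff.1 ((h.k1 (by simpa [jA] using act d (h.jR (RAB_UU A_RAB)))).resolve_left
        fun e => h.O.t_ne (conj_eq_one_iff.1 e)))), h.nV d⟩, fun m l => ?_⟩
      exact (F.conj a (AO (h.mem (hc m l)).2)).symm.trans (jc (act d (hc m l))).symm)
    (fun {y} b => by
      obtain ⟨g, a, rfl⟩ := sj y
      replace b : ∀ m ∈ LB ρ τ, Commute (ψ (c m)) (ψ g) := fun m l => comm_of_conj ((b m l).trans (by simp))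
      have gK := h.cenK (cN a (jc (h.jR B_UU) ▸ b _ (pL B_UU))) fun x l => by
        obtain ⟨m, u⟩ := h.sur l
        refine ((hO _).1 ((eq (AO l) (mul_mem (mul_mem a (AO l)) (inv_mem a))).1 ?_)).1
        rw [F.conj a (AO l), ← jc u, conj_of_comm (b m (h.mem u).1)]
      obtain ⟨i, m, o, e⟩ := Nat.exists_eq_two_pow_mul_odd (orderOf_pos g).ne'
      rcases S (g ^ m) (pow_mem gK m) ⟨i, by rw [← pow_mul, mul_comm, ← e, pow_orderOf_eq_one]⟩ with d | d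
      · exact .inl ((k g a).2 ((hO g).2 ⟨gK, o.of_dvd_nat (orderOf_dvd_of_pow_eq_one d)⟩))
      · exact .inr ((eq (AO z.a) a).2 ((hO _).2 ⟨mul_mem (inv_mem z.k) gK, o.of_dvd_nat (orderOf_dvd_of_pow_eq_one (by
          rw [(cK gK z.a).inv_left.mul_pow, d, inv_pow, pow_odd z.sq o, inv_mul_cancel]))⟩)).symm)
    ⟨ψ g, by
      rw [← F.conj gO (AO z.a)]
      exact ⟨(F _ (AO z.a) _ (AO a)).symm.trans ((congrArg ψ (cK z.k a).symm).trans (F _ (AO a) _ (AO z.a))),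
        fun e => n (h.zN (comm_of_conj (uz (AO a) (conj_sq rfl z.sq) e.symm)))⟩⟩
  obtain ⟨σ, hσ⟩ := exists_sec F sj k (fun x l => ((hO x).1 l).2) as.iso (AC (h.jA (pauli_PB.1 X11_PB))) (AC (h.jA Y0_UU))
    fun b => as.w1 (by
      have := as.cp X11_PB Y0_UU
      rwa [pauli_smul_of_one bf_11Y, as.pm xc_UU Y0_UU, as.hw, jc (h.jR Y0_UU), jc (h.jR (pauli_PB.1 X11_PB)),
        conj_of_comm b.symm, right_eq_mul] at this)
  have σN := fun y => centralizer_le_normalizer _ (hσ y).1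
  refine ⟨Y, _, inferInstance, _, _, _, α, s, σ, O, as, fun l => ((hO _).1 l).2, fun l y => (hσ y).1 _ l,
    fun {y} l => (hσ y).2.symm.trans ((k _ (σN y)).2 l), fun {g} l => ⟨_, ?_, ψ g, (inv_mul_cancel_right _ _).symm⟩,
    fun b => NO (h.zN (uz (σN _) (by rw [← map_mul, as.zz, map_one]) (hσ _).2.symm ▸ b))⟩
  rw [← k _ (mul_mem l (inv_mem (σN _))), F _ l _ (inv_mem (σN _)), F.inv (σN _), (hσ _).2, mul_inv_cancel]

end CF.StdZ.Bc
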