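import Cfsg.Agent.StdZ.BcH

/-! Control of fusion by the normaliser of the odd part. -/

set_option autoImplicit false
set_option maxHeartbeats 400000
set_option maxRecDepth 100000

namespace CF.StdZ.Bc

open Cfsg Subgroup CF.Leech CF.Mon CF.Mon.G CF.Mon.L CF.Mon.Lab CF.Known.Mon MulAction CF.LX CF.Loc
open CF.Even Function Spor CF.MonU CF.Mon.O CF.BabU CF.StdZ.Bm CF.StdZ.Bb
open scoped commutatorElement Pointwise

variable {Γ G Y : Type*} [Group Γ] [Group G] [Group Y] {ρ : Gt →* Γ} {τ : Γ} {O : Subgroup G} {J : Γ → Y} {z w s : Y}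
  {α : Lab → Y} {σ : Y →* G}

theorem as_lq [Finite Y] (h : Bb.As ρ τ J z w α s) :
    ∃ Q : Subgroup Y, LQ Q w ∧ Nat.card Q = 2 ^ 23 ∧ ∀ g, g ∈ Q ↔ ∃ p ∈ Pp tA, α p = g := by
  obtain ⟨Q, ex, cQ, mQ⟩ := h.exA
  exact ⟨Q, ⟨ex, fun g hg => by
      rcases h.cenA (g := g) fun p k => hg _ ((mQ _).2 ⟨p, k, rfl⟩) with rfl | rfl
      exacts [one_mem _, ex.mem],
    fun g hg => mem_normalizer_of_conj_mem fun x hx => by
      obtain ⟨p, k, rfl⟩ := (mQ x).1 hx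
      obtain ⟨γ, l⟩ := h.cent (mem_c1.1 hg).symm
      exact (mQ _).2 ⟨_, sA l.1 k, (l.2 p k).symm⟩⟩, cQ, mQ⟩

theorem as_syl [Finite Y] (h : Bb.As ρ τ J z w α s) {y : Y} (a : P2 y) : ∃ c, Commute w (c * y * c⁻¹) := by
  have : Fact (Nat.Prime 2) := ⟨Nat.prime_two⟩
  obtain ⟨Q, l, -⟩ := as_lq h
  obtain ⟨T, hT⟩ := exists_isSyl 2 𝐂₁(w)
  obtain ⟨k, a⟩ := a
  obtain ⟨c, -, e⟩ := (l.isSyl_top hT).exists_cj_le (isPGroup_zpowers a) le_top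
  exact ⟨c, (mem_c1.1 (hT.le (e (conj_mem_cj c (mem_zpowers y))))).symm⟩

namespace Gl

variable (h : Gl ρ τ J z w α s σ O)
include h

theorem inj : Injective σ := (injective_iff_map_eq_one σ).2 fun _ e => h.dis (e ▸ one_mem _)

theorem cm_iff {a b : Y} : Commute (σ a) (σ b) ↔ Commute a b :=
  ⟨fun c => h.inj (by rw [map_mul, map_mul, c.eq]), fun c => c.map σ⟩

theorem mH (y : Y) : σ y ∈ 𝐍(O) := centralizer_le_normalizer _ fun _ l => h.cm l y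

theorem two {g : G} (a : g ∈ 𝐍(O)) (b : P2 g) : ∃ y, σ y = g ∧ P2 y := by
  obtain ⟨x, l, y, rfl⟩ := h.dec a
  obtain ⟨k, b⟩ := b
  rw [(h.cm l y).mul_pow, ← map_pow] at b
  have e := h.dis (eq_inv_of_mul_eq_one_right b ▸ inv_mem (pow_mem l _))
  rw [e, map_one, mul_one] at b
  exact ⟨y, by rw [eq_one_of_odd (h.odd l) b, one_mul], k, e⟩

theorem cm2 {g x : G} (a : g ∈ 𝐍(O)) (b : P2 g) (l : x ∈ O) : Commute x g := let ⟨y, e, _⟩ := h.two a b; e ▸ h.cm l y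

theorem cm2' {k g x : G} (a : g ∈ cj[k] 𝐍(O)) (b : P2 g) (l : x ∈ cj[k] O) : Commute x g := by
  simpa [mul_assoc] using (h.cm2 (mem_cj.1 a) (by simpa using b.cj k⁻¹) (mem_cj.1 l)).conj k

theorem cjH {g : G} (a : g ∈ 𝐍(O)) : ∃ y, ∀ x, g * σ x * g⁻¹ = σ (y * x * y⁻¹) := by
  obtain ⟨o, l, y, rfl⟩ := h.dec a
  exact ⟨y, fun x => by rw [← conj_conj', ← map_inv, ← map_mul, ← map_mul, conj_of_comm (h.cm l _).symm]⟩

variable [Finite G] [Finite Y]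

theorem L1 {g : G} {y : Y} (yy : y * y = 1) (c : ∀ x, Commute (σ y) x → x ∈ cj[g] 𝐍(O)) (cw : Commute w y)
    (le : cj[g] O ≤ 𝐍(O)) : g ∈ 𝐍(O) := by
  refine mem_normalizer_of_cj_le fun x hx => ?_
  obtain ⟨Q, lq, -, mQ⟩ := as_lq h.as
  obtain ⟨o, l, n, e⟩ := h.dec (le hx)
  have ox : Odd (orderOf x) := by have := ord_cj g⁻¹ x; rw [inv_inv] at this; exact this ▸ h.odd (mem_cj.1 hx)
  have k : ∀ {u}, Commute y u → P2 u → Commute x (σ u) := fun a b => h.cm2' (c _ (a.map σ)) (b.map σ) hx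
  have k' : ∀ {u}, Commute x (σ u) → Commute n u := fun {u} a =>
    h.cm_iff.1 (by have := (h.cm l u).inv_left.mul_left (e ▸ a); rwa [inv_mul_cancel_left] at this)
  have nQ : ∀ {u}, Commute w u → σ u ∈ 𝐍(Q.map σ) := fun a => Q.le_normalizer_map σ ⟨_, lq.nor (mem_c1.2 a.symm), rfl⟩
  have c2 := fun p m => k' (pxq (U := Q.map σ) (lq.isPGroup.map σ) (v := σ y) (by rw [← map_mul, yy, map_one]) ox
    (k rfl (.sq yy)) (nQ cw) (e ▸ mul_mem (centralizer_le_normalizer _ (by rintro _ ⟨u, -, rfl⟩; exact (h.cm l u).symm))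
      (nQ (k' (k cw.symm (.sq h.as.ww))).symm))
    (by rintro _ ⟨u, m, rfl⟩ d; exact k (h.cm_iff.1 d) (pg.1 lq.isPGroup u m)) ⟨_, (mQ _).2 ⟨p, m, rfl⟩, rfl⟩).symm
  rcases h.as.cenA fun p m => (c2 p m).symm with rfl | rfl
  · rwa [e, map_one, mul_one]
  · refine sq_odd ox ?_
    rw [e, ← pow_two, (h.cm l _).mul_pow, ← map_pow, pow_two n, h.as.ww, map_one, mul_one]
    exact pow_mem l 2

theorem L3 {g u : G} (uu : u * u = 1) (c : ∀ x, Commute u x → x ∈ 𝐍(O)) (a : u ∈ cj[g] 𝐍(O)) (b : O ≤ cj[g] 𝐍(O)) :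
    g ∈ 𝐍(O) := by
  obtain ⟨y, e, y2⟩ := h.two (mem_cj.1 a) (by simpa using (P2.sq uu).cj g⁻¹)
  obtain ⟨d, f⟩ := as_syl h.as y2
  have q : σ (d * y * d⁻¹) = σ d * g⁻¹ * u * (σ d * g⁻¹)⁻¹ := by rw [map_mul, map_mul, map_inv, e]; group
  refine inv_mem_iff.1 ((mul_mem_cancel_left (h.mH d)).1 (h.L1 (h.inj (by rw [map_mul, map_one]; exact conj_sq q.symm uu))
    (fun x k => mem_cj.2 (c _ (comm_cj.1 (q ▸ k)))) f ?_))
  rw [cj_mul]
  exact cj_le_of_mem (h.mH d) (le_cj_iff.1 b)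

theorem L2 {g u v : G} (uu : u * u = 1) (vv : v * v = 1) (c : ∀ x, Commute u x → x ∈ 𝐍(O)) (d : ∀ x, Commute v x → x ∈ 𝐍(O))
    (a : Commute (g * v * g⁻¹) u) : g ∈ 𝐍(O) :=
  h.L3 uu c (mem_cj.2 (d _ (comm_cj.1 a))) fun _ l =>
    mem_cj.2 (d _ (comm_cj.1 (h.cm2 (c _ a.symm) ((P2.sq vv).cj g) l).symm))

theorem fz {g : G} (a : g * σ z * g⁻¹ ∈ 𝐍(O)) : g ∈ 𝐍(O) := by
  have A := h.as
  have zz : σ z * σ z = 1 := by rw [← map_mul, A.zz, map_one]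
  obtain ⟨y, e, y2⟩ := h.two a ((P2.sq zz).cj g)
  obtain ⟨c, f⟩ := as_syl A y2
  obtain ⟨γ, k⟩ := A.cent f
  have yy : y * y = 1 := h.inj (by rw [map_mul, map_one]; exact conj_sq e.symm zz)
  obtain ⟨p, p1, p2⟩ := fixD k.1 (A.pm1 (k.mul k) (.inl (conj_sq rfl yy)))
  obtain ⟨n, δ, l, m⟩ := A.zs p1
  have q : σ (n * (c * y * c⁻¹) * n⁻¹) = σ (n * c) * g * σ z * (σ (n * c) * g)⁻¹ := by
    simp only [map_mul, map_inv, e]; group
  have t : n * (c * y * c⁻¹) * n⁻¹ * z * (n * (c * y * c⁻¹) * n⁻¹)⁻¹ = n * α (γ • p) * n⁻¹ := by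
    rw [← k.2 p p1.bf, ← m]; group
  have wd := ((A.cw l).mul_right f).mul_right (A.cw l).inv_right
  have dd := conj_sq (g := n) rfl (conj_sq (g := c) rfl yy)
  rw [← mul_mem_cancel_left (h.mH (n * c))]
  generalize σ (n * c) * g = g at q ⊢
  generalize n * (c * y * c⁻¹) * n⁻¹ = d at q t wd dd
  rcases (lam_eq_iff.1 (w2_eq.1 p2)).cases with u | u <;> rw [u] at t
  · exact h.L2 zz zz (fun _ => h.cz) (fun _ => h.cz) (q ▸ (comm_of_conj (t.trans m)).symm.map σ)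
  rw [A.axm p1.bf, conj_mul_conj, m, conj_of_comm (A.cw l)] at t
  have v : z * d * z⁻¹ = d * w := by
    rw [inv_eq_of_mul_eq_one_right dd] at t
    rw [← mul_inv_eq_iff_eq_mul.2 t, ← mul_assoc, ← mul_assoc, ← mul_assoc, dd, one_mul]
  refine h.L3 zz (fun _ => h.cz) (mem_cj.2 (h.L2 zz zz (fun _ => h.cz) (fun _ => h.cz) ?_)) fun x l =>
    mem_cj.2 (h.cz (comm_cj.1 (q ▸ (h.cm l d).symm)))
  have := (((Commute.refl d).mul_left wd).map σ).conj g⁻¹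
  rw [← v, map_mul, map_mul, map_inv, q] at this
  convert this using 1 <;> group

theorem cw {g : G} (c : Commute (σ w) g) : g ∈ 𝐍(O) := by
  have A := h.as
  have sq : ∀ {y}, y * y = 1 → σ y * σ y = 1 := fun e => by rw [← map_mul, e, map_one]
  have cw : ∀ n : 𝐂₁(σ w), Commute (σ w) n := fun n => (mem_c1.1 n.2).symm
  obtain ⟨Z, _, _, π, sj, pe⟩ := exists_bar (C := 𝐂₁(σ w)) (v := ⟨σ w, mem_c1.2 rfl⟩) (fun g => Subtype.ext (cw g))
    (ord2 (Subtype.ext (sq A.ww)) fun e => A.w1 (h.inj ((congrArg Subtype.val e).trans (map_one σ).symm)))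
  replace pe : ∀ {a b}, π a = π b ↔ (a : G) = b ∨ (a : G) = σ w * b := fun {a b} => by
    simpa only [Subtype.ext_iff, coe_mul] using pe a b
  obtain ⟨Q, ex, cQ, mQ⟩ := A.exA
  obtain ⟨l, q, qm⟩ := EX.exists_qm (r := 22) (EX.of (isExtraspecial_of_equiv ex.isExtraspecial topEquiv.symm) trivial
    (fun y _ => Subtype.ext (mem_c1.1 (ex.le_c1 y.2))) fun k => ex.z_ne (congrArg Subtype.val k) : EX ⊤ (⟨w, ex.mem⟩ : Q)) cQ
  let i : ∀ {y}, Commute w y → 𝐂₁(σ w) := fun {y} k => ⟨σ y, mem_c1.2 (k.map σ).symm⟩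
  let a : Q →* 𝐂₁(σ w) := MonoidHom.mk' (fun x => i (mem_c1.1 (ex.le_c1 x.2)).symm) fun x y => Subtype.ext (map_mul σ _ _)
  let f : (Fin 22 → ZMod 2) → Z := fun v => π (a (surjInv qm.surj v))
  have ai : ∀ {x y}, π (a x) = π (a y) ↔ l x = l y := fun {x y} => by
    rw [pe, qm.eq_iff, Subtype.ext_iff, Subtype.ext_iff, ← h.inj.eq_iff, ← h.inj.eq_iff (b := (_ * y : Q)), coe_mul, map_mul]; rfl
  have fl : ∀ x, f (l x) = π (a x) := fun x => ai.2 (surjInv_eq _ _)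
  let b : ∀ {p}, p ∈ Pp tA → Q := fun {p} k => ⟨α p, (mQ _).2 ⟨p, k, rfl⟩⟩
  have sb : ∀ x : Q, ∃ p k, b (p := p) k = x := fun x => let ⟨p, k, e⟩ := (mQ _).1 x.2; ⟨p, k, Subtype.ext e⟩
  let X : Subgroup Z := ((𝐍(O)).subgroupOf _).map π
  have mX : ∀ {n}, π n ∈ X ↔ (n : G) ∈ 𝐍(O) := ⟨fun ⟨m, k, e⟩ => by
    rcases pe.1 e.symm with e | e <;> rw [e]
    exacts [k, mul_mem (h.mH _) k], fun k => ⟨_, k, rfl⟩⟩
  have ac : ∀ {n : G}, n ∈ 𝐍(O) → Commute (σ w) n → ∃ y γ, Bb.Ac α y γ ∧ ∀ x, n * σ x * n⁻¹ = σ (y * x * y⁻¹) := fun k m =>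
    let ⟨y, e⟩ := h.cjH k
    let ⟨γ, u⟩ := A.cent (comm_of_conj (h.inj ((e w).symm.trans (conj_of_comm m))))
    ⟨y, γ, u, e⟩
  let z' := i A.zw.symm
  have Ds : ∀ {p} (k : DL p), IsConj (π z') (f (l (b k.bf))) := fun k =>
    let ⟨n, γ, u, e⟩ := A.zs k
    by rw [fl]; exact (isConj_iff.2 ⟨π (i (A.cw u)), by
      rw [← map_inv, ← map_mul, ← map_mul]
      exact congrArg π (Subtype.ext (by simp only [z', i, ← e, map_mul, map_inv]; rfl))⟩).symm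
  have mm : ∀ n, IsConj (π z') (π n) → ∃ c, Commute (σ w) c ∧ c * σ z * c⁻¹ = n := fun n m => by
    obtain ⟨y, e⟩ := isConj_iff.1 m.symm
    obtain ⟨y, rfl⟩ := sj y
    rw [← map_inv, ← map_mul, ← map_mul, pe] at e
    rcases e with e | e
    exacts [⟨(y : G)⁻¹, cw y⁻¹, by rw [← show (y : G) * n * (y : G)⁻¹ = σ z from e]; group⟩,
      ⟨(y : G)⁻¹ * σ (α (Lab.X 2)), (cw y).inv_right.mul_right ((A.cw (A.acq X2_P)).map σ), by
        rw [← conj_conj', ← map_inv, ← map_mul, ← map_mul, A.xz, map_mul, ← show (y : G) * n * (y : G)⁻¹ = σ w * σ z from e]; group⟩]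
  refine mX (n := ⟨g, mem_c1.2 c.symm⟩).1 (TI.top (f := f) (Q := q) (D := IsConj (π z'))
    (q := fun d => ∃ n, π n = d ∧ (n : G) * n = σ w) ⟨qm.surj.forall₂.2 fun x y => ?_,
      qm.surj.forall₂.2 fun x y e => ai.1 (by rwa [fl, fl] at e),
      qm.surj.forall.2 fun x e => (qm.ker x).2 ((ex.ctr x x.2 fun y k => congrArg Subtype.val
        ((qm.comm_iff (x := ⟨y, k⟩)).2 (e _))).imp Subtype.ext Subtype.ext),
      qm.surj.forall.2 fun x => fl _ ▸ mX.2 (h.mH _), ?_, fun d e a b => b.trans a, fun d k => ?_, ?_, qm.surj.forall.2 fun x => ?_,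
      ?_, ?_, qm.surj.forall₂.2 fun x y => ?_, ?_⟩ _)
  · rw [← qm.mul, fl, fl, fl, map_mul, map_mul]
  · rintro _ ⟨n, k, rfl⟩
    refine qm.surj.forall.2 fun x => ?_
    obtain ⟨p, m, rfl⟩ := sb x
    obtain ⟨y, γ, u, e⟩ := ac k (cw n)
    exact ⟨l (b (sA u.1 m)), by
      rw [fl, fl, ← map_inv, ← map_mul, ← map_mul]; exact congrArg π (Subtype.ext ((e _).trans (congrArg σ (u.2 p m))))⟩
  · obtain ⟨y, l⟩ := isConj_iff.1 k
    exact conj_sq l (by rw [← map_mul, ← map_one π]; exact congrArg π (Subtype.ext (sq A.zz)))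
  · rintro _ g ⟨n, rfl, e⟩
    obtain ⟨g, rfl⟩ := sj g
    exact ⟨g * n * g⁻¹, by simp, by rw [coe_mul, coe_mul, coe_inv, ← conj_mul_conj, e, conj_of_comm (cw g)]⟩
  · have e : (x : Y) * x = w ↔ q (l x) = 1 := by
      have := congrArg Subtype.val (qm.sq' x)
      rcases z2_cases (q (l x)) with k | k <;> rw [k] at this ⊢
      exacts [iff_of_false (fun e => A.w1 (e.symm.trans (by simpa using this))) (by decide), iff_of_true (this.trans (pow_one _)) rfl]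
    rw [fl, ← e, ← h.inj.eq_iff, map_mul]
    refine ⟨fun ⟨n, k, l⟩ => ?_, fun k => ⟨_, rfl, k⟩⟩
    rcases pe.1 k with k | k <;> rw [k] at l
    exacts [l, by rwa [← pow_two, (cw _).mul_pow, pow_two, pow_two, sq A.ww, one_mul] at l]
  · rintro _ ⟨n, k, rfl⟩ m g u
    obtain ⟨g, rfl⟩ := sj g
    obtain ⟨c, -, e⟩ := mm n m
    rw [← map_inv, ← map_mul, ← map_mul, mX, coe_mul, coe_mul, coe_inv, ← e, conj_conj'] at u
    exact mX.2 ((mul_mem_cancel_right (h.fz (e ▸ k))).1 (h.fz u))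
  · rintro _ ⟨n, k, rfl⟩ m
    obtain ⟨c, d, e⟩ := mm n m
    obtain ⟨y, γ, u, v⟩ := ac (h.fz (e ▸ k)) d
    refine ⟨l (b (sA u.1 B_UU.1)), (fl _).trans (congrArg π (Subtype.ext ?_))⟩
    rw [← e, v, ← A.az, u.2 _ B_UU.1]; rfl
  · obtain ⟨p, k, rfl⟩ := sb x
    obtain ⟨r, m, rfl⟩ := sb y
    obtain ⟨d, d1, d2, d3⟩ := Bb.two p r
    have : ∀ {p} (k : p ∈ Pp tA), bf d p = 0 → QuadraticMap.polar q (l (b d1.bf)) (l (b k)) = 0 := fun k e =>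
      qm.comm_iff.1 (Subtype.ext ((A.hom _ d1.bf _ k).symm.trans ((congrArg α (Mon.G.comm_iff.2 e)).trans (A.hom _ k _ d1.bf))))
    exact ⟨_, Ds d1, this k d2, this m d3⟩
  · rintro _ ⟨n, k, rfl⟩ e
    rw [← map_mul, ← map_one π, pe, coe_mul, coe_one, mul_one] at e
    obtain ⟨y, u, -⟩ := h.two (g := n) k (.root (by rcases e with e | e <;> rw [e]; exacts [.sq (one_mul _), .sq (sq A.ww)]))
    have v := h.cm_iff.1 (u ▸ cw n)
    obtain rfl : i v = n := Subtype.ext u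
    obtain ⟨γ, k⟩ := A.cent v
    obtain ⟨p, p1, p2⟩ := fixD k.1 (A.pm1 (k.mul k) (by rwa [← map_mul, ← map_one σ, h.inj.eq_iff, h.inj.eq_iff] at e))
    refine .inl ⟨_, Ds p1, comm_of_conj ?_⟩
    rw [fl, ← map_inv, ← map_mul, ← map_mul, pe]
    have := congrArg σ (k.2 p p1.bf)
    rw [map_mul, map_mul, map_inv] at this
    exact (lam_eq_iff.1 (w2_eq.1 p2)).cases.imp (fun e => this.trans (by rw [e]; rfl))
      fun e => this.trans (by rw [e, A.axm p1.bf, map_mul]; rfl)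

theorem fus {v g : G} (vv : v * v = 1) (c : ∀ x, Commute v x → x ∈ 𝐍(O)) (a : g * v * g⁻¹ ∈ 𝐍(O)) : g ∈ 𝐍(O) := by
  obtain ⟨y, e, k⟩ := h.two a ((P2.sq vv).cj g)
  obtain ⟨d, f⟩ := as_syl h.as k
  refine (mul_mem_cancel_left (h.mH d)).1 (h.L2 (by rw [← map_mul, h.as.ww, map_one]) vv (fun _ => h.cw) c ?_)
  rw [← conj_conj', ← e, ← map_inv, ← map_mul, ← map_mul]
  exact f.symm.map σ

theorem fw {g : G} (a : g * σ w * g⁻¹ ∈ 𝐍(O)) : g ∈ 𝐍(O) := h.fus (by rw [← map_mul, h.as.ww, map_one]) (fun _ => h.cw) a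

theorem cjY {x : Y} (c : IsConj (σ w) (σ x)) : IsConj w x := by
  obtain ⟨g, e⟩ := isConj_iff.1 c
  obtain ⟨y, k⟩ := h.cjH (h.fw (e ▸ h.mH x))
  exact isConj_iff.2 ⟨y, h.inj ((k w).symm.trans e)⟩

theorem zc (n : 𝐍(O) ≠ ⊤) : ZD.ZC (σ w) 𝐍(O) := by
  have : Fact (Nat.Prime 2) := ⟨Nat.prime_two⟩
  obtain ⟨Q, l, -⟩ := as_lq h.as
  obtain ⟨T, hT⟩ := exists_isSyl 2 𝐂₁(w)
  have k := l.isSyl_top hT
  have wT : w ∈ T := hT.le_of_le_normalizer l.isPGroup l.le_c1 (hT.le.trans l.nor) l.mem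
  have s : IsSyl 2 (T.map σ) ⊤ := isSyl_of_normalizer ⟨le_inf le_top le_normalizer, k.isPGroup.map σ, fun R a b c => le_antisymm
    (fun x hx => by
      have m : ∀ {x}, x ∈ R → x ∈ 𝐍(O) := fun hx => h.fw (by
        obtain ⟨y, -, e⟩ := (mem_normalizer_iff.1 (c hx).2 _).1 ⟨w, wT, rfl⟩
        exact e ▸ h.mH y)
      obtain ⟨y, rfl, -⟩ := h.two (m hx) (pg.1 a x hx)
      exact ⟨y, (k.eq_of_le (a.comap_of_injective σ h.inj) (map_le_iff_le_comap.1 b) le_top).le hx, rfl⟩) b⟩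
  refine ⟨⟨fun e => h.as.w1 (h.inj (e.trans (map_one σ).symm)), by rw [← map_mul, h.as.ww, map_one]⟩, h.mH w, n,
    ⟨T.map σ, BG.syl_of_max le_top (BG.piGrp_of_isPGroup Nat.prime_two s.isPGroup) fun R _ a b => s.2.2 R a.isPGroup b le_top, ?_⟩,
    fun _ => h.fw⟩
  rintro _ ⟨x, hx, rfl⟩
  exact (Commute.map (mem_c1.1 (hT.le hx)) σ :)

end Gl

end CF.StdZ.Bc
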