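import Cfsg.Agent.BabU.E3
import Cfsg.Agent.BabU.J1
import Cfsg.Agent.Mon.Aut3
import Cfsg.Agent.StdZ.Ex

/-! Involutions of the Baby Monster: the second centraliser has no room for a larger two-group. -/

set_option autoImplicit false
set_option maxHeartbeats 400000
set_option maxRecDepth 100000

namespace CF.StdZ.Bm

open Cfsg Subgroup CF.Leech CF.Mon CF.Mon.G CF.Mon.L CF.Mon.Lab CF.Known.Mon MulAction CF.LX CF.Loc
open CF.Even Function Spor CF.MonU CF.Mon.O CF.BabU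
open scoped commutatorElement Pointwise

theorem five : ∀ e ∈ [yE, dE, fE], ∀ c < 32, c ≠ 0 → ¬ lab (Mon.evL 1 [e] (2 * c)) ≈ₗ lab (2 * c) := by
  decide +kernel

theorem w2_eq {u v : W2} : u + v = 0 ↔ u = v := ⟨eq_of_add2, fun e => e ▸ W2.add_self _⟩

theorem Lg {γ : Gt} (h2 : PM (γ * γ)) {s t : Lab} {a b : W2} (h : ∀ p, bf p s = 0 → bf p t = 0 →
    ∃ i j : ZMod 2, G.lam (γ • p) + G.lam p = i • a + j • b) : PM γ := by
  by_contra n
  obtain ⟨δ, g, hg, k⟩ := cls_Gt (by rwa [← map_mul]) n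
  obtain ⟨e, he, o, rfl⟩ : ∃ e ∈ [yE, dE, fE], e.Ok ∧ gOf e.val = g := by
    rcases hg with rfl | rfl | rfl
    exacts [⟨_, by simp, yE_Ok, gOf_yE⟩, ⟨_, by simp, dE_ok, gOf_dE⟩, ⟨_, by simp, fE_ok, rfl⟩]
  let u : Fin 32 → Lab := fun c => δ⁻¹ • lab (2 * c)
  let κ : Fin 32 → ZMod 2 × ZMod 2 := fun c => (bf (u c) s, bf (u c) t)
  have r : ∀ c, κ (invFun κ (κ c)) = κ c := fun c => invFun_eq ⟨c, rfl⟩
  choose i j hij using fun c => h (u c * u (invFun κ (κ c)))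
    (by rw [bf_mul, show bf (u _) s = _ from congrArg Prod.fst (r c), z2_add_self])
    (by rw [bf_mul, show bf (u _) t = _ from congrArg Prod.snd (r c), z2_add_self])
  obtain ⟨x, y, xy, q⟩ := Fintype.exists_ne_map_eq_of_card_lt (fun c => (κ c, i c, j c)) (by simp)
  simp only [Prod.mk.injEq] at q
  have a := hij x
  rw [q.2.1, q.2.2, ← hij y, q.1] at a
  simp only [smul_mul', lam_mul] at a
  refine five e he (x.1 ^^^ y.1) (Nat.xor_lt_two_pow (n := 5) x.2 y.2) (fun z => xy (Fin.ext (Nat.eq_of_xor_eq_zero z))) ?_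
  rw [lab_ev o, ← lam_eq_iff, ← lam_eq_iff.2 (bf_gOf k _), show 2 * (x.1 ^^^ y.1) = Nat.xor (2 * x) (2 * y) by
    simpa [Nat.shiftLeft_eq, mul_comm] using Nat.shiftLeft_xor_distrib (a := x.1) (b := y.1) (i := 1),
    mul_smul, mul_smul, lam_smul, smul_eq_iff_eq_inv_smul, ← map_inv, lam_smul, lam_smul, lam_lab_xor, smul_add, smul_add,
    ← lam_smul, ← lam_smul, ← lam_smul, ← lam_smul]
  have := W2.add_self (G.lam (γ • u y))
  have := W2.add_self (G.lam (u x))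
  change G.lam (γ • u x) + G.lam (γ • u y) = G.lam (u x) + G.lam (u y)
  grind

variable {Γ : Type*} [Group Γ] {ρ : Gt →* Γ} {τ : Γ}

/-- `x` lies in the centre of the double cover -/
def T (ρ : Gt →* Γ) (x : Γ) : Prop := x = 1 ∨ x = ρ (pauli tA)

/-- the trace of a larger two-subgroup of the second centraliser -/
structure Yb (ρ : Gt →* Γ) (τ a b : Γ) (U : Subgroup Γ) : Prop where
  bA : b ∈ AA ρ τ
  n1 : ¬ T ρ b
  n2 : ¬ T ρ (b * a)
  cm : T ρ (b * a * b⁻¹ * a⁻¹)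
  u1 : ∀ u ∈ U, T ρ (u * b * u⁻¹ * b⁻¹) ∨ T ρ (u * b * u⁻¹ * b⁻¹ * a)
  u2 : ∀ u ∈ U, Commute (u * u) b
  sq : T ρ (b * b * a) ∨ T ρ (b * b) ∧ ∀ c ∈ AA ρ τ, Commute c b ∨ Commute c (b * a) → Commute c a

/-- the property holds for all two-subgroups -/
def Ya (ρ : Gt →* Γ) (τ a : Γ) : Prop :=
  ∀ U : Subgroup Γ, IsPGroup 2 U → (∀ u ∈ U, u ∈ AA ρ τ ∧ Commute u a) → ∃ b, Yb ρ τ a b U

variable (O : G.Out ρ τ)
include O

theorem T_pauli {p : Lab} : T ρ (ρ (pauli p)) ↔ p = 1 ∨ p = tA := or_congr O.eq_one O.inj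

theorem T_pm {γ : Gt} (h : T ρ (ρ γ)) : PM γ := (Out.mem_QQ_iff O).1 (by
  rcases h with e | e <;> rw [e]
  exacts [one_mem _, pauli_mem_QQ _ _])

theorem of_cx {b : Γ} (hb : b ∈ AA ρ τ) (c : Commute (ρ (pauli xc)) b) : ∃ β ∈ PA, ρ β = b :=
  O.inf_range.le ⟨hb, Out.of_comm_x O c.symm⟩

theorem of_pm {γ : Gt} (h : PM γ) : ∃ q, ρ (pauli q) = ρ γ := mem_QQ.1 ((Out.mem_QQ_iff O).2 h)

theorem bf_of {q : Lab} (h : ρ (pauli q) ∈ AA ρ τ) : bf q tA = 0 :=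
  pauli_smul_eq_iff.1 ((rho_comm_iff O.x_ne).1 (O.comm_t h))

theorem odd_P : Odd ((PA.map ρ).relIndex (AA ρ τ)) := by
  have := card_of_relIndex (O.inf_range ▸ inf_le_left : PA.map ρ ≤ AA ρ τ)
  rw [O.card_A, O.card_PA] at this
  rw [show (PA.map ρ).relIndex (AA ρ τ) = 11707448673375 by omega]
  decide

theorem intoP {a : Γ} (ha : a ∈ AA ρ τ) (aa : a ^ 2 ^ 2 = 1) : ∃ h ∈ AA ρ τ, ∃ γ ∈ PA, h * a * h⁻¹ = ρ γ := by
  have := O.finite
  obtain ⟨g, k⟩ := exists_conj_cent (Q := zpowers (⟨a, ha⟩ : AA ρ τ)) (isPGroup_zpowers (k := 2) (Subtype.ext aa)) (odd_P O)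
  obtain ⟨γ, a, e⟩ := k _ (mem_zpowers _)
  exact ⟨_, g⁻¹.2, γ, a, by simpa using e.symm⟩

theorem intoQ {a : Γ} (ha : a ∈ AA ρ τ) (aa : a * a = 1) : ∃ h ∈ AA ρ τ, ∃ q, h * a * h⁻¹ = ρ (pauli q) := by
  by_cases c : IsConj (ρ (pauli xc)) a
  · exact into_B O ha c
  by_cases d : IsConj (ρ (pauli xc)) (ρ (pauli tA) * a)
  · obtain ⟨h, hh, q, e⟩ := into_B O (mul_mem O.t_mem_A ha) d
    refine ⟨h, hh, tA * q, ?_⟩
    rw [← rho_pauli_mul, ← e, conj_mul_conj, conj_eq_iff.2 (O.comm_t hh), ← mul_assoc, G.Out.tt, one_mul]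
  obtain ⟨h, hh, γ, a, e⟩ := intoP O ha (by rw [show 2 ^ 2 = 2 * 2 from rfl, pow_mul, pow_two a, aa, one_pow])
  obtain ⟨k, hk, q, f⟩ := into_A O a (conj_sq e aa) (mt (conj_tr e).2 c) (mt (conj_tr (g := h) (by
    rw [conj_mul_conj, conj_eq_iff.2 (O.comm_t hh), e])).2 d)
  exact ⟨k * h, mul_mem hk hh, q, by rw [← f, ← e]; group⟩

theorem exists_C4' {γ : Gt} (hγ : γ ∈ PA) (e : ρ γ * ρ γ = ρ (pauli tA)) :
    ∃ h ∈ AA ρ τ, ∃ γ' q, C4 ρ γ' q ∧ h * ρ γ * h⁻¹ = ρ γ' ∧ ∃ u, γ' • u = u ∧ bf u tA = 0 ∧ qf u = 1 := by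
  obtain ⟨g, q, a, b⟩ := oc_of O hγ e
  have c : g * ρ (pauli tA) * g⁻¹ = ρ (pauli (q * yE.val • q)) := by rw [← e, conj_mul_conj, a, sq_qy O]
  obtain ⟨δ, d, k⟩ := back O c
  have f : ρ δ * g * ρ γ * (ρ δ * g)⁻¹ = ρ (δ * (pauli q * yE.val) * δ⁻¹) := by
    rw [map_mul ρ (δ * _), map_mul ρ δ, map_inv, ← a]; group
  obtain ⟨u, u1, u2, u3, u4⟩ := four_y q (q * yE.val • q)
  refine ⟨_, k, _, δ • q, ⟨(rho_comm_iff O.x_ne).1 (O.comm_t (f ▸ mul_mem (mul_mem k (mem_AA ρ τ hγ)) (inv_mem k))),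
    pauli_PA.2 (by rw [← d, bf_smul, bf_mul', bf_self, mu_y, add_zero]), by rw [← smul_mul', b, smul_one],
    by rw [mul_smul, mul_smul, inv_smul_smul, mul_smul, pauli_smul, inv_eq_of_mul_eq_one_right b, smul_mul', d],
    fun n => y_npm q (by
      rw [pm_iff] at n ⊢
      simpa [mul_assoc] using (normal_of_characteristic _).conj_mem _ n (gOf δ)⁻¹), fun β hβ s u v => ?_⟩, f, δ • u,
    by rw [mul_smul, mul_smul, inv_smul_smul, mul_smul, u1, pauli_smul_eq_iff.2 (bf_comm u q ▸ u2)],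
    by rw [← d, bf_smul, u3], by rw [qf_smul, u4]⟩
  have m : ∀ p : Lab, (δ⁻¹ * β * δ) • p = δ⁻¹ • β • δ • p := fun p => by rw [mul_smul, mul_smul]
  refine no0 O b rfl (short_of O (isConj_iff.2 ⟨g, c⟩)) (β := δ⁻¹ * β * δ)
    (by rw [m, d, mem_stabilizer_iff.1 hβ, inv_smul_eq_iff, d]) ?_
    (by rwa [m, ← bf_smul δ, smul_inv_smul]) ?_
  · rw [show δ⁻¹ * β * δ * (δ⁻¹ * β * δ) = δ⁻¹ * (β * β) * δ by group, map_mul, map_mul ρ δ⁻¹]
    refine s.imp (fun s => ?_) fun s => ?_ <;> rw [s]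
    · simp only [map_mul, map_inv]; group
    · rw [← d, ← conj_pauli']; simp only [map_mul, map_inv]; group
  · generalize q * yE.val • q = t at d ⊢
    simpa only [m, smul_mul' δ, smul_inv_smul, inv_smul_eq_iff, d] using v

omit O in
theorem rho_cm' (γ : Gt) (q : Lab) : ρ γ * ρ (pauli q) * (ρ γ)⁻¹ * (ρ (pauli q))⁻¹ = ρ (pauli (γ • q * q⁻¹)) := by
  rw [rho_conj, ← map_inv, ← map_inv, rho_pauli_mul]

omit O in
theorem S1_of {p : Lab} (h : p = 1 ∨ p = tA) : G.lam p ∈ S1 tA := by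
  rcases h with rfl | rfl
  exacts [lam_one ▸ zero_mem _, t_mem_S1 _]

theorem sq_x {b : Γ} {u : Lab} (h : qf u = 1) (c : Commute (ρ (pauli u) * ρ (pauli u)) b) : Commute (ρ (pauli xc)) b := by
  rwa [rho_pauli_mul, mul_self_eq, h] at c

theorem noQ {p : Lab} (pt : bf p tA = 0) (n : ¬ T ρ (ρ (pauli p))) : ¬ Ya ρ τ (ρ (pauli p)) := fun y => by
  let U := (PA ⊓ stabilizer Gt p ⊓ Sg.comap gOf).map ρ
  have mU : ∀ γ ∈ PA, γ • p = p → gOf γ ∈ Sg → ρ γ ∈ U := fun γ a b c => mem_map_of_mem _ ⟨⟨a, b⟩, c⟩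
  have pU : ∀ r, bf r tA = 0 → bf r p = 0 → ρ (pauli r) ∈ U := fun r a b =>
    mU _ (pauli_PA.2 a) (pauli_smul_eq_iff.2 b) (gOf_pauli r ▸ one_mem _)
  obtain ⟨b, y⟩ := y U (isPGroup_iff_forall.2 (by
      rintro _ ⟨γ, ⟨-, c⟩, rfl⟩
      exact ⟨3, by rw [← map_pow, show 2 ^ 3 = 2 * 4 from rfl, pow_mul, pow_two,
        PM.pow (.inl (by rw [map_mul, Sg_sq c])), map_one]⟩)) (by
    rintro _ ⟨γ, ⟨⟨a, b⟩, -⟩, rfl⟩
    exact ⟨mem_AA ρ τ a, (rho_comm_iff O.x_ne).2 b⟩)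
  obtain ⟨u, -, u1, u2, u3⟩ := four_y p tA
  obtain ⟨β, hβ, rfl⟩ := of_cx O y.bA (sq_x O u3 (y.u2 _ (pU u u2 u1)))
  have pm : PM β := Lg (s := tA) (t := p) (a := G.lam tA) (b := G.lam p) (y.sq.elim (fun k => by
      rw [← map_mul, ← map_mul] at k
      simpa using (T_pm O k).mul (pm_pauli p).inv) fun k => T_pm O (map_mul ρ β β ▸ k.1)) fun r a b => by
    have := y.u1 _ (pU r a b)
    rw [rho_cm, rho_pauli_mul, T_pauli O, T_pauli O] at this
    rw [add_comm, ← lam_inv (β • r), ← lam_mul]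
    rcases this with (e | e) | e | e
    · exact ⟨0, 0, by simp [e, lam_one]⟩
    · exact ⟨1, 0, by simp [e]⟩
    · exact ⟨0, 1, by simp [eq_inv_of_mul_eq_one_left e, lam_inv]⟩
    · exact ⟨1, 1, by simp [eq_mul_inv_of_mul_eq e, lam_inv, lam_mul]⟩
  obtain ⟨q, e⟩ := of_pm O pm
  rw [← e] at y
  have n1 := y.n1
  have n2 := y.n2
  have sq := y.sq
  rw [rho_pauli_mul, rho_pauli_mul, rho_pauli_mul, T_pauli O] at sq
  rw [rho_pauli_mul] at n2
  rw [T_pauli O] at n n1 n2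
  by_cases w : G.lam p ∈ S1 tA
  · have hq := fix_epsA (w := G.lam q) fun c hc k => by
      obtain ⟨γ, a, f⟩ := exists_PA (g := G.eps hc) ((eps_m4_iff hc).2 k)
      have := y.u1 _ (mU γ a (by
        rcases cases_S1 w with rfl | rfl | rfl | rfl
        exacts [smul_one _, smul_xc _, a, by rw [smul_xc_mul, mem_stabilizer_iff.1 a]]) (mem_Sg.2 ⟨c, hc, f⟩))
      rw [rho_cm', rho_pauli_mul, T_pauli O, T_pauli O] at this
      have m : G.lam (γ • q * q⁻¹) ∈ S1 tA :=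
        this.elim S1_of fun k => (add_mem_cancel_right w).1 (lam_mul _ p ▸ S1_of k)
      rw [lam_mul, lam_inv, lam_smul, f, mem_S1, lam_tA, w2_eq] at m
      exact m.imp_right fun m => by rw [← m, add_comm, add_assoc, W2.add_self, add_zero]
    have hp : p = xc ∨ p = xc * tA := by
      rcases cases_S1 w with e | e | e | e <;> simp [e] at n ⊢
    rcases mem_S2.1 hq with m | m
    · rcases cases_S1 m with rfl | rfl | rfl | rfl <;> rcases hp with rfl | rfl <;> revert n1 n2 <;> decide +kernel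
    rw [← lam_Y0, ← lam_mul] at m
    have c1 : Commute (τ * ρ (pauli (X 11)) * τ⁻¹) (ρ (pauli Y0)) := by
      rw [← O.conj_x]; exact Commute.conj (rho_comm_iff' _) τ
    have cA := mul_mem (mul_mem (tau_mem_AA ρ τ) (mem_AA ρ τ X11_PA)) (inv_mem (tau_mem_AA ρ τ))
    have c2 : Commute (τ * ρ (pauli (X 11)) * τ⁻¹) (ρ (pauli tA)) := O.comm_t cA
    have c3 := c1.mul_right c2
    rw [rho_pauli_mul] at c3
    have : (q = Y0 ∨ q = Y0 * tA ∨ q * p = Y0 ∨ q * p = Y0 * tA) ∧ ¬ (q * q * p = 1 ∨ q * q * p = tA) := by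
      rcases cases_S1 m with e | e | e | e <;> rw [← eq_mul_inv_iff_mul_eq] at e <;> rw [e] <;>
        rcases hp with rfl | rfl <;> decide +kernel
    have c4 := (sq.resolve_left this.2).2 _ cA (by
      rcases this.1 with e | e | e | e <;> rw [e]
      exacts [.inl c1, .inl c3, .inr c1, .inr c3])
    have c5 : Commute (τ * ρ (pauli (X 11)) * τ⁻¹) (ρ (pauli xc)) := by
      rcases hp with rfl | rfl
      · exact c4
      · have := c4.mul_right c2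
        rwa [rho_pauli_mul, mul_assoc xc, tA_sq, mul_one] at this
    rw [← Out.conj_z O, Commute.conj_iff] at c5
    exact xc_mul_ne _ (X11_Z11.symm.trans ((rho_comm_iff O.x_ne).1 c5))
  · obtain ⟨r, a, b⟩ := exists_bf2 (p := p) (t := tA) (fun e => w (lam_eq_iff.2 e ▸ lam_one ▸ zero_mem _))
      fun e => w (lam_eq_iff.2 e ▸ t_mem_S1 _)
    have := (sq.resolve_left fun k => w (by simpa [mul_self_eq, lam_mul, lam_xp] using S1_of k)).2 _
      (mem_AA ρ τ (pauli_PA.2 a)) ((z2_cases (bf r q)).imp (fun e => (rho_comm_iff O.x_ne).2 (pauli_smul_eq_iff.2 e))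
        fun e => (rho_comm_iff O.x_ne).2 (pauli_smul_eq_iff.2 (by rw [bf_mul', e, b]; rfl)))
    exact zero_ne_one ((pauli_smul_eq_iff.1 ((rho_comm_iff O.x_ne).1 this)).symm.trans b)

theorem noC' {a b : Γ} (ha : a ∈ AA ρ τ) (hb : b ∈ AA ρ τ) (aa : a * a = ρ (pauli tA)) (bb : b * b = 1)
    (h : ∀ c ∈ AA ρ τ, Commute c b → Commute c a) : False := by
  obtain ⟨k, hk, q, e⟩ := intoQ O hb bb
  have c : ∀ p, bf p tA = 0 → bf p q = 0 → Commute (ρ (pauli p)) (k * a * k⁻¹) := fun p x y => (comm_cj.2 (h _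
    (mul_mem (mul_mem (inv_mem hk) (mem_AA ρ τ (pauli_PA.2 x))) hk) (comm_cj.1 (e ▸ Commute.symm
      ((rho_comm_iff O.x_ne).2 (pauli_smul_eq_iff.2 y)))).symm).symm).symm
  obtain ⟨γ, -, f⟩ := of_cx O (mul_mem (mul_mem hk ha) (inv_mem hk)) (c xc (bf_xc _) (bf_xc _))
  have s : ρ γ * ρ γ = ρ (pauli tA) := by rw [f, ← conj_mul_conj, aa, conj_eq_iff.2 (O.comm_t hk)]
  rw [← f] at c
  obtain ⟨r, l⟩ := of_pm O (Lg (s := tA) (t := q) (a := 0) (b := 0) (T_pm O (.inr ((map_mul ρ γ γ).trans s)))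
    fun p x y => ⟨0, 0, by rw [(rho_comm_iff O.x_ne).1 (c p x y).symm, W2.add_self]; simp⟩)
  rw [← l, rho_pauli_mul, O.inj, mul_self_eq] at s
  exact tA_ne (s ▸ (mul_one (xp (qf r)) ▸ xp_eqv _ 1))

theorem noC {γ : Gt} {q u : Lab} (c : C4 ρ γ q) (aa : ρ γ * ρ γ = ρ (pauli tA)) (u1 : γ • u = u) (u2 : bf u tA = 0)
    (u3 : qf u = 1) : ¬ Ya ρ τ (ρ γ) := fun y => by
  let U := ((PA ⊓ centralizer {γ}).comap pauli).map (ρ.comp pauli)
  have pU : ∀ r, bf r tA = 0 → γ • r = r → ρ (pauli r) ∈ U := fun r a b =>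
    mem_map_of_mem _ ⟨pauli_PA.2 a, mem_c1.2 (by rw [conj_pauli, b])⟩
  obtain ⟨b, y⟩ := y U (((IsPGroup.of_card (p := 2) (n := 25) Lab.card).to_subgroup _).map _) (by
    rintro _ ⟨r, ⟨a, b⟩, rfl⟩
    exact ⟨mem_AA ρ τ a, (show Commute (pauli r) γ from mem_c1.1 b).map ρ⟩)
  obtain ⟨β, hβ, rfl⟩ := of_cx O y.bA (sq_x O u3 (y.u2 _ (pU u u2 u1)))
  have aA := mem_AA ρ τ c.pa
  rcases y.sq with k | ⟨k, l⟩
  · have s : ρ (β * β) = ρ γ ∨ ρ (β * β) = ρ (pauli tA * γ) := by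
      rw [map_mul, map_mul]
      rcases k with k | k
      · exact .inr (mul_right_cancel (k.trans (by rw [mul_assoc, aa, G.Out.tt])))
      · exact .inl (mul_right_cancel (k.trans aa.symm))
    have qt := pauli_PA.1 c.qa
    have e : ∀ p, bf p tA = 0 → β • β • p = γ • p := fun p hp => by
      rw [← mul_smul]
      rcases s with s | s <;> rcases (rho_eq_iff O.kap O.x_ne).1 s with s | s <;>
        simp only [s, mul_smul, kap_smul', pauli_smul_eq_iff.2 (bf_comm _ _ ▸ (bf_fix c.pa).trans hp)]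
    have bt := (bf_fix hβ).trans qt
    have cm := Mon.G.comm_iff.2 bt
    have e1 : β • (β • q * q) = xp (bf q (β • q)) * (tA * (β • q * q)) := by
      rw [smul_mul', e q qt, c.act, mul_assoc, mul_comm_eq q, ← mul_assoc, ← xp_comm, mul_assoc]
    have e2 : γ • (β • q * q) = β • q * q := by
      rw [smul_mul', ← e _ bt, e q qt, c.act, smul_mul', mem_stabilizer_iff.1 hβ, ← cm, mul_assoc, ← mul_assoc tA, tA_sq,
        one_mul]
    have := y.u1 _ (pU _ (by rw [bf_mul, bt, qt, add_zero]) e2)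
    rw [rho_cm, ← map_mul, T_pauli O] at this
    replace := this.resolve_right fun k => c.npm (inv_mul_cancel_left _ γ ▸ (pm_pauli _).inv.mul (T_pm O k))
    have b : bf q (β • q) = 0 := (z2_cases _).resolve_right fun b => by
      rw [e1, b, ← mul_assoc, mul_inv_rev, mul_inv_cancel_left] at this
      revert this; decide +kernel
    exact c.no β hβ s b (.inr (by rw [e1, b, xp_zero, one_mul]))
  · rcases k with k | k
    · exact noC' O aA y.bA aa k fun c a b => l c a (.inl b)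
    · exact noC' O aA (mul_mem y.bA aA) aa (by rw [← pow_two, (l _ y.bA (.inl rfl)).mul_pow, pow_two, pow_two, k, aa, G.Out.tt])
        fun c a b => l c a (.inr b)

theorem noY {a : Γ} (ha : a ∈ AA ρ τ) (n : ¬ T ρ a) (aa : T ρ (a * a)) (y : ∀ h ∈ AA ρ τ, Ya ρ τ (h * a * h⁻¹)) : False := by
  have ct := fun {h} (hh : h ∈ AA ρ τ) => conj_eq_iff.2 (O.comm_t hh)
  rcases aa with aa | aa
  · obtain ⟨h, hh, q, e⟩ := intoQ O ha aa
    refine noQ O (bf_of O (e ▸ mul_mem (mul_mem hh ha) (inv_mem hh))) (fun k => n ?_) (e ▸ y h hh)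
    rw [← e] at k
    exact k.imp conj_eq_one_iff.1 fun k => by simpa using k.trans (ct hh).symm
  · obtain ⟨h, hh, γ, a, e⟩ := intoP O ha (by rw [show 2 ^ 2 = 2 * 2 from rfl, pow_mul, pow_two a, aa, pow_two, G.Out.tt])
    have s : ρ γ * ρ γ = ρ (pauli tA) := by rw [← e, ← conj_mul_conj, aa, ct hh]
    obtain ⟨k, hk, δ, q, c, f, u, u1, u2, u3⟩ := exists_C4' O a s
    exact noC O c (by rw [← f, ← conj_mul_conj, s, ct hk]) u1 u2 u3 (by rw [← f, ← e, conj_conj']; exact y _ (mul_mem hk hh))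

end CF.StdZ.Bm
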