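import Cfsg.Agent.StdZ.BmC

/-! The fusion of the central involution of the double cover of the Baby Monster. -/

set_option autoImplicit false
set_option maxHeartbeats 400000
set_option maxRecDepth 100000

namespace CF.StdZ.Bm

open Cfsg Subgroup CF.Leech CF.Mon CF.Mon.G CF.Mon.L CF.Mon.Lab CF.Known.Mon MulAction CF.LX CF.Loc
open CF.Even Function Spor CF.MonU CF.Mon.O CF.BabU
open scoped commutatorElement Pointwise

theorem tr {x y : LL} (hx : nm x = 32) (hy : nm y = 32) (h : dt x uA ^ 2 = dt y uA ^ 2) :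
    ∃ g : Co0, g • red uA = red uA ∧ g • red x = red y := by
  have key : ∀ {x y : LL}, nm x = 32 → nm y = 32 → dt uA x = dt uA y → dt uA x ≤ 0 →
      ∃ g : Co0, g • red uA = red uA ∧ g • red x = red y := fun {x y} hx hy e l => by
    have k := fun s h a => (trans_M1 (s := s) h nm_uA ⟨hx, a⟩ ⟨hy, e ▸ a⟩).imp fun g (b : g • uA = uA ∧ g • x = y) =>
      And.intro ((red_smul g _).symm.trans (congrArg red b.1)) ((red_smul g _).symm.trans (congrArg red b.2))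
    have n := dt_self uA
    have m := dt_neg_right uA uA
    rw [nm_uA] at n
    rcases dt_cases hx nm_uA with rfl | rfl | a | a | a | a | a <;> try rw [dt_comm] at a
    · omega
    · rcases dt_cases hy nm_uA with rfl | rfl | a | a | a | a | a <;> try rw [dt_comm] at a
      exacts [by omega, ⟨1, one_smul _ _, one_smul _ _⟩, by omega, by omega, by omega, by omega, by omega]
    exacts [by omega, by omega, k _ (by simp) a, k _ (by simp) a, k _ (by simp) a]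
  have a := key ((nm_neg x).trans hx) ((nm_neg y).trans hy)
  have b := key ((nm_neg x).trans hx) hy
  have c := key hx ((nm_neg y).trans hy)
  have d := key hx hy
  simp only [dt_comm uA, dt_neg_left, red_neg] at a b c d
  rcases sq_eq_sq_iff_eq_or_eq_neg.1 h with e | e <;> rcases le_total (dt x uA) 0 with l | l
  exacts [d e l, a (by omega) (by omega), c e l, b (by omega) (by omega)]

theorem trP {p q : Lab} {x y : LL} (hx : nm x = 32) (hy : nm y = 32) (a : p ≈ₗ cls x) (b : q ≈ₗ cls y)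
    (h : dt x uA ^ 2 = dt y uA ^ 2) : ∃ γ ∈ PA, γ • p ≈ₗ q := by
  obtain ⟨g, c, d⟩ := tr hx hy h
  obtain ⟨γ, e, rfl⟩ := exists_PA c
  exact ⟨γ, e, (smul_eqv_iff a b).2 d⟩

theorem w_npm : ¬ PM (wH * wH) := fun h => by
  have := h.lam (G.lam fL)
  rw [← lam_smul, mul_smul, wH_f, wH_z, lam_eq_iff] at this
  revert this; decide +kernel

section

variable {G : Type*} [Group G] {c : G}

/-- equality up to an involution -/
def Up (c x y : G) : Prop := x = y ∨ x = y * c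

theorem Up.mul {x y u v : G} (a : Up c x y) (b : Up c u v) (cc : c * c = 1) (k : Commute c v) : Up c (x * u) (y * v) := by
  rcases a with rfl | rfl <;> rcases b with rfl | rfl
  exacts [.inl rfl, .inr (mul_assoc _ _ _).symm, .inr (by rw [mul_assoc, k.eq, mul_assoc]),
    .inl (by rw [mul_assoc, ← mul_assoc c, k.eq, mul_assoc, cc, mul_one])]

theorem Up.inv {x y : G} (a : Up c x y) (cc : c * c = 1) (k : Commute c y) : Up c x⁻¹ y⁻¹ :=
  a.imp (congrArg _) fun e => by rw [e, mul_inv_rev, inv_eq_of_mul_eq_one_right cc, k.inv_right.eq]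

theorem Up.cj {x y u : G} (a : Up c x y) (k : Commute c u) : x * u * x⁻¹ = y * u * y⁻¹ := by
  rcases a with rfl | rfl
  exacts [rfl, by rw [← conj_conj', conj_of_comm k.symm]]

theorem perfP {f e : Gt → G} (F : Hm PA f) (E : Hm PA e) (cc : c * c = 1) (k : ∀ γ ∈ PA, Commute c (e γ))
    (u : ∀ γ ∈ PA, Up c (f γ) (e γ)) (hk : f kap = e kap) {γ : Gt} (h : γ ∈ PA) : f γ = e γ := by
  have k' : ∀ γ ∈ PA, Commute c (f γ) := fun γ h => by
    rcases u γ h with a | a <;> rw [a]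
    exacts [k γ h, (k γ h).mul_right rfl]
  let K : Subgroup Gt :=
    { carrier := {γ | γ ∈ PA ∧ f γ = e γ}
      one_mem' := ⟨one_mem _, F.one.trans E.one.symm⟩
      mul_mem' := fun a b => ⟨mul_mem a.1 b.1, by rw [F _ a.1 _ b.1, E _ a.1 _ b.1, a.2, b.2]⟩
      inv_mem' := fun a => ⟨inv_mem a.1, by rw [F.inv a.1, E.inv a.1, a.2]⟩ }
  have hY : pauli Y0 = y4 * pauli fL * y4⁻¹ * (pauli fL)⁻¹ := by rw [conj_pauli', y4_f, map_mul, mul_inv_cancel_right]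
  have a := th_x4.pa.1 x4_NA.2
  have b := DG_PA fL_DG
  refine ((normal_eq_PA (K := K) (fun _ h => h.1) (fun γ a δ b => ⟨mul_mem (mul_mem a b.1) (inv_mem a), by
    rw [F.conj a b.1, E.conj a b.1, b.2, (u γ a).cj (k δ b.1)]⟩) ⟨kp_PA, hk⟩ ⟨Y0_PA, ?_⟩ (γ := wH * wH)
    ⟨mul_mem wH_PA wH_PA, ?_⟩ w_npm).ge h).2
  · rw [hY, F _ (mul_mem (mul_mem a b) (inv_mem a)) _ (inv_mem b), E _ (mul_mem (mul_mem a b) (inv_mem a)) _ (inv_mem b),
      F.conj a b, E.conj a b, F.inv b, E.inv b, (u _ a).cj (k' _ b), mul_assoc, mul_assoc, ← mul_assoc (f _),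
      (u _ b).cj (k _ a).inv_right]
    group
  · rw [F _ wH_PA _ wH_PA, E _ wH_PA _ wH_PA]
    rcases u _ wH_PA with a | a <;> rw [a]
    rw [mul_assoc, ← mul_assoc c, (k _ wH_PA).eq, mul_assoc, cc, mul_one]

end

theorem pm0 {R : Subgroup (Gt × Gt)} (mem : ∀ {a b}, (a, b) ∈ R → b ∈ PA) (sur : ∀ b ∈ PA, ∃ a, (a, b) ∈ R)
    (kp : (1, kap) ∈ R) (k1 : ∀ b, (1, b) ∈ R → PM b) {a b : Gt} (k : (a, b) ∈ R) (ha : PM a) : PM b := by
  let B := (R ⊓ ((Subgroup.center Co0).comap gOf).comap (MonoidHom.fst Gt Gt)).map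
    (gOf.comp (MonoidHom.snd Gt Gt))
  refine good_tA.core B ?_ ?_ ⟨(1, kap), ⟨kp, pm_iff.1 (Or.inl (map_one gOf))⟩, gOf_kap⟩ ?_ _ ⟨(a, b), ⟨k, pm_iff.1 ha⟩, rfl⟩
  · rintro _ ⟨⟨a, b⟩, ⟨k, -⟩, rfl⟩
    exact lam_fix (mem k)
  · rintro ⟨_, ⟨a, b⟩, ⟨k, l⟩, rfl⟩
    have := R.pow_mem k 4
    rw [Prod.pow_mk, (pm_iff (a := a) |>.2 l).pow] at this
    have := (k1 _ this).pow
    exact ⟨4, Subtype.ext (by
      change gOf b ^ 2 ^ 4 = 1
      rw [← map_pow, show 2 ^ 4 = 4 * 4 from rfl, pow_mul, this, map_one])⟩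
  · rintro x hx _ ⟨⟨a, b⟩, ⟨k, l⟩, rfl⟩
    obtain ⟨d, hd, rfl⟩ := good_tA.lift x hx
    obtain ⟨c, e⟩ := sur d hd
    exact ⟨_, ⟨Rel.conj e k, pm_iff.1 ((pm_iff.2 l).conj c)⟩, by simp⟩

variable {Γ : Type*} [Group Γ] {ρ : Gt →* Γ} {τ : Γ} (O : G.Out ρ τ)
include O

theorem kt_iff {γ : Gt} : Kt tA γ ↔ T ρ (ρ γ) := by
  rw [T, rho_eq_one_iff O.kap O.x_ne, rho_eq_iff O.kap O.x_ne]
  simp only [Kt, or_and_right, exists_or, exists_eq_left, map_one, mul_one]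

theorem T_PA {γ : Gt} (h : T ρ (ρ γ)) : γ ∈ PA := (rho_comm_iff O.x_ne).1 (by rcases h with e | e <;> simp [e])

theorem oddW {a : Γ} (ha : a ∈ AA ρ τ) (h : Nat.card ↥(AA ρ τ ⊓ 𝐂₁(a)) = Nat.card (PA.map ρ)) :
    ∃ k ∈ AA ρ τ, ∃ p, k * a * k⁻¹ = ρ (pauli p) ∧ G.lam p ∈ S1 tA := by
  have := O.finite
  obtain ⟨g, k⟩ := exists_conj_cent (C := (AA ρ τ ⊓ 𝐂₁(a)).subgroupOf (AA ρ τ))
    (Q := ((PA.comap pauli).map (ρ.comp pauli)).subgroupOf (AA ρ τ))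
    (((IsPGroup.of_card (p := 2) (n := 25) Lab.card).to_subgroup _).map _).comap_subtype (by
      have := card_of_relIndex (inf_le_left : AA ρ τ ⊓ 𝐂₁(a) ≤ _)
      rw [h, O.card_A, O.card_PA] at this
      rw [show Subgroup.index _ = 11707448673375 from by unfold Subgroup.relIndex at this; omega]
      decide)
  have c : ∀ p, bf p tA = 0 → Commute (ρ (pauli p)) (g * a * g.1⁻¹) := fun p hp => (comm_cj.2 (Commute.symm
    (mem_c1.1 (k ⟨_, mem_AA ρ τ (pauli_PA.2 hp)⟩ ⟨p, pauli_PA.2 hp, rfl⟩).2))).symm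
  obtain ⟨γ, b, e⟩ := of_cx O (mul_mem (mul_mem g.2 ha) (inv_mem g.2)) (c _ (bf_xc _))
  rw [← e] at c
  obtain ⟨q, f⟩ := of_pm O (good_tA.pm_of b fun p hp _ => by
    rw [(rho_comm_iff O.x_ne).1 (c p hp).symm, mul_inv_cancel, lam_one]; exact zero_mem _)
  exact ⟨g, g.2, q, (f.trans e).symm, mem_S1_of fun r hr => pauli_smul_eq_iff.1 ((rho_comm_iff O.x_ne).1 (f ▸ c r hr))⟩

theorem flip {a : Γ} (ha : a ∈ AA ρ τ) (aa : a * a = 1) : ∃ k ∈ AA ρ τ,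
    (∃ p, k * a * k⁻¹ = ρ (pauli p) ∧ G.lam p ∈ S1 tA) ∨ k * a * k⁻¹ = a * ρ (pauli tA) := by
  have ct := fun {h} (hh : h ∈ AA ρ τ) => conj_eq_iff.2 (O.comm_t hh)
  have tt : a * ρ (pauli tA) * ρ (pauli tA) = a := by rw [mul_assoc, G.Out.tt, mul_one]
  have at' := mul_mem ha O.t_mem_A
  by_cases c : IsConj (ρ (pauli xc)) a <;> by_cases d : IsConj (ρ (pauli xc)) (a * ρ (pauli tA))
  · obtain ⟨g, e, f⟩ := key2 O ha c d
    obtain ⟨k, e', f'⟩ := key2 O at' d (tt.symm ▸ c)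
    refine ⟨k⁻¹ * g, O.cA ▸ mem_c1.2 (conj_eq_iff.1 ?_), .inr ?_⟩ <;> rw [← conj_conj']
    exacts [by rw [f, ← f']; group, by rw [e, ← e']; group]
  · exact (conj_x O ha c d).imp fun k e => ⟨e.1, .inl ⟨_, e.2, lam_xc ▸ zero_mem _⟩⟩
  · obtain ⟨k, hk, e⟩ := conj_x O at' d (tt.symm ▸ c)
    exact ⟨k, hk, .inl ⟨xc * tA, by rw [← rho_pauli_mul, ← e, ← ct hk, ← conj_mul_conj, ct hk, tt],
      (lam_xc_mul tA).symm ▸ t_mem_S1 _⟩⟩
  obtain ⟨k, hk, q, e⟩ := intoQ O ha aa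
  by_cases w : G.lam q ∈ S1 tA
  · exact ⟨k, hk, .inl ⟨q, e, w⟩⟩
  have e' : k * (a * ρ (pauli tA)) * k⁻¹ = ρ (pauli (q * tA)) := by rw [conj_mul_conj, e, ct hk, rho_pauli_mul]
  have s : ∀ {b p}, k * b * k⁻¹ = ρ (pauli p) → b * b = 1 → p ≠ 1 → ¬ IsConj (ρ (pauli xc)) b → Short p :=
    fun e bb n c => (cls_Q O.r0 (O.eq_one.1 ((rho_pauli_mul ρ _ _).symm.trans (conj_sq e bb))) n).resolve_left
      (mt (conj_tr e).2 c)
  obtain ⟨x, hx, a1⟩ := s e aa (fun z => w (S1_of (.inl z))) c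
  have s2 := s e' (by rw [mul_assoc, ← O.comm_t at', tt, aa]) (fun z => w (S1_of (.inr (by
    rw [eq_inv_of_mul_eq_one_left z, inv_eq_of_mul_eq_one_right tA_sq])))) d
  have a2 : q * tA ≈ₗ cls (x + uA) := (a1.mul (cls_uA ▸ Eqv.refl _)).trans (cls_add _ _).symm
  have l := Gr.dt_of_short hx nm_uA (s2.congr a2.symm)
  have n := dt_self uA
  rw [nm_uA] at n
  obtain ⟨γ, hγ, f⟩ : ∃ γ ∈ PA, γ • q ≈ₗ q * tA := by
    rcases l with l | l
    · exact trP hx (y := x - uA) (by rw [nm_sub, hx, nm_uA, l]; norm_num) a1 ((Gr.cls_sub x uA).symm ▸ a2)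
        (by rw [dt_sub_left, l, n]; norm_num)
    · exact trP hx (by rw [nm_add, hx, nm_uA, l]; norm_num) a1 a2 (by rw [dt_add_left, l, n]; norm_num)
  obtain ⟨r, r1, r2⟩ := exists_bf2 (p := q) (t := tA) (fun e => w (lam_eq_iff.2 e ▸ lam_one ▸ zero_mem _))
    fun e => w (lam_eq_iff.2 e ▸ t_mem_S1 _)
  obtain ⟨δ, hδ, -, f⟩ := exists_of_lam (pauli_PA.2 r1) r2 hγ ((lam_smul _ _).symm.trans (lam_eq_iff.2 f))
  refine ⟨k⁻¹ * ρ δ * k, mul_mem (mul_mem (inv_mem hk) (mem_AA ρ τ hδ)) hk, .inr ?_⟩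
  rw [← conj_conj', e, ← conj_conj', rho_conj, f, ← e']; group

end CF.StdZ.Bm
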