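import Cfsg.Agent.StdZ.BmD

/-! The normaliser of the four-group of the two central involutions. -/

set_option autoImplicit false
set_option maxHeartbeats 400000
set_option maxRecDepth 100000

namespace CF.StdZ.Bm

open Cfsg Subgroup CF.Leech CF.Mon CF.Mon.G CF.Mon.L CF.Mon.Lab CF.Known.Mon MulAction CF.LX CF.Loc
open CF.Even Function Spor CF.MonU CF.Mon.O CF.BabU
open scoped commutatorElement Pointwise

variable {Γ G : Type*} [Group Γ] [Group G] {ρ : Gt →* Γ} {τ : Γ} {J : Γ → G} {z w : G}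

/-- the centraliser of `z` is the double cover -/
structure Ce (ρ : Gt →* Γ) (τ : Γ) (J : Γ → G) (z w : G) : Prop where
  O : Mon.G.Out ρ τ
  hm : Hm (AA ρ τ) J
  inj : ∀ a ∈ AA ρ τ, J a = 1 → a = 1
  hz : J (ρ (pauli tA)) = z
  hw : J (ρ (pauli xc)) = w
  cz : ∀ {g}, Commute z g → ∃ a ∈ AA ρ τ, J a = g

theorem X0_sq : pauli (X 0) * pauli (X 0) = 1 := by rw [← map_mul, X_mul_X, map_one]

theorem X0_t : pauli (X 0) • tA = xc * tA := pauli_smul_of_one bf_0A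

theorem X0_PA {γ : Gt} (h : γ ∈ PA) : pauli (X 0) * γ * (pauli (X 0))⁻¹ ∈ PA := by
  rw [mem_stabilizer_iff, inv_eq_of_mul_eq_one_right X0_sq, mul_smul, mul_smul, X0_t, smul_xc_mul, mem_stabilizer_iff.1 h,
    smul_xc_mul, X0_t, xc_xc]

namespace Ce

variable (h : Ce ρ τ J z w)
include h

theorem eq_iff {a b : Γ} (ha : a ∈ AA ρ τ) (hb : b ∈ AA ρ τ) : J a = J b ↔ a = b :=
  ⟨fun e => mul_inv_eq_one.1 (h.inj _ (mul_mem ha (inv_mem hb)) (by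
    rw [h.hm _ ha _ (inv_mem hb), h.hm.inv hb, e, mul_inv_cancel])), congrArg J⟩

theorem cm_iff {a b : Γ} (ha : a ∈ AA ρ τ) (hb : b ∈ AA ρ τ) : Commute (J a) (J b) ↔ Commute a b := by
  rw [commute_iff_eq, ← h.hm _ ha _ hb, ← h.hm _ hb _ ha, h.eq_iff (mul_mem ha hb) (mul_mem hb ha), commute_iff_eq]

theorem cA {a : Γ} (ha : a ∈ AA ρ τ) : Commute z (J a) := h.hz ▸ (h.cm_iff h.O.t_mem_A ha).2 (h.O.comm_t ha).symm

theorem hP : Hm PA fun γ => J (ρ γ) := fun a ha b hb => by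
  simp only [map_mul, h.hm _ (mem_AA ρ τ ha) _ (mem_AA ρ τ hb)]

theorem cP {γ : Gt} (a : γ ∈ PA) : Commute w (J (ρ γ)) :=
  h.hw ▸ (h.cm_iff h.O.x_mem_A (mem_AA ρ τ a)).2 (rho_comm_iff' γ).symm

theorem zz : z * z = 1 := by rw [← h.hz, ← h.hm _ h.O.t_mem_A _ h.O.t_mem_A, Mon.G.Out.tt, h.hm.one]

theorem ww : w * w = 1 := by rw [← h.hw, ← h.hm _ h.O.x_mem_A _ h.O.x_mem_A, Mon.G.Out.xx, h.hm.one]

theorem z1 : z ≠ 1 := fun e => h.O.t_ne (h.inj _ h.O.t_mem_A (h.hz.trans e))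

theorem w1 : w ≠ 1 := fun e => h.O.x_ne (h.inj _ h.O.x_mem_A (h.hw.trans e))

theorem zw : Commute z w := h.hw ▸ h.cA h.O.x_mem_A

theorem hwz : J (ρ (pauli (xc * tA))) = w * z := by
  rw [← rho_pauli_mul, h.hm _ h.O.x_mem_A _ h.O.t_mem_A, h.hw, h.hz]

theorem ofP {g : G} (a : Commute z g) (b : Commute w g) : ∃ γ ∈ PA, J (ρ γ) = g := by
  obtain ⟨c, hc, rfl⟩ := h.cz a
  obtain ⟨γ, e, rfl⟩ := of_cx h.O hc ((h.cm_iff h.O.x_mem_A hc).1 (h.hw.symm ▸ b))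
  exact ⟨γ, e, rfl⟩

theorem card {a : Γ} (ha : a ∈ AA ρ τ) : Nat.card ↥(AA ρ τ ⊓ 𝐂₁(a)) = Nat.card ↥(𝐂₁(z) ⊓ 𝐂₁(J a)) :=
  Nat.card_eq_of_bijective (fun x => ⟨J x, mem_c1.2 (h.cA x.2.1).symm, mem_c1.2 ((h.cm_iff x.2.1 ha).2 (mem_c1.1 x.2.2))⟩)
    ⟨fun x y e => Subtype.ext ((h.eq_iff x.2.1 y.2.1).1 (congrArg Subtype.val e)), fun ⟨g, a, b⟩ => by
      obtain ⟨c, hc, rfl⟩ := h.cz (mem_c1.1 a).symm
      exact ⟨⟨c, hc, mem_c1.2 ((h.cm_iff hc ha).1 (mem_c1.1 b))⟩, rfl⟩⟩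

theorem W_of {p : Lab} (a : Mon.G.lam p ∈ S1 tA) (c : IsConj z (J (ρ (pauli p)))) (n : J (ρ (pauli p)) ≠ z) :
    J (ρ (pauli p)) = w ∨ J (ρ (pauli p)) = w * z := by
  rcases cases_S1 a with rfl | rfl | rfl | rfl
  exacts [absurd (by rwa [map_one, map_one, h.hm.one, isConj_one_left] at c) h.z1, .inl h.hw, absurd h.hz n, .inr h.hwz]

theorem cV {t x : G} (e : t = w ∨ t = w * z) (a : Commute z x) : Commute t x ↔ Commute w x := by
  rcases e with rfl | rfl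
  exacts [Iff.rfl, ⟨fun b => by simpa using b.mul_left a.inv_left, fun b => b.mul_left a⟩]

theorem fixw {g t u : G} (a : t = w ∨ t = w * z) (b : u = w ∨ u = w * z) (e : g * z * g⁻¹ = t) (f : g * u * g⁻¹ = z) :
    (∀ γ ∈ PA, ∃ δ ∈ PA, J (ρ δ) = g * J (ρ γ) * g⁻¹) ∧ (∀ δ ∈ PA, ∃ γ ∈ PA, J (ρ δ) = g * J (ρ γ) * g⁻¹) ∧
      g * w * g⁻¹ = w := by
  have tot : ∀ γ ∈ PA, ∃ δ ∈ PA, J (ρ δ) = g * J (ρ γ) * g⁻¹ := fun γ k =>
    have c := h.cA (mem_AA ρ τ k)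
    have d : Commute z (g * J (ρ γ) * g⁻¹) := f ▸ ((h.cV b c).2 (h.cP k)).conj g
    h.ofP d ((h.cV a d).1 (e ▸ c.conj g))
  have sur : ∀ δ ∈ PA, ∃ γ ∈ PA, J (ρ δ) = g * J (ρ γ) * g⁻¹ := fun δ k => by
    have c := h.cA (mem_AA ρ τ k)
    have d : Commute z (g⁻¹ * J (ρ δ) * g) := comm_cj.1 (e ▸ (h.cV a c).2 (h.cP k))
    obtain ⟨γ, l, q⟩ := h.ofP d ((h.cV b d).1 (comm_cj.1 (f ▸ c)))
    exact ⟨γ, l, by rw [q]; group⟩
  refine ⟨tot, sur, ?_⟩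
  let R : Subgroup (Gt × Gt) :=
    { carrier := {y | y.1 ∈ PA ∧ y.2 ∈ PA ∧ J (ρ y.2) = g * J (ρ y.1) * g⁻¹}
      one_mem' := ⟨one_mem _, one_mem _, by simp [h.hm.one]⟩
      mul_mem' := fun a b => ⟨mul_mem a.1 b.1, mul_mem a.2.1 b.2.1,
        (h.hP _ a.2.1 _ b.2.1).trans (by beta_reduce; rw [a.2.2, b.2.2, ← conj_mul_conj]; exact congrArg (g * · * g⁻¹) (h.hP _ a.1 _ b.1).symm)⟩
      inv_mem' := fun a => ⟨inv_mem a.1, inv_mem a.2.1,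
        (h.hP.inv a.2.1).trans (by rw [a.2.2, conj_inv]; exact congrArg (g * · * g⁻¹) (h.hP.inv a.1).symm)⟩ }
  have kp : (1, kap) ∈ R := ⟨one_mem _, kp_PA, by simp [h.O.kap, h.hm.one]⟩
  have pm : ∀ p, pauli p ∈ PA → ∃ q, (pauli p, pauli q) ∈ R := fun p k => by
    obtain ⟨δ, l, e⟩ := tot _ k
    have m : (pauli p, δ) ∈ R := ⟨k, l, e⟩
    obtain ⟨q, rfl | rfl⟩ := exists_pauli_kap (pm0 (R := R) (fun k => k.2.1)
      (fun b k => (sur b k).imp fun a e => ⟨e.1, k, e.2⟩) kp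
      (fun b k => T_pm h.O (.inl (h.inj _ (mem_AA ρ τ k.2.1) (by simpa [h.hm.one] using k.2.2)))) m (pm_pauli p))
    exacts [⟨q, m⟩, ⟨q, by simpa using Rel.mul (Rel.inv kp) m⟩]
  obtain ⟨p, k⟩ := pm _ X11_PA
  obtain ⟨q, l⟩ := pm _ Y0_PA
  have := (Rel.pmul (Rel.psmul k l) (Rel.pinv l)).2.2
  rw [pauli_smul_of_one bf_11Y, pauli_smul', mul_inv_cancel_right, mul_inv_cancel_right, h.hw] at this
  rcases z2_cases (bf p q) with e | e <;> rw [e] at this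
  · exact absurd (by simpa [h.hm.one] using this.symm) h.w1
  · exact this.symm.trans h.hw

variable [Finite G]

theorem sym {g : G} (a : g * z * g⁻¹ = w ∨ g * z * g⁻¹ = w * z) : ∃ k u, (u = w ∨ u = w * z) ∧
    k * z * k⁻¹ = g * z * g⁻¹ ∧ k * u * k⁻¹ = z := by
  have c : Commute z (g⁻¹ * z * g) := comm_cj.1 ((h.cV a rfl).2 h.zw.symm)
  obtain ⟨b, hb, e⟩ := h.cz c
  obtain ⟨k, hk, p, f, m⟩ := oddW h.O hb (by
    rw [h.card hb, ← card_cj g, cj_inf, cj_centralizer_singleton, cj_centralizer_singleton, e, ← h.O.inf_range, ← h.O.cx,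
      h.card h.O.x_mem_A, h.hw, show g * (g⁻¹ * z * g) * g⁻¹ = z by group]
    exact congrArg (fun H : Subgroup G => Nat.card H) (Subgroup.ext fun x => and_comm.trans (and_congr_right fun k =>
      mem_c1.trans (eq_comm.trans ((h.cV a (mem_c1.1 k).symm).trans (eq_comm.trans mem_c1.symm))))))
  have q : J (ρ (pauli p)) = J k * g⁻¹ * z * (J k * g⁻¹)⁻¹ := by rw [← f, h.hm.conj hk hb, e]; group
  have d := conj_of_comm (h.cA hk).inv_right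
  refine ⟨g * (J k)⁻¹, _, h.W_of m (isConj_iff.2 ⟨_, q.symm⟩) fun n => ?_, by rw [← conj_conj', d], by rw [q]; group⟩
  have : g * z * g⁻¹ = z := by
    calc _ = g * ((J k)⁻¹ * z * (J k)⁻¹⁻¹) * g⁻¹ := by rw [d]
      _ = g * ((J k)⁻¹ * J (ρ (pauli p)) * (J k)⁻¹⁻¹) * g⁻¹ := by rw [n]
      _ = z := by rw [q]; group
  rw [this] at a
  refine a.elim (fun e => ?_) fun e => h.w1 (by simpa using e)
  exact absurd (h.O.inj.1 ((h.eq_iff h.O.t_mem_A h.O.x_mem_A).1 (h.hz.trans (e.trans h.hw.symm)))) good_tA.x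

theorem nzw : ¬ IsConj z w := fun c => by
  obtain ⟨g, e⟩ := isConj_iff.1 c
  obtain ⟨k, u, a, b, d⟩ := h.sym (.inl e)
  have := (b.trans e).trans (h.fixw (.inl rfl) a (b.trans e) d).2.2.symm
  exact absurd (h.O.inj.1 ((h.eq_iff h.O.t_mem_A h.O.x_mem_A).1 (h.hz.trans ((by simpa using this : z = w).trans h.hw.symm))))
    good_tA.x

theorem pairW (x : ∃ g, Commute z (g * z * g⁻¹) ∧ g * z * g⁻¹ ≠ z) : ∃ g, g * z * g⁻¹ = w * z := by
  have W : ∀ {p}, Mon.G.lam p ∈ S1 tA → IsConj z (J (ρ (pauli p))) → J (ρ (pauli p)) ≠ z → ∃ g, g * z * g⁻¹ = w * z :=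
    fun a c n => isConj_iff.1 ((h.W_of a c n).resolve_left (fun e => h.nzw (e ▸ c)) ▸ c)
  have ne : ∀ {a k}, a ∈ AA ρ τ → k ∈ AA ρ τ → J a ≠ z → J (k * a * k⁻¹) ≠ z := fun ha hk n e => n (by
    rw [h.hm.conj hk ha, ← conj_of_comm (h.cA hk)] at e
    simpa using e)
  have cj : ∀ {a k}, a ∈ AA ρ τ → k ∈ AA ρ τ → IsConj z (J a) → IsConj z (J (k * a * k⁻¹)) := fun ha hk c =>
    c.trans (isConj_iff.2 ⟨_, (h.hm.conj hk ha).symm⟩)
  have sq : ∀ {a}, a ∈ AA ρ τ → IsConj z (J a) → a * a = 1 := fun ha c => h.inj _ (mul_mem ha ha) (by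
    obtain ⟨g, e⟩ := isConj_iff.1 c
    rw [h.hm _ ha _ ha, conj_sq e h.zz])
  obtain ⟨g, c, n⟩ := x
  obtain ⟨a, ha, e⟩ := h.cz c
  have c1 : IsConj z (J a) := isConj_iff.2 ⟨g, e.symm⟩
  obtain ⟨k, hk, q, f⟩ := intoQ h.O ha (sq ha c1)
  have c2 := f ▸ cj ha hk c1
  by_cases m : Mon.G.lam q ∈ S1 tA
  · exact W m c2 (f ▸ ne ha hk (e ▸ n))
  obtain ⟨r, r1, r2⟩ := exists_bf2 (p := q) (t := tA) (fun e => m (lam_eq_iff.2 e ▸ lam_one ▸ zero_mem _))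
    fun e => m (lam_eq_iff.2 e ▸ t_mem_S1 _)
  have qA : ρ (pauli q) ∈ AA ρ τ := f ▸ mul_mem (mul_mem hk ha) (inv_mem hk)
  have c3 := cj qA (mem_AA ρ τ (pauli_PA.2 r1)) c2
  rw [rho_conj, pauli_smul_of_one r2, ← rho_pauli_mul, h.hm _ h.O.x_mem_A _ qA, h.hw] at c3
  obtain ⟨l, c2⟩ := isConj_iff.1 c2
  have qw : Commute w (J (ρ (pauli q))) := h.cP (pauli_PA.2 (bf_of h.O qA))
  obtain ⟨b, hb, e⟩ := h.cz (g := l⁻¹ * (w * J (ρ (pauli q))) * l) (comm_cj.1 (c2 ▸ qw.symm.mul_right rfl))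
  have c4 : IsConj z (J b) := c3.trans (isConj_iff.2 ⟨l⁻¹, by rw [e, inv_inv]⟩)
  obtain ⟨s, hs, ⟨p, e1, e2⟩ | e1⟩ := flip h.O hb (sq hb c4)
  · refine W e2 (e1 ▸ cj hb hs c4) (e1 ▸ ne hb hs fun d => h.w1 ?_)
    rw [e, ← mul_left_inj l⁻¹, ← mul_right_inj l, ← mul_assoc l z, c2] at d
    simpa [mul_assoc] using d
  · have := e1 ▸ cj hb hs c4
    rw [h.hm _ hb _ h.O.t_mem_A, e, h.hz] at this
    refine (h.nzw (this.trans (isConj_iff.2 ⟨l, ?_⟩))).elim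
    calc _ = w * (J (ρ (pauli q)) * (l * z * l⁻¹)) := by group
      _ = w := by rw [c2, conj_sq c2 h.zz, mul_one]

theorem exists_r (x : ∃ g, Commute z (g * z * g⁻¹) ∧ g * z * g⁻¹ ≠ z) : ∃ r, r * r = 1 ∧
    ∀ γ ∈ PA, r * J (ρ γ) * r⁻¹ = J (ρ (pauli (X 0) * γ * (pauli (X 0))⁻¹)) := by
  obtain ⟨g0, e⟩ := h.pairW x
  obtain ⟨g, u, a, b, d⟩ := h.sym (.inr e)
  replace b := b.trans e
  obtain ⟨tot, sur, gw⟩ := h.fixw (.inr rfl) a b d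
  have cc : w * z * (w * z) = 1 := by rw [← pow_two, h.zw.symm.mul_pow, pow_two, pow_two, h.ww, h.zz, one_mul]
  have cP : ∀ γ ∈ PA, Commute (w * z) (J (ρ γ)) := fun γ k => (h.cP k).mul_left (h.cA (mem_AA ρ τ k))
  let e : Gt → G := fun γ => J (ρ (pauli (X 0) * γ * (pauli (X 0))⁻¹))
  have E : Hm PA e := fun a ha b hb => by
    simp only [e]; rw [conj_mul_conj]; exact h.hP _ (X0_PA ha) _ (X0_PA hb)
  have F : ∀ g, Hm PA fun γ => g * J (ρ γ) * g⁻¹ := fun g a ha b hb => by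
    rw [← conj_mul_conj]; exact congrArg (g * · * g⁻¹) (h.hP a ha b hb)
  have xx : ∀ γ, pauli (X 0) * (pauli (X 0) * γ * (pauli (X 0))⁻¹) * (pauli (X 0))⁻¹ = γ := fun γ => by
    rw [conj_conj', X0_sq]; simp
  have et : e (pauli tA) = w * z := by simp only [e]; rw [conj_pauli', X0_t, h.hwz]
  have ek : ∀ γ, e (kap * γ) = e γ := fun γ => by simp only [e]; rw [kap_conj, map_mul, h.O.kap, one_mul]
  let R : Subgroup (Gt × Gt) :=
    { carrier := {y | y.1 ∈ PA ∧ y.2 ∈ PA ∧ Up (w * z) (g * J (ρ y.1) * g⁻¹) (e y.2)}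
      one_mem' := ⟨one_mem _, one_mem _, .inl ((F g).one.trans E.one.symm)⟩
      mul_mem' := fun a b => ⟨mul_mem a.1 b.1, mul_mem a.2.1 b.2.1, by
        have := a.2.2.mul b.2.2 cc (cP _ (X0_PA b.2.1))
        rwa [← F g _ a.1 _ b.1, ← E _ a.2.1 _ b.2.1] at this⟩
      inv_mem' := fun a => ⟨inv_mem a.1, inv_mem a.2.1, by
        have := a.2.2.inv cc (cP _ (X0_PA a.2.1))
        rwa [← (F g).inv a.1, ← E.inv a.2.1] at this⟩ }
  have tA' := fun {γ} (k : γ ∈ PA) => mem_AA ρ τ k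
  have H : Rel tA R := by
    refine ⟨fun k => ⟨k.1, k.2.1⟩,
      fun a k => (tot a k).elim fun b l => ⟨_, k, X0_PA l.1, .inl (by simp only [e]; rw [xx, l.2])⟩,
      fun b k => (sur _ (X0_PA k)).imp fun a l => ⟨l.1, k, .inl l.2.symm⟩, fun b => ⟨fun ⟨_, k, l⟩ => ?_, fun k => ?_⟩,
      fun a => (and_congr_right' (and_iff_right (one_mem _))).trans ⟨fun ⟨k, l⟩ => ?_, fun k => ?_⟩⟩
    · replace l : Up _ 1 (e b) := (F g).one ▸ l
      rw [kt_iff h.O]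
      have q : ∀ {c}, c ∈ PA → e b = e c → ρ b = ρ c := fun m q => by
        simpa using (h.eq_iff (tA' (X0_PA k)) (tA' (X0_PA m))).1 q
      exact l.imp (fun l => by simpa using q (one_mem _) (l.symm.trans E.one.symm)) fun l => q tA_mem_PA (by
        rw [et, eq_inv_of_mul_eq_one_left l.symm, inv_eq_of_mul_eq_one_right cc])
    · refine ⟨one_mem _, T_PA h.O ((kt_iff h.O).1 k), ?_⟩
      rw [(F g).one]
      obtain ⟨_, rfl | rfl, rfl | rfl⟩ := k <;> simp only [ek, et, map_one, E.one]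
      exacts [.inl rfl, .inl rfl, .inr cc.symm, .inr cc.symm]
    · rw [E.one, Up, one_mul, ← b, conj_eq_one_iff, mul_left_inj, mul_right_inj] at l
      exact (kt_iff h.O).2 (l.imp (h.inj _ (tA' k)) fun l => (h.eq_iff (tA' k) h.O.t_mem_A).1 (l.trans h.hz.symm))
    · refine ⟨T_PA h.O ((kt_iff h.O).1 k), ?_⟩
      rw [E.one, Up, one_mul, ← b, conj_eq_one_iff, mul_left_inj, mul_right_inj]
      exact ((kt_iff h.O).1 k).imp (fun e => by rw [e, h.hm.one]) fun e => by rw [e, h.hz]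
  obtain ⟨c, hc, k⟩ := H.inner good_tA
  have f : ∀ a ∈ PA, (e c)⁻¹ * g * J (ρ a) * ((e c)⁻¹ * g)⁻¹ = e a := fun a => perfP (F _) E cc (fun γ k => cP _ (X0_PA k))
    (fun γ l => (k γ l).2.2.imp (fun q => by rw [← conj_conj', q, E.conj hc l]; group) fun q => by
      rw [← conj_conj', q, E.conj hc l, conj_mul_conj, conj_of_comm (cP _ (X0_PA hc)).inv_right]; group)
    (by rw [← mul_one kap, ek, E.one]; simp [h.O.kap, h.hm.one])
  generalize (e c)⁻¹ * g = r at f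
  have rz := f _ tA_mem_PA
  rw [h.hz, et] at rz
  have r2 : ∀ a ∈ PA, Commute (J (ρ a)) (r * r) := fun a k => comm_of_conj (by
    rw [← conj_conj', f a k, f _ (X0_PA k)]; simp only [e, xx])
  obtain ⟨γ, m, q⟩ := h.ofP (h.hz ▸ r2 _ tA_mem_PA) (h.hw ▸ r2 _ xc_PA)
  have fx : ∀ p, bf p tA = 0 → γ • p = p := fun p k => (rho_comm_iff h.O.x_ne).1
    ((h.cm_iff (tA' (pauli_PA.2 k)) (tA' m)).1 (q ▸ r2 _ (pauli_PA.2 k))).symm
  obtain ⟨p, l⟩ := of_pm h.O (good_tA.pm_of m fun p k _ => by rw [fx p k, mul_inv_cancel, lam_one]; exact zero_mem _)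
  have pP : pauli p ∈ PA := pauli_PA.2 (bf_of h.O (l ▸ tA' m))
  have fp := f _ pP
  rw [l, q, conj_of_comm (Commute.mul_left rfl rfl), ← q, ← l, h.eq_iff (tA' pP) (tA' (X0_PA pP)), conj_pauli',
    h.O.inj, pauli_smul'] at fp
  rw [← l] at q
  rcases cases_S1 (mem_S1_of (t := tA) (p := p) fun s k => pauli_smul_eq_iff.1 ((rho_comm_iff h.O.x_ne).1
    (by rw [l, (rho_comm_iff h.O.x_ne).2 (fx s k)]))) with rfl | rfl | rfl | rfl
  · exact ⟨r, by rw [← q, map_one, map_one, h.hm.one], f⟩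
  · refine ⟨r * z, ?_, fun γ k => by rw [← conj_conj', conj_of_comm (h.cA (tA' k)).symm, f γ k]⟩
    calc _ = r * z * r⁻¹ * (r * r) * z := by group
      _ = _ := by rw [rz, ← q, h.hw, mul_assoc, cc]
  all_goals exact absurd fp (by decide +kernel)

end Ce

end CF.StdZ.Bm
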