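import Cfsg.Agent.StdZ.BmE

/-! The extraspecial group of order `2 ^ 25`. -/

set_option autoImplicit false
set_option maxHeartbeats 400000
set_option maxRecDepth 100000

namespace CF.StdZ.Bm

open Cfsg Subgroup CF.Leech CF.Mon CF.Mon.G CF.Mon.L CF.Mon.Lab CF.Known.Mon MulAction CF.LX CF.Loc
open CF.Even Function Spor CF.MonU CF.Mon.O CF.BabU
open scoped commutatorElement Pointwise

variable {Γ G : Type*} [Group Γ] [Group G] {ρ : Gt →* Γ} {τ : Γ} {J : Γ → G} {z w : G} {α : Lab →* G}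

/-- the extraspecial group extends the one of the double cover -/
structure Al (ρ : Gt →* Γ) (τ : Γ) (J : Γ → G) (z w : G) (α : Lab →* G) : Prop extends Ce ρ τ J z w where
  eq : ∀ {p}, bf p tA = 0 → α p = J (ρ (pauli p))
  cj : ∀ γ ∈ PA, ∀ p, J (ρ γ) * α p * (J (ρ γ))⁻¹ = α (γ • p)

theorem bf_X0 {p : Lab} (h : bf p tA ≠ 0) : bf (p * X 0) tA = 0 := by
  rw [bf_mul, bf_0A, (z2_cases _).resolve_left h]; rfl

theorem Ce.exists_al [Finite G] (h : Ce ρ τ J z w) (x : ∃ g, Commute z (g * z * g⁻¹) ∧ g * z * g⁻¹ ≠ z) :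
    ∃ α, Al ρ τ J z w α := by
  obtain ⟨r, rr, rc⟩ := h.exists_r x
  have xi : (pauli (X 0))⁻¹ = pauli (X 0) := inv_eq_of_mul_eq_one_right X0_sq
  have m : ∀ {p q}, bf p tA = 0 → bf q tA = 0 → J (ρ (pauli p)) * J (ρ (pauli q)) = J (ρ (pauli (p * q))) := fun a b => by
    rw [map_mul pauli]; exact (h.hP _ (pauli_PA.2 a) _ (pauli_PA.2 b)).symm
  have s : ∀ {p q}, bf p tA = 0 → bf q tA = 0 → J (ρ (pauli p)) * r * J (ρ (pauli q)) = J (ρ (pauli (p * X 0 * q * X 0))) * r :=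
    fun {p q} a b => by
      rw [mul_assoc, mul_inv_eq_iff_eq_mul.1 (rc _ (pauli_PA.2 b)), xi, ← map_mul pauli, ← map_mul pauli, ← mul_assoc,
        m a (by rw [bf_mul, bf_mul, b, add_zero, z2_add_self])]
      simp only [mul_assoc]
  have xx : ∀ p, p * X 0 * X 0 = p := fun p => by rw [mul_assoc, X_mul_X, mul_one]
  refine ⟨MonoidHom.mk' (fun p => if bf p tA = 0 then J (ρ (pauli p)) else J (ρ (pauli (p * X 0))) * r) fun p q => ?_,
    h, fun a => if_pos a, fun γ k p => ?_⟩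
  · by_cases a : bf p tA = 0 <;> by_cases b : bf q tA = 0
    · rw [if_pos a, if_pos b, if_pos (by rw [bf_mul, a, b, add_zero]), m a b]
    · rw [if_pos a, if_neg b, if_neg (by rwa [bf_mul, a, zero_add]), ← mul_assoc, m a (bf_X0 b), mul_assoc p]
    · rw [if_neg a, if_pos b, if_neg (by rwa [bf_mul, b, add_zero]), s (bf_X0 a) b, xx]
    · rw [if_neg a, if_neg b, if_pos (by rw [bf_mul, (z2_cases _).resolve_left a, (z2_cases _).resolve_left b]; rfl),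
        ← mul_assoc, s (bf_X0 a) (bf_X0 b), xx, ← mul_assoc, xx, mul_assoc, rr, mul_one]
  · simp only [MonoidHom.mk'_apply, bf_fix (mem_stabilizer_iff.1 k)]
    split_ifs with a
    · rw [← conj_pauli']; exact (h.hP.conj k (pauli_PA.2 a)).symm
    · have b := pauli_PA.2 (bf_X0 a)
      rw [← h.hP.inv k, mul_assoc, mul_assoc, mul_inv_eq_iff_eq_mul.1 (rc _ (inv_mem k)), ← mul_assoc, ← mul_assoc,
        ← h.hP _ k _ b, ← h.hP _ (mul_mem k b) _ (X0_PA (inv_mem k)), map_mul pauli (γ • p), ← conj_pauli', map_mul pauli p, xi]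
      simp only [mul_assoc, ← mul_assoc (pauli (X 0)) (pauli (X 0)), X0_sq, one_mul]

/-- `n` acts on the extraspecial group as `γ` -/
def Ac (α : Lab →* G) (n : G) (γ : Gt) : Prop := ∀ p, n * α p * n⁻¹ = α (γ • p)

theorem Ac.mul {n m : G} {γ δ : Gt} (a : Ac α n γ) (b : Ac α m δ) : Ac α (n * m) (γ * δ) := fun p => by
  rw [← conj_conj', b, a, mul_smul]

theorem Ac.inv {n : G} {γ : Gt} (a : Ac α n γ) : Ac α n⁻¹ γ⁻¹ := fun p => by
  rw [← smul_inv_smul γ p, ← a, inv_smul_smul]; group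

theorem ac_q (q : Lab) : Ac α (α q) (pauli q) := fun p => by rw [pauli_smul, map_mul, map_mul, map_inv]

theorem ac_one : Ac α 1 1 := fun p => by simp

theorem yE_t : yE.val • tA = Y0 * tA := by rw [yE_Ok.smul]; decide +kernel

theorem bf_YA : bf Y0 tA = 0 := good_tA.y

theorem mem_NA {p : Lab} (a : bf p tA = 0) (b : bf p Y0 = 0) : pauli p ∈ NA :=
  ⟨mem_Np.2 (pauli_smul_eq_iff.2 ((Eqv.bf (.refl p) (xc_eqv _).symm).trans b)), pauli_PA.2 a⟩

namespace Al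

variable (h : Al ρ τ J z w α)
include h

theorem ax : α xc = w := (h.eq (bf_xc _)).trans h.hw

theorem az : α tA = z := (h.eq (bf_self _)).trans h.hz

theorem ainj : Injective α := eq_one_of_ker (h.ax ▸ h.w1)

theorem axm (p : Lab) : α (xc * p) = w * α p := by rw [map_mul, h.ax]

theorem cw {n : G} {γ : Gt} (a : Ac α n γ) : Commute w n := comm_of_conj (by rw [← h.ax, a, smul_xc])

theorem nv {g : G} (a : Commute w g) (b : g * z * g⁻¹ = z ∨ g * z * g⁻¹ = w * z) :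
    ∃ γ ∈ PA, ∃ q, g = J (ρ γ) * α q := by
  rcases b with b | b
  · obtain ⟨γ, c, e⟩ := h.ofP (comm_of_conj b) a
    exact ⟨γ, c, 1, by rw [e, map_one, mul_one]⟩
  · obtain ⟨γ, c, e⟩ := h.ofP (g := g * (α (X 0))⁻¹) (comm_of_conj (by
      rw [← conj_conj', ← h.az, (ac_q _).inv, inv_eq_of_mul_eq_one_right X0_sq, X0_t, h.axm, h.az, conj_mul_conj, b,
        conj_of_comm a, ← mul_assoc, h.ww, one_mul])) (a.mul_right (h.cw (ac_q _)).inv_right)
    exact ⟨γ, c, X 0, by rw [e, inv_mul_cancel_right]⟩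

theorem ac_nv {g : G} (a : Commute w g) (b : g * z * g⁻¹ = z ∨ g * z * g⁻¹ = w * z) : ∃ γ, Ac α g γ :=
  let ⟨_, c, q, e⟩ := h.nv a b
  ⟨_, e ▸ Ac.mul (h.cj _ c) (ac_q q)⟩

theorem of_pm {γ : Gt} (a : γ ∈ PA) (b : PM γ) : ∃ q, α q = J (ρ γ) :=
  let ⟨q, e⟩ := Bm.of_pm h.O b
  ⟨q, by rw [h.eq (bf_of h.O (e ▸ mem_AA ρ τ a)), e]⟩

theorem cen {g : G} (a : Ac α g 1) : g = 1 ∨ g = w := by
  obtain ⟨γ, c, rfl⟩ := h.ofP (g := g) (comm_of_conj (by rw [← h.az, a, one_smul])) (h.cw a)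
  rcases cent_Q (γ := γ) fun p => h.ainj (by rw [← h.cj γ c, a, one_smul]) with rfl | rfl | rfl | rfl <;>
    simp [h.O.kap, h.hm.one, h.hw]

theorem ker {n : G} {γ : Gt} (a : Ac α n γ) (b : PM γ) : ∃ q, α q = n := by
  obtain ⟨q, e⟩ : ∃ q, Ac α n (pauli q) := by
    obtain ⟨q, rfl | rfl⟩ := exists_pauli_kap b
    exacts [⟨q, a⟩, ⟨q, fun p => by rw [a, mul_smul, kap_smul']⟩]
  have := (ac_q q).inv.mul e
  rw [inv_mul_cancel] at this
  rcases h.cen this with k | k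
  exacts [⟨q, inv_mul_eq_one.1 k⟩, ⟨q * xc, by rw [map_mul, h.ax, ← k, mul_inv_cancel_left]⟩]

theorem cX {γ : Gt} (a : γ ∈ PA) : α (X 0) * J (ρ γ) * (α (X 0))⁻¹ = J (ρ (pauli (X 0) * γ * (pauli (X 0))⁻¹)) := by
  have b : bf (X 0 * γ • (X 0)⁻¹) tA = 0 := by
    rw [bf_mul, bf_fix (mem_stabilizer_iff.1 a), Eqv.bf (inv_eqv _) (.refl _), z2_add_self]
  rw [mul_assoc, ← map_inv α, mul_inv_eq_iff_eq_mul.1 (h.cj γ a _), ← mul_assoc, ← map_mul, h.eq b,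
    ← h.hP _ (pauli_PA.2 b) _ a, map_mul pauli, mul_assoc, ← conj_pauli, map_inv, mul_assoc]

theorem tY : J τ * w * (J τ)⁻¹ = α Y0 := by
  rw [h.eq bf_YA, ← h.hw, ← h.hm.conj (tau_mem_AA ρ τ) h.O.x_mem_A, mul_inv_eq_iff_eq_mul.2 h.O.r0.tau_x]

/-- the second involution normalising the extraspecial group -/
theorem exists_s : ∃ s, s * s = 1 ∧ Commute w s ∧ ∀ n ∈ NA, s * J (ρ n) * s⁻¹ = J (ρ (yE.val * n * yE.val⁻¹)) := by
  have tA' := tau_mem_AA ρ τ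
  refine ⟨J τ * α (X 0) * (J τ)⁻¹, by rw [← conj_mul_conj, ← map_mul, X_mul_X]; simp, ?_, fun n hn => ?_⟩
  · have a : bf (Z 11) tA = 0 := by decide +kernel
    rw [← h.hw, ← Out.conj_z h.O, h.hm.conj tA' (mem_AA ρ τ (pauli_PA.2 a)), ← h.eq a]
    exact Commute.conj (Commute.map (show Commute (Z 11) (X 0) by unfold Commute SemiconjBy; decide +kernel) α) _
  · obtain ⟨m, -, e⟩ := h.O.r0.theta_exists' hn.1
    have e' : ρ n = τ * ρ m * τ⁻¹ := eq_mul_inv_of_mul_eq e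
    have hm : m ∈ PA := (rho_comm_iff h.O.x_ne).1 (h.O.comm_t (by
      rw [← mul_mem_cancel_left tA', ← e]; exact mul_mem (mem_AA ρ τ hn.2) tA'))
    rw [e', h.hm.conj tA' (mem_AA ρ τ hm), ← conj_mul_conj, conj_inv, ← conj_mul_conj, h.cX hm,
      ← h.hm.conj tA' (mem_AA ρ τ (X0_PA hm))]
    simp only [map_mul, map_inv, e', ← mul_inv_eq_iff_eq_mul.2 h.O.r0.xy]
    group

end Al

end CF.StdZ.Bm
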