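import Cfsg.Agent.StdZ.BmF

/-! The normaliser of the extraspecial group induces the Conway group. -/

set_option autoImplicit false
set_option maxHeartbeats 400000
set_option maxRecDepth 100000

namespace CF.StdZ.Bm

open Cfsg Subgroup CF.Leech CF.Mon CF.Mon.G CF.Mon.L CF.Mon.Lab CF.Known.Mon MulAction CF.LX CF.Loc
open CF.Even Function Spor CF.MonU CF.Mon.O CF.BabU
open scoped commutatorElement Pointwise

variable {Γ G : Type*} [Group Γ] [Group G] {ρ : Gt →* Γ} {τ : Γ} {J : Γ → G} {z w s : G} {α : Lab →* G}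

/-- odd short vectors -/
noncomputable abbrev vO (i : ℕ) : LL := vX (pt i) ∅

/-- an octad vector -/
noncomputable abbrev uO : LL := vT (OO 0) ∅

theorem nm_vO (i : ℕ) : nm (vO i) = 32 := nm_vX _ empty_mem_CS

theorem nm_uO : nm uO = 32 := nm_vT (OO_oct 0) (Finset.empty_subset _) (by simp)

theorem vO_apply (i : ℕ) (k : Pt) : (vO i : V) k = if k = pt i then -3 else 1 := by
  simp [vX_apply _ empty_mem_CS, ind]

theorem uO_apply {n : ℕ} (h : n < 24) : (uO : V) (pt n) = if Nat.testBit 5279 n then 2 else 0 := by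
  rw [vT_apply (OO_oct 0).1 (by simp)]
  simp only [ind, OO, oM, Matrix.cons_val_zero, pt_mem_ofMask h]
  split_ifs <;> simp_all

theorem dt_e (x : LL) : dt (Mon.G.eps o1_CS • x) uA = -(4 * (x : V) (pt 0)) - 4 * (x : V) (pt 1) := by
  rw [dt_uA, eps_apply, eps_apply, if_pos p0_mem, if_neg p1_o1, mul_neg]

theorem dts : dt (vO 0) uA = -16 ∧ dt (vO 2) uA = 0 ∧ dt uO uA = 0 ∧ dt (Mon.G.eps o1_CS • vO 0) uA = 8 ∧
    dt (Mon.G.eps o1_CS • vO 1) uA = 8 ∧ dt (Mon.G.eps o1_CS • vO 2) uA = -8 ∧ dt (Mon.G.eps o1_CS • uO) uA = -16 ∧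
    dt (Mon.G.eps o1_CS • uA) uA = 0 := by
  simp only [dt_e, dt_uA (vO _), dt_uA uO, vO_apply, uO_apply (n := 0) (by omega), uO_apply (n := 1) (by omega)]
  simp [p01, p01.symm, p02, p12, uA, m4_apply]
  decide

theorem vO_add : vO 0 + uA = vO 1 := LL.ext fun k => by
  simp only [AddSubgroup.coe_add, Pi.add_apply, vO_apply, uA, m4_apply]
  have := p01
  split_ifs <;> simp_all

theorem bA {x : LL} (h : dt x uA = 0 ∨ dt x uA = -16) : bf (cls x) tA = 0 := by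
  rw [← cls_uA, bf_cls, d8_eq_zero]; omega

theorem bY (x : LL) : bf (cls x) Y0 = 0 ↔ (2 : ℤ) ∣ (x : V) (pt 11) := by
  rw [Y0, Eqv.bf (.refl _) (xc_eqv _), bf_Z', cls_a_11]

theorem bY_vO (i : ℕ) : bf (cls (vO i)) Y0 = 1 := (z2_cases _).resolve_left fun h => by
  rw [bY, vO_apply] at h
  split_ifs at h <;> omega

theorem yE_cls (x : LL) : yE.val • cls x ≈ₗ cls (Mon.G.eps o1_CS • x) := gOf_yE ▸ smul_cls _ x

theorem yA_cls : Y0 * tA ≈ₗ cls (Mon.G.eps o1_CS • uA) := by rw [← yE_t, ← cls_uA]; exact yE_cls _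

theorem yE_Y : yE.val • Y0 = Y0 := by rw [Y0, smul_xc_mul, yE_Z11]

theorem YY : Y0 * Y0 = 1 := by decide +kernel

theorem eqv_conj {p q : Lab} (h : p ≈ₗ q) (n : ¬ q ≈ₗ 1) : IsConj (α p) (α q) := by
  rcases h.cases with rfl | rfl
  · rfl
  · obtain ⟨r, e⟩ := exists_bf n
    exact (isConj_iff.2 ⟨_, (ac_q r q).trans (by rw [pauli_smul_of_one e])⟩).symm

/-- the second involution -/
structure As (ρ : Gt →* Γ) (τ : Γ) (J : Γ → G) (z w : G) (α : Lab →* G) (s : G) : Prop extends Al ρ τ J z w α where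
  ss : s * s = 1
  sw : Commute w s
  sj : ∀ n ∈ NA, s * J (ρ n) * s⁻¹ = J (ρ (yE.val * n * yE.val⁻¹))

theorem Al.same (h : Al ρ τ J z w α) {p q : Lab} {x y : LL} (hx : nm x = 32) (hy : nm y = 32) (a : p ≈ₗ cls x)
    (b : q ≈ₗ cls y) (e : dt x uA ^ 2 = dt y uA ^ 2) : IsConj (α p) (α q) :=
  let ⟨γ, c, d⟩ := trP hx hy a b e
  (isConj_iff.2 ⟨_, h.cj γ c p⟩).trans (eqv_conj d (Gr.not_short_one ⟨y, hy, b⟩))

namespace As

variable (h : As ρ τ J z w α s)
include h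

omit h in
theorem y2 {p : Lab} (a : bf p tA = 0) (b : bf p Y0 = 0) : bf (yE.val • p) tA = 0 ∧ bf (yE.val • p) Y0 = 0 := by
  have : yE.val • (Y0 * tA) = tA := by rw [smul_mul', yE_Y, yE_t, ← mul_assoc, YY, one_mul]
  exact ⟨by rw [← this, bf_smul, bf_mul', a, b, add_zero], by rw [← yE_Y, bf_smul, b]⟩

theorem s2 {p : Lab} (a : bf p tA = 0) (b : bf p Y0 = 0) : s * α p * s⁻¹ = α (yE.val • p) := by
  rw [h.eq a, h.sj _ (mem_NA a b), conj_pauli', h.eq (y2 a b).1]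

theorem s2' {p : Lab} (a : bf p tA = 0) (b : bf p Y0 = 0) : s * α (yE.val • p) * s⁻¹ = α p := by
  rw [← h.s2 a b, conj_conj', h.ss]; simp

theorem cu (p : Lab) {q : Lab} (a : bf q tA = 0) (b : bf q Y0 = 0) : s * α p * s⁻¹ * α q * (s * α p * s⁻¹)⁻¹ =
    α (xp (bf p (yE.val • q)) * q) := by
  rw [← h.s2' a b, ← conj_mul_conj, conj_inv, ← conj_mul_conj, ac_q, pauli_smul', map_mul, conj_mul_conj, h.s2' a b,
    h.s2 (by simp [xp, bf]) (by simp [xp, bf]), xp_smul, map_mul]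

theorem th (p : Lab) : ∃ q, α q = s * α p * s⁻¹ := by
  obtain ⟨γ, c, q, e⟩ := h.nv (g := s * α p * s⁻¹) ((h.sw.mul_right (h.cw (ac_q p))).mul_right h.sw.inv_right) (by
    rw [← h.az, h.cu p (bf_self _) (bf_comm _ _ ▸ bf_YA), ← h.axm]
    rcases z2_cases (bf p (yE.val • tA)) with k | k <;> rw [k]
    exacts [.inl (by rw [xp_zero, one_mul]), .inr rfl])
  obtain ⟨r, k⟩ := h.of_pm c (good_tA.pm_of c fun r a b => by
    have := h.cu p a b
    rw [e, Ac.mul (h.cj γ c) (ac_q q) r, mul_smul, pauli_smul', smul_mul', xp_smul] at this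
    have := congrArg Mon.G.lam (h.ainj this)
    rw [lam_mul, lam_mul, lam_xp, lam_xp, zero_add, zero_add] at this
    rw [lam_mul, lam_inv, this, W2.add_self]
    exact zero_mem _)
  exact ⟨r * q, by rw [e, map_mul, k]⟩

theorem exists_phi : ∃ φ : Lab →* Lab, (∀ p, α (yE.val • φ p) = s * α p * s⁻¹) ∧
    (∀ p, bf p tA = 0 → bf p Y0 = 0 → φ p = p) ∧ (∀ p q, bf (φ p) (φ q) = bf p q) ∧ ∀ p, qf (φ p) = qf p := by
  choose θ e using h.th
  let φ : Lab →* Lab := MonoidHom.mk' (fun p => yE.val⁻¹ • θ p) fun p q => by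
    rw [← smul_mul', h.ainj (a₁ := θ (p * q)) (a₂ := θ p * θ q) (by rw [map_mul, e, e, e, map_mul, conj_mul_conj])]
  have a : ∀ p, α (yE.val • φ p) = s * α p * s⁻¹ := fun p => by rw [← e]; exact congrArg α (smul_inv_smul _ _)
  have b : ∀ p, bf p tA = 0 → bf p Y0 = 0 → φ p = p := fun p k l =>
    (smul_left_cancel_iff _).1 (h.ainj ((a p).trans (h.s2 k l)))
  have x : ∀ c, φ (xp c) = xp c := fun c => b _ (by simp [xp, bf]) (by simp [xp, bf])
  have i : ∀ {c d}, xp c = xp d → c = d := fun e => congrArg Lab.s e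
  refine ⟨φ, a, b, fun p q => i (mul_right_cancel (b := φ q * φ p) ?_), fun p => i ?_⟩
  · rw [← mul_comm_eq, ← map_mul, mul_comm_eq, map_mul, x, map_mul]
  · rw [← mul_self_eq, ← map_mul, mul_self_eq, x]

theorem zY : IsConj z (α (Y0 * tA)) := isConj_iff.2 ⟨s, by rw [← h.az, h.s2 (bf_self _) (bf_comm _ _ ▸ bf_YA), yE_t]⟩

variable [Finite G]

theorem ac_s : ∃ q, Ac α s (yE.val * pauli q) := by
  obtain ⟨φ, a, b, c, d⟩ := h.exists_phi
  have cj : ∀ p, IsConj (α p) (α (yE.val • φ p)) := fun p => isConj_iff.2 ⟨s, (a p).symm⟩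
  have m : ∀ {p q}, Mon.G.lam (φ p * p) = Mon.G.lam q → φ p ≈ₗ p * q := fun e => by
    rw [← lam_eq_iff, lam_mul, ← e, lam_mul, add_comm, add_assoc, W2.add_self, add_zero]
  have nq : ∀ {p q}, φ p ≈ₗ p * q → qf q = 0 → bf p q ≠ 1 := fun e k l => by
    have := e.qf
    rw [d, qf_mul, k, l, add_zero] at this
    simp at this
  have h1 : ∀ p, bf p tA = 0 → φ p ≈ₗ p := fun p k => by
    rcases z2_cases (bf p Y0) with l | l
    · rw [b p k l]; exact .refl _
    have S := mem_S2_of (t := tA) (p := φ p * p) fun r x y => by rw [bf_mul', ← c r p, b r x y, z2_add_self]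
    rw [mem_S2, mem_S1, mem_S1, w2_eq, ← lam_Y0] at S
    rcases S with (S | S) | S | S
    · simpa using m (S.trans lam_one.symm)
    swap
    · exact absurd l (nq (m S) qf_Y0)
    swap
    · refine absurd (by rw [bf_mul', k, l, add_zero]) (nq (q := Y0 * tA) (m ?_) (by decide +kernel))
      rw [lam_mul Y0, ← S, add_comm _ (Mon.G.lam Y0), ← add_assoc, W2.add_self, zero_add]
    have sg : ∀ q, bf q tA = 0 → bf q Y0 = 1 → IsConj (α q) (α (yE.val • (q * tA))) := fun q x y => by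
      have e : φ q ≈ₗ q * tA := by
        have := b (p⁻¹ * q) (by rw [bf_mul, Eqv.bf (inv_eqv _) (.refl _), k, x, add_zero])
          (by rw [bf_mul, Eqv.bf (inv_eqv _) (.refl _), l, y]; rfl)
        rw [map_mul, map_inv, inv_mul_eq_iff_eq_mul] at this
        rw [← lam_eq_iff, this, lam_mul, lam_eq_iff.2 (m S), lam_mul, lam_mul, lam_mul, lam_inv, add_right_comm,
          ← add_assoc, W2.add_self, zero_add]
      refine (cj q).trans (eqv_conj (e.smul _) fun k => ?_)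
      have := Eqv.bf k (.refl (yE.val • Y0))
      rw [bf_smul, bf_mul, y, bf_comm, bf_YA] at this
      simp at this
    obtain ⟨d0, d2, dO, e0, e1, e2, eO, eA⟩ := dts
    have n := fun x => co_nm (Mon.G.eps o1_CS) x
    obtain ⟨γ, g1, g2⟩ := trP (nm_vO 2) ((n _).trans nm_uA) (.refl _) yA_cls (by rw [d2, eA])
    have g3 : γ • (cls (vO 2) * tA) ≈ₗ Y0 := by
      rw [smul_mul', mem_stabilizer_iff.1 g1]
      simpa [mul_assoc, tA_sq] using g2.mul (.refl tA)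
    refine (h.nzw (h.zY.trans ((h.same ((n _).trans nm_uA) nm_uO yA_cls (.refl _) (by rw [eA, dO])).trans
      ((isConj_iff.2 ⟨s, h.s2 (bA (.inl dO)) ((bY _).2 (by rw [uO_apply (by omega)]; decide))⟩).trans
      ((h.same ((n _).trans nm_uO) (nm_vO 0) (yE_cls _) (.refl _) (by rw [eO, d0])).trans
      ((sg _ (bA (.inr d0)) (bY_vO 0)).trans ((h.same ((n _).trans (nm_vO 1)) ((n _).trans (nm_vO 2)) ?_
      (yE_cls _) (by rw [e1, e2]; norm_num)).trans (IsConj.trans ?_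
      (((isConj_iff.2 ⟨_, h.cj γ g1 _⟩).trans (eqv_conj g3 (by decide +kernel))).trans
      (isConj_iff.2 ⟨_, h.tY⟩).symm))))))))).elim
    · exact (Eqv.smul _ (by rw [← vO_add, ← cls_uA]; exact (cls_add _ _).symm)).trans (yE_cls _)
    · have := sg (cls (vO 2) * tA) (by rw [bf_mul, bA (.inl d2), bf_self, add_zero])
        (by rw [bf_mul, bY_vO, bf_comm, bf_YA, add_zero])
      rw [mul_assoc, tA_sq, mul_one] at this
      exact this.symm
  have h2 : ∀ p, φ p ≈ₗ p := fun p => by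
    rcases z2_cases (bf p tA) with k | k
    · exact h1 p k
    rcases mem_S1.1 (mem_S1_of (t := tA) (p := φ p * p) fun r x => by
      rw [bf_mul', ← c r p, Eqv.bf (h1 r x) (.refl _), z2_add_self]) with S | S
    exacts [by simpa using m (S.trans lam_one.symm), absurd k (nq (m S) qf_tA)]
  obtain ⟨q, e⟩ := Cfsg.Agent.S5395.result (CF.Solv.isExtraspecial_top_iff.1 L.exLab.isExtraspecial)
    (MulEquiv.ofBijective φ (Finite.injective_iff_bijective.1 (eq_one_of_ker (by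
      rw [b _ (bf_xc _) (bf_xc _)]; exact xc_ne_one)))) fun x => by
      change φ x * x⁻¹ ∈ _
      rcases (h2 x).cases with a | a <;> rw [a]
      · simp
      · simpa [Subgroup.mem_center_iff] using fun y => (xc_comm y).symm
  exact ⟨q, fun p => by rw [← a, mul_smul, pauli_smul, ← e]; rfl⟩

omit h [Finite G] in
theorem top {H : Subgroup Gt} (hp : ∀ q, pauli q ∈ H) (hA : PA ≤ H) (hy : yE.val ∈ H) (γ : Gt) : γ ∈ H := by
  obtain ⟨O, hO⟩ : ∃ O : LL → Prop, ∀ x, O x ↔ nm x = 32 ∧ ∃ γ ∈ H, γ • tA ≈ₗ cls x := ⟨_, fun _ => Iff.rfl⟩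
  have t : ∀ {x y}, O x → nm y = 32 → dt x uA ^ 2 = dt y uA ^ 2 → O y := fun k d e => by
    obtain ⟨a, γ, b, c⟩ := (hO _).1 k
    obtain ⟨δ, k, l⟩ := trP a d c (.refl _) e
    exact (hO _).2 ⟨d, δ * γ, mul_mem (hA k) b, by rwa [mul_smul]⟩
  have n := fun x => co_nm (Mon.G.eps o1_CS) x
  have e : ∀ {x}, O x ↔ O (Mon.G.eps o1_CS • x) := fun {x} => by
    rw [hO, hO, n]
    exact and_congr_right' ⟨fun ⟨γ, b, c⟩ => ⟨yE.val * γ, mul_mem hy b, by rw [mul_smul]; exact (c.smul _).trans (yE_cls _)⟩,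
      fun ⟨γ, b, c⟩ => ⟨yE.val⁻¹ * γ, mul_mem (inv_mem hy) b, by
        simpa [mul_smul] using (c.trans (yE_cls _).symm).smul yE.val⁻¹⟩⟩
  obtain ⟨d0, d2, -, e0, -, e2, -, eA⟩ := dts
  have o1 : O uA := (hO _).2 ⟨nm_uA, 1, one_mem _, by rw [one_smul, cls_uA]; exact .refl _⟩
  have o2 := e.1 o1
  have o3 := e.1 (t o2 (nm_vO 2) (by rw [eA, d2]))
  have o4 := e.2 (t o3 ((n _).trans (nm_vO 0)) (by rw [e2, e0]; norm_num))
  have hx := (co_nm (gOf γ) uA).trans nm_uA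
  obtain ⟨-, δ, b, c⟩ := (hO (gOf γ • uA)).1 (by
    rcases dt_cases hx nm_uA with a | a | a | a | a | a | a
    exacts [by rwa [a], t o1 hx (by rw [a, dt_neg_left, neg_sq]), t o4 hx (by rw [a, d0]; norm_num),
      t o3 hx (by rw [a, e2]; norm_num), t o2 hx (by rw [a, eA]), t o3 hx (by rw [a, e2]), t o4 hx (by rw [a, d0])])
  have := (c.trans (smul_cls γ uA).symm).smul γ⁻¹
  rw [inv_smul_smul, cls_uA, ← mul_smul] at this
  refine (inv_mem_iff (H := H)).1 ((mul_mem_cancel_right b).1 ?_)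
  rcases this.cases with k | k
  exacts [hA k, (mul_mem_cancel_left (hp (X 0))).1 (hA (by
    rw [mem_stabilizer_iff, mul_smul, k, smul_xc_mul, X0_t, xc_xc]))]

theorem all (γ : Gt) : ∃ n, Ac α n γ :=
  let ⟨q, e⟩ := h.ac_s
  let H : Subgroup Gt :=
    { carrier := {γ | ∃ n, Ac α n γ}
      one_mem' := ⟨1, ac_one⟩
      mul_mem' := fun ⟨_, a⟩ ⟨_, b⟩ => ⟨_, a.mul b⟩
      inv_mem' := fun ⟨_, a⟩ => ⟨_, a.inv⟩ }
  top (H := H) (fun q => ⟨_, ac_q q⟩) (fun γ k => ⟨_, h.cj γ k⟩)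
    ((mul_mem_cancel_right (show pauli q ∈ H from ⟨_, ac_q q⟩)).1 (show _ ∈ H from ⟨_, e⟩)) γ

end As

end CF.StdZ.Bm
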