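import Cfsg.Agent.StdZ.Fin
import Cfsg.Agent.Bt.Pc3

/-! Word certificates for the conditions on pairs of frames. -/

set_option autoImplicit false

namespace CF.StdZ

open Cfsg Subgroup CF.Comp CF.Bt

variable {G S : Type*} [Group G] [Group S] {S0 : Subgroup S} {τ d u : S}

/-- some commutator is an involution other than `τ` -/
def Bad (S0 : Subgroup S) (τ d : S) : Prop := ∃ x ∈ X0 S0 τ,
  x * d * x⁻¹ * d⁻¹ * (x * d * x⁻¹ * d⁻¹) = 1 ∧ x * d * x⁻¹ * d⁻¹ ≠ 1 ∧ x * d * x⁻¹ * d⁻¹ ≠ τ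

theorem Bad.conj [S0.Normal] (h : Bad S0 τ d) (g : S) : Bad S0 (g * τ * g⁻¹) (g * d * g⁻¹) := by
  obtain ⟨x, hx, a, b, c⟩ := h
  refine ⟨_, X0_conj hx g, ?_⟩
  rw [conj_inv, conj_inv, conj_mul, conj_mul, conj_mul, conj_mul, a]
  simpa using ⟨b, c⟩

theorem Bad.of_conj [S0.Normal] {g : S} (h : Bad S0 (g * τ * g⁻¹) (g * d * g⁻¹)) : Bad S0 τ d := by
  simpa [mul_assoc] using h.conj g⁻¹

theorem Pr.not_bad [Finite G] {F E : Dt G S} (h : Pr S0 F E) (f : FI S0 (F.π E.z)) (a : d ∈ h.Kp) :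
    ¬ Bad S0 (F.π E.z) d := fun ⟨_, hx, b, c, e⟩ => (h.uniq f (h.Kp_cm a hx) b).elim c e

/-- `u` lies in no four-group of the first kind -/
def FU (S0 : Subgroup S) (u : S) : Prop := ∀ τ, τ * τ = 1 → τ ≠ 1 → u ≠ τ →
  (∀ x ∈ X0 S0 u, Commute x τ) → (∀ x ∈ X0 S0 (u * τ), Commute x τ) → False

theorem FU.of_conj [S0.Normal] {g : S} (h : FU S0 (g * u * g⁻¹)) : FU S0 u := fun τ a b c e k => by
  have t : ∀ {v}, (∀ x ∈ X0 S0 v, Commute x τ) → ∀ x ∈ X0 S0 (g * v * g⁻¹), Commute x (g * τ * g⁻¹) :=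
    fun e x hx => by
      have := X0_conj hx g⁻¹
      simpa [mul_assoc] using (e (g⁻¹ * x * g) (by simpa [mul_assoc] using this)).conj g
  exact h (g * τ * g⁻¹) (by rw [conj_mul, a]; simp) (by simpa using b) (by simpa using c) (t e)
    (by rw [conj_mul]; exact t k)

theorem fi_of (h : ∀ u, orderOf u = 2 → FU S0 u) (a : τ * τ = 1) (b : τ ≠ 1) : FI S0 τ :=
  fun u uu u1 c _ => h u (ord2 uu u1) τ a b c

theorem mem_of_card {A : Subgroup S} [Finite A] {l : List S} (n : l.Nodup) (h : ∀ x ∈ l, x ∈ A)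
    (c : Nat.card A ≤ l.length) {x : S} (hx : x ∈ A) : x ∈ l := by
  classical
  have := Set.eq_of_subset_of_ncard_le (s := (l.toFinset : Set S)) (t := A) (fun x a => h x (by simpa using a))
    (by rwa [Set.ncard_coe_finset, List.toFinset_card_of_nodup n]) (Set.toFinite _)
  simpa using this.ge hx

theorem cube_cases {a x : S} (h : a ^ 3 = 1) (hx : x ∈ zpowers a) : x = 1 ∨ x = a ∨ x = a⁻¹ := by
  obtain ⟨k, rfl⟩ := hx
  have e : a ^ k = a ^ (k % 3) := by
    conv_lhs => rw [← Int.mul_ediv_add_emod k 3, zpow_add, zpow_mul, zpow_ofNat, h, one_zpow, one_mul]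
  have : k % 3 = 0 ∨ k % 3 = 1 ∨ k % 3 = 2 := by omega
  refine this.imp (fun b => by simp [e, b]) (.imp (fun b => by simp [e, b]) fun b => ?_)
  simp only [e, b, zpow_ofNat]
  exact eq_inv_of_mul_eq_one_left (by rw [← pow_succ, h])

theorem nine_dvd {A : Subgroup S} {a b : S} (ha : a ∈ A) (hb : b ∈ A) (c : Commute a b) (a3 : a ^ 3 = 1) (b3 : b ^ 3 = 1)
    (h1 : a ≠ 1) (h2 : b ≠ 1) (h3 : a * b ≠ 1) (h4 : a * b⁻¹ ≠ 1) : 9 ∣ Nat.card A := by
  have : Fact (Nat.Prime 3) := ⟨Nat.prime_three⟩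
  let φ := (zpowers a).subtype.noncommCoprod (zpowers b).subtype fun ⟨_, i, rfl⟩ ⟨_, j, rfl⟩ => c.zpow_zpow i j
  have i : Function.Injective φ := (MonoidHom.noncommCoprod_injective _ _ _).2
    ⟨subtype_injective _, subtype_injective _, disjoint_def.2 fun {x} p q => by
      rw [range_subtype] at p q
      rcases cube_cases a3 p with rfl | rfl | rfl
      · rfl
      · rcases cube_cases b3 q with e | e | e
        exacts [e, absurd (by simp [e]) h4, absurd (by simp [e]) h3]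
      · rcases cube_cases b3 q with e | e | e
        exacts [e, absurd (by simp [← e]) h3, absurd (by simp [← e]) h4]⟩
  have := card_dvd_of_injective (φ.codRestrict A fun x =>
    mul_mem (zpowers_le.2 ha x.1.2) (zpowers_le.2 hb x.2.2)) ((MonoidHom.injective_codRestrict _ _ _).2 i)
  rwa [Nat.card_prod, Nat.card_zpowers, Nat.card_zpowers, orderOf_eq_prime a3 h1, orderOf_eq_prime b3 h2] at this

/-- a square or a root -/
noncomputable def xw (c : List ℕ × ℕ) : List ℕ := Nat.rec (lapp c.1 c.1) (fun _ _ => c.1) c.2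

/-- a list of squares and roots with a word in them -/
abbrev XC : Type := List (List ℕ × ℕ) × List ℕ

/-- the word of the certificate -/
noncomputable def XC.w (c : XC) : List ℕ := subst (lmap xw c.1) c.2

variable (eq ne : List ℕ → List ℕ → Bool) (mem : List ℕ → Bool)

/-- the squares and roots are correct -/
noncomputable def xOK (v : List ℕ) (cs : List (List ℕ × ℕ)) : Bool := lall (fun c => Bool.rec false
  (Nat.rec (eq (lapp c.1 v) (lapp v c.1)) (fun _ _ => eq (wpow c.1 c.2) v) c.2) (mem c.1)) cs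

/-- the commutator word -/
noncomputable def cmW (x d : List ℕ) : List ℕ := lapp (lapp (lapp x d) (winv x)) (winv d)

/-- certificate for `Bad` -/
noncomputable def badOK (τ d : List ℕ) (c : XC) : Bool := lall (fun t => t)
  [xOK eq mem τ c.1, eq (lapp (cmW c.w d) (cmW c.w d)) [], ne (cmW c.w d) [], ne (cmW c.w d) τ]

/-- pairwise different words -/
noncomputable def ndW (l : List (List ℕ)) : Bool := List.rec true (fun a t ih => Bool.rec false ih (lall (ne a) t)) l

/-- certificate for `FU` -/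
noncomputable def fuOK (u : List ℕ) (cs : List (List ℕ × ℕ)) (zs : List (List ℕ × XC)) : Bool := lall (fun t => t)
  [xOK eq mem u cs, comAll eq (lmap Prod.fst zs) (lmap xw cs), ndW ne (lmap Prod.fst zs),
    lall (fun z => lany (fun t => t) [eq z.1 [], eq u z.1, ne (lapp z.1 z.1) [],
      Bool.rec false (ne (lapp z.2.w z.1) (lapp z.1 z.2.w)) (xOK eq mem (lapp u z.1) z.2.1)]) zs]

variable {eq ne mem} {f : ℕ → S} (he : Eqv f eq) (hn : Nev f ne) (hm : ∀ w, mem w = true → ev f w ∈ S0)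

theorem ev_cmW (x d : List ℕ) : ev f (cmW x d) = ev f x * ev f d * (ev f x)⁻¹ * (ev f d)⁻¹ := by
  simp only [cmW, ev_lapp, ev_winv]

include he hm in
theorem xOK_spec {v : List ℕ} {cs : List (List ℕ × ℕ)} (h : xOK eq mem v cs = true) :
    clo f (lmap xw cs) ≤ X0 S0 (ev f v) := clo_le.2 fun w hw => by
  obtain ⟨⟨s, n⟩, hc, rfl⟩ := List.mem_map.1 (lmap_eq xw cs ▸ hw)
  obtain ⟨a, b⟩ := and_of_rec (lall_iff.1 h _ hc)
  cases n with
  | zero =>
    have := he _ _ b
    rw [ev_lapp, ev_lapp] at this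
    exact (ev_lapp f s s).symm ▸ sq_mem_X0 (hm _ a) this
  | succ n => exact root_mem_X0 (hm _ a) ((ev_wpow f s _).symm.trans (he _ _ b))

include he hn hm in
theorem badOK_spec {τ d : List ℕ} {c : XC} (h : badOK eq ne mem τ d c = true) : Bad S0 (ev f τ) (ev f d) := by
  simp only [badOK, lall_iff, List.forall_mem_cons] at h
  obtain ⟨h1, h2, h3, h4, -⟩ := h
  refine ⟨ev f c.w, xOK_spec he hm h1 (ev_subst_mem_clo _ _ _), ?_⟩
  rw [← ev_cmW, ← ev_lapp]
  exact ⟨he _ _ h2, hn _ _ h3, hn _ _ h4⟩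

include hn in
theorem ndW_spec {l : List (List ℕ)} (h : ndW ne l = true) : (l.map (ev f)).Nodup := by
  induction l with
  | nil => exact List.nodup_nil
  | cons a t ih =>
    obtain ⟨b, c⟩ := and_of_rec h
    refine List.nodup_cons.2 ⟨fun m => ?_, ih c⟩
    obtain ⟨w, hw, e⟩ := List.mem_map.1 m
    exact hn _ _ (lall_iff.1 b w hw) e.symm

include he hn in
theorem cent_list [Finite S] {as zs : List (List ℕ)} (h1 : comAll eq zs as = true) (h2 : ndW ne zs = true)
    (hc : Nat.card (centralizer (clo f as : Set S)) ≤ zs.length) {x : S} (hx : x ∈ centralizer (clo f as : Set S)) :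
    ∃ z ∈ zs, ev f z = x :=
  List.mem_map.1 (mem_of_card (ndW_spec hn h2) (fun x a => by
    obtain ⟨w, hw, rfl⟩ := List.mem_map.1 a
    exact he.comAll h1 (ev_mem_clo f hw)) (by simpa using hc) hx)

include he hn hm in
theorem fuOK_spec [Finite S] {u : List ℕ} {cs : List (List ℕ × ℕ)} {zs : List (List ℕ × XC)}
    (h : fuOK eq ne mem u cs zs = true) (hc : Nat.card (centralizer (clo f (lmap xw cs) : Set S)) ≤ llen zs) :
    FU S0 (ev f u) := fun τ a b c e k => by
  simp only [fuOK, lall_iff, List.forall_mem_cons] at h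
  obtain ⟨h1, h2, h3, h4, -⟩ := h
  obtain ⟨z, hz, rfl⟩ := cent_list he hn h2 h3 (by rwa [lmap_eq Prod.fst, List.length_map, ← llen_eq])
    (x := τ) fun x hx => e x (xOK_spec he hm h1 hx)
  obtain ⟨z, hz', rfl⟩ := List.mem_map.1 (lmap_eq Prod.fst zs ▸ hz)
  have := h4 z hz'
  simp only [lany_iff, List.mem_cons, List.not_mem_nil, or_false, exists_eq_or_imp, exists_eq_left] at this
  rcases this with t | t | t | t
  · exact b (he _ _ t)
  · exact c (he _ _ t)
  · exact hn _ _ t ((ev_lapp _ _ _).trans a)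
  · obtain ⟨p, q⟩ := and_of_rec t
    refine hn _ _ q ?_
    rw [ev_lapp, ev_lapp]
    exact k _ (ev_lapp f u z.1 ▸ xOK_spec he hm p (ev_subst_mem_clo _ _ _))

variable {Ω : Type*} [MulAction S Ω] {n : ℕ} {D : Dom Ω n} {nets : List Net}

/-- the elements of the chain group with trivial `e`-th power are conjugate to the representatives -/
noncomputable def clE (nets : List Net) (n k e : ℕ) (c : List Lvl) (reps : List (List ℕ)) (F : FD) : Bool :=
  force (repl n k) fun R => force (full (Nat.pred n)) fun Q =>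
    Bool.rec false (enumOK nets n k (fusAt nets n k R Q F.M e reps F.tbl) c F.Ts) (labOK n k R Q)

theorem clE_spec {c : List Lvl} (hE : Exact D nets f c ⊤) {k : ℕ} (hk : n ≤ 2 ^ k) {p a m j : ℕ} (hp : p.Prime)
    (hc : Nat.card S = p ^ a * m) (hm : ¬ p ∣ m) {P : PD} (h1 : pOK nets n k p P a = true) {reps : List (List ℕ)}
    {F : FD} (h : clE nets n k (p ^ j) P.c reps F = true) {g : S} (hg : g ^ p ^ j = 1) (g1 : g ≠ 1) :
    ∃ w ∈ reps, ∃ x : S, x * g * x⁻¹ = ev f w := by
  have := Exact.finite_top hE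
  obtain ⟨-, a2, a3⟩ := pOK_spec hE hk hp.ne_zero h1
  simp only [clE, force_eq] at h
  obtain ⟨w, hw, x, -, e⟩ := classes a3 (labOK_spec (and_of_rec h).1) hE.faithful (fun _ => trivial) hp
    (by rw [card_top, hc, ← a3.card, a2]) hm (and_of_rec h).2 (g := g) trivial hg g1
  exact ⟨w, hw, x, e⟩

end CF.StdZ
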