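import Cfsg.Agent.StdZ.Fin
import Cfsg.Agent.Invol.Four

/-! Frames whose centraliser has cyclic Sylow subgroups. -/

set_option autoImplicit false

namespace CF.StdZ

open Cfsg Subgroup CF.Loc

variable {G S : Type*} [Group G] [Finite G] [Group S] {S0 : Subgroup S} {F : Dt G S}

/-- the Sylow subgroups are cyclic -/
def Cy (K : Subgroup G) : Prop := ∀ T, IsSyl 2 T K → IsCyclic T

omit [Finite G] in
theorem cy_of {K : Subgroup G} (h : ∀ R : Sylow 2 K, IsCyclic (R : Subgroup K)) : Cy K := fun T hT => by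
  obtain ⟨R, rfl⟩ := hT.exists_sylow
  have := h R
  exact isCyclic_of_surjective _ (R.1.equivMapOfInjective _ K.subtype_injective).surjective

namespace Fr

variable (h : Fr S0 F) (cyc : Cy F.K)
include h cyc

theorem cuq {k : G} (hk : k ∈ F.K) (kk : k * k = 1) : k = 1 ∨ k = F.z := by
  have : Fact (Nat.Prime 2) := ⟨Nat.prime_two⟩
  refine or_iff_not_imp_left.2 fun n => ?_
  have o := ord2 kk n
  obtain ⟨T, hT, a⟩ := exists_isSyl_ge (isPGroup_zpowers_of_orderOf (p := 2) (k := 1) o) (zpowers_le.2 hk)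
  exact Invol.eq_of_invol_of_isCyclic (cyc T hT) (zpowers_le.1 a) (zpowers_le.1 (hT.le_of_le_normalizer'
    (isPGroup_zpowers_of_orderOf (k := 1) h.oz) (zpowers_le.2 h.zK)
    (zpowers_le.2 (centralizer_le_normalizer _ fun x hx => (h.cK (hT.le hx)).symm)))) o h.oz

theorem croot (n : ¬ F.Sm) {P : Subgroup G} (hP : IsPGroup 2 P) (le : P ≤ F.K) :
    ∃ y ∈ F.K, y * y = F.z ∧ ∀ x ∈ P, Commute y x := by
  have : Fact (Nat.Prime 2) := ⟨Nat.prime_two⟩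
  simp only [Dt.Sm, not_forall] at n
  obtain ⟨w, hw, j, e, n⟩ := n
  obtain ⟨i, b, d⟩ := exists_sq j e n
  have hk := pow_mem hw i
  have kk := d.resolve_left fun d => b (h.cuq cyc hk d)
  generalize w ^ i = k at hk kk
  obtain ⟨T, hT, a⟩ := exists_isSyl_ge hP le
  obtain ⟨u, hu, b⟩ := hT.exists_cj_le (isPGroup_zpowers (x := k) (k := 2) (by
    rw [show 2 ^ 2 = 2 * 2 by rfl, pow_mul, pow_two k, kk, pow_two, h.zz])) (zpowers_le.2 hk)
  have m := b (conj_mem_cj u (mem_zpowers k))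
  have := cyc T hT
  exact ⟨_, hT.le m, by rw [conj_mul, kk, conj_of_comm (h.cK hu)], fun x hx =>
    congrArg Subtype.val (mul_comm' (⟨_, m⟩ : T) ⟨x, a hx⟩)⟩

theorem root_cent (n : ¬ F.Sm) {U : Subgroup G} (hU : IsPGroup 2 U) (c : ∀ x ∈ U, x ∈ h.In) :
    ∃ y ∈ F.K, y * y = F.z ∧ ∀ x ∈ U, Commute y x := by
  have : Fact (Nat.Prime 2) := ⟨Nat.prime_two⟩
  let P : Subgroup G :=
    { carrier := {k | k ∈ F.K ∧ ∃ l ∈ F.L, l * k ∈ U}
      one_mem' := ⟨one_mem _, 1, one_mem _, by simp⟩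
      mul_mem' := by
        rintro k j ⟨hk, a, ha, d⟩ ⟨hj, b, hb, f⟩
        refine ⟨mul_mem hk hj, a * b, mul_mem ha hb, ?_⟩
        rw [mul_assoc, ← mul_assoc b, (h.cLK hb hk).eq, mul_assoc, ← mul_assoc]
        exact mul_mem d f
      inv_mem' := by
        rintro k ⟨hk, a, ha, d⟩
        refine ⟨inv_mem hk, a⁻¹, inv_mem ha, ?_⟩
        rw [(h.cLK ha hk).inv_inv.eq, ← mul_inv_rev]
        exact inv_mem d }
  obtain ⟨y, hy, yy, cy⟩ := h.croot cyc n (P := P) (isPGroup_iff_forall.2 (by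
    rintro k ⟨hk, a, ha, d⟩
    obtain ⟨j, e⟩ := isPGroup_iff_forall.1 hU _ d
    rw [(h.cLK ha hk).mul_pow] at e
    refine ⟨j + 1, ?_⟩
    rw [pow_succ, pow_mul, pow_two]
    rcases h.LK (by rw [eq_inv_of_mul_eq_one_right e]; exact inv_mem (pow_mem ha _)) (pow_mem hk (2 ^ j)) with d | d <;>
      rw [d]
    exacts [one_mul _, h.zz])) fun _ hk => hk.1
  refine ⟨y, hy, yy, fun x hx => ?_⟩
  obtain ⟨l, hl, k, hk, rfl⟩ := h.dec (c x hx).1 (c x hx).2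
  exact (h.cLK hl hy).symm.mul_right (cy k ⟨hk, l, hl, hx⟩)

end Fr

omit [Finite G] in
theorem Fr.pgroup {U : Subgroup S} (h : Fr S0 F) (hU : IsPGroup 2 U) :
    ∃ V : Subgroup G, IsPGroup 2 V ∧ ∀ x, x ∈ V ↔ x ∈ F.L ∧ F.π x ∈ U := by
  have : Fact (Nat.Prime 2) := ⟨Nat.prime_two⟩
  refine ⟨{ carrier := {x | x ∈ F.L ∧ F.π x ∈ U}
            one_mem' := ⟨one_mem _, h.one ▸ one_mem _⟩
            mul_mem' := fun a b => ⟨mul_mem a.1 b.1, h.mul (h.cL a.1) (h.cL b.1) ▸ mul_mem a.2 b.2⟩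
            inv_mem' := fun a => ⟨inv_mem a.1, h.inv (h.cL a.1) ▸ inv_mem a.2⟩ },
    isPGroup_iff_forall.2 fun x hx => ?_, fun _ => Iff.rfl⟩
  obtain ⟨j, e⟩ := isPGroup_iff_forall.1 hU _ hx.2
  refine ⟨j + 1, ?_⟩
  rw [pow_succ, pow_mul, pow_two]
  rcases h.LK (pow_mem hx.1 (2 ^ j)) ((h.ker ((h.cL hx.1).pow_right _)).1 (by rw [h.pow (h.cL hx.1), e])) with d | d <;>
    rw [d]
  exacts [one_mul _, h.zz]

/-- involutions are not conjugate to their translates -/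
structure RF (F : Dt G S) : Prop where
  p1 : ∀ v ∈ F.L, ∀ l ∈ F.L, v * v = 1 → l * v * l⁻¹ ≠ v * F.z
  cl : ∀ v ∈ F.L, v * v = 1 → v = 1 ∨ v = F.z ∨
    ∃ x u, x * x = 1 ∧ Commute v x ∧ Commute v u ∧ u * x * u⁻¹ = x * v
  rt : ∀ y : S, y ^ 4 = 1 → y * y ≠ 1 → (∃ l ∈ F.L, l * l = 1 ∧ F.π l = y * y) ∧
    ∃ U : Subgroup S, IsPGroup 2 U ∧ (∀ s ∈ U, Commute s (y * y)) ∧ ∀ c, (∀ s ∈ U, Commute s c) → c * c = 1

theorem RF.isol (r : RF F) (h : Fr ⊤ F) (cyc : Cy F.K) {E : Dt G S} (p : Pr ⊤ F E) : False := by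
  have : Fact (Nat.Prime 2) := ⟨Nat.prime_two⟩
  obtain ⟨g, e⟩ := p.cj
  have et : E.z = g * F.z * g⁻¹ := by rw [e]; rfl
  have ct : ∀ {x}, Commute E.z x → Commute F.z (g⁻¹ * x * g) := fun a => comm_cj.1 (et ▸ a)
  by_cases s : F.Sm
  · rcases r.cl _ (h.inv_mem_L s p.cm trivial p.fe.zz) p.fe.zz with a | a | ⟨x, u, xx, cx, cu, a⟩
    · exact p.fe.z1 a
    · exact p.ne a
    obtain ⟨l, hl, k, hk, b⟩ := h.dec (ct cu) trivial
    have x2 : g⁻¹ * x * g * (g⁻¹ * x * g) = 1 := by simp [mul_assoc, ← mul_assoc x, xx]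
    have m := h.inv_mem_L s (ct cx) trivial x2
    refine r.p1 _ m l hl x2 ?_
    rw [← conj_of_comm (h.cLK m hk), conj_conj', ← b, conj_of_comm (h.cLK m hk)]
    calc _ = g⁻¹ * (u * x * u⁻¹) * g := by group
      _ = _ := by rw [a, et]; group
  have rt : ∀ {V : Subgroup G}, IsPGroup 2 V → F.z ∈ V → (∀ x ∈ V, Commute E.z x) → ∃ y, Commute F.z y ∧
      F.π y * F.π y = F.π E.z ∧ ∀ x ∈ V, Commute y x := fun {V} hV m c => by
    obtain ⟨y, -, yy, cy⟩ := h.root_cent cyc s (U := cj[g⁻¹] V) (isPGroup_cj _ hV) fun x hx =>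
      ⟨by simpa [mul_assoc] using ct (c _ (mem_cj.1 hx)), trivial⟩
    have k : ∀ x ∈ V, Commute (g * y * g⁻¹) x := fun x hx => comm_cj.2 (cy _ (by simpa using conj_mem_cj g⁻¹ hx))
    exact ⟨_, (k _ m).symm, by rw [← h.mul (k _ m).symm (k _ m).symm, conj_mul, yy, et], k⟩
  obtain ⟨y, c, yy, -⟩ := rt (isPGroup_zpowers_of_orderOf (k := 1) h.oz) (mem_zpowers _) (by
    rintro _ ⟨i, rfl⟩; exact p.cm.symm.zpow_right i)
  obtain ⟨⟨l, hl, ll, b⟩, U, hU, a, d⟩ := r.rt (F.π y) (by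
    rw [show 4 = 2 * 2 by rfl, pow_mul, pow_two (F.π y), yy, pow_two, p.ττ]) (yy ▸ p.τ1)
  rw [yy] at a b
  obtain ⟨V, hV, m⟩ := h.pgroup hU
  obtain ⟨w, c, ww, k⟩ := rt hV ((m _).2 ⟨h.zL, h.πz ▸ one_mem _⟩) fun x hx => by
    have hx := (m x).1 hx
    have := (comm_of_conj ((h.comm_or hl (h.cL hx.1) (b ▸ (a _ hx.2).symm)).resolve_right
      (r.p1 _ hl _ hx.1 ll))).mul_left (h.cLK hx.1 ((h.πeq (h.cL hl) p.cm).1 b)).symm
    rwa [mul_inv_cancel_left] at this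
  refine p.τ1 (ww ▸ d _ fun s hs => ?_)
  obtain ⟨x, hx, rfl⟩ := h.im s trivial
  exact h.comm (h.cL hx) c (k x ((m x).2 ⟨hx, hs⟩)).symm

end CF.StdZ
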