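import Cfsg.Agent.StdZ.E8C
import Cfsg.Agent.Schur.S62D
import Cfsg.Agent.Schur.O82D

set_option autoImplicit false
set_option maxRecDepth 1000000

namespace CF.StdZ.E8

open CF.Comp CF.Bt CF.Schur

noncomputable def N0_0 : Net := (Net.cons (nat_lit 2) (nat_lit 0x33303330003000330003000000300033030300003003000003000000000) (Net.cons (nat_lit 4) (nat_lit 0xc0c0c030303030c0c0c0c0c000c00000f0f000000000c000003000000) (Net.cons (nat_lit 8) (nat_lit 0xc3000300c300c300cf00c3000c003f003c000c00f00000000000000000) (Net.cons (nat_lit 16) (nat_lit 0x3f0c00000ccf000033c000000cc0000033c00000033000000000) (Net.cons (nat_lit 32) (nat_lit 0xc3cc0000000033f0030c0000000003c000c000000000f3000000) (Net.cons (nat_lit 64) (nat_lit 0xc00000000cf0000000000000000c000000000000000) (Net.cons (nat_lit 128) (nat_lit 0xc3fc0f3cffcf3ccc30cc03ccc33) (Net.cons (nat_lit 64) (nat_lit 0xcc03300cccf0000000000000000c0f000000300fcc0)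 (Net.cons (nat_lit 32) (nat_lit 0xf3cc00000000f3cfff3c00000000cf00cc0000000000f3cc00c0) (Net.cons (nat_lit 16) (nat_lit 0x3f0c0000ccff0000f3300000cc000000f3000000f3f0000000f0) (Net.cons (nat_lit 8) (nat_lit 0xc300c300c300cf00cf00c3003c003f00fc00cc00fc0000000000300000) (Net.cons (nat_lit 4) (nat_lit 0xc0c0c030303030c0c0c0c0c000c00000f0f000000000c000003000000) (Net.cons (nat_lit 2) (nat_lit 0x33303330003000330003000000300033030300003003000003000000000) (Net.cons (nat_lit 1) (nat_lit 0x44445550000000000000000000000005454545500000000000000000400) Net.nil))))))))))))))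
noncomputable def N0_1 : Net := (Net.cons (nat_lit 2) (nat_lit 0x333300003333000033330000333300000000000000000000000000000000) (Net.cons (nat_lit 4) (nat_lit 0xf0000000f000f00000f00000000) (Net.cons (nat_lit 8) (nat_lit 0xf0000000f00000000000000000) (Net.cons (nat_lit 16) (nat_lit 0xcccc000000000000cccc000000330000f0cc00000030000000c0) (Net.cons (nat_lit 32) (nat_lit 0xcccc000000000000000000000000000000000000) (Net.cons (nat_lit 64) (nat_lit 0xcccc000000000000) (Net.cons (nat_lit 128) (nat_lit 0xcccc000000000000) (Net.cons (nat_lit 64) (nat_lit 0xcccc00000000000000000000cccc000000c0f030) (Net.cons (nat_lit 32) (nat_lit 0xcccc00000000cccccccc00000000003300cc00000000003000c0) (Net.cons (nat_lit 16) (nat_lit 0xcccc000000000000cccc000000330000f0cc0000f030000000c0) (Net.cons (nat_lit 8) (nat_lit 0xf0000000f00000000000000000) (Net.cons (nat_lit 4) (nat_lit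 0xf0f0000000000000000000000) (Net.cons (nat_lit 2) (nat_lit 0x300330030330033003300330300330033333300003003300003300003030) (Net.cons (nat_lit 1) (nat_lit 0x1010104400000000000000004000) Net.nil))))))))))))))
noncomputable def N0_2 : Net := (Net.cons (nat_lit 2) (nat_lit 0x33003300330033033333333333333333333000000003300003300000000) (Net.cons (nat_lit 4) (nat_lit 0x3030c03030300000c000c000f0c0f0c030f0c000000000300000c000000) (Net.cons (nat_lit 8) (nat_lit 0xcc000c00c000c000030003000c000c00cc003c00f00000000000000000) (Net.cons (nat_lit 16) (nat_lit 0x33330000cf0c000000fc000030000000ffc3000000f30000000f) (Net.cons (nat_lit 32) (nat_lit 0xc0c00000000303fc30000000000cc00300c0000000000000000) (Net.cons (nat_lit 64) (nat_lit 0xc00cc00000000000000000003c000000000000) (Net.cons (nat_lit 128) (nat_lit 0xf30333cf330f3cfc333300033ccc) (Net.cons (nat_lit 64) (nat_lit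 0xc0c00c0fcc0000000000000000000ff0000ccc0f030) (Net.cons (nat_lit 32) (nat_lit 0xf3f00000000f3ffc3c000000000ccc03fcf0000000000f00000) (Net.cons (nat_lit 16) (nat_lit 0x33330000cf0c000000fc000030000000ffc30000c0f30000000f) (Net.cons (nat_lit 8) (nat_lit 0xcc000c00c000c000030003000c000c00cc003c00f00000000000000000) (Net.cons (nat_lit 4) (nat_lit 0x3030c03030300000c000c000f0c0f0c030f0c000000000300000c000000) (Net.cons (nat_lit 2) (nat_lit 0x33003300330033033333333333333333333000000003300003300000000) (Net.cons (nat_lit 1) (nat_lit 0x400000000000000000000000000000001010144400000000000000004000) Net.nil))))))))))))))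
noncomputable def N0_3 : Net := (Net.cons (nat_lit 4) (nat_lit 0xf0f00000f0f00000f0f00000f0f0000000f0f0000000000000000000000) (Net.cons (nat_lit 8) (nat_lit 0xff000000ff000000ff000000ff000000f0000000f00000000000000000) (Net.cons (nat_lit 16) (nat_lit 0x3cc30000c33c00003c00000000ff0000f000000000f000000000) (Net.cons (nat_lit 32) (nat_lit 0xc33c000000003c0000c300000000000000000000000000000000) (Net.cons (nat_lit 64) (nat_lit 0xc30000000000000000000000003c00000000000000) (Net.cons (nat_lit 128) (nat_lit 0xc3000000003c00000000000000) (Net.cons (nat_lit 64) (nat_lit 0xc3ff0000000000000000000000003c0000000000f0f0) (Net.cons (nat_lit 32) (nat_lit 0xffff00000000ff3c00c30000000000ff00000000000000f00000) (Net.cons (nat_lit 16) (nat_lit 0x3cc30000c33c00003c00000000ff0000f0000000f0f000000000) (Net.cons (nat_lit 8) (nat_lit 0xcc0033003300cc003300cc00cc0033000f000000f00000000000000000)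 (Net.cons (nat_lit 4) (nat_lit 0xc0c030303030c0c03030c0c0c0c03030f000f0f000f000f00000f000000) (Net.cons (nat_lit 2) (nat_lit 0x3030003300003000303000300000) (Net.cons (nat_lit 1) (nat_lit 0x1010144400000000000000004100) Net.nil)))))))))))))
noncomputable def N0_4 : Net := (Net.cons (nat_lit 4) (nat_lit 0xf000f0f000f0000000000000000) (Net.cons (nat_lit 8) (nat_lit 0xff00ff0000000000ff00ff000000000000000f00ff000f000000000000) (Net.cons (nat_lit 16) (nat_lit 0x3c0000c3000000c3c30000ff000000f000000000f000000000) (Net.cons (nat_lit 32) (nat_lit 0xc300000000003cffc30000000000000000f00000000000000000) (Net.cons (nat_lit 64) (nat_lit 0xff0000000000000000000000000000c3000000000000) (Net.cons (nat_lit 128) (nat_lit 0xff000000000000c3000000000000) (Net.cons (nat_lit 64) (nat_lit 0xff003c3cc300000000000000000000c300000000fff0) (Net.cons (nat_lit 32) (nat_lit 0xff3c00000000ffffc3c3000000000f0000ff0000000000f00000)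 (Net.cons (nat_lit 16) (nat_lit 0xc33c0000c3000000ffc30000ff000000f0f00000fff000000000) (Net.cons (nat_lit 8) (nat_lit 0xff00ff0000000000ff00ff000000000000000f00ff000f0000000f0000) (Net.cons (nat_lit 4) (nat_lit 0xf000f0f000f0000000000000000) (Net.cons (nat_lit 2) (nat_lit 0x3000003330303000303000300300) (Net.cons (nat_lit 1) (nat_lit 0x1000144410040000000000004000) Net.nil)))))))))))))
noncomputable def N0_5 : Net := (Net.cons (nat_lit 2) (nat_lit 0x333333333333333300000000000000000000000000000000000000000000) (Net.cons (nat_lit 4) (nat_lit 0xf000f0f00000000000000000000) (Net.cons (nat_lit 8) (nat_lit 0xff00f00000000000000000) (Net.cons (nat_lit 16) (nat_lit 0xffff000003300000cccc000033330000cc300000cccc0000c0cc) (Net.cons (nat_lit 32) (nat_lit 0x30033003000000000cf003c00000000000c00000) (Net.cons (nat_lit 64) (nat_lit 0x3003000000000000000000000000c00c000000000000)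 (Net.cons (nat_lit 128) (nat_lit 0x30030cc00000c00c000000000000) (Net.cons (nat_lit 64) (nat_lit 0xfccff00fcccc0000000000000000fcffc3cc00000030) (Net.cons (nat_lit 32) (nat_lit 0xc33c000000003ff3f00f000000003fc0cf0000000000c03c30f3) (Net.cons (nat_lit 16) (nat_lit 0xffff000003300000cccc000033330000ccc00000cc3c0000c03c) (Net.cons (nat_lit 8) (nat_lit 0xf0000f00f000f0000000000000) (Net.cons (nat_lit 4) (nat_lit 0xf000f0f00000000000000000000) (Net.cons (nat_lit 2) (nat_lit 0x333333333333333300000000000000003030033300003000003300300003) (Net.cons (nat_lit 1) (nat_lit 0x1414144404001444040000000000) Net.nil))))))))))))))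
noncomputable def N0_6 : Net := (Net.cons (nat_lit 2) (nat_lit 0x333333333333333330033003300330033333000000003300003300000000) (Net.cons (nat_lit 4) (nat_lit 0x30003000c00000000030c030000030300030f0c000c0000000000000000) (Net.cons (nat_lit 8) (nat_lit 0xcc00cc0000003c00c00000000000300000000000f00000000000000000) (Net.cons (nat_lit 16) (nat_lit 0x3fff0000c30000003c3f000030c00000c0330000c0c000003000) (Net.cons (nat_lit 32) (nat_lit 0xc00300000000fc33c0000000000000c300f00000000000030000) (Net.cons (nat_lit 64) (nat_lit 0x300000c003300000000000000000ccc000000000000) (Net.cons (nat_lit 128) (nat_lit 0xc3c0fccc03fc0ccfcc3cfc300cc3) (Net.cons (nat_lit 64) (nat_lit 0x300300f00f30000000000000000cffc00003033c0f0) (Net.cons (nat_lit 32) (nat_lit 0xfc3300000000ff3ffc330000000030cf00c30000000000c30c30) (Net.cons (nat_lit 16) (nat_lit 0x3fff0000cf3000003c3f000030c00000c0030000f0c000003c30)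 (Net.cons (nat_lit 8) (nat_lit 0xcc00cc0000000c00c00000000000300030003000f00000000000000000) (Net.cons (nat_lit 4) (nat_lit 0x30003000c00000000030c030000030300030f0c000c0000000000000000) (Net.cons (nat_lit 2) (nat_lit 0x333333333333333330033003300330033333000000003300003300000000) (Net.cons (nat_lit 1) (nat_lit 0x100051105000511000000000000000000000554441440000000000005040) Net.nil))))))))))))))
noncomputable def N0_7 : Net := (Net.cons (nat_lit 2) (nat_lit 0x303003030303303000000000000000000033003000300003000030000000) (Net.cons (nat_lit 4) (nat_lit 0xf000f0f0f000f0f0f030f0f00000f000f00000000000003000000) (Net.cons (nat_lit 8) (nat_lit 0x3300f000ff0033003f003c003c00ff0003000000c00000000300000000) (Net.cons (nat_lit 16) (nat_lit 0xff000003ccc0000f30f0000f3f30000f3f00000f3cf000003f0) (Net.cons (nat_lit 32) (nat_lit 0xf3fc00000000cfc030f30000000033003ccc00000000000c0000)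 (Net.cons (nat_lit 64) (nat_lit 0xff00c0c000c00000000000000000f303000000000000) (Net.cons (nat_lit 128) (nat_lit 0xc0c30c0ff33ff0ff30fc3030fcf) (Net.cons (nat_lit 64) (nat_lit 0xcffcc3cc00c3000000000000000030c0000cc3030cf3) (Net.cons (nat_lit 32) (nat_lit 0xf3fc00000000ccc330f300000000fc030f3c00000000c33f0300) (Net.cons (nat_lit 16) (nat_lit 0xcf000000fcc0000f00f0000f3f30000f3f00000f3cf000033f0) (Net.cons (nat_lit 8) (nat_lit 0xf3003c00ff003f003f003f00f000ff000300c000cc0003000300000000) (Net.cons (nat_lit 4) (nat_lit 0x30c03000c0f0c000c0f0c0f030f03030f030f0c000300000003000000) (Net.cons (nat_lit 2) (nat_lit 0x3000000303300000030000303003003333003333300003000000300300) (Net.cons (nat_lit 1) (nat_lit 0x105101100115000101150001105100104141410141114111404101001510) Net.nil))))))))))))))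
noncomputable def N0_8 : Net := (Net.cons (nat_lit 16) (nat_lit 0xffff0000000000000000000000000000ff0000000000) (Net.cons (nat_lit 64) (nat_lit 0xffff0000000000000000000000000000000000000000) (Net.cons (nat_lit 32) (nat_lit 4294901760) (Net.cons (nat_lit 16) (nat_lit 0xffff0000ffff000000000000000000000000000000ff00000000) (Net.cons (nat_lit 8) (nat_lit 0xff00ff00ff00ff000000000000000000000000000000ff00ff00ff0000) (Net.cons (nat_lit 4) (nat_lit 0xf0f0f0f0f0f0f0f00000000000000000000000000000000000000000000) (Net.cons (nat_lit 2) (nat_lit 0x333333333333333300000000000000000000000000000000000000000000) (Net.cons (nat_lit 1) (nat_lit 0x555555555555555500000000000000000000000000000000000000000001) Net.nil))))))))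
noncomputable def N0 : List Net := [N0_0, N0_1, N0_2, N0_3, N0_4, N0_5, N0_6, N0_7, N0_8]
noncomputable def N1_0 : Net := (Net.cons (nat_lit 2) (nat_lit 0x303000030003000030300300030000003033303030300030003003000000) (Net.cons (nat_lit 4) (nat_lit 0x30c030c000f0f000c0c0c0c000f0f000300030f000f00000f00000f0000) (Net.cons (nat_lit 8) (nat_lit 0xf000f300f300cf00c000fc000f003c000c003000030000003300030000) (Net.cons (nat_lit 16) (nat_lit 0xc3f0000030030000cf0c00000fc00000303300003c030000cf00) (Net.cons (nat_lit 32) (nat_lit 0x300000000f0f0003f00000000c00ccc03000000003cc00000) (Net.cons (nat_lit 64) (nat_lit 0x30fc3003f03f0000000000000000f300000000000000) (Net.cons (nat_lit 128) (nat_lit 0xffcc0ffcf0f0ff33c3303fc30c0f) (Net.cons (nat_lit 64) (nat_lit 0x33fffffccc3300000000000000000c03c0ffc33c00cc) (Net.cons (nat_lit 32) (nat_lit 0xcfc300000000c3ccfcf300000000fff3cc3000000000c00fcffc)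 (Net.cons (nat_lit 16) (nat_lit 0x30030000ccff0000cf0c0000c3fc0000cff00000cffc00003cf3) (Net.cons (nat_lit 8) (nat_lit 0x3f00f300f000ff003f000c00c3003f00fc00c300f000cc00ff003000f3) (Net.cons (nat_lit 4) (nat_lit 0xf0c0003030c0f00030003000f00030c03030f0f030c0000030c03030303) (Net.cons (nat_lit 2) (nat_lit 0x300330033333333303300330333333330030003033330030330330303300) (Net.cons (nat_lit 1) (nat_lit 0x545440545454444440440040444440400444044044410440004441410111) Net.nil))))))))))))))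
noncomputable def N1_1 : Net := (Net.cons (nat_lit 2) (nat_lit 0x300333003300033033003003300300333003030003000300000300000000) (Net.cons (nat_lit 4) (nat_lit 0x30c0f000c000f0c0f000c03030c0f000f0f00000c030000000000000000) (Net.cons (nat_lit 8) (nat_lit 0xfc003300f30000003f0003003c00330003003000c0000c00fc00300000) (Net.cons (nat_lit 16) (nat_lit 0xff330000003c0000fc33000000c00000fc030000ffc0000000cc) (Net.cons (nat_lit 32) (nat_lit 0xfc3f00000000cc00f03f00000000fc00333f0000000030030000) (Net.cons (nat_lit 64) (nat_lit 0xc0f3fcc303f30000000000000000003f000000000000) (Net.cons (nat_lit 128) (nat_lit 0xf03c3c0f03c0f3fc3f03c33c3cf) (Net.cons (nat_lit 64) (nat_lit 0x3f0f3cf0c0cc000000000000000003cfffc03cc0cffc) (Net.cons (nat_lit 32) (nat_lit 0xf00000000cf3f3c030000000030fc3f0f000000003f033ccf) (Net.cons (nat_lit 16) (nat_lit 0x3cc0000030f000000c00000003c000000fc0000ff3f00000030)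 (Net.cons (nat_lit 8) (nat_lit 0x30003f003c00cc003f00fc003f00f3003c00cc000000cf00ff00000000) (Net.cons (nat_lit 4) (nat_lit 0xf030f03000c0f00030003000c0f0c000003000000030c0c03000c03030c) (Net.cons (nat_lit 2) (nat_lit 0x30033033000000330330030033333303333333300300033303303003000) (Net.cons (nat_lit 1) (nat_lit 0x1010000000000000101000000041000055554145410000005150) Net.nil))))))))))))))
noncomputable def N1_2 : Net := (Net.cons (nat_lit 2) (nat_lit 0x33333303000033003333330033000033030303330003000033000300000) (Net.cons (nat_lit 4) (nat_lit 0xf030c03030f000c0f030c03030f000c0c000f030f0c0c0f0c0000000000) (Net.cons (nat_lit 8) (nat_lit 0x300330003003000cf003c00cc0030003f003000c300c000c0003c0000) (Net.cons (nat_lit 16) (nat_lit 0x3c3c0000f0cc00000f300000cf3f0000fccf0000c00f0000cc00) (Net.cons (nat_lit 32) (nat_lit 0x3000000000f3cc0c0f00000000f0fff0030000000030300000)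 (Net.cons (nat_lit 64) (nat_lit 0xc03303fc03c00000000000000003c00000000000000) (Net.cons (nat_lit 128) (nat_lit 0xcf330fcf30303ccc333cf030c30c) (Net.cons (nat_lit 64) (nat_lit 0xcc0cffccf30300000000000000000c0ffcccc3fc0cf3) (Net.cons (nat_lit 32) (nat_lit 0xff3c00000000ff0cf3c00000000003fffffc000000003300fc33) (Net.cons (nat_lit 16) (nat_lit 0xcf00000030fc00003f0f00003c3c0000000000000ffc000003ff) (Net.cons (nat_lit 8) (nat_lit 0x33003300ff00cf003f00f300f0000c00c300c300cf000f00c000f0000f) (Net.cons (nat_lit 4) (nat_lit 0xf0c000000000c0c00000c0f0c0c030f03030000000f0f0f000f00000303) (Net.cons (nat_lit 2) (nat_lit 0x333333030033033000300000300333000000330333300030303330033300) (Net.cons (nat_lit 1) (nat_lit 0x511511011511011011010100011010011111110011141100401100005010) Net.nil))))))))))))))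
noncomputable def N1_3 : Net := (Net.cons (nat_lit 2) (nat_lit 0x33003303333300300000330300330030000000000000000330000330000) (Net.cons (nat_lit 4) (nat_lit 0xc0f0000000c00030f0c0c00000c0f0f000f0f0f0f0f0f000f030c000300) (Net.cons (nat_lit 8) (nat_lit 0xfc0000003c00c3003300c300cc000000fc000c003c00c0003000cc0000) (Net.cons (nat_lit 16) (nat_lit 0xc000000ffcf0000cc030000ccc0000003330000cfc00000cfc0) (Net.cons (nat_lit 32) (nat_lit 0xf0300000000fc0fc3c000000000ff000fff00000000c3cc0000) (Net.cons (nat_lit 64) (nat_lit 0x3cfccc00000000000000000000000330000000000000) (Net.cons (nat_lit 128) (nat_lit 0x303fcff0cff33ffc0fc003030fff) (Net.cons (nat_lit 64) (nat_lit 0xc003303c3ff00000000000000000c030fccc30f3cf33) (Net.cons (nat_lit 32) (nat_lit 0xcf00000000c03f0cc300000000f00fcfcf00000000ffff3ccf) (Net.cons (nat_lit 16) (nat_lit 0x3030000fc0000000ccc0000033f0000030f0000cf000000fc30)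 (Net.cons (nat_lit 8) (nat_lit 0xc000c3000000c0000f0000000c00f000cf00c3000300cf000f000c000f) (Net.cons (nat_lit 4) (nat_lit 0xc03000f030f00030003030f03000c00030c0f0000000f0f0f0c03000c0f) (Net.cons (nat_lit 2) (nat_lit 0x330330330333333030000003330330330000003330000333303333333033) (Net.cons (nat_lit 1) (nat_lit 0x150111005515150115010100150111005101011451140114410114415011) Net.nil))))))))))))))
noncomputable def N1_4 : Net := (Net.cons (nat_lit 1) (nat_lit 0x555555555555555555555555555555555555555555555555555555555555) Net.nil)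
noncomputable def N1 : List Net := [N1_0, N1_1, N1_2, N1_3, N1_4]
noncomputable def NN : List Net := lapp N0 N1
noncomputable def SW : List (List Nat) := [[3, 7, 9, 5, 15, 7, 1, 3, 3, 11, 3, 7, 11, 3], [19, 7, 1, 5, 4, 11, 19, 19, 3, 1, 4, 5, 13, 7], [1, 19, 9, 7, 11, 3, 3, 3, 5, 19, 21, 5, 1, 19], [9, 9, 19, 13, 4, 19, 13, 19, 4, 11, 4, 21, 4, 7], [25, 25, 25, 25, 25, 25, 25]]
noncomputable def mem : List Nat → Bool := wordIn (slpIn SW 9 (gensW 8))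
noncomputable def aw : List Nat := [22, 23, 23, 5, 24, 24, 21]
noncomputable def sw : List Nat := [22, 23, 23, 5, 24, 24, 21, 17]
noncomputable def dw : List Nat := [21, 23, 22, 19, 21, 20, 3, 6]
noncomputable def ew : List Nat := [15, 20, 24, 22, 19, 21, 20, 8]
noncomputable def fw : List Nat := [24, 11, 15, 11, 23, 17]
noncomputable def bw : List Nat := [1, 23, 13, 1, 24, 2]
noncomputable def jw : List Nat := [15, 25, 15, 25]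
noncomputable def fe : List Nat := [24, 11, 15, 11, 23]
noncomputable def Y0 : List (List Nat) := [[1], [3], [5], [7], [9], [11], [13], [15]]
noncomputable def Y1 : List (List Nat) := [[3, 21, 4, 22, 22, 19, 21, 6], [13, 7, 1, 26, 20, 20, 2, 10], [19, 4, 23, 25, 22, 8], [3, 23, 15, 11, 19, 16], [1, 24, 22, 20, 24, 24, 12], [9, 5, 22, 25, 21, 20, 3, 21], [26, 21, 9, 24, 1, 20, 22, 24], [26, 21, 26, 5, 1, 20, 20, 22]]
noncomputable def Y2 : List (List Nat) := [[21, 15, 11, 9, 24, 19, 23, 22], [13, 7, 1, 26, 20, 20, 2, 10], [23, 22, 7, 22, 19, 24, 12, 19], [3, 23, 15, 11, 19, 16], [1, 24, 22, 20, 24, 24, 12], [21, 9, 20, 22, 19, 22, 10, 24], [21, 23, 9, 7, 23, 20, 3, 12], [25, 15, 9, 4, 26, 21, 25, 22]]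
noncomputable def relM (T : List (List Nat)) : Bool := lall (fun t => t) [lall mem T, Nat.beq (llen T) 8, (difW NN 240 8) (nth [] T 0) [], (difW NN 240 8) (nth [] T 0) [27],
  lall (fun ρ => Bool.rec ((sameW NN 240 8) (subst T ρ) [27]) true ((sameW NN 240 8) (subst T ρ) [])) O82.relsp]
noncomputable def uw : List Nat := [11, 5, 4, 1, 7, 4, 15, 11, 5, 4, 1, 7, 4, 15]
noncomputable def nr : List (List Nat) := [[1, 24, 24, 3, 23, 23], [3], [11, 15, 4, 15, 4, 12], [7], [9], [7, 22, 19, 15, 20, 21], [21, 19, 24, 9, 23, 20, 22], [1, 21, 13, 1, 22, 2]]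
noncomputable def pc : List (List Nat × List Nat) := [([3], [3, 1]), ([4], [5]), ([1], [19, 24, 24]), ([1], [4, 25, 22]), ([5], [23, 11, 19, 19]), ([1], [20, 7, 25, 20]), ([1], [3, 22, 15]), ([23, 3, 24], [25, 23, 5])]
noncomputable def C : List Lvl := [⟨0, [[19], [17]], 14⟩, ⟨4, [[3], [21, 11], [28, 17]], 7⟩, ⟨8, [[4, 7], [20, 3, 19], [20, 9, 19], [24, 17, 23]], 4⟩, ⟨2, [[20, 3, 19], [22, 6, 9, 21], [20, 6, 19, 17], [19, 2, 6, 9, 1, 20]], 2⟩, ⟨12, [[18, 20, 5, 4, 19], [19, 2, 17, 1, 20], [4, 6, 19, 17, 20], [25, 6, 17, 5, 26]], 1⟩, ⟨6, [[18, 20, 5, 4, 19], [19, 2, 17, 1, 20], [4, 6, 19, 17, 20]], 1⟩, ⟨10, [[19, 2, 17, 1, 20], [4, 6, 19, 17, 20]], 1⟩, ⟨14, [[4, 6, 19, 17, 20]], 1⟩]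
noncomputable def p5 : List Nat × OC := ([19, 22, 7, 5, 21, 20], [([20, 13, 9, 19], 1), ([3, 20, 13, 9, 19, 8], 1)])
noncomputable def q5 : List Nat × OC := ([21, 9, 1, 3, 1, 22, 8], [([20, 13, 9, 19], 1), ([21, 1, 4, 1, 22], 1)])
noncomputable def qs : List (List Nat × OC) := [([9, 13, 22, 25, 19, 21, 10, 24], [([22, 11, 7, 21, 10], 1), ([3, 22, 13, 3, 21], 2)]), ([7, 21, 9, 22, 8], [([3, 15, 1, 3, 16], 1), ([4, 24, 3, 25, 24, 2, 16], 2)]), ([22, 11, 13, 11, 8, 21], [([25, 4, 26], 1), ([15, 26, 13, 11, 25, 16], 1)])]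
noncomputable def ma : List Nat × OC := ([27, 22, 23, 23, 5, 24, 24, 21], [([7, 5, 3, 19, 25, 22, 20], 1), ([21, 13, 26, 21, 1], 2), ([3, 20, 13, 1, 19, 10], 1)])
noncomputable def zs : List (List Nat) := [[], [17], [22, 23, 23, 5, 24, 24, 21, 17], [27], [22, 23, 23, 5, 24, 24, 21], [27, 17], [19, 26, 13, 25, 25, 19, 10, 21, 17], [19, 26, 13, 25, 25, 19, 10, 21]]
noncomputable def CQT : Tr := (.op 5 0 (.focus 0 (.sym [[1], [3], [5]] (.cons [] 1 4 (.focus 1 (.op 2 0 (.xor 0 1 (.focus 0 (.base (nat_lit 0xffffffffffffffffffffffffffff000000000000fffc) (.focus 0 (.sym [[3], [5]] (.cons [] 1 2 (.xor 3 5 (.focus 0 (.base (nat_lit 0xffffffffffff000000000000fff0) (.focus 0 (.sym [[5]] (.cons [] 1 1 (.focus 2 (.op 10 0 (.op 16 0 (.op 10 0 (.op 16 0 (.focus 0 (.cons [] 0 1 (.focus 7 (.base (nat_lit 192) (.focus 0 (.cons [] 0 1 (.base (nat_lit 49152) (.focus 0 (.cons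 [] 0 1 (.op 16 3 (.focus 0 (.cons [] 0 1 (.base (nat_lit 12288) (.focus 0 (.cons [] 0 1 .triv (.cons [1] 0 0 (.op 4 0 (.op 10 0 (.op 16 0 (.op 4 15 (.and 1 0 (.dead0 0)))))) .nil)))) (.cons [1] 0 0 (.op 16 0 (.and 0 5 (.dead0 0))) .nil)))) (.cons [3] 0 0 (.op 4 0 (.op 10 0 (.op 16 0 (.op 10 5 (.op 4 0 (.and 2 0 (.dead0 0))))))) .nil)))) (.cons [1] 0 0 (.op 4 0 (.op 10 0 (.op 16 0 (.op 4 10 (.op 10 0 (.op 4 0 (.and 3 0 (.dead0 0)))))))) .nil))))) .nil))))))) (.cons [5] 1 0 (.op 4 0 (.op 16 0 (.and 0 10 (.dead0 0)))) (.cons [2] 1 0 (.op 4 0 (.op 11 0 (.and 1 0 (.dead0 0)))) (.cons [1] 1 0 (.op 10 0 (.op 4 0 (.op 8 0 (.and 1 0 (.dead0 0))))) (.cons [6] 1 0 (.op 10 0 (.op 4 0 (.op 11 0 (.and 1 0 (.dead0 0))))) (.cons [2, 6] 1 0 (.op 11 0 (.and 1 0 (.dead0 0))) (.cons [11, 6] 1 0 (.op 11 0 (.and 1 0 (.dead0 0))) (.cons [3, 5] 1 0 (.op 8 0 (.and 1 0 (.dead0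 0))) (.cons [13, 6] 1 0 (.op 8 0 (.and 1 0 (.dead0 0))) (.cons [21, 1] 1 0 (.op 4 0 (.op 8 0 (.and 1 0 (.dead0 0)))) (.cons [6, 2] 1 0 (.op 16 0 (.op 8 0 (.and 1 0 (.dead0 0)))) (.cons [5, 2] 1 0 (.op 8 0 (.and 1 0 (.dead0 0))) (.cons [13, 2] 1 0 (.op 16 0 (.op 4 1 (.and 1 0 (.dead0 0)))) (.cons [11, 5] 1 0 (.op 10 0 (.op 16 0 (.and 0 10 (.dead0 0)))) (.cons [6, 1] 1 0 (.op 4 0 (.op 8 0 (.and 1 0 (.dead0 0)))) (.cons [5, 5] 1 0 (.op 10 0 (.op 4 0 (.op 8 0 (.and 1 0 (.dead0 0))))) (.cons [5, 1] 1 0 (.op 16 0 (.and 0 9 (.dead0 0))) (.cons [1, 21, 1] 1 0 (.op 10 0 (.op 11 0 (.and 1 0 (.dead0 0)))) (.cons [5, 3, 5] 1 0 (.op 4 0 (.op 8 0 (.and 1 0 (.dead0 0)))) (.cons [9, 5, 1] 1 0 (.op 10 0 (.and 0 9 (.dead0 0))) (.cons [5, 5, 1] 1 0 (.op 8 0 (.and 1 0 (.dead0 0))) (.cons [1, 11, 5] 1 0 (.op 4 0 (.op 8 0 (.and 1 0 (.dead0 0)))) (.cons [2, 5, 2] 1 0 (.op 10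 0 (.op 4 0 (.op 8 0 (.and 1 0 (.dead0 0))))) (.cons [2, 5, 5] 1 0 (.op 4 0 (.op 11 0 (.and 1 0 (.dead0 0)))) (.cons [3, 5, 5] 1 0 (.op 16 0 (.op 4 0 (.op 4 2 (.op 16 0 (.and 2 0 (.dead0 0)))))) (.cons [3, 5, 2] 1 0 (.op 4 0 (.op 10 0 (.op 11 0 (.and 1 0 (.dead0 0))))) (.cons [3, 6, 2] 1 0 (.op 10 0 (.op 4 0 (.op 16 0 (.and 0 11 (.dead0 0))))) (.cons [2, 3, 5, 1] 1 0 (.op 16 0 (.op 4 0 (.op 4 2 (.op 16 0 (.and 2 0 (.dead0 0)))))) .nil))))))))))))))))))))))))))))))))) (.cons [4, 9, 4] 1 0 (.op 8 0 (.and 1 0 (.dead0 0))) (.cons [1, 3, 1, 3] 1 0 (.op 8 0 (.and 1 0 (.dead0 0))) .nil)))))))))) (.cons [2, 3, 7, 2] 1 0 (.op 8 0 (.and 1 0 (.dead0 0))) (.cons [1, 7, 6, 1, 1] 1 0 (.op 8 0 (.op 11 0 (.and 1 0 (.base (nat_lit 0xffffffffffffffffffffffffffff000000000000fffc) (.and 1 0 (.dead 0)))))) (.cons [2, 6, 2, 2, 2] 1 0 (.op 8 0 (.and 1 0 (.dead0 0))) .nil)))))))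
noncomputable def CQTK : List (List Nat) := [[17], [22, 23, 23, 5, 24, 24, 21, 17], [19, 26, 13, 25, 25, 19, 10, 21]]
noncomputable def CQTF : List (List Nat) := [[], [1], [3], [5]]
noncomputable def CQ : CD := ⟨[⟨0, [[19], [17]], 14⟩, ⟨2, [[3], [21, 11], [28, 17]], 7⟩, ⟨4, [[3], [7], [16, 17, 20]], 5⟩, ⟨8, [[4, 7], [24, 17, 23], [20, 3, 9, 19], [20, 3, 13, 19]], 2⟩, ⟨6, [[18, 20, 5, 4, 19], [19, 2, 17, 1, 20], [4, 6, 19, 17, 20], [25, 6, 17, 5, 26]], 1⟩, ⟨14, [[19, 2, 17, 1, 20], [4, 6, 19, 17, 20], [25, 6, 17, 5, 26]], 1⟩, ⟨10, [[19, 2, 17, 1, 20], [25, 6, 17, 5, 26]], 1⟩, ⟨12, [[25, 6, 17, 5, 26]], 1⟩], CQTF, CQTK, CQT⟩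
noncomputable def p7 : List Nat × OC := ([9, 13, 4, 26, 26, 22, 3, 25], [([26, 20, 26, 5, 25, 20, 14], 4), ([24, 13, 20, 13, 21, 24, 21], 2)])
noncomputable def q7 : List Nat × OC := ([19, 26, 24, 7, 22, 19, 25, 16], [([22, 24, 13, 22, 23, 19, 4], 3), ([15, 11, 23, 9, 24, 16, 8], 3)])
noncomputable def pj : List Nat × OC := ([19, 23, 1, 27, 24, 20, 26, 12], [([24, 25, 15, 22, 23, 16], 2), ([24, 26, 4, 24, 19, 19, 19, 14], 2)])
noncomputable def qj : List Nat × OC := ([26, 7, 15, 7, 19, 19, 10], [([25, 9, 23, 4, 22, 25, 20], 1), ([25, 5, 23, 1, 22, 3, 14], 1)])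
noncomputable def jo : OC := [([22, 5, 15, 23, 20, 20, 23, 10], 2), ([24, 9, 3, 23, 19, 2, 20], 1), ([26, 11, 26, 11, 27], 1)]
noncomputable def CawT : Tr := (.sym [[1], [3], [5], [7], [9]] (.cons [] 3 1440 (.op 4 0 (.focus 0 (.cons [] 0 1440 (.base (nat_lit 0xcff30ccff330cff33333cc3333cc00000000000033cc) (.focus 0 (.sym [[11], [13], [15], [17]] (.cons [] 3 36 (.op 4 0 (.focus 0 (.cons [] 0 36 .triv .nil))) (.cons [6] 1 0 (.base (nat_lit 0x45000045002045000022441022800000000000000204) (.op 4 1 (.and 1 0 (.dead0 0)))) (.cons [11, 1] 2 0 (.op 5 0 (.and 1 0 (.dead0 0))) .nil)))))) .nil))) (.cons [1] 3 0 (.base (nat_lit 0xa2208aa22004a2202004a220044520044444228844114411412288288412) (.op 4 1 (.and 1 0 (.dead0 0)))) (.cons [5, 3] 4 0 (.op 5 0 (.and 1 0 (.dead0 0))) (.cons [1, 8, 3] 2 0 (.base (nat_lit 0xa2208aa22004a2202004a220044520044444228844114411412288288412)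 (.op 4 1 (.and 1 0 (.dead0 0)))) .nil)))))
noncomputable def CawTK : List (List Nat) := [[3], [7, 3], [17], [20, 21, 20, 15, 19, 22, 17], [26, 7, 4, 25], [7, 4], [3, 25, 9, 26, 10, 17], [4, 19, 5, 15, 20, 20, 3, 19, 17], [19, 25, 20, 1, 23, 21, 17]]
noncomputable def CawTF : List (List Nat) := [[], [1]]
noncomputable def Caw : CD := ⟨[⟨221, [[19], [17]], 20⟩, ⟨194, [[2, 4], [12, 21, 19], [22, 17, 21]], 5⟩, ⟨154, [[3, 7], [20, 1, 19], [19, 3, 20], [26, 17, 25]], 4⟩, ⟨133, [[26, 17, 25], [26, 10, 13, 25], [20, 8, 9, 7, 19]], 3⟩, ⟨46, [[26, 17, 25], [19, 19, 1, 20, 20], [3, 24, 17, 23, 4]], 1⟩, ⟨176, [[26, 17, 25], [3, 24, 17, 23, 4], [25, 6, 17, 5, 26]], 1⟩, ⟨62, [[26, 17, 25], [21, 23, 6, 13, 24, 22]], 1⟩, ⟨190, [[26, 17, 25]], 1⟩], CawTF, CawTK, CawT⟩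
noncomputable def caw : List Lvl := [⟨0, [[3], [7], [17], [16, 17, 20], [26, 3, 7, 25]], 2⟩, ⟨4, [[3], [7], [28, 17], [16, 17, 20]], 4⟩, ⟨2, [[4, 7], [24, 17, 23], [20, 3, 9, 19], [26, 12, 15, 11, 25]], 1⟩, ⟨6, [[4, 7], [24, 17, 23], [20, 3, 9, 19], [20, 3, 13, 19]], 1⟩, ⟨8, [[4, 7], [24, 17, 23], [20, 10, 13, 19]], 3⟩, ⟨10, [[19, 2, 17, 1, 20], [4, 6, 19, 17, 20], [25, 6, 17, 5, 26]], 1⟩, ⟨12, [[4, 6, 19, 17, 20], [25, 6, 17, 5, 26]], 1⟩, ⟨14, [[4, 6, 19, 17, 20]], 1⟩]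
noncomputable def CdwT : Tr := (.sym [[1], [3], [5], [7], [9]] (.cons [] 4 1152 (.op 4 0 (.focus 0 (.cons [] 0 1152 (.base (nat_lit 0x400200004002400200008282000000000000000000002800) (.focus 0 (.sym [[5], [11], [13]] (.cons [] 1 192 (.base (nat_lit 0x1150000000001150000000000000000000028880000004111000000) (.focus 0 (.sym [[5], [15], [17], [19], [21]] (.cons [] 2 12 (.op 4 0 (.focus 0 (.cons [] 0 12 .triv .nil))) .nil)))) (.cons [7] 2 0 (.op 5 0 (.and 1 0 (.dead0 0))) .nil))))) .nil))) (.cons [2] 3 0 (.base (nat_lit 0x3033f033f3ffc033f3ffc3ffcfcc03c3c3ccc3ccc3cccccc33333c33c) (.op 4 1 (.and 1 0 (.dead0 0)))) (.cons [25, 3] 3 0 (.op 5 0 (.and 1 0 (.dead0 0))) .nil))))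
noncomputable def CdwTK : List (List Nat) := [[17], [3, 25, 9, 3, 26, 4, 17], [3, 11, 4], [22, 9, 5, 21], [26, 7, 4, 25], [19, 15, 21, 4, 26, 22, 17], [26, 4, 19, 9, 20, 3, 25], [19, 19, 5, 20, 20], [13, 15, 25, 3, 22, 3, 10, 17], [11, 26, 26, 26, 24, 20, 24, 25], [19, 21, 13, 22, 4, 20]]
noncomputable def CdwTF : List (List Nat) := [[], [1]]
noncomputable def Cdw : CD := ⟨[⟨238, [[19], [17]], 22⟩, ⟨225, [[1], [3], [7], [9], [11], [20, 17, 19]], 4⟩, ⟨158, [[4, 7], [19, 3, 20], [21, 17, 22], [26, 2, 3, 25]], 4⟩, ⟨210, [[4, 13], [19, 3, 20], [21, 17, 22]], 4⟩, ⟨221, [[8, 13], [19, 16, 20, 17], [19, 21, 7, 22, 20]], 3⟩, ⟨115, [[20, 20, 17, 19, 19], [18, 25, 7, 9, 26], [25, 21, 17, 22, 26]], 1⟩, ⟨154, [[20, 20, 17, 19, 19], [25, 21, 17, 22, 26]], 1⟩, ⟨165, [[23, 19, 16, 20, 17, 24]], 1⟩], CdwTF, CdwTK, CdwT⟩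
noncomputable def cdw : List Lvl := [⟨0, [[17], [24, 17, 23], [3, 11, 4], [22, 6, 9, 21], [26, 3, 7, 25]], 3⟩, ⟨8, [[28, 17], [20, 3, 9, 19], [22, 6, 9, 21], [21, 10, 22, 4]], 4⟩, ⟨2, [[22, 6, 9, 21], [28, 18, 7, 3], [20, 20, 9, 19, 19], [19, 2, 17, 1, 20], [2, 26, 13, 25, 1]], 2⟩, ⟨4, [[18, 20, 5, 4, 19], [19, 2, 17, 1, 20], [4, 6, 19, 17, 20], [2, 26, 13, 25, 1]], 2⟩, ⟨6, [[18, 20, 5, 4, 19], [19, 2, 17, 1, 20], [4, 6, 19, 17, 20], [25, 6, 17, 5, 26]], 1⟩, ⟨12, [[19, 2, 17, 1, 20], [4, 6, 19, 17, 20], [25, 6, 17, 5, 26]], 1⟩, ⟨14, [[19, 2, 17, 1, 20], [4, 6, 19, 17, 20]], 1⟩, ⟨10, [[19, 2, 17, 1, 20]], 1⟩]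
noncomputable def CewT : Tr := (.sym [[1], [3], [5]] (.cons [] 5 64 (.op 4 0 (.focus 0 (.cons [] 0 64 (.base (nat_lit 0x445a220000004450000000004450000141182881411001411000000) (.focus 0 (.sym [[1], [7], [9], [11]] (.cons [] 2 8 (.op 4 0 (.focus 0 (.cons [] 0 8 (.focus 3 (.base (nat_lit 0x4000200000000400000000000400000140082000000001400000000) (.focus 0 (.sym [[11], [7]] (.cons [] 2 2 (.op 4 0 (.focus 0 (.cons [] 0 2 .triv .nil))) (.cons [1] 1 0 (.base (nat_lit 0x2000000000000200000000000200000800010000000000200000000) (.op 4 1 (.and 1 0 (.dead0 0)))) (.cons [4, 1] 2 0 (.base (nat_lit 0x2000000000000200000000000200000800010000000000200000000) (.op 4 1 (.and 1 0 (.dead0 0)))) .nil))))))) .nil))) (.cons [5] 2 0 (.base (nat_lit 0xa0200000000000000000000000000000008000100000000080000000) (.op 4 1 (.and 1 0 (.dead0 0)))) (.cons [6] 2 0 (.base (nat_lit 0xa0200000000000000000000000000000008000100000000080000000)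 (.op 4 1 (.and 1 0 (.dead0 0)))) .nil)))))) .nil))) (.cons [1] 7 0 (.base (nat_lit 0xcff3f3300ccfcff3f3303000cff3f330c3c3c3cc3c33c3ccc3c3ccc3c3c3) (.op 4 1 (.and 1 0 (.dead0 0)))) (.cons [10, 1] 3 0 (.op 5 0 (.and 1 0 (.dead0 0))) (.cons [2, 2] 4 0 (.base (nat_lit 0xcff3f3300ccfcff3f3303000cff3f330c3c3c3cc3c33c3ccc3c3ccc3c3c3) (.op 4 1 (.and 1 0 (.dead0 0)))) (.cons [5, 21, 1] 3 0 (.base (nat_lit 0xcff3f3300ccfcff3f3303000cff3f330c3c3c3cc3c33c3ccc3c3ccc3c3c3) (.op 4 1 (.and 1 0 (.dead0 0)))) .nil))))))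
noncomputable def CewTK : List (List Nat) := [[17], [20, 11, 1, 19], [23, 5, 22, 13, 19], [5, 21, 25, 1, 26, 22, 6], [7, 19, 22, 1, 21, 20, 3], [19, 3, 15, 4, 20, 17]]
noncomputable def CewTF : List (List Nat) := [[], [1]]
noncomputable def Cew : CD := ⟨[⟨147, [[19], [17]], 24⟩, ⟨156, [[15], [17], [3, 19, 19]], 9⟩, ⟨214, [[17], [4, 7], [14, 1, 19]], 4⟩, ⟨213, [[19, 9, 20], [6, 17, 5], [24, 4, 13, 23]], 2⟩, ⟨34, [[20, 3, 7, 19], [2, 10, 1, 3], [19, 16, 20, 17]], 2⟩, ⟨33, [[18, 20, 5, 4, 19], [10, 19, 9, 20, 9]], 3⟩, ⟨162, [[18, 20, 5, 4, 19]], 1⟩], CewTF, CewTK, CewT⟩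
noncomputable def cew : List Lvl := [⟨0, [[17], [20, 2, 11, 19], [23, 6, 22, 13, 19]], 3⟩, ⟨2, [[28, 17], [20, 2, 11, 19], [20, 20, 17, 19, 19], [20, 6, 4, 27, 19], [21, 24, 6, 13, 23, 22]], 1⟩, ⟨6, [[4, 7], [20, 2, 11, 19], [20, 20, 17, 19, 19], [18, 20, 5, 4, 19], [26, 26, 5, 25, 25]], 1⟩, ⟨10, [[4, 7], [20, 20, 17, 19, 19], [19, 25, 17, 26, 20], [19, 2, 17, 1, 20], [26, 26, 5, 25, 25]], 1⟩, ⟨8, [[4, 7], [20, 20, 17, 19, 19], [19, 25, 17, 26, 20], [26, 26, 5, 25, 25]], 1⟩, ⟨4, [[19, 25, 17, 26, 20], [4, 6, 19, 17, 20], [26, 26, 5, 25, 25]], 1⟩, ⟨12, [[4, 6, 19, 17, 20], [25, 6, 17, 5, 26]], 1⟩, ⟨14, [[4, 6, 19, 17, 20]], 1⟩]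
noncomputable def CfwT : Tr := (.sym [[1], [3], [5], [7], [9]] (.cons [] 3 192 (.op 4 0 (.focus 0 (.cons [] 0 192 (.base (nat_lit 0xf0f0f0fff0ff000000f0ffff0ff0) (.focus 0 (.sym [[7], [11], [13], [15], [17]] (.cons [] 1 24 (.op 4 0 (.focus 0 (.cons [] 0 24 .triv .nil))) (.cons [1] 2 0 (.base (nat_lit 0x505500000000005055050060) (.op 4 1 (.and 1 0 (.dead0 0)))) (.cons [8] 2 0 (.base (nat_lit 0x505500000000005055050060) (.op 4 1 (.and 1 0 (.dead0 0)))) (.cons [11, 7] 1 0 (.base (nat_lit 0x505500000000005055050060) (.op 4 1 (.and 1 0 (.dead0 0)))) (.cons [7, 1] 3 0 (.op 5 0 (.and 1 0 (.dead0 0))) (.cons [1, 3, 8] 1 0 (.op 5 0 (.and 1 0 (.dead0 0))) .nil))))))))) .nil))) (.cons [2] 4 0 (.base (nat_lit 0xcccccccccccccccc3333333333333333f0f0f0fff0ff030000f0ffff0ff0) (.op 4 1 (.and 1 0 (.dead0 0)))) (.cons [7, 1] 1 0 (.base (nat_lit 0xcccccccccccccccc3333333333333333f0f0f0fff0ff030000f0ffff0ff0)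 (.op 4 1 (.and 1 0 (.dead0 0)))) (.cons [21, 2] 4 0 (.op 5 0 (.and 1 0 (.dead0 0))) (.cons [13, 1] 1 0 (.base (nat_lit 0xcccccccccccccccc3333333333333333f0f0f0fff0ff030000f0ffff0ff0) (.op 4 1 (.and 1 0 (.dead0 0)))) (.cons [5, 8, 11, 1] 1 0 (.op 5 0 (.and 1 0 (.dead0 0))) .nil)))))))
noncomputable def CfwTK : List (List Nat) := [[27], [27, 17], [20, 13, 4, 19], [26, 7, 4, 25], [13, 26, 23, 5], [24, 19, 23, 26, 19, 19, 21, 2, 17], [25, 9, 4, 26, 17], [9, 24, 24, 9, 23, 23, 10, 17], [20, 5, 4, 19, 17]]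
noncomputable def CfwTF : List (List Nat) := [[], [1]]
noncomputable def Cfw : CD := ⟨[⟨58, [[19], [17]], 22⟩, ⟨57, [[1], [26, 19, 19], [19, 17, 20]], 7⟩, ⟨21, [[7], [9], [24, 17, 23], [19, 4, 11, 20]], 4⟩, ⟨18, [[24, 17, 23], [4, 16, 20, 5], [16, 6, 13, 15]], 3⟩, ⟨206, [[24, 17, 23], [20, 20, 17, 19, 19], [19, 2, 17, 1, 20]], 2⟩, ⟨115, [[24, 17, 23], [20, 20, 17, 19, 19]], 2⟩, ⟨53, [[20, 20, 17, 19, 19]], 1⟩], CfwTF, CfwTK, CfwT⟩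
noncomputable def cfw : List Lvl := [⟨0, [[27], [17], [20, 3, 13, 19], [26, 3, 7, 25], [6, 24, 25, 13]], 1⟩, ⟨4, [[24, 17, 23], [20, 3, 13, 19], [19, 25, 17, 26, 20], [20, 20, 26, 7, 22, 19]], 2⟩, ⟨8, [[4, 7], [24, 17, 23], [20, 3, 9, 19], [26, 12, 15, 11, 25]], 2⟩, ⟨6, [[18, 20, 5, 4, 19], [19, 2, 17, 1, 20], [4, 6, 19, 17, 20], [25, 6, 17, 5, 26], [26, 26, 2, 5, 25, 25]], 1⟩, ⟨2, [[19, 2, 17, 1, 20], [4, 6, 19, 17, 20], [25, 6, 17, 5, 26], [26, 26, 2, 5, 25, 25]], 1⟩, ⟨12, [[19, 2, 17, 1, 20], [4, 6, 19, 17, 20], [25, 6, 17, 5, 26]], 1⟩, ⟨10, [[19, 2, 17, 1, 20], [4, 6, 19, 17, 20]], 1⟩, ⟨14, [[4, 6, 19, 17, 20]], 1⟩]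
noncomputable def x0 : List Nat := [15, 26, 24, 13, 23, 25, 16, 17]
noncomputable def x1 : List Nat := [26, 26, 7, 25, 25, 17]
noncomputable def x2 : List Nat := [21, 5, 26, 23, 23, 23, 10, 21, 17]
noncomputable def x3 : List Nat := [7, 23, 21, 1, 22, 24, 3, 17]
noncomputable def HS : List (List Nat) := [[11, 20, 13, 7, 20, 22, 26, 16], [13, 23, 4, 24, 14], [9, 25, 11, 5, 26, 10], [24, 20, 23, 7, 24, 19, 23], [26, 11, 9, 25], [11, 23, 5, 19, 22, 20, 28, 4]]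
noncomputable def P : PD := ⟨[[19, 23, 26, 7, 24, 10, 24, 4], [1, 25, 20, 3, 23, 20, 20, 10, 17], [24, 5, 1, 25, 19, 23, 21, 8], [24, 11, 9, 23, 26, 19, 2, 24], [19, 3, 15, 4, 20], [23, 9, 4, 26, 21, 20, 22, 3, 17], [4, 26, 15, 13, 27, 20, 25], [23, 23, 15, 4, 23, 19, 4, 22, 17], [19, 25, 1, 24, 21, 20, 22, 2, 17], [3, 26, 24, 26, 1, 19, 2, 16, 17], [3, 25, 13, 9, 26, 12, 4, 17], [7, 1, 21, 13, 1, 20, 21, 24], [13, 22, 15, 27, 26, 23, 23, 4, 17], [20, 15, 5, 3, 21, 23, 3, 23]], [([], [[25, 21, 19, 11, 7], [19, 15, 3], [25, 23, 21, 17, 15, 13], [19, 15, 7], [23, 19, 15, 11, 9, 7, 5, 1], [25, 13, 5, 1], [21, 19, 17, 13, 7, 5], [25, 23, 21, 19, 17, 15, 11, 9], [25, 23, 21, 15, 11, 9], [25, 23, 21, 17, 11, 9], [25, 23, 17, 15, 13, 5], [23, 19, 17, 7], [25, 21, 19, 15, 5]]), ([], [[23, 21, 19, 17, 1], [23, 21, 17, 13, 11, 3], [21, 19, 17, 15, 13, 11, 9, 7,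 3], [21, 19, 13, 11, 9, 5, 3], [17, 11, 9], [11], [23, 19, 15], [15], [17], [23, 15, 13], [23, 21, 19, 15, 13], [23]]), ([], [[19, 17, 13, 11, 9, 1], [3], [19, 17, 13, 11, 7, 3], [21, 19, 15, 13, 5, 3], [21, 17, 15, 11, 9], [11], [13], [15], [21, 15, 11], [19], [17, 15, 11]]), ([], [[19, 17, 13, 9, 7, 1], [3], [19, 15, 11, 9, 5], [13, 11, 7], [17, 15, 13, 11, 9, 7], [17, 15, 13, 7], [17, 15, 11, 7], [19, 17, 15, 11, 9, 7], [19, 13, 9, 7], [17, 11, 9, 7]]), ([], [[17, 13, 7, 5, 1], [17, 15, 11, 3], [17, 15], [17, 15, 7, 5], [17, 15, 9, 5], [17, 15, 11, 5], [17, 15, 13, 5], [15], [15, 5]]), ([], [[15, 13, 3, 1], [5], [3], [7, 5, 3], [13, 11, 9, 5], [15], [15, 13, 11, 5, 3], [11]]), ([], [[7], [11, 9, 7, 3], [11, 9, 7, 5], [1], [9], [11, 7, 1], [13]]), ([], [[1], [3], [5], [7], [9], [11]]), ([], [[1], [3], [5], [7], [9]]), ([], [[1], [3], [5], [7]]), ([],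 [[1], [3], [5]]), ([], [[1], [3]]), ([], [[1]]), ([], [])], [⟨238, [[17], [26, 3, 7, 25], [20, 25, 15, 26, 19], [20, 2, 4, 24, 7, 19]], 4⟩, ⟨74, [[20, 20, 17, 19, 19], [20, 25, 15, 26, 19], [24, 10, 22, 1, 24, 5]], 4⟩, ⟨118, [[20, 20, 17, 19, 19], [20, 2, 25, 17, 26, 1, 19]], 1⟩], [[27, 25, 23, 9], [23, 21, 19, 15, 13, 11, 9, 5], [25, 23, 21, 15, 3], [25, 23, 19, 17, 15, 11, 7, 5, 3, 1], [25, 17, 15], [25, 23, 21, 15, 3], [27, 25, 23, 11, 1], [25, 17, 15], [23, 15, 9]]⟩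
noncomputable def R : List (List Nat) := [[27], aw, lapp [27] aw, dw, ew, jw, [17], [27, 17], fw, lapp [27] fw]
noncomputable def FB000 : BT Ent := (.node 50539 (.node 25876 (.node 9619 (.node 5084 (.node 1024 (.node 254 (.node 169 (.leaf ⟨7, [2, 22, 23, 26], 9⟩) (.leaf ⟨169, [19, 21, 12, 20, 12], 8⟩)) (.node 535 (.leaf ⟨254, [14, 23, 18, 2], 8⟩) (.node 742 (.leaf ⟨535, [24, 4, 16, 26], 8⟩) (.leaf ⟨742, [22, 23, 6, 19], 5⟩)))) (.node 1869 (.node 1293 (.leaf ⟨1024, [19, 12, 26, 16, 3], 9⟩) (.node 1785 (.leaf ⟨1293, [22, 4, 18, 22], 2⟩) (.leaf ⟨1785, [3, 18, 16, 22], 5⟩))) (.node 3603 (.leaf ⟨1869, [3, 2, 19, 16], 9⟩) (.node 4214 (.leaf ⟨3603, [19, 23, 21, 14], 5⟩) (.leaf ⟨4214, [23, 3, 14, 18], 5⟩))))) (.node 7830 (.node 7306 (.node 5385 (.leaf ⟨5084, [20, 3, 16, 8, 26], 8⟩) (.leaf ⟨5385, [25, 2, 8, 18], 5⟩)) (.node 7433 (.leaf ⟨7306, [25, 14, 18], 3⟩)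 (.node 7591 (.leaf ⟨7433, [20, 21, 2, 14, 16], 4⟩) (.leaf ⟨7591, [20, 10, 21, 25], 5⟩)))) (.node 8498 (.node 7938 (.leaf ⟨7830, [21, 25, 16, 21], 8⟩) (.node 8006 (.leaf ⟨7938, [20, 24, 8, 19], 1⟩) (.leaf ⟨8006, [19, 14, 21, 25], 5⟩))) (.node 8655 (.leaf ⟨8498, [16, 3, 22, 12], 9⟩) (.node 9185 (.leaf ⟨8655, [19, 3, 6, 21, 6], 4⟩) (.leaf ⟨9185, [24, 19, 16, 25], 4⟩)))))) (.node 15998 (.node 13354 (.node 12349 (.node 10448 (.leaf ⟨9619, [20, 20, 23], 1⟩) (.leaf ⟨10448, [12, 26, 3], 1⟩)) (.node 12517 (.leaf ⟨12349, [22, 23, 23, 18, 26], 4⟩) (.node 12547 (.leaf ⟨12517, [23, 21, 23, 6], 9⟩) (.leaf ⟨12547, [2, 16, 3], 3⟩)))) (.node 14202 (.node 14003 (.leaf ⟨13354, [10, 2, 25, 23], 4⟩) (.node 14119 (.leaf ⟨14003, [19, 10, 22, 16, 10], 9⟩) (.leaf ⟨14119, [20, 26, 21, 4, 2], 8⟩))) (.node 14265 (.leaf ⟨14202, [23, 18, 20, 14], 9⟩) (.node 15081 (.leaf ⟨14265, [25,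 12, 19], 3⟩) (.leaf ⟨15081, [20, 24, 20, 6, 23], 4⟩))))) (.node 21758 (.node 21110 (.node 18222 (.leaf ⟨15998, [21, 14, 22, 18], 5⟩) (.node 18268 (.leaf ⟨18222, [], 1⟩) (.leaf ⟨18268, [6, 26], 7⟩))) (.node 21115 (.leaf ⟨21110, [21, 24, 22, 2], 2⟩) (.node 21260 (.leaf ⟨21115, [6, 10, 16], 5⟩) (.leaf ⟨21260, [19, 22, 3, 24, 24], 4⟩)))) (.node 22989 (.node 22166 (.leaf ⟨21758, [22, 3, 19, 12], 4⟩) (.node 22304 (.leaf ⟨22166, [21, 19, 25, 4, 21], 4⟩) (.leaf ⟨22304, [20, 21, 19, 12], 9⟩))) (.node 23032 (.leaf ⟨22989, [20, 20, 16, 2], 3⟩) (.node 25122 (.leaf ⟨23032, [4, 25], 3⟩) (.leaf ⟨25122, [20, 18, 14, 24], 5⟩))))))) (.node 33493 (.node 29231 (.node 27637 (.node 26721 (.node 26658 (.leaf ⟨25876, [2, 20, 4], 5⟩) (.leaf ⟨26658, [22, 26, 2], 3⟩)) (.node 27334 (.leaf ⟨26721, [20, 21, 20, 24], 3⟩) (.node 27378 (.leaf ⟨27334, [3, 20, 12, 25], 9⟩) (.leaf ⟨27378,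 [16, 21, 20, 20], 8⟩)))) (.node 28179 (.node 27734 (.leaf ⟨27637, [19, 23, 19, 24, 2], 4⟩) (.node 27784 (.leaf ⟨27734, [4, 12, 20, 14], 9⟩) (.leaf ⟨27784, [24, 20, 21, 19], 9⟩))) (.node 28517 (.leaf ⟨28179, [24, 3, 23], 2⟩) (.node 28859 (.leaf ⟨28517, [6, 14], 8⟩) (.leaf ⟨28859, [22, 12, 23, 10], 5⟩))))) (.node 31663 (.node 30805 (.node 29374 (.leaf ⟨29231, [19, 21, 23, 14], 1⟩) (.leaf ⟨29374, [20, 18, 22, 26, 20], 4⟩)) (.node 31541 (.leaf ⟨30805, [20, 20, 24, 26, 19], 9⟩) (.node 31590 (.leaf ⟨31541, [20, 24, 4], 3⟩) (.leaf ⟨31590, [24, 25, 4, 2], 9⟩)))) (.node 33126 (.node 31729 (.leaf ⟨31663, [3, 20, 10, 25], 9⟩) (.node 32555 (.leaf ⟨31729, [25, 4, 23], 3⟩) (.leaf ⟨32555, [22, 16, 26, 22], 8⟩))) (.node 33295 (.leaf ⟨33126, [25, 18, 21, 21], 5⟩) (.node 33452 (.leaf ⟨33295, [6, 8, 20], 5⟩) (.leaf ⟨33452, [20, 2, 6, 18], 3⟩)))))) (.node 43608 (.node 39176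 (.node 36400 (.node 34102 (.leaf ⟨33493, [20, 24, 20, 20, 14], 9⟩) (.leaf ⟨34102, [6, 18, 22, 8], 5⟩)) (.node 36754 (.leaf ⟨36400, [20, 26, 21, 25], 3⟩) (.node 37585 (.leaf ⟨36754, [21, 19, 8, 26], 8⟩) (.leaf ⟨37585, [4, 14, 24, 25], 8⟩)))) (.node 41597 (.node 39622 (.leaf ⟨39176, [22, 4, 22, 12, 20], 4⟩) (.node 40711 (.leaf ⟨39622, [3, 21, 18, 14], 5⟩) (.leaf ⟨40711, [23, 6, 14, 26], 8⟩))) (.node 41678 (.leaf ⟨41597, [26, 20, 14], 3⟩) (.node 43182 (.leaf ⟨41678, [2, 3, 6], 1⟩) (.leaf ⟨43182, [25, 6, 8, 20, 16], 4⟩))))) (.node 47292 (.node 46092 (.node 45270 (.leaf ⟨43608, [19, 6, 19, 2], 4⟩) (.node 45674 (.leaf ⟨45270, [6, 23, 26, 12], 4⟩) (.leaf ⟨45674, [20, 24, 8, 25], 5⟩))) (.node 46220 (.leaf ⟨46092, [2, 4, 2, 6], 9⟩) (.node 46450 (.leaf ⟨46220, [19, 2, 24, 14], 8⟩) (.leaf ⟨46450, [21, 2, 19, 25], 4⟩)))) (.node 49378 (.node 47330 (.leaf ⟨47292, [19,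 21, 23, 6], 1⟩) (.node 49158 (.leaf ⟨47330, [2, 4, 22, 18], 5⟩) (.leaf ⟨49158, [20, 22, 2, 26, 16], 9⟩))) (.node 49677 (.leaf ⟨49378, [4, 12], 4⟩) (.node 50441 (.leaf ⟨49677, [19, 24, 25, 10, 19], 4⟩) (.leaf ⟨50441, [21, 12, 24], 3⟩)))))))) (.node 83571 (.node 66543 (.node 58348 (.node 54533 (.node 51345 (.node 51026 (.leaf ⟨50539, [22, 22, 12, 20], 9⟩) (.leaf ⟨51026, [23, 4, 19, 18], 5⟩)) (.node 53192 (.leaf ⟨51345, [19, 22, 16], 5⟩) (.node 54101 (.leaf ⟨53192, [20, 22, 25, 20, 8], 4⟩) (.leaf ⟨54101, [22, 25, 22], 3⟩)))) (.node 58024 (.node 55064 (.leaf ⟨54533, [26, 12, 19], 2⟩) (.node 57450 (.leaf ⟨55064, [23, 10, 19], 3⟩) (.leaf ⟨57450, [20, 20, 16, 3], 9⟩))) (.node 58289 (.leaf ⟨58024, [4, 19, 21], 3⟩) (.node 58303 (.leaf ⟨58289, [21, 8, 16, 4], 4⟩) (.leaf ⟨58303, [19, 19, 22, 24, 3], 8⟩))))) (.node 61913 (.node 59418 (.node 59184 (.leaf ⟨58348, [12,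 3, 18], 8⟩) (.leaf ⟨59184, [14, 20, 14], 3⟩)) (.node 61625 (.leaf ⟨59418, [23, 4, 19], 5⟩) (.node 61861 (.leaf ⟨61625, [19, 19, 19, 14], 5⟩) (.leaf ⟨61861, [20, 22, 19, 23, 3], 8⟩)))) (.node 63933 (.node 63202 (.leaf ⟨61913, [16, 22, 14, 21], 4⟩) (.node 63600 (.leaf ⟨63202, [6, 8, 20, 18], 5⟩) (.leaf ⟨63600, [24, 2, 18, 20, 21], 4⟩))) (.node 64026 (.leaf ⟨63933, [26, 18, 22, 3], 4⟩) (.node 64165 (.leaf ⟨64026, [21, 21, 25, 24], 8⟩) (.leaf ⟨64165, [26, 12, 26, 20], 8⟩)))))) (.node 75917 (.node 68454 (.node 67383 (.node 66719 (.leaf ⟨66543, [24, 21, 24, 26], 8⟩) (.leaf ⟨66719, [20, 8, 19, 23], 8⟩)) (.node 67623 (.leaf ⟨67383, [22, 18, 21], 8⟩) (.node 68057 (.leaf ⟨67623, [22, 20, 10, 20], 5⟩) (.leaf ⟨68057, [24, 12, 23], 3⟩)))) (.node 73512 (.node 69737 (.leaf ⟨68454, [20, 24, 22, 4, 24], 9⟩) (.node 72559 (.leaf ⟨69737, [21, 16, 22], 4⟩) (.leaf ⟨72559,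 [8, 18, 2, 26], 5⟩))) (.node 73992 (.leaf ⟨73512, [22, 20, 4, 18], 4⟩) (.node 75732 (.leaf ⟨73992, [19, 19, 25, 25], 9⟩) (.leaf ⟨75732, [12, 3], 1⟩))))) (.node 78670 (.node 77351 (.node 76292 (.leaf ⟨75917, [26, 19, 24], 3⟩) (.node 76803 (.leaf ⟨76292, [22, 22, 23, 14], 8⟩) (.leaf ⟨76803, [22, 24, 3, 16], 3⟩))) (.node 77676 (.leaf ⟨77351, [20, 21, 18, 22, 14], 5⟩) (.node 78018 (.leaf ⟨77676, [24, 21, 23, 12], 5⟩) (.leaf ⟨78018, [24, 12, 26, 19], 4⟩)))) (.node 80636 (.node 78677 (.leaf ⟨78670, [4], 3⟩) (.node 78890 (.leaf ⟨78677, [24, 10, 23, 10], 9⟩) (.leaf ⟨78890, [4, 12], 8⟩))) (.node 80697 (.leaf ⟨80636, [22, 16, 18, 23], 5⟩) (.node 81046 (.leaf ⟨80697, [22, 14, 22, 8, 21], 4⟩) (.leaf ⟨81046, [20, 22, 2], 5⟩))))))) (.node 103557 (.node 91502 (.node 88032 (.node 86259 (.node 83726 (.leaf ⟨83571, [20, 23, 23], 3⟩) (.leaf ⟨83726, [3, 26, 21, 18], 5⟩))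 (.node 86946 (.leaf ⟨86259, [19, 24, 19, 3], 3⟩) (.node 87851 (.leaf ⟨86946, [19, 6, 16, 19], 4⟩) (.leaf ⟨87851, [2, 26, 20, 18], 5⟩)))) (.node 91072 (.node 88124 (.leaf ⟨88032, [22, 25, 12, 21], 9⟩) (.node 89621 (.leaf ⟨88124, [25, 19, 14, 16], 5⟩) (.leaf ⟨89621, [20, 2, 10, 23], 5⟩))) (.node 91389 (.leaf ⟨91072, [20, 24, 25, 20], 2⟩) (.node 91444 (.leaf ⟨91389, [20, 23, 25, 18, 23], 9⟩) (.leaf ⟨91444, [23, 4, 2], 3⟩))))) (.node 93518 (.node 92149 (.node 92008 (.leaf ⟨91502, [21, 23, 18, 16], 5⟩) (.leaf ⟨92008, [20, 20, 6, 24, 21], 8⟩)) (.node 92277 (.leaf ⟨92149, [20, 24, 25, 20], 1⟩) (.node 93299 (.leaf ⟨92277, [20, 21, 20, 24], 9⟩) (.leaf ⟨93299, [23, 4, 19, 12], 4⟩)))) (.node 102238 (.node 98671 (.leaf ⟨93518, [19, 19, 22, 24], 1⟩) (.node 101809 (.leaf ⟨98671, [24, 22, 8, 10, 24], 4⟩) (.leaf ⟨101809, [20, 4, 24, 16], 8⟩))) (.node 102932 (.leaf ⟨102238,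 [21, 23, 23, 8], 9⟩) (.node 103024 (.leaf ⟨102932, [19, 3, 26, 8, 24], 4⟩) (.leaf ⟨103024, [22, 20, 4, 18], 8⟩)))))) (.node 113928 (.node 108612 (.node 105436 (.node 103613 (.leaf ⟨103557, [25, 2, 3], 5⟩) (.leaf ⟨103613, [22, 3, 2, 16, 2], 4⟩)) (.node 105582 (.leaf ⟨105436, [19, 10, 18, 16], 5⟩) (.node 108570 (.leaf ⟨105582, [23, 12, 22], 3⟩) (.leaf ⟨108570, [25, 14, 19, 12], 9⟩)))) (.node 112062 (.node 109166 (.leaf ⟨108612, [22, 22, 23, 6], 9⟩) (.node 111668 (.leaf ⟨109166, [19, 4, 22, 18, 2], 5⟩) (.leaf ⟨111668, [22, 4, 22], 3⟩))) (.node 112212 (.leaf ⟨112062, [25, 14, 19, 12], 8⟩) (.node 113158 (.leaf ⟨112212, [18, 23, 10, 19], 5⟩) (.leaf ⟨113158, [19, 25, 24, 6], 3⟩))))) (.node 117596 (.node 115493 (.node 115157 (.leaf ⟨113928, [26, 18, 22, 8], 4⟩) (.node 115377 (.leaf ⟨115157, [24, 22, 4, 25], 9⟩) (.leaf ⟨115377, [19, 6, 25, 6, 18], 8⟩))) (.node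 115806 (.leaf ⟨115493, [24, 20, 22, 16], 5⟩) (.node 117486 (.leaf ⟨115806, [20, 8, 18, 2], 5⟩) (.leaf ⟨117486, [23, 20, 23, 12], 5⟩)))) (.node 118416 (.node 117756 (.leaf ⟨117596, [26, 18, 6, 25], 5⟩) (.node 118209 (.leaf ⟨117756, [22, 20, 26, 26, 18], 4⟩) (.leaf ⟨118209, [19, 12, 24, 18, 21], 5⟩))) (.node 118642 (.leaf ⟨118416, [20, 22, 8, 19], 4⟩) (.node 119846 (.leaf ⟨118642, [2, 20, 6, 20], 4⟩) (.leaf ⟨119846, [21, 14, 22], 5⟩)))))))))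
noncomputable def FB001 : BT Ent := (.node 182972 (.node 158948 (.node 132826 (.node 127005 (.node 122336 (.node 121590 (.node 121458 (.leaf ⟨121335, [19, 10, 26, 26], 4⟩) (.leaf ⟨121458, [2, 20, 26, 26], 8⟩)) (.node 121789 (.leaf ⟨121590, [19, 8, 21, 21, 6], 9⟩) (.node 122241 (.leaf ⟨121789, [3], 3⟩) (.leaf ⟨122241, [19, 22, 20, 24], 2⟩)))) (.node 124033 (.node 122579 (.leaf ⟨122336, [19, 3, 22, 22, 2], 4⟩) (.node 122944 (.leaf ⟨122579, [21, 23, 23, 3], 8⟩) (.leaf ⟨122944, [23, 26, 18, 12], 5⟩))) (.node 125802 (.leaf ⟨124033, [20, 4, 21], 3⟩) (.node 126373 (.leaf ⟨125802, [23, 25, 22, 16], 5⟩) (.leaf ⟨126373, [19, 18, 6, 24, 2], 4⟩))))) (.node 130263 (.node 129552 (.node 127640 (.leaf ⟨127005, [19, 23, 3, 2], 8⟩) (.leaf ⟨127640, [22, 24, 26, 19, 10], 4⟩)) (.node 129642 (.leaf ⟨129552, [24, 26, 18], 3⟩) (.node 130112 (.leaf ⟨129642, [21, 8, 19, 26], 8⟩)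 (.leaf ⟨130112, [20, 20, 3], 3⟩)))) (.node 130886 (.node 130677 (.leaf ⟨130263, [2, 22, 26], 5⟩) (.node 130802 (.leaf ⟨130677, [22, 18, 14, 23], 5⟩) (.leaf ⟨130802, [22, 26, 18, 23], 5⟩))) (.node 132205 (.leaf ⟨130886, [24, 19, 18, 2], 5⟩) (.node 132463 (.leaf ⟨132205, [19, 25, 12, 25], 2⟩) (.leaf ⟨132463, [19, 3, 22, 12], 5⟩)))))) (.node 149978 (.node 137884 (.node 135230 (.node 132870 (.leaf ⟨132826, [], 7⟩) (.leaf ⟨132870, [20, 24, 2, 20, 26], 4⟩)) (.node 135759 (.leaf ⟨135230, [22, 3, 19, 26, 14], 4⟩) (.node 137611 (.leaf ⟨135759, [24, 24, 19], 3⟩) (.leaf ⟨137611, [19, 10, 19, 25], 5⟩)))) (.node 143804 (.node 137972 (.leaf ⟨137884, [22, 23, 21, 8, 20], 9⟩) (.node 141182 (.leaf ⟨137972, [20, 23, 10, 23, 20], 9⟩) (.leaf ⟨141182, [25, 24, 14], 1⟩))) (.node 145858 (.leaf ⟨143804, [20, 8, 24, 2], 2⟩) (.node 145948 (.leaf ⟨145858, [2, 3, 14], 2⟩) (.leaf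 ⟨145948, [10, 23, 10, 23, 2], 4⟩))))) (.node 153144 (.node 151936 (.node 150365 (.leaf ⟨149978, [24, 3, 23, 10], 8⟩) (.node 150678 (.leaf ⟨150365, [20, 18, 2, 4], 5⟩) (.leaf ⟨150678, [12, 14, 24, 20], 4⟩))) (.node 152232 (.leaf ⟨151936, [22, 26, 16, 23], 9⟩) (.node 152593 (.leaf ⟨152232, [19, 24, 12, 25, 24], 4⟩) (.leaf ⟨152593, [14, 21, 23, 2], 4⟩)))) (.node 156005 (.node 154805 (.leaf ⟨153144, [25, 18, 23, 12], 4⟩) (.node 154999 (.leaf ⟨154805, [], 4⟩) (.leaf ⟨154999, [24, 3, 23, 10], 9⟩))) (.node 157862 (.leaf ⟨156005, [14, 25, 4], 3⟩) (.node 158504 (.leaf ⟨157862, [20, 26, 21, 6], 9⟩) (.leaf ⟨158504, [24, 26, 22, 16, 3], 4⟩))))))) (.node 168988 (.node 163727 (.node 160920 (.node 159849 (.node 159801 (.leaf ⟨158948, [20, 8, 18, 23, 8], 5⟩) (.leaf ⟨159801, [20, 26, 4, 22, 25], 8⟩)) (.node 160296 (.leaf ⟨159849, [18, 24, 26, 22], 5⟩) (.node 160914 (.leaf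 ⟨160296, [20, 26, 6, 10, 16], 8⟩) (.leaf ⟨160914, [22, 2, 21, 10, 14], 4⟩)))) (.node 162457 (.node 161617 (.leaf ⟨160920, [19, 24], 6⟩) (.node 161988 (.leaf ⟨161617, [14, 23, 25, 2], 8⟩) (.leaf ⟨161988, [19, 18, 24, 2, 20], 4⟩))) (.node 163568 (.leaf ⟨162457, [20, 3, 18, 19], 3⟩) (.node 163665 (.leaf ⟨163568, [4, 26, 24, 18, 22], 4⟩) (.leaf ⟨163665, [23, 2, 24], 1⟩))))) (.node 166631 (.node 164727 (.node 164301 (.leaf ⟨163727, [19, 22, 23, 25], 4⟩) (.leaf ⟨164301, [19, 26, 14, 23, 25], 4⟩)) (.node 165680 (.leaf ⟨164727, [24, 19, 16, 25, 4], 4⟩) (.node 165935 (.leaf ⟨165680, [26, 2, 19], 2⟩) (.leaf ⟨165935, [20, 26, 2], 3⟩)))) (.node 167473 (.node 166715 (.leaf ⟨166631, [2, 4, 16, 19], 9⟩) (.node 166884 (.leaf ⟨166715, [12, 24, 3, 23], 4⟩) (.leaf ⟨166884, [25, 8, 26], 2⟩))) (.node 168342 (.leaf ⟨167473, [19, 18, 21, 21, 12], 4⟩) (.node 168973 (.leaf ⟨168342,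 [20, 8, 18, 2, 4], 5⟩) (.leaf ⟨168973, [4, 20, 4], 3⟩)))))) (.node 175031 (.node 171952 (.node 171369 (.node 170368 (.leaf ⟨168988, [14, 25, 25, 22], 4⟩) (.leaf ⟨170368, [25, 22, 24, 19], 4⟩)) (.node 171373 (.leaf ⟨171369, [20, 3, 24, 12], 5⟩) (.node 171512 (.leaf ⟨171373, [19, 12], 3⟩) (.leaf ⟨171512, [19, 2, 23, 20], 5⟩)))) (.node 172999 (.node 172558 (.leaf ⟨171952, [23, 26, 22, 22], 9⟩) (.node 172612 (.leaf ⟨172558, [23, 3, 25, 6, 10], 4⟩) (.leaf ⟨172612, [20, 2, 18, 2], 5⟩))) (.node 173534 (.leaf ⟨172999, [18, 21, 21, 12], 5⟩) (.node 174948 (.leaf ⟨173534, [25, 20, 3, 18, 21], 4⟩) (.leaf ⟨174948, [21, 10, 22, 4], 9⟩))))) (.node 179390 (.node 178253 (.node 175653 (.leaf ⟨175031, [26, 12, 26, 20], 9⟩) (.node 176593 (.leaf ⟨175653, [20, 24, 24, 2], 8⟩) (.leaf ⟨176593, [21, 18, 19, 23], 4⟩))) (.node 178428 (.leaf ⟨178253, [19, 19, 6, 21, 18], 4⟩) (.node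 178522 (.leaf ⟨178428, [2, 22, 26], 3⟩) (.leaf ⟨178522, [21, 20, 22, 2, 20], 4⟩)))) (.node 181947 (.node 180484 (.leaf ⟨179390, [20, 26, 19, 16], 5⟩) (.node 181597 (.leaf ⟨180484, [14, 23, 22, 26], 9⟩) (.leaf ⟨181597, [21, 4, 22, 18], 5⟩))) (.node 182673 (.leaf ⟨181947, [19, 22, 25, 18], 5⟩) (.node 182950 (.leaf ⟨182673, [19, 4, 18, 25, 23], 5⟩) (.leaf ⟨182950, [4, 18, 22, 16], 5⟩)))))))) (.node 211829 (.node 190525 (.node 187519 (.node 186209 (.node 185110 (.node 184317 (.leaf ⟨182972, [14, 23, 18, 2], 9⟩) (.leaf ⟨184317, [], 8⟩)) (.node 185308 (.leaf ⟨185110, [23, 20, 25], 2⟩) (.node 185780 (.leaf ⟨185308, [22, 23, 10, 18], 5⟩) (.leaf ⟨185780, [20, 4, 8, 23], 5⟩)))) (.node 187237 (.node 186239 (.leaf ⟨186209, [20, 20, 8], 3⟩) (.node 186592 (.leaf ⟨186239, [21, 24, 22, 2], 1⟩) (.leaf ⟨186592, [3, 12, 18, 21], 5⟩))) (.node 187308 (.leaf ⟨187237, [19,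 6, 21, 14, 16], 9⟩) (.node 187329 (.leaf ⟨187308, [22, 24, 4, 8, 16], 4⟩) (.leaf ⟨187329, [3, 22], 5⟩))))) (.node 188603 (.node 188041 (.node 187885 (.leaf ⟨187519, [19, 12, 20, 24, 12], 4⟩) (.leaf ⟨187885, [20, 12, 19, 4, 23], 8⟩)) (.node 188372 (.leaf ⟨188041, [25, 24, 26], 3⟩) (.node 188534 (.leaf ⟨188372, [21, 16, 22], 8⟩) (.leaf ⟨188534, [24, 21, 24, 22], 1⟩)))) (.node 189634 (.node 188892 (.leaf ⟨188603, [3, 2, 6], 8⟩) (.node 189061 (.leaf ⟨188892, [20, 3, 16, 14, 26], 4⟩) (.leaf ⟨189061, [19, 19, 22, 24], 2⟩))) (.node 189789 (.leaf ⟨189634, [6, 25, 18], 3⟩) (.node 190010 (.leaf ⟨189789, [19, 22, 4, 19, 21], 8⟩) (.leaf ⟨190010, [20, 26, 6, 10, 16], 9⟩)))))) (.node 201009 (.node 196227 (.node 192115 (.node 190854 (.leaf ⟨190525, [20, 22, 16, 4, 26], 4⟩) (.leaf ⟨190854, [20, 4, 2], 5⟩)) (.node 195161 (.leaf ⟨192115, [20, 21, 19, 12], 2⟩) (.node 195887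 (.leaf ⟨195161, [20, 20, 16, 25, 10], 8⟩) (.leaf ⟨195887, [23, 6, 19, 12], 9⟩)))) (.node 198924 (.node 196665 (.leaf ⟨196227, [24, 10, 23, 10], 8⟩) (.node 197990 (.leaf ⟨196665, [20, 22, 25, 2, 19], 9⟩) (.leaf ⟨197990, [19, 19, 26, 3, 26], 4⟩))) (.node 199620 (.leaf ⟨198924, [22, 19, 6, 24], 2⟩) (.node 200350 (.leaf ⟨199620, [22, 20, 4], 4⟩) (.leaf ⟨200350, [25, 16, 23, 8], 4⟩))))) (.node 206010 (.node 204150 (.node 201736 (.leaf ⟨201009, [12, 26, 6], 3⟩) (.node 203478 (.leaf ⟨201736, [19, 19], 6⟩) (.leaf ⟨203478, [23, 6, 19, 3], 8⟩))) (.node 205150 (.leaf ⟨204150, [20, 23, 6, 20, 14], 9⟩) (.node 205795 (.leaf ⟨205150, [25, 6, 22, 3], 9⟩) (.leaf ⟨205795, [23, 26, 22, 22], 8⟩)))) (.node 209271 (.node 207115 (.leaf ⟨206010, [19, 22, 25], 5⟩) (.node 208162 (.leaf ⟨207115, [25, 2, 3, 18], 5⟩) (.leaf ⟨208162, [19, 8, 16, 6], 9⟩))) (.node 209364 (.leaf ⟨209271,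 [26, 6, 25], 5⟩) (.node 210605 (.leaf ⟨209364, [20, 23, 22], 3⟩) (.leaf ⟨210605, [21, 3, 21], 3⟩))))))) (.node 231220 (.node 224451 (.node 214946 (.node 212432 (.node 212315 (.leaf ⟨211829, [20, 8, 23, 19], 4⟩) (.leaf ⟨212315, [12, 3], 4⟩)) (.node 213186 (.leaf ⟨212432, [20, 23, 19, 8, 26], 8⟩) (.node 214247 (.leaf ⟨213186, [26, 10, 26, 21], 1⟩) (.leaf ⟨214247, [20, 22, 26, 2], 1⟩)))) (.node 219991 (.node 216568 (.leaf ⟨214946, [20, 3, 21, 19], 9⟩) (.node 217256 (.leaf ⟨216568, [22, 22, 12, 20], 8⟩) (.leaf ⟨217256, [19, 26, 3, 26], 5⟩))) (.node 220752 (.leaf ⟨219991, [8, 18, 26, 23], 5⟩) (.node 221226 (.leaf ⟨220752, [20, 20, 16, 12], 5⟩) (.leaf ⟨221226, [20, 22, 26, 2], 2⟩))))) (.node 226498 (.node 225392 (.node 224554 (.leaf ⟨224451, [24, 10, 23, 8], 9⟩) (.leaf ⟨224554, [20, 2, 6], 3⟩)) (.node 225399 (.leaf ⟨225392, [19, 26, 26, 10], 5⟩) (.node 225407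 (.leaf ⟨225399, [], 3⟩) (.leaf ⟨225407, [23, 22, 19, 22], 5⟩)))) (.node 230285 (.node 229754 (.leaf ⟨226498, [21, 8, 19, 26], 3⟩) (.node 229789 (.leaf ⟨229754, [19, 19, 26, 16, 2], 4⟩) (.leaf ⟨229789, [14, 24, 12, 20], 4⟩))) (.node 230571 (.leaf ⟨230285, [6, 14], 3⟩) (.node 230678 (.leaf ⟨230571, [25, 21, 18, 2], 4⟩) (.leaf ⟨230678, [26, 18, 2, 24], 5⟩)))))) (.node 238816 (.node 235803 (.node 231762 (.node 231693 (.leaf ⟨231220, [22, 22, 23, 6], 8⟩) (.leaf ⟨231693, [12, 16, 14, 12], 8⟩)) (.node 232478 (.leaf ⟨231762, [20, 20, 23, 4, 8], 4⟩) (.node 234580 (.leaf ⟨232478, [6, 25, 10], 3⟩) (.leaf ⟨234580, [20, 16, 2, 25], 8⟩)))) (.node 237454 (.node 236141 (.leaf ⟨235803, [12, 20, 4, 20], 9⟩) (.node 236297 (.leaf ⟨236141, [26, 2, 16, 18], 5⟩) (.leaf ⟨236297, [22, 26, 19, 14, 10], 8⟩))) (.node 237580 (.leaf ⟨237454, [22, 20, 2, 12], 5⟩) (.node 238067 (.leaf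 ⟨237580, [20, 22, 20, 21], 3⟩) (.leaf ⟨238067, [20, 20, 4, 24], 3⟩))))) (.node 241827 (.node 239410 (.node 238961 (.leaf ⟨238816, [23, 14, 22, 22, 24], 4⟩) (.node 239053 (.leaf ⟨238961, [3, 24, 2], 3⟩) (.leaf ⟨239053, [20, 23, 25, 18, 23], 8⟩))) (.node 240626 (.leaf ⟨239410, [20, 10, 24, 25], 5⟩) (.node 241420 (.leaf ⟨240626, [25, 23, 26, 3], 4⟩) (.leaf ⟨241420, [24, 16, 4, 23], 2⟩)))) (.node 243434 (.node 242237 (.leaf ⟨241827, [12, 3], 8⟩) (.node 242953 (.leaf ⟨242237, [21, 6, 22], 3⟩) (.leaf ⟨242953, [22, 19, 6, 16, 26], 8⟩))) (.node 243446 (.leaf ⟨243434, [19, 26, 24, 20, 6], 4⟩) (.node 244311 (.leaf ⟨243446, [19, 23, 14, 12], 8⟩) (.leaf ⟨244311, [21, 19, 26], 3⟩)))))))))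
noncomputable def FB00 : BT Ent := .node 121335 FB000 FB001
noncomputable def FB010 : BT Ent := (.node 314290 (.node 276330 (.node 260146 (.node 253460 (.node 249986 (.node 246109 (.node 245376 (.leaf ⟨244860, [22, 19, 3, 16, 26], 4⟩) (.leaf ⟨245376, [12, 14, 10, 22], 9⟩)) (.node 246295 (.leaf ⟨246109, [16, 20, 14], 8⟩) (.node 248634 (.leaf ⟨246295, [22, 23, 16], 2⟩) (.leaf ⟨248634, [6, 25, 4, 18], 9⟩)))) (.node 250837 (.node 250005 (.leaf ⟨249986, [25, 2, 19], 3⟩) (.node 250627 (.leaf ⟨250005, [22, 4, 19, 4, 26], 4⟩) (.leaf ⟨250627, [20, 20, 20, 10, 12], 9⟩))) (.node 252327 (.leaf ⟨250837, [19, 16, 3, 14], 5⟩) (.node 253159 (.leaf ⟨252327, [25, 23, 3, 10], 9⟩) (.leaf ⟨253159, [4, 25, 8, 10], 8⟩))))) (.node 255853 (.node 254159 (.node 253461 (.leaf ⟨253460, [20, 22, 23, 6], 2⟩) (.leaf ⟨253461, [21, 19, 3, 26], 9⟩)) (.node 254429 (.leaf ⟨254159, [22, 20,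 3, 8], 4⟩) (.node 255000 (.leaf ⟨254429, [20, 22, 2, 18], 5⟩) (.leaf ⟨255000, [22, 2], 6⟩)))) (.node 258266 (.node 256052 (.leaf ⟨255853, [26, 18, 20], 9⟩) (.node 256407 (.leaf ⟨256052, [22, 22, 16, 23, 6], 4⟩) (.leaf ⟨256407, [22, 26, 4, 23], 8⟩))) (.node 258886 (.leaf ⟨258266, [19, 19, 25, 3], 2⟩) (.node 259838 (.leaf ⟨258886, [24, 26], 3⟩) (.leaf ⟨259838, [20, 22, 19, 23], 8⟩)))))) (.node 265315 (.node 262689 (.node 261372 (.node 261318 (.leaf ⟨260146, [20, 26, 24, 10, 21], 9⟩) (.leaf ⟨261318, [2, 26, 20], 5⟩)) (.node 261840 (.leaf ⟨261372, [19, 24, 2, 12], 3⟩) (.node 261879 (.leaf ⟨261840, [19, 16, 8, 14], 8⟩) (.leaf ⟨261879, [6, 25, 4, 18], 8⟩)))) (.node 264493 (.node 263330 (.leaf ⟨262689, [20, 21, 23, 6], 3⟩) (.node 263397 (.leaf ⟨263330, [22, 25, 14, 21], 3⟩) (.leaf ⟨263397, [20, 3, 21, 19], 8⟩))) (.node 264798 (.leaf ⟨264493, [21, 21, 25, 24],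 9⟩) (.node 264879 (.leaf ⟨264798, [19, 19, 22, 16], 8⟩) (.leaf ⟨264879, [23, 14, 22, 2], 4⟩))))) (.node 269610 (.node 268254 (.node 266450 (.leaf ⟨265315, [19, 19, 21, 19], 3⟩) (.node 267335 (.leaf ⟨266450, [20, 16, 6, 20], 1⟩) (.leaf ⟨267335, [14, 19, 16, 10], 4⟩))) (.node 268837 (.leaf ⟨268254, [20, 26, 23, 4], 3⟩) (.node 269333 (.leaf ⟨268837, [19, 26, 6], 3⟩) (.leaf ⟨269333, [19, 25, 6, 16], 5⟩)))) (.node 273974 (.node 271418 (.leaf ⟨269610, [6, 24, 18], 3⟩) (.node 271512 (.leaf ⟨271418, [2, 20, 6, 20], 8⟩) (.leaf ⟨271512, [20, 8, 23, 19], 9⟩))) (.node 274408 (.leaf ⟨273974, [20, 26, 6, 21, 25], 4⟩) (.node 275389 (.leaf ⟨274408, [20, 20, 23, 18], 4⟩) (.leaf ⟨275389, [26, 19, 24], 2⟩))))))) (.node 296459 (.node 285343 (.node 282700 (.node 281212 (.node 280559 (.leaf ⟨276330, [26, 22, 25, 19], 4⟩) (.leaf ⟨280559, [14, 19, 16], 8⟩)) (.node 281472 (.leaf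 ⟨281212, [20, 24, 22, 3], 5⟩) (.node 281965 (.leaf ⟨281472, [21, 6, 22, 12, 3], 4⟩) (.leaf ⟨281965, [22, 3, 19, 12], 8⟩)))) (.node 284315 (.node 283568 (.leaf ⟨282700, [22, 19, 6, 16, 26], 9⟩) (.node 283959 (.leaf ⟨283568, [26, 18, 20], 8⟩) (.leaf ⟨283959, [25, 14], 3⟩))) (.node 284750 (.leaf ⟨284315, [20, 20, 6, 24, 21], 9⟩) (.node 285148 (.leaf ⟨284750, [19, 4, 8, 16, 6], 4⟩) (.leaf ⟨285148, [10, 18, 25, 16], 5⟩))))) (.node 291370 (.node 288571 (.node 287690 (.leaf ⟨285343, [8, 18, 26, 26], 5⟩) (.leaf ⟨287690, [22, 23, 21, 8, 20], 8⟩)) (.node 288714 (.leaf ⟨288571, [21, 19, 26], 8⟩) (.node 290513 (.leaf ⟨288714, [], 6⟩) (.leaf ⟨290513, [22, 8, 14, 23, 16], 9⟩)))) (.node 293776 (.node 291400 (.leaf ⟨291370, [14, 10, 22], 3⟩) (.node 291611 (.leaf ⟨291400, [21, 12, 24, 4], 4⟩) (.leaf ⟨291611, [26, 4, 19, 6], 4⟩))) (.node 293890 (.leaf ⟨293776, [19, 2,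 14, 20], 4⟩) (.node 295620 (.leaf ⟨293890, [16, 20, 14], 3⟩) (.leaf ⟨295620, [23, 19, 14, 20, 24], 4⟩)))))) (.node 306726 (.node 300084 (.node 297534 (.node 296469 (.leaf ⟨296459, [20, 26, 14, 25], 5⟩) (.leaf ⟨296469, [23, 26, 2], 3⟩)) (.node 299003 (.leaf ⟨297534, [22, 22, 22, 18, 26], 4⟩) (.node 299944 (.leaf ⟨299003, [16, 25, 18], 3⟩) (.leaf ⟨299944, [25, 8, 26, 12], 4⟩)))) (.node 301637 (.node 300242 (.leaf ⟨300084, [19, 21, 21, 8, 10], 4⟩) (.node 300418 (.leaf ⟨300242, [26, 24, 20, 24], 9⟩) (.leaf ⟨300418, [23, 20, 25], 3⟩))) (.node 304067 (.leaf ⟨301637, [10, 18, 12, 20], 5⟩) (.node 305213 (.leaf ⟨304067, [19, 4, 24], 2⟩) (.leaf ⟨305213, [20, 2, 12, 19, 12], 9⟩))))) (.node 311842 (.node 310559 (.node 308475 (.leaf ⟨306726, [3, 2, 6], 4⟩) (.node 308560 (.leaf ⟨308475, [23, 20, 6], 3⟩) (.leaf ⟨308560, [20, 20, 12, 24, 20], 4⟩))) (.node 310880 (.leaf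 ⟨310559, [12, 18], 3⟩) (.node 311317 (.leaf ⟨310880, [24, 12, 23], 2⟩) (.leaf ⟨311317, [10, 24, 22, 23], 8⟩)))) (.node 313752 (.node 312597 (.leaf ⟨311842, [22, 24, 20, 16, 6], 4⟩) (.node 312865 (.leaf ⟨312597, [20, 14, 25, 6, 26], 4⟩) (.leaf ⟨312865, [21, 19, 4, 26], 9⟩))) (.node 314121 (.leaf ⟨313752, [12, 20, 4, 20], 8⟩) (.node 314262 (.leaf ⟨314121, [20, 18, 2, 25], 5⟩) (.leaf ⟨314262, [16, 20, 6], 8⟩)))))))) (.node 356812 (.node 335753 (.node 326264 (.node 318516 (.node 317202 (.node 316157 (.leaf ⟨314290, [3, 18, 26, 21], 5⟩) (.leaf ⟨316157, [25, 14, 23, 8], 4⟩)) (.node 317426 (.leaf ⟨317202, [25, 8, 26], 1⟩) (.node 318502 (.leaf ⟨317426, [26, 19, 24], 1⟩) (.leaf ⟨318502, [21, 6, 22, 16, 24], 4⟩)))) (.node 321994 (.node 318751 (.leaf ⟨318516, [20, 2, 3], 3⟩) (.node 320492 (.leaf ⟨318751, [25, 3, 20, 22], 9⟩) (.leaf ⟨320492, [21, 19, 18, 16, 26],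 4⟩))) (.node 325342 (.leaf ⟨321994, [25, 24, 14], 2⟩) (.node 326074 (.leaf ⟨325342, [2, 12, 20, 14], 9⟩) (.leaf ⟨326074, [23, 23, 21, 18], 5⟩))))) (.node 332020 (.node 330879 (.node 327473 (.leaf ⟨326264, [20, 22, 16, 22, 26], 4⟩) (.leaf ⟨327473, [19, 22, 19, 10, 19], 4⟩)) (.node 331193 (.leaf ⟨330879, [23, 16, 4, 19], 9⟩) (.node 331968 (.leaf ⟨331193, [18, 2, 19, 21], 5⟩) (.leaf ⟨331968, [26, 3, 16], 5⟩)))) (.node 334343 (.node 332029 (.leaf ⟨332020, [24, 24, 20, 16, 23], 4⟩) (.node 334213 (.leaf ⟨332029, [23, 14, 22, 2], 9⟩) (.leaf ⟨334213, [12], 2⟩))) (.node 334940 (.leaf ⟨334343, [20, 3, 26, 10, 23], 8⟩) (.node 335327 (.leaf ⟨334940, [22, 20, 26, 14], 8⟩) (.leaf ⟨335327, [20, 22, 24, 26], 2⟩)))))) (.node 346579 (.node 340051 (.node 338077 (.node 336132 (.leaf ⟨335753, [19, 25, 12, 25], 1⟩) (.leaf ⟨336132, [19, 21, 26, 24], 4⟩)) (.node 339158 (.leaf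 ⟨338077, [22, 3, 19, 12], 9⟩) (.node 340003 (.leaf ⟨339158, [10, 23, 14], 3⟩) (.leaf ⟨340003, [23, 10, 21, 20], 5⟩)))) (.node 342752 (.node 340288 (.leaf ⟨340051, [20, 22, 22, 24], 1⟩) (.node 341742 (.leaf ⟨340288, [21, 8, 16, 22], 9⟩) (.leaf ⟨341742, [12, 26, 3], 2⟩))) (.node 344417 (.leaf ⟨342752, [4, 25, 12], 3⟩) (.node 345332 (.leaf ⟨344417, [20, 23, 10, 23, 20], 8⟩) (.leaf ⟨345332, [22, 3, 6, 24, 18], 4⟩))))) (.node 350696 (.node 348741 (.node 348263 (.leaf ⟨346579, [19, 24, 20, 10], 2⟩) (.node 348424 (.leaf ⟨348263, [21, 19, 21, 25, 2], 4⟩) (.leaf ⟨348424, [24, 22, 4, 25], 8⟩))) (.node 350377 (.leaf ⟨348741, [24, 10, 25, 21, 18], 4⟩) (.node 350386 (.leaf ⟨350377, [25, 25, 20], 3⟩) (.leaf ⟨350386, [20, 23, 16, 26], 1⟩)))) (.node 353396 (.node 352329 (.leaf ⟨350696, [20, 12, 20, 18, 12], 5⟩) (.node 352334 (.leaf ⟨352329, [22, 25, 25, 25, 4], 4⟩) (.leaf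 ⟨352334, [19, 6, 21, 14, 16], 8⟩))) (.node 354199 (.leaf ⟨353396, [19, 14, 25, 6, 26], 8⟩) (.node 354673 (.leaf ⟨354199, [20, 16, 25, 2, 6], 4⟩) (.leaf ⟨354673, [14, 23, 22, 26], 8⟩))))))) (.node 368290 (.node 361569 (.node 359334 (.node 358271 (.node 357624 (.leaf ⟨356812, [24, 10, 23, 8], 8⟩) (.leaf ⟨357624, [6, 25, 3], 3⟩)) (.node 359149 (.leaf ⟨358271, [26, 24, 6, 10, 20], 4⟩) (.node 359280 (.leaf ⟨359149, [20, 22, 22, 6, 8], 4⟩) (.leaf ⟨359280, [22, 24, 3, 16], 5⟩)))) (.node 360391 (.node 359503 (.leaf ⟨359334, [19, 22, 2, 22], 3⟩) (.node 360227 (.leaf ⟨359503, [20, 20, 4, 23, 8], 4⟩) (.leaf ⟨360227, [23, 18, 24, 3], 4⟩))) (.node 360493 (.leaf ⟨360391, [24, 4, 23], 3⟩) (.node 360875 (.leaf ⟨360493, [16, 20, 14], 9⟩) (.leaf ⟨360875, [12, 18], 2⟩))))) (.node 364291 (.node 362731 (.node 362452 (.leaf ⟨361569, [19, 23, 14, 12], 3⟩) (.leaf ⟨362452, [21,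 19, 24, 14], 4⟩)) (.node 362886 (.leaf ⟨362731, [20, 22, 26, 2], 9⟩) (.node 363449 (.leaf ⟨362886, [21, 16, 8, 22], 9⟩) (.leaf ⟨363449, [21, 16, 8, 22], 8⟩)))) (.node 366599 (.node 365032 (.leaf ⟨364291, [22, 23, 10], 5⟩) (.node 365071 (.leaf ⟨365032, [19, 19, 6, 21], 4⟩) (.leaf ⟨365071, [24, 21, 24, 26], 9⟩))) (.node 367163 (.leaf ⟨366599, [24, 18, 25, 4, 2], 4⟩) (.node 367479 (.leaf ⟨367163, [26, 18, 21, 19], 5⟩) (.leaf ⟨367479, [24, 19, 23, 23], 3⟩)))))) (.node 377243 (.node 369745 (.node 368464 (.node 368404 (.leaf ⟨368290, [24, 24, 12, 22], 9⟩) (.leaf ⟨368404, [23, 12, 22], 2⟩)) (.node 368949 (.leaf ⟨368464, [12, 14, 10, 22], 8⟩) (.node 369553 (.leaf ⟨368949, [6, 26], 6⟩) (.leaf ⟨369553, [20, 8, 22, 14], 3⟩)))) (.node 374687 (.node 370928 (.leaf ⟨369745, [20, 8, 23, 19], 3⟩) (.node 372289 (.leaf ⟨370928, [12, 20, 22, 19], 4⟩) (.leaf ⟨372289, [24,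 12, 23, 3], 8⟩))) (.node 375640 (.leaf ⟨374687, [20, 21, 19, 12], 8⟩) (.node 376732 (.leaf ⟨375640, [20, 24, 24, 2], 9⟩) (.leaf ⟨376732, [24, 18, 24, 2], 5⟩))))) (.node 381578 (.node 378315 (.node 377962 (.leaf ⟨377243, [19, 16, 8, 14], 9⟩) (.node 378056 (.leaf ⟨377962, [19, 6, 25, 6], 9⟩) (.leaf ⟨378056, [20, 23, 16, 24], 5⟩))) (.node 380632 (.leaf ⟨378315, [4, 25, 8, 10], 9⟩) (.node 380703 (.leaf ⟨380632, [20, 8, 24, 2], 1⟩) (.leaf ⟨380703, [6, 25, 12], 4⟩)))) (.node 383055 (.node 381785 (.leaf ⟨381578, [25, 16, 14, 23], 4⟩) (.node 381826 (.leaf ⟨381785, [20, 3, 25, 24], 3⟩) (.leaf ⟨381826, [12, 24, 26], 1⟩))) (.node 383970 (.leaf ⟨383055, [21, 19, 8, 26], 9⟩) (.node 384433 (.leaf ⟨383970, [20, 2, 12, 19], 9⟩) (.leaf ⟨384433, [20, 23, 10, 19], 5⟩)))))))))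
noncomputable def FB011 : BT Ent := (.node 450845 (.node 408970 (.node 394884 (.node 390630 (.node 388095 (.node 386378 (.node 385325 (.leaf ⟨385212, [20, 24, 18, 14, 25], 5⟩) (.leaf ⟨385325, [2, 3, 6], 2⟩)) (.node 386585 (.leaf ⟨386378, [21, 19, 8, 26], 4⟩) (.node 387409 (.leaf ⟨386585, [20, 16, 19, 2], 1⟩) (.leaf ⟨387409, [19, 26, 8, 22, 4], 4⟩)))) (.node 389780 (.node 388626 (.leaf ⟨388095, [2, 16, 23], 3⟩) (.node 389739 (.leaf ⟨388626, [19, 10, 26, 26], 8⟩) (.leaf ⟨389739, [24, 14, 23, 3], 8⟩))) (.node 389970 (.leaf ⟨389780, [22, 20, 26, 26], 4⟩) (.node 390578 (.leaf ⟨389970, [25, 24, 24], 3⟩) (.leaf ⟨390578, [4, 20, 16, 25, 6], 4⟩))))) (.node 392304 (.node 391778 (.node 390805 (.leaf ⟨390630, [16, 22, 19], 3⟩) (.leaf ⟨390805, [2, 20], 7⟩)) (.node 391814 (.leaf ⟨391778, [21, 12, 21, 10, 12], 4⟩) (.node 392106 (.leaf ⟨391814, [19, 14, 25, 6, 26], 9⟩)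 (.leaf ⟨392106, [21, 21, 26, 24], 9⟩)))) (.node 393220 (.node 392641 (.leaf ⟨392304, [22, 26, 23, 18], 5⟩) (.node 392875 (.leaf ⟨392641, [12, 16, 14, 12], 9⟩) (.leaf ⟨392875, [21, 23, 18, 2], 1⟩))) (.node 393557 (.leaf ⟨393220, [24, 26, 18, 26], 5⟩) (.node 394301 (.leaf ⟨393557, [19, 14, 21, 14, 22], 4⟩) (.leaf ⟨394301, [3, 20, 26, 20], 8⟩)))))) (.node 400675 (.node 397517 (.node 395215 (.node 394934 (.leaf ⟨394884, [21, 4, 22], 5⟩) (.leaf ⟨394934, [19, 19, 4, 2], 9⟩)) (.node 395676 (.leaf ⟨395215, [14, 22, 4], 8⟩) (.node 395849 (.leaf ⟨395676, [20, 3, 23, 8, 19], 8⟩) (.leaf ⟨395849, [20, 12, 19, 4, 23], 9⟩)))) (.node 400065 (.node 398318 (.leaf ⟨397517, [19, 6, 25, 6], 8⟩) (.node 399571 (.leaf ⟨398318, [20, 10, 25, 24, 4], 4⟩) (.leaf ⟨399571, [23, 21, 4, 21], 4⟩))) (.node 400265 (.leaf ⟨400065, [20, 16, 2, 25], 9⟩) (.node 400501 (.leaf ⟨400265, [20,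 26, 18, 22, 8], 5⟩) (.leaf ⟨400501, [24, 21, 26, 23], 5⟩))))) (.node 404148 (.node 403149 (.node 401941 (.leaf ⟨400675, [22, 24, 8, 23, 21], 4⟩) (.node 402886 (.leaf ⟨401941, [12, 20], 3⟩) (.leaf ⟨402886, [20, 25, 22, 20, 16], 4⟩))) (.node 403527 (.leaf ⟨403149, [24, 24, 20, 18, 26], 4⟩) (.node 403589 (.leaf ⟨403527, [2, 8, 19], 3⟩) (.leaf ⟨403589, [20, 10, 16, 20, 22], 4⟩)))) (.node 406878 (.node 404578 (.leaf ⟨404148, [26, 6, 22, 20], 4⟩) (.node 405776 (.leaf ⟨404578, [25, 8, 26, 20], 4⟩) (.leaf ⟨405776, [20, 3, 20, 3, 23], 4⟩))) (.node 406932 (.leaf ⟨406878, [23, 20, 25], 1⟩) (.node 407972 (.leaf ⟨406932, [18, 12, 24, 2], 5⟩) (.leaf ⟨407972, [12, 3, 18], 4⟩))))))) (.node 428136 (.node 414442 (.node 411378 (.node 409123 (.node 408992 (.leaf ⟨408970, [22, 16, 26, 22], 9⟩) (.leaf ⟨408992, [14, 22, 4], 9⟩)) (.node 410337 (.leaf ⟨409123, [25, 18, 26, 10],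 5⟩) (.node 410826 (.leaf ⟨410337, [20, 25, 6, 19, 19], 4⟩) (.leaf ⟨410826, [25, 25, 10, 20], 8⟩)))) (.node 413257 (.node 412862 (.leaf ⟨411378, [20, 12, 24, 6], 5⟩) (.node 412970 (.leaf ⟨412862, [25, 24, 22, 14], 5⟩) (.leaf ⟨412970, [], 2⟩))) (.node 413336 (.leaf ⟨413257, [19, 3, 22, 14, 24], 4⟩) (.node 413691 (.leaf ⟨413336, [23, 23, 6, 20], 8⟩) (.leaf ⟨413691, [25, 25, 6, 21], 4⟩))))) (.node 420372 (.node 417007 (.node 415108 (.leaf ⟨414442, [19, 22, 19, 14, 19], 4⟩) (.leaf ⟨415108, [19, 8, 14, 19, 2], 4⟩)) (.node 417681 (.leaf ⟨417007, [22, 18, 21], 4⟩) (.node 420317 (.leaf ⟨417681, [23, 4, 19], 9⟩) (.leaf ⟨420317, [20, 24, 8, 19], 2⟩)))) (.node 423813 (.node 421188 (.leaf ⟨420372, [20, 22, 25, 24], 8⟩) (.node 422502 (.leaf ⟨421188, [20, 25, 18, 25], 2⟩) (.leaf ⟨422502, [26, 21, 21, 19, 2], 4⟩))) (.node 427190 (.leaf ⟨423813, [12, 4], 1⟩) (.node 427817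 (.leaf ⟨427190, [19, 2, 24, 14], 9⟩) (.leaf ⟨427817, [18, 23, 19, 2], 5⟩)))))) (.node 441042 (.node 434254 (.node 429375 (.node 428302 (.leaf ⟨428136, [22, 6, 22, 16], 4⟩) (.leaf ⟨428302, [20, 14, 18, 19, 10], 5⟩)) (.node 430654 (.leaf ⟨429375, [22, 8, 22, 14], 9⟩) (.node 433453 (.leaf ⟨430654, [20, 2, 22, 18, 12], 4⟩) (.leaf ⟨433453, [25, 8, 10, 14], 9⟩)))) (.node 437545 (.node 434999 (.leaf ⟨434254, [2, 20, 6, 21], 8⟩) (.node 435502 (.leaf ⟨434999, [20, 26, 2, 18], 3⟩) (.leaf ⟨435502, [19, 21, 26, 24, 18], 4⟩))) (.node 437655 (.leaf ⟨437545, [22, 4, 18, 22], 1⟩) (.node 440598 (.leaf ⟨437655, [20, 2, 18, 23], 5⟩) (.leaf ⟨440598, [19, 10, 20], 3⟩))))) (.node 446829 (.node 443954 (.node 442116 (.leaf ⟨441042, [20, 3, 24], 3⟩) (.node 443599 (.leaf ⟨442116, [26, 21, 21, 6, 20], 4⟩) (.leaf ⟨443599, [21, 23, 26], 3⟩))) (.node 445021 (.leaf ⟨443954, [3, 23,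 21, 4], 8⟩) (.node 445099 (.leaf ⟨445021, [23, 3, 14], 5⟩) (.leaf ⟨445099, [20, 23, 19, 8, 26], 9⟩)))) (.node 448953 (.node 447126 (.leaf ⟨446829, [6, 24], 3⟩) (.node 447877 (.leaf ⟨447126, [23, 4, 19], 3⟩) (.leaf ⟨447877, [19, 8, 22, 8, 24], 4⟩))) (.node 449788 (.leaf ⟨448953, [2, 20, 18, 20], 5⟩) (.node 450180 (.leaf ⟨449788, [23, 16, 4, 19], 8⟩) (.leaf ⟨450180, [20, 25, 22, 4, 12], 8⟩)))))))) (.node 486960 (.node 471116 (.node 462148 (.node 458367 (.node 455900 (.node 452544 (.leaf ⟨450845, [22, 8, 18, 22], 9⟩) (.leaf ⟨452544, [23, 21, 2, 12], 9⟩)) (.node 456190 (.leaf ⟨455900, [6, 25], 3⟩) (.node 457960 (.leaf ⟨456190, [12, 3], 2⟩) (.leaf ⟨457960, [3, 20, 26, 20], 9⟩)))) (.node 460219 (.node 458568 (.leaf ⟨458367, [22, 25, 21, 19, 18], 4⟩) (.node 458631 (.leaf ⟨458568, [24, 22, 23], 1⟩) (.leaf ⟨458631, [19, 19, 25, 25], 8⟩))) (.node 460855 (.leaf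 ⟨460219, [22, 19, 6, 19], 5⟩) (.node 460925 (.leaf ⟨460855, [20, 26, 16, 21, 6], 4⟩) (.leaf ⟨460925, [22, 3, 20, 3, 19], 4⟩))))) (.node 466678 (.node 465212 (.node 463608 (.leaf ⟨462148, [19, 14, 22, 10], 5⟩) (.leaf ⟨463608, [19, 19, 19, 25, 22], 4⟩)) (.node 466211 (.leaf ⟨465212, [23, 6, 19, 18], 5⟩) (.node 466545 (.leaf ⟨466211, [19, 24, 2, 12], 8⟩) (.leaf ⟨466545, [20, 20, 24, 26, 19], 8⟩)))) (.node 470097 (.node 467430 (.leaf ⟨466678, [18, 16, 2, 25], 5⟩) (.node 469632 (.leaf ⟨467430, [20, 10, 21, 16], 5⟩) (.leaf ⟨469632, [6, 25, 4], 3⟩))) (.node 470300 (.leaf ⟨470097, [22, 3, 6, 24], 4⟩) (.node 470826 (.leaf ⟨470300, [12, 25, 19, 10], 4⟩) (.leaf ⟨470826, [21, 12, 23, 8, 25], 4⟩)))))) (.node 477074 (.node 473393 (.node 472091 (.node 471340 (.leaf ⟨471116, [20, 22, 25, 24, 18], 9⟩) (.leaf ⟨471340, [20, 23, 26, 10, 25], 4⟩)) (.node 472308 (.leaf ⟨472091,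 [23, 6, 22, 19], 2⟩) (.node 472607 (.leaf ⟨472308, [26, 18, 20, 10], 4⟩) (.leaf ⟨472607, [2, 20, 6, 21], 9⟩)))) (.node 475097 (.node 474197 (.leaf ⟨473393, [26, 16, 18], 3⟩) (.node 474208 (.leaf ⟨474197, [20, 20, 6, 21], 3⟩) (.leaf ⟨474208, [22, 24, 4], 3⟩))) (.node 476163 (.leaf ⟨475097, [20, 26, 18, 22, 3], 5⟩) (.node 476589 (.leaf ⟨476163, [23, 2, 19], 3⟩) (.leaf ⟨476589, [22, 10, 26, 23], 5⟩))))) (.node 482279 (.node 479180 (.node 478788 (.leaf ⟨477074, [25, 6, 22, 3], 8⟩) (.node 478960 (.leaf ⟨478788, [19, 22, 25, 14], 3⟩) (.leaf ⟨478960, [22, 22, 20], 2⟩))) (.node 480357 (.leaf ⟨479180, [19, 19, 4, 19, 26], 4⟩) (.node 481109 (.leaf ⟨480357, [24, 25, 6, 26, 23], 4⟩) (.leaf ⟨481109, [25, 21, 2], 3⟩)))) (.node 485952 (.node 482968 (.leaf ⟨482279, [2, 12, 20, 14], 8⟩) (.node 485727 (.leaf ⟨482968, [25, 18, 14, 26], 5⟩) (.leaf ⟨485727, [22, 20, 6, 21,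 12], 4⟩))) (.node 486148 (.leaf ⟨485952, [24, 16, 22, 22], 4⟩) (.node 486821 (.leaf ⟨486148, [6, 25, 12, 18], 4⟩) (.leaf ⟨486821, [21, 23, 23, 8], 8⟩))))))) (.node 497692 (.node 493242 (.node 490364 (.node 488812 (.node 487995 (.leaf ⟨486960, [12, 4], 2⟩) (.leaf ⟨487995, [24, 12, 21], 5⟩)) (.node 489588 (.leaf ⟨488812, [10, 23, 20, 25], 8⟩) (.node 490251 (.leaf ⟨489588, [6, 25, 25, 22], 4⟩) (.leaf ⟨490251, [20, 20, 18, 20], 5⟩)))) (.node 491469 (.node 490703 (.leaf ⟨490364, [19, 6, 16, 2, 22], 4⟩) (.node 491205 (.leaf ⟨490703, [20, 22, 24, 26], 1⟩) (.leaf ⟨491205, [20, 24, 25, 20], 3⟩))) (.node 491927 (.leaf ⟨491469, [24, 21, 6, 16, 23], 4⟩) (.node 493058 (.leaf ⟨491927, [19, 21, 23, 6], 2⟩) (.leaf ⟨493058, [3, 20, 12, 25], 8⟩))))) (.node 494332 (.node 493389 (.node 493243 (.leaf ⟨493242, [], 0⟩) (.leaf ⟨493243, [18, 2, 4, 12], 5⟩)) (.node 493992 (.leaf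 ⟨493389, [20, 25, 25, 6, 22], 9⟩) (.node 494275 (.leaf ⟨493992, [24, 3, 10, 23], 9⟩) (.leaf ⟨494275, [23, 6, 24, 19, 23], 4⟩)))) (.node 495382 (.node 494960 (.leaf ⟨494332, [2, 25, 24, 10], 9⟩) (.node 495037 (.leaf ⟨494960, [2, 22, 26, 18], 5⟩) (.leaf ⟨495037, [24, 3, 10, 23], 8⟩))) (.node 495775 (.leaf ⟨495382, [24, 8, 26, 20], 9⟩) (.node 496406 (.leaf ⟨495775, [25, 20, 22], 1⟩) (.leaf ⟨496406, [19, 25, 8, 23], 8⟩)))))) (.node 503511 (.node 499946 (.node 498121 (.node 497705 (.leaf ⟨497692, [19, 4, 10, 25], 5⟩) (.leaf ⟨497705, [21, 25, 18, 22], 5⟩)) (.node 498982 (.leaf ⟨498121, [20, 25, 25, 6, 22], 8⟩) (.node 499470 (.leaf ⟨498982, [22, 19, 18, 20, 23], 5⟩) (.leaf ⟨499470, [19, 21, 18, 23, 6], 4⟩)))) (.node 502366 (.node 500340 (.leaf ⟨499946, [23, 26, 19, 18], 5⟩) (.node 500409 (.leaf ⟨500340, [4, 12], 9⟩) (.leaf ⟨500409, [24, 20, 6, 21], 5⟩))) (.node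 502708 (.leaf ⟨502366, [19, 19, 10, 20, 12], 4⟩) (.node 502743 (.leaf ⟨502708, [21, 23, 18, 2], 2⟩) (.leaf ⟨502743, [14, 10, 24, 25], 4⟩))))) (.node 507960 (.node 504708 (.node 503587 (.leaf ⟨503511, [20, 22, 24, 18], 3⟩) (.node 503960 (.leaf ⟨503587, [20, 24, 4, 16], 5⟩) (.leaf ⟨503960, [20, 26, 4, 22, 25], 9⟩))) (.node 505688 (.leaf ⟨504708, [12, 14, 24, 20], 8⟩) (.node 505736 (.leaf ⟨505688, [24, 12, 20, 20], 5⟩) (.leaf ⟨505736, [20, 16, 25, 4], 3⟩)))) (.node 509638 (.node 508430 (.leaf ⟨507960, [2, 4, 22], 5⟩) (.node 509165 (.leaf ⟨508430, [20, 22, 2, 20, 21], 9⟩) (.leaf ⟨509165, [20, 24, 22, 14], 3⟩))) (.node 509919 (.leaf ⟨509638, [19, 6, 18, 21], 5⟩) (.node 509991 (.leaf ⟨509919, [21, 3, 25, 19, 26], 4⟩) (.leaf ⟨509991, [22, 4, 16, 22], 4⟩)))))))))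
noncomputable def FB01 : BT Ent := .node 385212 FB010 FB011
noncomputable def FB0 : BT Ent := .node 244860 FB00 FB01
noncomputable def FB100 : BT Ent := (.node 566695 (.node 537460 (.node 523907 (.node 516631 (.node 511630 (.node 510869 (.node 510544 (.leaf ⟨510309, [26, 2, 19], 3⟩) (.leaf ⟨510544, [19, 4, 24], 1⟩)) (.node 511070 (.leaf ⟨510869, [20, 22, 23, 3, 24], 4⟩) (.node 511217 (.leaf ⟨511070, [19, 26, 23, 19], 1⟩) (.leaf ⟨511217, [19, 6, 24, 16, 24], 4⟩)))) (.node 515038 (.node 512665 (.leaf ⟨511630, [21, 19, 4, 26], 8⟩) (.node 514000 (.leaf ⟨512665, [22, 18, 16, 3], 4⟩) (.leaf ⟨514000, [19, 22, 19, 4, 19], 4⟩))) (.node 515501 (.leaf ⟨515038, [20, 16, 25, 25], 5⟩) (.node 515830 (.leaf ⟨515501, [23, 20, 14], 1⟩) (.leaf ⟨515830, [21, 8, 26], 3⟩))))) (.node 521764 (.node 520800 (.node 519920 (.leaf ⟨516631, [21, 6, 22], 2⟩) (.leaf ⟨519920, [12, 4,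 18], 1⟩)) (.node 521182 (.leaf ⟨520800, [19, 24, 20, 10], 1⟩) (.node 521439 (.leaf ⟨521182, [20, 12, 25, 3, 10], 8⟩) (.leaf ⟨521439, [22, 22, 23, 14], 9⟩)))) (.node 522907 (.node 521864 (.leaf ⟨521764, [22, 26, 16, 23], 8⟩) (.node 522553 (.leaf ⟨521864, [19, 22, 25, 4], 5⟩) (.leaf ⟨522553, [19, 4, 23, 14], 8⟩))) (.node 523060 (.leaf ⟨522907, [21, 10, 24, 22, 2], 4⟩) (.node 523352 (.leaf ⟨523060, [20, 26, 24, 21], 5⟩) (.leaf ⟨523352, [24, 22, 23], 2⟩)))))) (.node 529893 (.node 526149 (.node 525161 (.node 524775 (.leaf ⟨523907, [22, 18, 23, 25], 5⟩) (.leaf ⟨524775, [16, 25, 6, 25], 8⟩)) (.node 525197 (.leaf ⟨525161, [19, 10, 26, 26], 9⟩) (.node 525370 (.leaf ⟨525197, [19, 10, 26, 26], 3⟩) (.leaf ⟨525370, [20, 12, 25, 3, 10], 9⟩)))) (.node 527572 (.node 526322 (.leaf ⟨526149, [2, 8, 26, 18], 5⟩) (.node 527375 (.leaf ⟨526322, [2, 12, 23, 20], 9⟩) (.leaf ⟨527375,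 [19, 14, 19, 22, 14], 4⟩))) (.node 527605 (.leaf ⟨527572, [22, 6, 21], 3⟩) (.node 528253 (.leaf ⟨527605, [20, 23, 25, 18, 23], 4⟩) (.leaf ⟨528253, [6, 26, 23, 6], 4⟩))))) (.node 532624 (.node 530730 (.node 529897 (.leaf ⟨529893, [22, 4, 25, 12, 21], 4⟩) (.node 530620 (.leaf ⟨529897, [16, 25], 3⟩) (.leaf ⟨530620, [16, 18, 20, 10], 4⟩))) (.node 531380 (.leaf ⟨530730, [20, 23, 6, 20, 14], 8⟩) (.node 531785 (.leaf ⟨531380, [20, 8, 21, 19], 9⟩) (.leaf ⟨531785, [25, 18, 23, 12], 8⟩)))) (.node 534692 (.node 532843 (.leaf ⟨532624, [4, 10, 8], 3⟩) (.node 534216 (.leaf ⟨532843, [23, 6, 19], 8⟩) (.leaf ⟨534216, [20, 22, 10, 25, 8], 4⟩))) (.node 535125 (.leaf ⟨534692, [25, 23, 26], 3⟩) (.node 537031 (.leaf ⟨535125, [21, 20, 16, 4], 9⟩) (.leaf ⟨537031, [20, 22, 20, 22], 5⟩))))))) (.node 552866 (.node 546724 (.node 539869 (.node 537724 (.node 537702 (.leaf ⟨537460,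 [2, 21], 7⟩) (.leaf ⟨537702, [24, 3, 26], 3⟩)) (.node 538158 (.leaf ⟨537724, [19, 4, 23, 14], 9⟩) (.node 538277 (.leaf ⟨538158, [25, 20, 2, 6], 8⟩) (.leaf ⟨538277, [20, 3, 23, 8, 19], 9⟩)))) (.node 545028 (.node 540039 (.leaf ⟨539869, [3, 23, 21, 4], 9⟩) (.node 541704 (.leaf ⟨540039, [21, 23, 14, 16], 5⟩) (.leaf ⟨541704, [12, 22, 2, 22], 4⟩))) (.node 546200 (.leaf ⟨545028, [23, 26, 22, 22], 4⟩) (.node 546505 (.leaf ⟨546200, [20, 26, 21, 25], 4⟩) (.leaf ⟨546505, [24, 22, 8, 19, 4], 4⟩))))) (.node 548601 (.node 546937 (.node 546885 (.leaf ⟨546724, [21, 6, 20, 16], 9⟩) (.leaf ⟨546885, [22, 18, 14, 24, 8], 4⟩)) (.node 547912 (.leaf ⟨546937, [6, 23, 10, 26], 4⟩) (.node 548543 (.leaf ⟨547912, [20, 12, 22, 12], 8⟩) (.leaf ⟨548543, [16, 3, 22, 12], 8⟩)))) (.node 550916 (.node 549532 (.leaf ⟨548601, [10, 24, 14, 23], 4⟩) (.node 550097 (.leaf ⟨549532, [20, 26,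 21, 25, 18], 4⟩) (.leaf ⟨550097, [19, 12, 16, 21, 21], 4⟩))) (.node 551320 (.leaf ⟨550916, [25, 14, 18, 20], 5⟩) (.node 551665 (.leaf ⟨551320, [21, 12, 24, 3, 10], 4⟩) (.leaf ⟨551665, [19, 4, 23, 16], 3⟩)))))) (.node 557919 (.node 554233 (.node 553162 (.node 553019 (.leaf ⟨552866, [19, 16, 24, 20, 14], 4⟩) (.leaf ⟨553019, [19, 21, 26, 12, 22], 4⟩)) (.node 553208 (.leaf ⟨553162, [19, 23, 3, 2], 9⟩) (.node 553313 (.leaf ⟨553208, [20, 22, 25, 24], 9⟩) (.leaf ⟨553313, [24, 21, 24, 22], 2⟩)))) (.node 555834 (.node 554301 (.leaf ⟨554233, [22, 2, 21, 23], 5⟩) (.node 554377 (.leaf ⟨554301, [21, 18, 21, 18], 5⟩) (.leaf ⟨554377, [20, 3, 21, 19, 18], 8⟩))) (.node 556136 (.leaf ⟨555834, [19, 19, 6, 20, 20], 4⟩) (.node 557630 (.leaf ⟨556136, [24, 24, 22, 2], 5⟩) (.leaf ⟨557630, [23, 4, 20, 21], 4⟩))))) (.node 561843 (.node 559281 (.node 558893 (.leaf ⟨557919, [19,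 14, 22, 26, 19], 4⟩) (.node 559215 (.leaf ⟨558893, [22, 20, 3, 8, 18], 9⟩) (.leaf ⟨559215, [12, 26, 14], 1⟩))) (.node 559333 (.leaf ⟨559281, [19, 6, 19, 2], 9⟩) (.node 561558 (.leaf ⟨559333, [24, 16, 4, 23], 1⟩) (.leaf ⟨561558, [19, 23, 20, 14], 3⟩)))) (.node 564093 (.node 562191 (.leaf ⟨561843, [14, 25], 3⟩) (.node 562821 (.leaf ⟨562191, [20, 20, 3, 20], 5⟩) (.leaf ⟨562821, [20, 22, 23, 20], 5⟩))) (.node 564445 (.leaf ⟨564093, [20, 25, 10, 24, 20], 4⟩) (.node 566192 (.leaf ⟨564445, [20, 23, 22, 23, 19], 8⟩) (.leaf ⟨566192, [19, 19, 14, 21, 25], 4⟩)))))))) (.node 598807 (.node 582674 (.node 576873 (.node 570460 (.node 567428 (.node 567147 (.leaf ⟨566695, [26, 10, 25], 3⟩) (.leaf ⟨567147, [25, 18, 26, 12], 5⟩)) (.node 569061 (.leaf ⟨567428, [19, 26, 14], 3⟩) (.node 570453 (.leaf ⟨569061, [20, 25, 23, 19], 5⟩) (.leaf ⟨570453, [19, 19, 21, 16, 25], 4⟩))))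 (.node 573078 (.node 570926 (.leaf ⟨570460, [20, 22, 19, 23, 3], 9⟩) (.node 571179 (.leaf ⟨570926, [20, 2, 20, 3, 23], 4⟩) (.leaf ⟨571179, [12, 20, 4, 20], 4⟩))) (.node 573266 (.leaf ⟨573078, [20, 24, 24, 19, 18], 5⟩) (.node 576227 (.leaf ⟨573266, [19, 16, 14], 3⟩) (.leaf ⟨576227, [19, 18, 19, 6], 5⟩))))) (.node 579097 (.node 577967 (.node 577266 (.leaf ⟨576873, [21, 26, 12], 3⟩) (.leaf ⟨577266, [20, 21, 19, 12], 1⟩)) (.node 578092 (.leaf ⟨577967, [21, 10, 16], 5⟩) (.node 579086 (.leaf ⟨578092, [23, 21, 2, 12], 8⟩) (.leaf ⟨579086, [10, 24, 22, 23], 9⟩)))) (.node 579916 (.node 579106 (.leaf ⟨579097, [], 9⟩) (.node 579885 (.leaf ⟨579106, [26, 19, 6, 19, 12], 4⟩) (.leaf ⟨579885, [20, 25, 23, 19, 19], 4⟩))) (.node 580524 (.leaf ⟨579916, [24, 18, 6, 23], 4⟩) (.node 582193 (.leaf ⟨580524, [2, 4, 16, 19], 8⟩) (.leaf ⟨582193, [22, 3, 6, 21], 3⟩)))))) (.node 591418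 (.node 586704 (.node 583730 (.node 583559 (.leaf ⟨582674, [4, 12], 3⟩) (.leaf ⟨583559, [21, 16, 22, 4, 10], 4⟩)) (.node 584264 (.leaf ⟨583730, [19, 10, 18, 23, 14], 4⟩) (.node 585015 (.leaf ⟨584264, [21, 10, 16, 18], 5⟩) (.leaf ⟨585015, [20, 22, 26, 2], 8⟩)))) (.node 587537 (.node 587203 (.leaf ⟨586704, [2, 16, 26], 3⟩) (.node 587473 (.leaf ⟨587203, [24, 24, 26, 6, 22], 4⟩) (.leaf ⟨587473, [20, 3, 16, 26], 3⟩))) (.node 589851 (.leaf ⟨587537, [20, 20, 23], 2⟩) (.node 591080 (.leaf ⟨589851, [24, 14, 20, 22], 4⟩) (.leaf ⟨591080, [20, 22, 22, 6], 4⟩))))) (.node 595285 (.node 592358 (.node 591556 (.leaf ⟨591418, [21, 10, 19, 25, 4], 4⟩) (.node 591981 (.leaf ⟨591556, [25, 18, 20, 2], 9⟩) (.leaf ⟨591981, [19, 25, 8, 23], 9⟩))) (.node 593317 (.leaf ⟨592358, [20, 24, 22, 4, 24], 8⟩) (.node 594366 (.leaf ⟨593317, [25, 19, 23, 19], 4⟩) (.leaf ⟨594366, [26, 16],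 3⟩)))) (.node 596772 (.node 595347 (.leaf ⟨595285, [19, 23, 14, 12], 9⟩) (.node 596269 (.leaf ⟨595347, [23, 14, 23, 22], 4⟩) (.leaf ⟨596269, [19, 6, 19, 2], 8⟩))) (.node 597618 (.leaf ⟨596772, [21, 10, 25, 10], 3⟩) (.node 598072 (.leaf ⟨597618, [20, 20, 23], 4⟩) (.leaf ⟨598072, [3, 20, 10, 25], 4⟩))))))) (.node 622317 (.node 610556 (.node 605401 (.node 602314 (.node 601249 (.leaf ⟨598807, [20, 26, 4, 22, 25], 4⟩) (.leaf ⟨601249, [19, 4, 21, 3, 21], 4⟩)) (.node 604574 (.leaf ⟨602314, [20, 12, 18, 16], 5⟩) (.node 604624 (.leaf ⟨604574, [19, 25, 22, 26], 4⟩) (.leaf ⟨604624, [22, 23, 16], 1⟩)))) (.node 606771 (.node 605576 (.leaf ⟨605401, [22, 22, 20, 24], 4⟩) (.node 606366 (.leaf ⟨605576, [12, 14, 22, 10], 8⟩) (.leaf ⟨606366, [26, 16, 8, 10], 4⟩))) (.node 607759 (.leaf ⟨606771, [20, 4, 2, 24, 26], 8⟩) (.node 609304 (.leaf ⟨607759, [20, 3, 19], 5⟩) (.leaf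 ⟨609304, [20, 20, 16, 26, 23], 4⟩))))) (.node 613587 (.node 612240 (.node 611116 (.leaf ⟨610556, [21, 24, 22, 23], 5⟩) (.leaf ⟨611116, [20, 16, 19, 2], 2⟩)) (.node 612808 (.leaf ⟨612240, [25, 14, 23, 3], 4⟩) (.node 613242 (.leaf ⟨612808, [20, 22, 23, 6], 1⟩) (.leaf ⟨613242, [20, 22, 25, 24, 18], 8⟩)))) (.node 616335 (.node 614791 (.leaf ⟨613587, [20, 12, 22], 3⟩) (.node 616074 (.leaf ⟨614791, [22, 8, 16, 22], 8⟩) (.leaf ⟨616074, [22, 8, 14, 23, 16], 8⟩))) (.node 618417 (.leaf ⟨616335, [24, 19, 10, 20, 25], 8⟩) (.node 621185 (.leaf ⟨618417, [24, 12, 21, 18], 5⟩) (.leaf ⟨621185, [20, 25, 12, 23], 5⟩)))))) (.node 628357 (.node 626302 (.node 624488 (.node 623890 (.leaf ⟨622317, [12, 3], 9⟩) (.leaf ⟨623890, [16, 25, 6, 14], 4⟩)) (.node 626056 (.leaf ⟨624488, [25, 2, 18, 20], 5⟩) (.node 626301 (.leaf ⟨626056, [20, 20, 10, 2], 2⟩) (.leaf ⟨626301, [26, 2, 16],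 5⟩)))) (.node 627947 (.node 627240 (.leaf ⟨626302, [21, 18, 20, 20], 5⟩) (.node 627647 (.leaf ⟨627240, [26, 19, 24], 4⟩) (.leaf ⟨627647, [14, 19, 16], 9⟩))) (.node 628169 (.leaf ⟨627947, [23, 6, 22, 19], 1⟩) (.node 628319 (.leaf ⟨628169, [8, 18, 6, 21], 5⟩) (.leaf ⟨628319, [21, 10, 22, 4], 8⟩))))) (.node 631022 (.node 629889 (.node 629565 (.leaf ⟨628357, [22, 14, 23], 5⟩) (.node 629813 (.leaf ⟨629565, [20, 18, 23, 22], 5⟩) (.leaf ⟨629813, [21, 18, 22, 14], 9⟩))) (.node 629949 (.leaf ⟨629889, [22, 14, 24, 25], 4⟩) (.node 630128 (.leaf ⟨629949, [20, 2, 22, 4, 12], 4⟩) (.leaf ⟨630128, [22, 20, 22, 2], 5⟩)))) (.node 631876 (.node 631505 (.leaf ⟨631022, [24, 2, 26, 19, 4], 4⟩) (.node 631533 (.leaf ⟨631505, [20, 25, 23, 3, 10], 5⟩) (.leaf ⟨631533, [25, 4, 23, 3], 4⟩))) (.node 631914 (.leaf ⟨631876, [22, 4, 23, 26, 14], 4⟩) (.node 632559 (.leaf ⟨631914, [22,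 16, 22, 14], 4⟩) (.leaf ⟨632559, [20, 26, 21, 19, 24], 4⟩)))))))))
noncomputable def FB101 : BT Ent := (.node 697707 (.node 670920 (.node 655463 (.node 644340 (.node 637530 (.node 635366 (.node 634364 (.leaf ⟨633062, [23, 16, 6, 19], 5⟩) (.leaf ⟨634364, [20, 18, 2, 3], 5⟩)) (.node 635759 (.leaf ⟨635366, [22, 20, 4, 18], 9⟩) (.node 637448 (.leaf ⟨635759, [6, 25, 4], 8⟩) (.leaf ⟨637448, [20, 22, 6, 23], 5⟩)))) (.node 640216 (.node 638045 (.leaf ⟨637530, [24, 26, 23], 3⟩) (.node 639944 (.leaf ⟨638045, [24, 25, 21], 3⟩) (.leaf ⟨639944, [20, 20, 20, 10, 12], 8⟩))) (.node 640266 (.leaf ⟨640216, [18, 14, 25, 20], 5⟩) (.node 641689 (.leaf ⟨640266, [26, 6, 16], 5⟩) (.leaf ⟨641689, [23, 6, 19], 9⟩))))) (.node 648374 (.node 644738 (.node 644533 (.leaf ⟨644340, [23, 14, 16, 25], 9⟩) (.leaf ⟨644533, [20, 3, 2, 24], 5⟩)) (.node 645157 (.leaf ⟨644738, [20, 2, 24, 26,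 12], 4⟩) (.node 645753 (.leaf ⟨645157, [2, 25, 24, 10], 8⟩) (.leaf ⟨645753, [20, 23, 3, 22, 26], 8⟩)))) (.node 651300 (.node 648393 (.leaf ⟨648374, [25, 6, 20, 22], 4⟩) (.node 650550 (.leaf ⟨648393, [19, 19, 25, 3], 1⟩) (.leaf ⟨650550, [22, 23, 20], 3⟩))) (.node 652380 (.leaf ⟨651300, [22, 19, 4, 19], 5⟩) (.node 655007 (.leaf ⟨652380, [22, 8, 22, 14], 5⟩) (.leaf ⟨655007, [25, 23, 22, 4], 5⟩)))))) (.node 663001 (.node 659684 (.node 656786 (.node 655540 (.leaf ⟨655463, [24, 12, 23], 1⟩) (.leaf ⟨655540, [19, 8, 12, 16], 3⟩)) (.node 657220 (.leaf ⟨656786, [22, 22, 20, 24, 18], 4⟩) (.node 657300 (.leaf ⟨657220, [6, 16, 19], 5⟩) (.leaf ⟨657300, [22, 20, 4], 9⟩)))) (.node 661016 (.node 660183 (.leaf ⟨659684, [10, 22, 20], 5⟩) (.node 660579 (.leaf ⟨660183, [23, 6, 19, 18], 9⟩) (.leaf ⟨660579, [21, 19, 18, 6], 5⟩))) (.node 662384 (.leaf ⟨661016, [20, 3, 16, 8,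 26], 9⟩) (.node 662409 (.leaf ⟨662384, [19, 26, 23, 19], 2⟩) (.leaf ⟨662409, [4, 16, 2], 3⟩))))) (.node 664596 (.node 664404 (.node 663870 (.leaf ⟨663001, [10, 19, 18, 16], 4⟩) (.node 663960 (.leaf ⟨663870, [20, 22, 22, 24], 2⟩) (.leaf ⟨663960, [24, 4, 24, 25], 4⟩))) (.node 664498 (.leaf ⟨664404, [22, 25, 21, 19], 4⟩) (.node 664586 (.leaf ⟨664498, [12, 18], 1⟩) (.leaf ⟨664586, [22, 26, 23], 3⟩)))) (.node 669192 (.node 665408 (.leaf ⟨664596, [20, 24, 4, 25], 5⟩) (.node 666259 (.leaf ⟨665408, [20, 24, 22, 26, 21], 4⟩) (.leaf ⟨666259, [23, 25, 10, 24, 22], 4⟩))) (.node 670595 (.leaf ⟨669192, [2, 19, 18, 22], 5⟩) (.node 670625 (.leaf ⟨670595, [23, 6, 19, 3], 9⟩) (.leaf ⟨670625, [20, 22, 26, 2], 3⟩))))))) (.node 680871 (.node 676322 (.node 674440 (.node 671437 (.node 671201 (.leaf ⟨670920, [22, 26, 14, 24, 14], 4⟩) (.leaf ⟨671201, [12], 3⟩)) (.node 672807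 (.leaf ⟨671437, [24, 6, 23], 3⟩) (.node 673977 (.leaf ⟨672807, [22, 3, 18, 23], 5⟩) (.leaf ⟨673977, [20, 8, 23, 19], 8⟩)))) (.node 675447 (.node 674592 (.leaf ⟨674440, [20, 3, 24, 8], 5⟩) (.node 675281 (.leaf ⟨674592, [19, 24, 26, 22, 23], 9⟩) (.leaf ⟨675281, [2, 6, 18, 22], 9⟩))) (.node 676050 (.leaf ⟨675447, [21, 21, 3, 20], 5⟩) (.node 676090 (.leaf ⟨676050, [22, 14, 23, 18], 5⟩) (.leaf ⟨676090, [19, 24, 20, 3], 5⟩))))) (.node 679229 (.node 678007 (.node 677757 (.leaf ⟨676322, [22, 6, 10, 21], 9⟩) (.leaf ⟨677757, [22, 22, 20], 1⟩)) (.node 678309 (.leaf ⟨678007, [22, 26, 3, 20, 24], 4⟩) (.node 679003 (.leaf ⟨678309, [22, 22, 25, 14], 9⟩) (.leaf ⟨679003, [23, 23, 21], 5⟩)))) (.node 680294 (.node 679553 (.leaf ⟨679229, [19, 2, 19, 22, 14], 4⟩) (.node 680046 (.leaf ⟨679553, [22, 22, 18, 2, 25], 4⟩) (.leaf ⟨680046, [6, 10, 25, 18], 5⟩))) (.node 680323 (.leaf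 ⟨680294, [22, 6, 10, 21], 8⟩) (.node 680502 (.leaf ⟨680323, [20, 24, 21, 16], 4⟩) (.leaf ⟨680502, [21, 19, 3, 26], 8⟩)))))) (.node 689932 (.node 683595 (.node 681895 (.node 681425 (.leaf ⟨680871, [20, 22, 22, 24], 3⟩) (.leaf ⟨681425, [20, 3, 20, 14, 23], 4⟩)) (.node 682256 (.leaf ⟨681895, [2, 4, 12, 26], 4⟩) (.node 682758 (.leaf ⟨682256, [22, 18, 14, 26], 5⟩) (.leaf ⟨682758, [21, 6, 22], 9⟩)))) (.node 685785 (.node 683872 (.leaf ⟨683595, [22, 20, 26, 14], 9⟩) (.node 684929 (.leaf ⟨683872, [22, 20, 4], 3⟩) (.leaf ⟨684929, [18, 22, 14, 10], 5⟩))) (.node 688202 (.leaf ⟨685785, [20, 20, 16, 25, 10], 9⟩) (.node 689675 (.leaf ⟨688202, [19, 4, 21, 12, 21], 4⟩) (.leaf ⟨689675, [19, 10, 22, 16, 10], 8⟩))))) (.node 692273 (.node 690580 (.node 690341 (.leaf ⟨689932, [24, 24, 24], 3⟩) (.node 690495 (.leaf ⟨690341, [19, 2, 24, 14, 12], 4⟩) (.leaf ⟨690495, [20, 18,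 22, 22, 24], 5⟩))) (.node 691324 (.leaf ⟨690580, [23, 2, 24, 21, 19], 4⟩) (.node 691917 (.leaf ⟨691324, [6, 25, 3, 12], 8⟩) (.leaf ⟨691917, [23, 18, 21, 16], 5⟩)))) (.node 694348 (.node 692475 (.leaf ⟨692273, [25, 3, 14, 23, 18], 4⟩) (.node 693293 (.leaf ⟨692475, [3, 12, 18, 24], 5⟩) (.leaf ⟨693293, [19, 10, 19, 26, 23], 4⟩))) (.node 696215 (.leaf ⟨694348, [20, 25, 23, 19, 19], 9⟩) (.node 696715 (.leaf ⟨696215, [14, 26, 14, 25], 4⟩) (.leaf ⟨696715, [19, 19, 22, 20, 6], 9⟩)))))))) (.node 719637 (.node 711011 (.node 703288 (.node 700107 (.node 698719 (.node 698436 (.leaf ⟨697707, [23, 20, 14], 2⟩) (.leaf ⟨698436, [20, 26, 14, 16], 5⟩)) (.node 699003 (.leaf ⟨698719, [20, 12, 22, 12], 9⟩) (.node 699325 (.leaf ⟨699003, [19, 2, 24, 10, 26], 8⟩) (.leaf ⟨699325, [22, 23, 14, 16], 4⟩)))) (.node 702416 (.node 701503 (.leaf ⟨700107, [12, 3], 3⟩) (.node 702151 (.leaf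 ⟨701503, [25, 2, 8], 5⟩) (.leaf ⟨702151, [19, 19, 22, 16], 4⟩))) (.node 702682 (.leaf ⟨702416, [2, 4, 2, 6], 8⟩) (.node 702897 (.leaf ⟨702682, [20, 23, 25, 23], 4⟩) (.leaf ⟨702897, [21, 23, 23, 3], 9⟩))))) (.node 706494 (.node 704308 (.node 704297 (.leaf ⟨703288, [22, 19, 3, 16, 26], 8⟩) (.leaf ⟨704297, [19, 22, 2, 19, 23], 4⟩)) (.node 704336 (.leaf ⟨704308, [20, 4, 16, 8], 5⟩) (.node 704346 (.leaf ⟨704336, [20, 22, 19, 23], 4⟩) (.leaf ⟨704346, [20, 22, 16, 8, 26], 9⟩)))) (.node 708625 (.node 706851 (.leaf ⟨706494, [19, 2, 24, 10, 26], 9⟩) (.node 707617 (.leaf ⟨706851, [20, 4, 14, 26, 23], 4⟩) (.leaf ⟨707617, [22, 18, 16], 3⟩))) (.node 708680 (.leaf ⟨708625, [20, 22, 22, 22], 5⟩) (.node 710139 (.leaf ⟨708680, [23, 19, 26], 3⟩) (.leaf ⟨710139, [26, 6, 22, 20], 9⟩)))))) (.node 715553 (.node 713057 (.node 711272 (.node 711035 (.leaf ⟨711011, [20, 26, 21,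 4, 2], 9⟩) (.leaf ⟨711035, [12, 25, 19, 12], 4⟩)) (.node 711950 (.leaf ⟨711272, [20, 3, 23, 23], 5⟩) (.node 712461 (.leaf ⟨711950, [2, 8, 26], 5⟩) (.leaf ⟨712461, [10, 8], 3⟩)))) (.node 713920 (.node 713800 (.leaf ⟨713057, [25, 8, 10, 14], 8⟩) (.node 713830 (.leaf ⟨713800, [12, 3, 18], 9⟩) (.leaf ⟨713830, [2, 22, 24], 3⟩))) (.node 714544 (.leaf ⟨713920, [20, 22, 19, 26], 3⟩) (.node 714696 (.leaf ⟨714544, [22, 10, 25, 6], 1⟩) (.leaf ⟨714696, [19, 19, 22, 16], 9⟩))))) (.node 717202 (.node 716362 (.node 715574 (.leaf ⟨715553, [23, 3, 21], 3⟩) (.node 716000 (.leaf ⟨715574, [20, 24, 24, 19], 5⟩) (.leaf ⟨716000, [21, 18, 21], 5⟩))) (.node 716571 (.leaf ⟨716362, [20, 24, 18, 26, 16], 5⟩) (.node 716593 (.leaf ⟨716571, [19, 26, 10, 25, 2], 4⟩) (.leaf ⟨716593, [19, 22, 4, 19, 21], 9⟩)))) (.node 717785 (.node 717652 (.leaf ⟨717202, [16, 20, 6], 9⟩) (.node 717726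 (.leaf ⟨717652, [19, 8, 26, 8, 21], 4⟩) (.leaf ⟨717726, [21, 24, 2, 3], 3⟩))) (.node 718217 (.leaf ⟨717785, [24, 25, 4, 2], 8⟩) (.node 718573 (.leaf ⟨718217, [20, 18, 19], 5⟩) (.leaf ⟨718573, [23, 12, 22], 1⟩))))))) (.node 731262 (.node 724724 (.node 722114 (.node 720314 (.node 719853 (.leaf ⟨719637, [10, 25, 19, 12], 4⟩) (.leaf ⟨719853, [20, 18, 24, 12, 20], 8⟩)) (.node 720414 (.leaf ⟨720314, [22, 22, 25, 14], 8⟩) (.node 721913 (.leaf ⟨720414, [4, 16, 8], 3⟩) (.leaf ⟨721913, [24, 12, 23, 3], 4⟩)))) (.node 723953 (.node 722635 (.leaf ⟨722114, [24, 24, 12, 22], 8⟩) (.node 723171 (.leaf ⟨722635, [3, 22, 18], 5⟩) (.leaf ⟨723171, [20, 4, 24, 16], 4⟩))) (.node 724439 (.leaf ⟨723953, [21, 19, 26], 9⟩) (.node 724514 (.leaf ⟨724439, [20, 22, 18, 24, 14], 5⟩) (.leaf ⟨724514, [25, 4, 23, 8], 4⟩))))) (.node 727709 (.node 725512 (.node 725164 (.leaf ⟨724724, [4,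 14, 24, 25], 9⟩) (.leaf ⟨725164, [24, 22, 25, 18, 16], 4⟩)) (.node 726003 (.leaf ⟨725512, [20, 22, 14, 23, 16], 4⟩) (.node 727685 (.leaf ⟨726003, [21, 4, 14, 26], 8⟩) (.leaf ⟨727685, [20, 21, 4, 16, 2], 8⟩)))) (.node 729751 (.node 727871 (.leaf ⟨727709, [10, 22, 26, 22], 4⟩) (.node 728435 (.leaf ⟨727871, [3, 23, 21, 24, 26], 4⟩) (.leaf ⟨728435, [23, 2, 24], 2⟩))) (.node 730193 (.leaf ⟨729751, [12, 14, 24, 20], 9⟩) (.node 730780 (.leaf ⟨730193, [20, 8, 25, 2, 25], 4⟩) (.leaf ⟨730780, [21, 4, 16, 22], 5⟩)))))) (.node 738946 (.node 734409 (.node 731906 (.node 731381 (.leaf ⟨731262, [21, 25, 8, 24], 5⟩) (.leaf ⟨731381, [4, 10, 12], 3⟩)) (.node 732100 (.leaf ⟨731906, [20, 20, 16, 23, 12], 4⟩) (.node 733191 (.leaf ⟨732100, [21, 4, 14, 26], 9⟩) (.leaf ⟨733191, [20, 22, 25, 18, 25], 4⟩)))) (.node 736695 (.node 734458 (.leaf ⟨734409, [19, 14, 22, 3, 26], 4⟩) (.node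 734595 (.leaf ⟨734458, [20, 20, 26, 23], 3⟩) (.leaf ⟨734595, [22, 26, 23], 5⟩))) (.node 738411 (.leaf ⟨736695, [21, 23, 26, 2, 24], 4⟩) (.node 738641 (.leaf ⟨738411, [22, 20], 3⟩) (.leaf ⟨738641, [21, 20, 16, 4], 8⟩))))) (.node 744138 (.node 742743 (.node 740205 (.leaf ⟨738946, [20, 16, 20, 20], 5⟩) (.node 740968 (.leaf ⟨740205, [20, 25, 21, 23, 21], 9⟩) (.leaf ⟨740968, [26, 3], 3⟩))) (.node 743063 (.leaf ⟨742743, [23, 26, 8, 12], 5⟩) (.node 743166 (.leaf ⟨743063, [23, 6, 19, 12], 8⟩) (.leaf ⟨743166, [24, 12, 23, 3], 9⟩)))) (.node 746012 (.node 744662 (.leaf ⟨744138, [19, 12, 23], 6⟩) (.node 746011 (.leaf ⟨744662, [23, 23, 6, 20], 9⟩) (.leaf ⟨746011, [20, 23, 22, 23, 19], 9⟩))) (.node 746980 (.leaf ⟨746012, [20, 25, 23, 19, 19], 8⟩) (.node 748448 (.leaf ⟨746980, [20, 26, 21, 6, 18], 4⟩) (.leaf ⟨748448, [22, 24, 25, 25, 2], 4⟩)))))))))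
noncomputable def FB10 : BT Ent := .node 633062 FB100 FB101
noncomputable def FB110 : BT Ent := (.node 808760 (.node 778132 (.node 766066 (.node 755381 (.node 752127 (.node 749465 (.node 749147 (.leaf ⟨748941, [22, 4, 24], 3⟩) (.leaf ⟨749147, [21, 2, 25, 16, 20], 4⟩)) (.node 749737 (.leaf ⟨749465, [21, 21, 26, 24], 8⟩) (.node 751655 (.leaf ⟨749737, [21, 19, 18, 14], 5⟩) (.leaf ⟨751655, [25, 23, 3, 10], 8⟩)))) (.node 754074 (.node 752799 (.leaf ⟨752127, [21, 16, 22], 2⟩) (.node 753600 (.leaf ⟨752799, [22, 20, 3, 8], 9⟩) (.leaf ⟨753600, [19, 12, 26, 16, 3], 8⟩))) (.node 754702 (.leaf ⟨754074, [20, 8, 16, 26], 3⟩) (.node 755188 (.leaf ⟨754702, [22, 19, 10, 24], 5⟩) (.leaf ⟨755188, [20, 26, 8, 19], 3⟩))))) (.node 757545 (.node 756844 (.node 755822 (.leaf ⟨755381, [3, 26, 21], 5⟩) (.leaf ⟨755822, [18, 2, 25, 3], 5⟩)) (.node 757411 (.leaf ⟨756844, [3, 18, 19,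 26], 5⟩) (.node 757465 (.leaf ⟨757411, [20, 25, 24, 22], 1⟩) (.leaf ⟨757465, [24, 22, 22, 6], 4⟩)))) (.node 762192 (.node 761270 (.leaf ⟨757545, [19, 21, 21, 4], 8⟩) (.node 761583 (.leaf ⟨761270, [6, 14], 2⟩) (.leaf ⟨761583, [20, 24, 8, 20, 23], 4⟩))) (.node 763795 (.leaf ⟨762192, [19, 22, 18, 26, 23], 4⟩) (.node 765241 (.leaf ⟨763795, [22, 18, 21], 9⟩) (.leaf ⟨765241, [14, 10, 24, 25], 9⟩)))))) (.node 770839 (.node 769223 (.node 767376 (.node 767287 (.leaf ⟨766066, [22, 22, 23, 26], 4⟩) (.leaf ⟨767287, [2, 22, 23, 26], 8⟩)) (.node 767851 (.leaf ⟨767376, [19, 4, 21, 21], 8⟩) (.node 767968 (.leaf ⟨767851, [2, 16, 24, 26], 4⟩) (.leaf ⟨767968, [19, 25, 19, 18, 22], 4⟩)))) (.node 769500 (.node 769241 (.leaf ⟨769223, [26, 3, 18], 3⟩) (.node 769463 (.leaf ⟨769241, [26, 22, 20, 12, 23], 4⟩) (.leaf ⟨769463, [10, 23, 6], 3⟩))) (.node 769605 (.leaf ⟨769500, [20,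 3, 18, 24], 5⟩) (.node 769996 (.leaf ⟨769605, [23, 6, 19], 5⟩) (.leaf ⟨769996, [20, 14, 12, 22, 10], 4⟩))))) (.node 772005 (.node 771324 (.node 770865 (.leaf ⟨770839, [22, 4, 19, 26], 4⟩) (.node 771237 (.leaf ⟨770865, [20, 26, 6, 22], 3⟩) (.leaf ⟨771237, [20, 20, 4, 23, 3], 4⟩))) (.node 771737 (.leaf ⟨771324, [2, 20, 26, 26], 9⟩) (.node 771837 (.leaf ⟨771737, [22, 19, 6, 24], 1⟩) (.leaf ⟨771837, [20, 25, 18, 25], 1⟩)))) (.node 772915 (.node 772063 (.leaf ⟨772005, [14, 23, 25, 2], 9⟩) (.node 772203 (.leaf ⟨772063, [12, 26, 14], 3⟩) (.leaf ⟨772203, [22, 8, 16, 22], 9⟩))) (.node 774259 (.leaf ⟨772915, [24, 20, 21, 23], 4⟩) (.node 776214 (.leaf ⟨774259, [20, 12, 24, 20, 16], 9⟩) (.leaf ⟨776214, [22, 22, 3, 24, 6], 4⟩))))))) (.node 790850 (.node 783294 (.node 780882 (.node 779981 (.node 778489 (.leaf ⟨778132, [20, 26, 21, 6], 4⟩) (.leaf ⟨778489, [21, 8, 19,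 26], 9⟩)) (.node 780234 (.leaf ⟨779981, [21, 25, 24, 20], 5⟩) (.node 780603 (.leaf ⟨780234, [20, 23, 26], 5⟩) (.leaf ⟨780603, [20, 26, 3, 12, 25], 4⟩)))) (.node 781720 (.node 781099 (.leaf ⟨780882, [20, 4, 21, 16, 4], 4⟩) (.node 781589 (.leaf ⟨781099, [24, 22, 23, 19, 12], 4⟩) (.leaf ⟨781589, [19, 19, 21], 3⟩))) (.node 782065 (.leaf ⟨781720, [2, 23, 23, 19], 4⟩) (.node 782105 (.leaf ⟨782065, [20, 16, 25, 3], 3⟩) (.leaf ⟨782105, [19, 8, 21, 21, 6], 8⟩))))) (.node 787839 (.node 783851 (.node 783520 (.leaf ⟨783294, [24, 6, 23, 3], 4⟩) (.leaf ⟨783520, [21, 6, 20, 16], 8⟩)) (.node 784364 (.leaf ⟨783851, [2, 25, 20, 25], 9⟩) (.node 787093 (.leaf ⟨784364, [14, 21, 2], 3⟩) (.leaf ⟨787093, [20, 25, 24, 22], 2⟩)))) (.node 788630 (.node 787942 (.leaf ⟨787839, [19, 3, 6, 24], 2⟩) (.node 788255 (.leaf ⟨787942, [3, 12, 26, 3], 4⟩) (.leaf ⟨788255, [23, 16, 4, 19, 12],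 4⟩))) (.node 789063 (.leaf ⟨788630, [20, 16, 23, 21], 5⟩) (.node 789675 (.leaf ⟨789063, [20, 22, 16, 8, 26], 4⟩) (.leaf ⟨789675, [21, 10, 14, 12], 4⟩)))))) (.node 797475 (.node 793725 (.node 791904 (.node 791192 (.leaf ⟨790850, [25, 18, 23, 12], 9⟩) (.leaf ⟨791192, [20, 18, 24, 12, 20], 9⟩)) (.node 793021 (.leaf ⟨791904, [20, 24, 8, 16], 5⟩) (.node 793042 (.leaf ⟨793021, [20, 3, 21, 19, 18], 9⟩) (.leaf ⟨793042, [20, 12, 24, 20, 16], 8⟩)))) (.node 795763 (.node 794145 (.leaf ⟨793725, [12, 24, 26], 2⟩) (.node 795019 (.leaf ⟨794145, [19, 22, 2, 22, 14], 4⟩) (.leaf ⟨795019, [20, 3, 2, 25], 5⟩))) (.node 796349 (.leaf ⟨795763, [26, 20, 6, 8], 8⟩) (.node 797262 (.leaf ⟨796349, [25, 21, 25, 2], 4⟩) (.leaf ⟨797262, [23, 4, 19], 8⟩))))) (.node 800405 (.node 798564 (.node 797864 (.leaf ⟨797475, [23, 6], 3⟩) (.node 798037 (.leaf ⟨797864, [19, 24, 22, 16, 24], 4⟩)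 (.leaf ⟨798037, [21, 3, 6, 22, 16], 4⟩))) (.node 798770 (.leaf ⟨798564, [20, 14, 23, 8, 19], 4⟩) (.node 800242 (.leaf ⟨798770, [6, 14], 1⟩) (.leaf ⟨800242, [21, 26, 21, 14, 26], 4⟩)))) (.node 802880 (.node 801681 (.leaf ⟨800405, [16, 24, 12, 25], 4⟩) (.node 801735 (.leaf ⟨801681, [22, 14, 18, 23], 5⟩) (.leaf ⟨801735, [20, 16, 23, 12, 26], 4⟩))) (.node 805223 (.leaf ⟨802880, [25, 18, 23, 14], 5⟩) (.node 806437 (.leaf ⟨805223, [19, 8, 16, 21, 12], 4⟩) (.leaf ⟨806437, [24, 10, 25, 21], 4⟩)))))))) (.node 839983 (.node 820525 (.node 815925 (.node 810905 (.node 810144 (.node 809397 (.leaf ⟨808760, [22, 6, 10, 21, 3], 4⟩) (.leaf ⟨809397, [20, 22, 19, 23], 9⟩)) (.node 810149 (.leaf ⟨810144, [25, 4, 23], 4⟩) (.node 810584 (.leaf ⟨810149, [22, 23, 18, 12], 5⟩) (.leaf ⟨810584, [3, 2, 19, 16], 8⟩)))) (.node 813226 (.node 811416 (.leaf ⟨810905, [20, 26, 19, 6, 12],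 4⟩) (.node 811814 (.leaf ⟨811416, [21, 16, 22], 9⟩) (.leaf ⟨811814, [25, 3, 14, 23], 4⟩))) (.node 813616 (.leaf ⟨813226, [23, 23, 23, 26, 8], 4⟩) (.node 815370 (.leaf ⟨813616, [10], 3⟩) (.leaf ⟨815370, [21, 24, 6], 3⟩))))) (.node 817949 (.node 816507 (.node 816055 (.leaf ⟨815925, [22, 20, 20], 3⟩) (.leaf ⟨816055, [20, 22, 25, 2, 19], 8⟩)) (.node 817255 (.leaf ⟨816507, [19, 19, 4, 2], 8⟩) (.node 817680 (.leaf ⟨817255, [24, 14, 23, 3], 9⟩) (.leaf ⟨817680, [10, 23, 20, 25], 9⟩)))) (.node 819220 (.node 818293 (.leaf ⟨817949, [6, 19, 16], 4⟩) (.node 818673 (.leaf ⟨818293, [20, 23, 16, 26], 2⟩) (.leaf ⟨818673, [19, 21, 6, 20], 5⟩))) (.node 819274 (.leaf ⟨819220, [22, 18, 23, 3], 5⟩) (.node 819340 (.leaf ⟨819274, [20, 22, 16, 8, 26], 8⟩) (.leaf ⟨819340, [21, 6, 22], 1⟩)))))) (.node 829758 (.node 823807 (.node 820863 (.node 820539 (.leaf ⟨820525, [4, 19, 18,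 6], 5⟩) (.leaf ⟨820539, [2, 4, 2, 6], 4⟩)) (.node 821204 (.leaf ⟨820863, [19, 6, 25, 6, 18], 9⟩) (.node 823237 (.leaf ⟨821204, [23, 26, 18, 24, 14], 4⟩) (.leaf ⟨823237, [25, 25, 10, 20], 9⟩)))) (.node 826299 (.node 824898 (.leaf ⟨823807, [23, 18, 20, 14], 8⟩) (.node 826019 (.leaf ⟨824898, [22, 10, 25, 6], 2⟩) (.leaf ⟨826019, [6, 14], 4⟩))) (.node 826641 (.leaf ⟨826299, [23, 6, 19, 18], 8⟩) (.node 829096 (.leaf ⟨826641, [24, 6, 26, 19], 4⟩) (.leaf ⟨829096, [16, 21, 20, 20], 9⟩))))) (.node 834757 (.node 831104 (.node 829936 (.leaf ⟨829758, [3, 20, 10, 25], 8⟩) (.node 829937 (.leaf ⟨829936, [19, 24, 26, 22, 23], 8⟩) (.leaf ⟨829937, [26, 6], 3⟩))) (.node 831786 (.leaf ⟨831104, [22, 20, 10, 8], 3⟩) (.node 832291 (.leaf ⟨831786, [10, 8, 12], 3⟩) (.leaf ⟨832291, [23, 26, 12, 22, 22], 4⟩)))) (.node 835327 (.node 834932 (.leaf ⟨834757, [20, 23, 3, 22, 26], 9⟩)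 (.node 835201 (.leaf ⟨834932, [3, 10], 3⟩) (.leaf ⟨835201, [2, 20, 6, 20], 9⟩))) (.node 837532 (.leaf ⟨835327, [22, 26, 26], 3⟩) (.node 839292 (.leaf ⟨837532, [20, 21, 4, 16, 2], 9⟩) (.leaf ⟨839292, [21, 8, 16, 22], 8⟩))))))) (.node 857110 (.node 846947 (.node 842465 (.node 840898 (.node 840293 (.leaf ⟨839983, [23, 18, 25, 16], 5⟩) (.leaf ⟨840293, [20, 25, 25, 22], 5⟩)) (.node 841341 (.leaf ⟨840898, [24, 19, 10, 20, 25], 9⟩) (.node 842387 (.leaf ⟨841341, [20, 24, 20, 20, 14], 8⟩) (.leaf ⟨842387, [26, 24, 21, 4], 4⟩)))) (.node 845646 (.node 843378 (.leaf ⟨842465, [22, 18, 21, 20], 5⟩) (.node 843873 (.leaf ⟨843378, [19, 19], 7⟩) (.leaf ⟨843873, [20, 20, 16, 3], 8⟩))) (.node 845749 (.leaf ⟨845646, [22, 3, 18, 26], 5⟩) (.node 846731 (.leaf ⟨845749, [22, 20, 10], 3⟩) (.leaf ⟨846731, [20, 22, 25, 24], 5⟩))))) (.node 851525 (.node 849999 (.node 849829 (.leaf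 ⟨846947, [12, 14, 22, 10], 9⟩) (.leaf ⟨849829, [14, 10, 24, 25], 8⟩)) (.node 850292 (.leaf ⟨849999, [22, 20, 4], 8⟩) (.node 850341 (.leaf ⟨850292, [10, 22, 18, 14], 5⟩) (.leaf ⟨850341, [4, 18, 22, 14], 5⟩)))) (.node 852936 (.node 852115 (.leaf ⟨851525, [21, 18, 22, 25], 5⟩) (.node 852781 (.leaf ⟨852115, [], 10⟩) (.leaf ⟨852781, [26, 19, 24, 18], 4⟩))) (.node 854329 (.leaf ⟨852936, [20, 8, 22, 6], 2⟩) (.node 856480 (.leaf ⟨854329, [22, 8, 18, 22], 8⟩) (.leaf ⟨856480, [21, 25, 16, 21], 9⟩)))))) (.node 862261 (.node 860694 (.node 857429 (.node 857229 (.leaf ⟨857110, [25, 23, 26, 8], 4⟩) (.leaf ⟨857229, [12, 26, 14], 2⟩)) (.node 858029 (.leaf ⟨857429, [19, 19, 22, 16], 3⟩) (.node 858962 (.leaf ⟨858029, [12, 4, 18], 2⟩) (.leaf ⟨858962, [23, 2, 24], 3⟩)))) (.node 861456 (.node 860737 (.leaf ⟨860694, [23, 21, 23, 6], 8⟩) (.node 861254 (.leaf ⟨860737, [20, 4,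 21, 25], 3⟩) (.leaf ⟨861254, [21, 19, 4, 26], 4⟩))) (.node 861614 (.leaf ⟨861456, [21, 10, 24, 26], 8⟩) (.node 861691 (.leaf ⟨861614, [22, 8, 22, 14], 8⟩) (.leaf ⟨861691, [23, 26, 19], 5⟩))))) (.node 865285 (.node 863613 (.node 862827 (.leaf ⟨862261, [26, 12, 19], 1⟩) (.node 863565 (.leaf ⟨862827, [20, 20, 20, 16, 20], 4⟩) (.leaf ⟨863565, [2, 21], 6⟩))) (.node 864713 (.leaf ⟨863613, [23, 14, 22, 2], 8⟩) (.node 864807 (.leaf ⟨864713, [24, 19, 19], 3⟩) (.leaf ⟨864807, [26, 18, 19, 24], 4⟩)))) (.node 869306 (.node 866180 (.leaf ⟨865285, [10, 20, 18, 6], 5⟩) (.node 869304 (.leaf ⟨866180, [21, 16, 24], 3⟩) (.leaf ⟨869304, [24, 26, 2, 6], 5⟩))) (.node 869422 (.leaf ⟨869306, [19, 19, 22, 24, 3], 9⟩) (.node 869544 (.leaf ⟨869422, [20, 21, 24, 26], 3⟩) (.leaf ⟨869544, [19, 8, 16, 6], 8⟩)))))))))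
noncomputable def FB111 : BT Ent := (.node 932679 (.node 898663 (.node 883876 (.node 878823 (.node 872963 (.node 870895 (.node 870773 (.leaf ⟨870424, [19, 19, 22, 20, 6], 8⟩) (.leaf ⟨870773, [20, 24, 3], 3⟩)) (.node 871018 (.leaf ⟨870895, [20, 20, 21], 3⟩) (.node 872417 (.leaf ⟨871018, [19, 22, 14, 23], 3⟩) (.leaf ⟨872417, [20, 18, 24], 3⟩)))) (.node 875438 (.node 873744 (.leaf ⟨872963, [25, 20, 2], 5⟩) (.node 874587 (.leaf ⟨873744, [4, 19, 24], 8⟩) (.leaf ⟨874587, [23, 18, 19, 23, 25], 4⟩))) (.node 875857 (.leaf ⟨875438, [19, 22, 20, 24, 8], 4⟩) (.node 876756 (.leaf ⟨875857, [3, 24, 18, 14], 5⟩) (.leaf ⟨876756, [19, 10, 19, 6], 5⟩))))) (.node 881151 (.node 879080 (.node 878896 (.leaf ⟨878823, [19, 19, 23, 14, 16], 4⟩) (.leaf ⟨878896, [22, 4, 16, 22, 18], 4⟩)) (.node 879928 (.leaf ⟨879080, [19, 3, 22, 19], 1⟩) (.node 880683 (.leaf ⟨879928, [19, 24, 24,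 10], 5⟩) (.leaf ⟨880683, [20, 8, 22, 6], 1⟩)))) (.node 883215 (.node 882256 (.leaf ⟨881151, [20, 20, 25, 20, 20], 4⟩) (.node 882283 (.leaf ⟨882256, [19, 25, 23, 10, 20], 4⟩) (.leaf ⟨882283, [22, 6, 10, 21], 4⟩))) (.node 883286 (.leaf ⟨883215, [6, 18, 26, 26], 5⟩) (.node 883329 (.leaf ⟨883286, [20, 2, 12, 19, 12], 8⟩) (.leaf ⟨883329, [22, 12, 22, 3, 20], 4⟩)))))) (.node 890365 (.node 887596 (.node 885410 (.node 884447 (.leaf ⟨883876, [22, 6, 26, 26, 10], 4⟩) (.leaf ⟨884447, [20, 2, 12, 19], 3⟩)) (.node 885438 (.leaf ⟨885410, [19, 19, 22, 20, 14], 4⟩) (.node 887026 (.leaf ⟨885438, [24, 21, 26], 3⟩) (.leaf ⟨887026, [23, 16, 10], 3⟩)))) (.node 888139 (.node 887796 (.leaf ⟨887596, [26, 10, 26, 21], 2⟩) (.node 888096 (.leaf ⟨887796, [22, 18, 23, 8], 5⟩) (.leaf ⟨888096, [12, 16, 6], 3⟩))) (.node 888669 (.leaf ⟨888139, [24, 19, 14, 24], 4⟩) (.node 889416 (.leaf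 ⟨888669, [24, 8, 26, 20], 8⟩) (.leaf ⟨889416, [23, 4, 19, 18], 9⟩))))) (.node 894847 (.node 891427 (.node 890553 (.leaf ⟨890365, [20, 22, 2, 20, 21], 8⟩) (.node 890647 (.leaf ⟨890553, [3, 2, 6], 9⟩) (.leaf ⟨890647, [2, 6, 22], 1⟩))) (.node 893253 (.leaf ⟨891427, [19, 10, 22, 19, 2], 4⟩) (.node 893321 (.leaf ⟨893253, [6, 24, 18, 6, 16], 4⟩) (.leaf ⟨893321, [22, 22, 23, 26, 18], 4⟩)))) (.node 896162 (.node 895511 (.leaf ⟨894847, [20, 25, 22, 4, 12], 9⟩) (.node 895898 (.leaf ⟨895511, [20, 18, 21, 25, 14], 5⟩) (.leaf ⟨895898, [18, 23, 2, 20], 5⟩))) (.node 896232 (.leaf ⟨896162, [22, 2], 7⟩) (.node 897476 (.leaf ⟨896232, [2, 6, 22], 2⟩) (.leaf ⟨897476, [6, 25, 4], 9⟩))))))) (.node 911308 (.node 905628 (.node 903344 (.node 899823 (.node 898959 (.leaf ⟨898663, [25, 3, 20, 22], 8⟩) (.leaf ⟨898959, [2, 6, 18, 22], 8⟩)) (.node 901226 (.leaf ⟨899823, [21, 16, 22],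 1⟩) (.node 901426 (.leaf ⟨901226, [23, 26, 2, 22], 5⟩) (.leaf ⟨901426, [22, 23, 12], 5⟩)))) (.node 903676 (.node 903449 (.leaf ⟨903344, [6, 12, 24, 6], 4⟩) (.node 903538 (.leaf ⟨903449, [25, 20, 2, 6], 9⟩) (.leaf ⟨903538, [24, 3, 23], 1⟩))) (.node 904184 (.leaf ⟨903676, [20, 2, 3, 2], 5⟩) (.node 904538 (.leaf ⟨904184, [19, 12, 23, 6], 4⟩) (.leaf ⟨904538, [22, 20, 3, 8], 8⟩))))) (.node 906847 (.node 906072 (.node 905845 (.leaf ⟨905628, [26, 20, 6, 8], 9⟩) (.leaf ⟨905845, [2, 4, 19], 3⟩)) (.node 906114 (.leaf ⟨906072, [19, 24, 19, 14], 2⟩) (.node 906172 (.leaf ⟨906114, [19, 21, 23, 14], 2⟩) (.leaf ⟨906172, [20, 20, 10, 2], 1⟩)))) (.node 908957 (.node 907510 (.leaf ⟨906847, [21, 14, 23, 18, 16], 4⟩) (.node 908113 (.leaf ⟨907510, [23, 23, 18, 21], 5⟩) (.leaf ⟨908113, [21, 2, 6], 3⟩))) (.node 909712 (.leaf ⟨908957, [25, 18, 20, 2], 8⟩) (.node 910076 (.leaf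 ⟨909712, [4, 12, 20, 14], 8⟩) (.leaf ⟨910076, [19, 24, 19, 14], 1⟩)))))) (.node 918928 (.node 914630 (.node 912798 (.node 911883 (.leaf ⟨911308, [4, 22, 2, 22], 4⟩) (.leaf ⟨911883, [12, 25, 12, 24], 4⟩)) (.node 913645 (.leaf ⟨912798, [12], 1⟩) (.node 913770 (.leaf ⟨913645, [20, 22, 2, 26, 16], 8⟩) (.leaf ⟨913770, [19, 3, 19, 6], 5⟩)))) (.node 916738 (.node 915834 (.leaf ⟨914630, [20, 16, 19, 21, 24], 4⟩) (.node 916499 (.leaf ⟨915834, [25, 20, 22], 2⟩) (.leaf ⟨916499, [20, 8, 21, 19], 8⟩))) (.node 918262 (.leaf ⟨916738, [20, 3, 2, 24, 18], 5⟩) (.node 918351 (.leaf ⟨918262, [22, 19, 3, 16, 26], 9⟩) (.leaf ⟨918351, [19, 16, 19, 23], 3⟩))))) (.node 926272 (.node 923365 (.node 919094 (.leaf ⟨918928, [23, 21, 2], 3⟩) (.node 920355 (.leaf ⟨919094, [19, 16, 2, 8, 10], 4⟩) (.leaf ⟨920355, [20, 24, 8], 3⟩))) (.node 923715 (.leaf ⟨923365, [20, 3, 26, 10, 23], 9⟩)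 (.node 924359 (.leaf ⟨923715, [26, 6, 22, 20], 8⟩) (.leaf ⟨924359, [19, 23, 14, 12], 4⟩)))) (.node 930133 (.node 926953 (.leaf ⟨926272, [21, 10, 24, 26], 9⟩) (.node 927663 (.leaf ⟨926953, [25, 16, 23, 12], 4⟩) (.leaf ⟨927663, [25, 3, 20, 22], 4⟩))) (.node 930503 (.leaf ⟨930133, [20, 22, 25, 6], 3⟩) (.node 930581 (.leaf ⟨930503, [24, 22, 20, 8, 21], 4⟩) (.leaf ⟨930581, [19, 18, 20, 24, 20], 5⟩)))))))) (.node 971396 (.node 950004 (.node 942645 (.node 936840 (.node 935543 (.node 935160 (.leaf ⟨932679, [25, 16, 3, 23], 4⟩) (.leaf ⟨935160, [19, 3, 22, 19], 2⟩)) (.node 935901 (.leaf ⟨935543, [20, 22, 24], 3⟩) (.node 936684 (.leaf ⟨935901, [19, 12, 23], 7⟩) (.leaf ⟨936684, [10, 12], 3⟩)))) (.node 940214 (.node 939170 (.leaf ⟨936840, [22, 25, 12, 21], 8⟩) (.node 939372 (.leaf ⟨939170, [20, 20, 14, 24, 6], 4⟩) (.leaf ⟨939372, [20, 16, 8, 24], 3⟩))) (.node 940380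 (.leaf ⟨940214, [2, 25, 20, 25], 8⟩) (.node 941197 (.leaf ⟨940380, [20, 16, 6, 20], 2⟩) (.leaf ⟨941197, [20, 21, 19, 25, 19], 4⟩))))) (.node 945906 (.node 945346 (.node 944809 (.leaf ⟨942645, [19, 21, 25, 21], 3⟩) (.leaf ⟨944809, [19, 25, 19, 4], 3⟩)) (.node 945403 (.leaf ⟨945346, [16, 25, 6, 25], 9⟩) (.node 945829 (.leaf ⟨945403, [23, 14], 3⟩) (.leaf ⟨945829, [6, 10, 25], 5⟩)))) (.node 948649 (.node 947535 (.leaf ⟨945906, [2, 3, 14], 1⟩) (.node 947815 (.leaf ⟨947535, [20, 22, 4, 19], 3⟩) (.leaf ⟨947815, [19, 21, 21, 4], 9⟩))) (.node 949359 (.leaf ⟨948649, [20, 8, 19, 23], 9⟩) (.node 949389 (.leaf ⟨949359, [19, 24, 21, 10], 5⟩) (.leaf ⟨949389, [19, 24, 2, 12], 9⟩)))))) (.node 959533 (.node 953934 (.node 950515 (.node 950511 (.leaf ⟨950004, [18, 26, 24, 22], 5⟩) (.leaf ⟨950511, [19, 21, 21, 4], 1⟩)) (.node 951864 (.leaf ⟨950515, [14, 12, 19], 3⟩) (.node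 953115 (.leaf ⟨951864, [25, 20, 16, 22], 4⟩) (.leaf ⟨953115, [19, 21, 12, 20, 12], 9⟩)))) (.node 954628 (.node 954382 (.leaf ⟨953934, [19, 24], 7⟩) (.node 954506 (.leaf ⟨954382, [2, 12, 23, 20], 8⟩) (.leaf ⟨954506, [19, 16, 19, 24, 20], 4⟩))) (.node 955770 (.leaf ⟨954628, [20, 4, 24, 16], 9⟩) (.node 956082 (.leaf ⟨955770, [23, 6, 14, 26], 9⟩) (.leaf ⟨956082, [19, 8, 21, 20, 10], 4⟩))))) (.node 964415 (.node 962221 (.node 961070 (.leaf ⟨959533, [21, 16, 22], 3⟩) (.node 962103 (.leaf ⟨961070, [20, 4, 2, 24, 26], 9⟩) (.leaf ⟨962103, [20, 26, 24, 10, 21], 8⟩))) (.node 963577 (.leaf ⟨962221, [23, 14, 16, 25], 8⟩) (.node 964343 (.leaf ⟨963577, [19, 16, 14], 9⟩) (.leaf ⟨964343, [20, 23, 26, 18], 5⟩)))) (.node 968826 (.node 967952 (.leaf ⟨964415, [24, 3, 23, 3], 4⟩) (.node 967985 (.leaf ⟨967952, [22, 3, 23, 3, 21], 4⟩) (.leaf ⟨967985, [20, 3, 24, 3, 22], 4⟩)))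 (.node 971003 (.leaf ⟨968826, [21, 18, 22, 14], 8⟩) (.node 971230 (.leaf ⟨971003, [20, 21, 26, 3], 3⟩) (.leaf ⟨971230, [24, 4, 16, 26], 9⟩))))))) (.node 986136 (.node 979711 (.node 975135 (.node 973888 (.node 972453 (.leaf ⟨971396, [19, 6, 23, 25], 3⟩) (.leaf ⟨972453, [20, 25, 21, 23, 21], 8⟩)) (.node 974031 (.leaf ⟨973888, [26, 2, 19], 1⟩) (.node 975103 (.leaf ⟨974031, [14, 12, 24, 6], 4⟩) (.leaf ⟨975103, [22, 24, 26, 16], 5⟩)))) (.node 976179 (.node 975475 (.leaf ⟨975135, [24, 10, 2], 3⟩) (.node 975979 (.leaf ⟨975475, [4, 10], 3⟩) (.leaf ⟨975979, [22, 23, 12, 18], 5⟩))) (.node 976541 (.leaf ⟨976179, [2, 19, 21, 19, 16], 4⟩) (.node 978941 (.leaf ⟨976541, [20, 26, 21, 6], 8⟩) (.leaf ⟨978941, [2, 20], 6⟩))))) (.node 985435 (.node 983382 (.node 980513 (.leaf ⟨979711, [6, 25, 3, 12], 9⟩) (.leaf ⟨980513, [19, 18, 19, 14], 5⟩)) (.node 984044 (.leaf ⟨983382,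 [19, 23, 16, 24, 21], 4⟩) (.node 984648 (.leaf ⟨984044, [19, 4, 21, 21], 9⟩) (.leaf ⟨984648, [4, 23, 18, 16], 5⟩)))) (.node 985741 (.node 985507 (.leaf ⟨985435, [21, 6, 22], 8⟩) (.node 985594 (.leaf ⟨985507, [21, 20, 24, 10, 14], 4⟩) (.leaf ⟨985594, [22, 20, 3, 8, 18], 8⟩))) (.node 985754 (.leaf ⟨985741, [19, 22, 20, 24], 1⟩) (.node 986073 (.leaf ⟨985754, [19, 16, 14], 8⟩) (.leaf ⟨986073, [25, 20, 2, 18], 5⟩)))))) (.node 992117 (.node 988382 (.node 986906 (.node 986469 (.leaf ⟨986136, [23, 21, 2, 3, 10], 4⟩) (.leaf ⟨986469, [22, 26, 4, 23], 9⟩)) (.node 986990 (.leaf ⟨986906, [26, 24, 20, 24], 8⟩) (.node 987784 (.leaf ⟨986990, [6, 23, 22, 26], 4⟩) (.leaf ⟨987784, [20, 3, 24, 3], 5⟩)))) (.node 988952 (.node 988713 (.leaf ⟨988382, [2, 20, 21, 20], 4⟩) (.node 988897 (.leaf ⟨988713, [20, 2, 12, 19], 8⟩) (.leaf ⟨988897, [19, 21, 21, 4], 2⟩))) (.node 991052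 (.leaf ⟨988952, [22, 26, 19, 14, 10], 9⟩) (.node 991474 (.leaf ⟨991052, [6, 14], 9⟩) (.leaf ⟨991474, [19, 22, 2, 16, 21], 4⟩))))) (.node 997037 (.node 994796 (.node 994035 (.leaf ⟨992117, [19, 8, 23, 23], 5⟩) (.node 994476 (.leaf ⟨994035, [23, 4, 19, 18], 8⟩) (.leaf ⟨994476, [21, 23, 14, 24, 22], 4⟩))) (.node 995319 (.leaf ⟨994796, [19, 3, 6, 24], 1⟩) (.node 996623 (.leaf ⟨995319, [19, 8, 12, 18, 25], 5⟩) (.leaf ⟨996623, [4, 25, 19, 12], 4⟩)))) (.node 998597 (.node 997724 (.leaf ⟨997037, [24, 20, 2, 21, 20], 4⟩) (.node 997881 (.leaf ⟨997724, [20, 21, 20, 24], 8⟩) (.leaf ⟨997881, [4, 19, 24], 9⟩))) (.node 998888 (.leaf ⟨998597, [22, 26, 19, 21, 3], 4⟩) (.node 999023 (.leaf ⟨998888, [19, 25, 3, 16], 5⟩) (.leaf ⟨999023, [24, 20, 21, 19], 8⟩)))))))))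
noncomputable def FB11 : BT Ent := .node 870424 FB110 FB111
noncomputable def FB1 : BT Ent := .node 748941 FB10 FB11
noncomputable def FB : BT Ent := .node 510309 FB0 FB1
noncomputable def F : FD := ⟨1000003, FB, [[[], [2], [4], [2, 4], [8], [7], [2, 6], [2, 8], [2, 7], [2, 6, 2], [2, 14], [2, 13], [2, 13, 2], [2, 14, 2], [4, 6], [4, 7], [4, 8], [2, 6, 4], [4, 14], [7, 4], [4, 6, 2], [2, 4, 6], [4, 13], [8, 4], [2, 13, 4], [2, 14, 4], [2, 6, 2, 4], [2, 4, 7], [2, 4, 8], [2, 4, 14], [8, 4, 2], [2, 7, 4], [4, 13, 2], [7, 6], [2, 4, 6, 2], [8, 6], [7, 4, 2], [2, 8, 4], [2, 6, 8], [2, 14, 2, 4], [2, 13, 2, 4], [2, 8, 4, 2], [8, 8], [8, 14], [8, 6, 2], [7, 6, 2], [2, 8, 6], [2, 7, 4, 2], [2, 6, 2, 8], [7, 18], [4, 6, 4], [8, 18], [2, 14, 2, 6], [2, 8, 6, 2], [2, 7, 14], [2, 8, 14], [8, 14, 2], [2, 6, 2, 14], [2, 8, 8], [2, 7, 18], [4, 13, 4], [2, 4, 6, 4],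 [2, 8, 18], [4, 14, 4], [2, 6, 2, 14, 2], [2, 8, 14, 2], [4, 8, 4], [2, 7, 14, 2], [4, 7, 4], [2, 14, 2, 6, 2], [8, 6, 4], [2, 4, 6, 2, 4], [7, 6, 4], [4, 6, 8], [4, 13, 2, 4], [4, 8, 6], [7, 4, 6], [2, 4, 14, 4], [4, 7, 4, 2], [4, 8, 4, 2], [2, 4, 7, 4], [4, 14, 4, 2], [2, 6, 4, 7], [4, 6, 2, 7], [2, 4, 6, 7], [8, 4, 13], [2, 6, 4, 8], [7, 4, 13], [4, 6, 2, 8], [8, 6, 2, 4], [2, 4, 6, 8], [8, 14, 4], [4, 7, 7], [2, 7, 4, 6], [2, 4, 7, 4, 2], [2, 6, 4, 13], [2, 4, 6, 13], [2, 4, 14, 4, 2], [2, 6, 8, 4], [4, 7, 14], [2, 13, 4, 14], [2, 4, 7, 7], [2, 6, 2, 14, 4], [4, 13, 2, 8], [2, 8, 14, 4], [2, 14, 4, 8], [4, 13, 2, 7], [2, 8, 6, 2, 4], [2, 14, 4, 7], [2, 4, 6, 2, 14], [2, 14, 2, 6, 4], [2, 14, 2, 4, 6], [2, 4, 6, 13, 2], [2, 6, 4, 13, 2], [8, 4, 2, 8], [2, 14, 2, 6, 2, 4], [2, 4, 14, 18], [2, 7, 14, 2, 4], [7, 6, 2, 13], [2, 8, 4, 2, 8], [2, 14, 2,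 4, 6, 2], [4, 6, 4, 8], [2, 8, 14, 2, 6], [7, 18, 7], [2, 4, 6, 13, 4], [4, 7, 4, 14], [2, 7, 18, 7], [4, 7, 4, 2, 7]], [[], [4], [6], [5], [4, 6], [5, 4], [5, 2], [4, 5], [6, 4], [6, 6], [4, 10], [6, 10], [4, 6, 2], [5, 4, 2], [4, 5, 4], [4, 6, 4], [6, 6, 2], [5, 4, 5], [5, 2, 5], [5, 4, 6], [4, 6, 6], [4, 10, 4], [4, 10, 5], [6, 10, 5], [4, 6, 2, 4], [5, 2, 5, 2], [5, 4, 2, 5], [4, 6, 2, 6], [6, 6, 2, 4], [5, 4, 5, 4], [5, 2, 5, 5], [5, 2, 5, 5, 4]], [[], [2], [4], [2, 4]]]⟩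

theorem wf : wfAll N0 240 = true := by decide +kernel
theorem hW : slpOK NN 240 8 SW 9 = true := by decide +kernel
theorem hY0 : relM Y0 = true := by decide +kernel
theorem hY1 : relM Y1 = true := by decide +kernel
theorem hY2 : relM Y2 = true := by decide +kernel
theorem hu : lall (fun t => t) [wordIn (gensW 8) uw, (sameW NN 240 8) (subst Y0 [1, 1]) [], (sameW NN 240 8) (subst Y1 [1, 1]) [27], (sameW NN 240 8) (subst Y2 [1, 1]) [27], (sameW NN 240 8) (subst Y1 (lapp uw uw)) [], (sameW NN 240 8) (subst Y2 (lapp uw uw)) [27]] = true := by decide +kernel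
theorem hnr : allFrom (fun i => Bool.rec false (mem (nth [] nr i)) (cjW (sameW NN 240 8) [17] [2 * i + 1] (nth [] nr i))) 0 8 = true := by decide +kernel
theorem hpc : allFrom (fun i => (fun c : List Nat × List Nat => lall (fun t => t) [mem c.1, mem c.2, (sameW NN 240 8) [2 * i + 1] (cmW c.1 c.2)]) (nth ([], []) pc i)) 0 8 = true := by decide +kernel
theorem hC : geOK NN 240 C 696729600 = true := by decide +kernel
theorem hC1 : Nat.beq (chainProd NN 240 (List.tail C)) 2903040 = true := by decide +kernel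
theorem h5 : pqOK (sameW NN 240 8) (difW NN 240 8) mem [[17], sw, bw] 5 p5 q5 = true := by decide +kernel
theorem hq : lall (fun q => Bool.rec false ((sameW NN 240 8) (lapp q.1 q.1) []) (oOK (sameW NN 240 8) mem [[17], sw] q)) (ma :: qs) = true := by decide +kernel
theorem kQ : cleOK NN 240 8 696729600 (lmap Prod.fst qs) CQ 8 = true := by decide +kernel
theorem hz : lall (fun t => t) [comAll (sameW NN 240 8) zs (lmap Prod.fst qs), ndW (difW NN 240 8) zs, lall (fun z => lall (fun t => t) [(sameW NN 240 8) (lapp z z) [], cjW (sameW NN 240 8) z [17] [17],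
  lany (fun t => t) [(sameW NN 240 8) z [], (sameW NN 240 8) z [27], lany (fun x => (difW NN 240 8) (lapp z x) (lapp x z)) (gensW 8)]]) zs] = true := by decide +kernel
theorem h7 : pqOK (sameW NN 240 8) (difW NN 240 8) mem [[17]] 7 p7 q7 = true := by decide +kernel
theorem hj : Bool.rec false (oOK (sameW NN 240 8) mem [jw] (jw, jo)) (pqOK (sameW NN 240 8) (difW NN 240 8) mem [jw] 5 pj qj) = true := by decide +kernel
theorem kaw : ceqOK NN 240 8 696729600 aw Caw caw 184320 = true := by decide +kernel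
theorem kdw : ceqOK NN 240 8 696729600 dw Cdw cdw 221184 = true := by decide +kernel
theorem kew : ceqOK NN 240 8 696729600 ew Cew cew 6144 = true := by decide +kernel
theorem kfw : ceqOK NN 240 8 696729600 fw Cfw cfw 18432 = true := by decide +kernel
theorem wd : wdOK (sameW NN 240 8) (difW NN 240 8) mem [27] aw dw [13, 25, 11] [13, 15, 20] [20, 23, 23, 15, 21, 21, 8, 21] [20, 22, 23, 6] = true := by decide +kernel
theorem we : wdOK (sameW NN 240 8) (difW NN 240 8) mem [27] aw ew [22, 22, 15, 11, 20] [22, 24, 7, 23, 21] [7, 22, 23, 9, 24, 21, 28, 3] [20, 24, 8, 19] = true := by decide +kernel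
theorem hf0 : faOK (sameW NN 240 8) (difW NN 240 8) [27] aw fw x0 [20, 11, 1, 19] [22, 23, 16] = true := by decide +kernel
theorem hf1 : faOK (sameW NN 240 8) (difW NN 240 8) [27] aw fw x1 [20, 22, 7, 19] [6, 14] = true := by decide +kernel
theorem hf2 : faOK (sameW NN 240 8) (difW NN 240 8) [27] aw fw x2 [20, 25, 23, 19, 19] [24, 16, 4, 23] = true := by decide +kernel
theorem hf3 : faOK (sameW NN 240 8) (difW NN 240 8) [27] aw fw x3 [1, 19, 17, 26] [22, 4, 18, 22] = true := by decide +kernel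
theorem hf : lall (fun t => t) [cjW (sameW NN 240 8) [26, 26, 20, 20] fw (lapp fw (lapp x0 x1)), (difW NN 240 8) (lapp fw (lapp x0 x1)) fw, cjW (sameW NN 240 8) [22, 22, 15, 11, 20, 6, 14] (lapp x0 x1) (lapp x2 x3),
  (difW NN 240 8) (lapp x2 x3) fw, cmOK (sameW NN 240 8) [27] [19, 19] (lapp fw (lapp x2 x3)) [17], (difW NN 240 8) (lapp fw (lapp x2 x3)) [27]] = true := by decide +kernel
theorem hm : lall (fun t => t) [comAll (sameW NN 240 8) [[27]] (gensW 9), (sameW NN 240 8) [27, 27] [], (difW NN 240 8) [27] [], mem [27], mem aw, mem jw, mem fe,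
  (sameW NN 240 8) fw (lapp fe [17]), (sameW NN 240 8) (lapp aw aw) [], (difW NN 240 8) aw [], (sameW NN 240 8) (lapp jw jw) [27], (sameW NN 240 8) [17, 17] [], (sameW NN 240 8) (lapp fw fw) [],
  (sameW NN 240 8) aw (lapp [17] sw), mem [22, 26, 13, 3, 25, 21], cjW (sameW NN 240 8) [22, 26, 13, 3, 25, 21] [17] sw, cjW (sameW NN 240 8) [22, 26, 13, 3, 25, 21] sw [17], cjW (sameW NN 240 8) [17] sw sw,
  (difW NN 240 8) aw [27], cjW (sameW NN 240 8) aw bw bw, (difW NN 240 8) bw aw, mem [25, 7, 26], cjW (sameW NN 240 8) [25, 7, 26] aw bw, mem [24, 4, 23], cjW (sameW NN 240 8) [24, 4, 23] aw (lapp aw bw),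
  Nat.beq (fixS NN 240 8 (lapp [27] aw)) 15, Nat.beq (fixS NN 240 8 [27, 17]) 3, mapW NN [27] 0 1, mapW NN [27] 2 3, fixW NN 0 sw] = true := by decide +kernel
theorem hS : lall (fun t => t) [lall mem HS, Nat.beq (llen HS) 6, lall (fixW NN 0) HS, comAll (sameW NN 240 8) HS [[17]], (difW NN 240 8) (nth [] HS 0) [], (difW NN 240 8) (nth [] HS 1) [],
  (sameW NN 240 8) (wpow (nth [] HS 0) 2) [], (sameW NN 240 8) (wpow (nth [] HS 1) 3) [], lall (fun ρ => (sameW NN 240 8) (subst HS ρ) []) S62.relsp] = true := by decide +kernel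
theorem pP : pOK NN 240 8 2 P 14 = true := by decide +kernel
theorem fF : clM NN 240 8 [27] [(0, 0), (2, 2), (4, 4), (6, 6), (8, 8), (10, 10), (12, 12), (14, 14)] [(0, 1), (2, 3), (4, 5), (6, 7), (8, 9), (10, 11), (12, 13), (14, 15)] P.c R F = true := by decide +kernel

end CF.StdZ.E8
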