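import Cfsg.Agent.StdZ.Cert
import Cfsg.Agent.Schur.S62D

set_option autoImplicit false
set_option maxRecDepth 1000000

namespace CF.StdZ.Sp

open CF.Comp CF.Bt CF.Schur

noncomputable def NN : List Net := lapp S62.U0 S62.U1
noncomputable def P : PD := ⟨[[5, 1, 6, 13, 7, 4], [13, 3, 11, 5, 4], [1, 9, 4, 9, 2, 7], [11, 8, 16, 5, 10], [10, 11, 8, 16, 5], [5, 16, 2, 12, 1], [9, 5, 8, 12, 6], [17, 8, 3, 11, 2], [12, 15, 3, 2, 4]], [([], [[3], [1], [13, 11], [13, 11, 7, 5], [15, 11, 7, 5], [13, 5], [13], [13, 9, 7]]), ([], [[11, 5, 3, 1], [11, 5], [9, 3], [11, 7, 5, 3], [11], [9], [13, 11, 5, 3]]), ([], [[1], [3, 1], [9, 5, 3, 1], [9, 7, 3], [9, 1], [11]]), ([], [[1], [3], [5], [7], [9]]), ([], [[1], [3], [5], [7]]), ([], [[1], [3], [5]]), ([], [[1], [3]]), ([], [[1]]), ([], [])], [⟨12, [[4, 17, 3], [15, 17, 12],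 [3, 6, 12, 4], [6, 9, 6, 9]], 3⟩, ⟨19, [[4, 17, 3], [3, 6, 12, 4], [11, 8, 6, 15]], 2⟩, ⟨43, [[4, 17, 3]], 1⟩], [[17, 15, 11, 7], [15, 7, 5, 3, 1], [17, 15, 13, 11, 3], [15, 13, 11], [17, 15, 11, 7], [17, 15, 13, 11, 3], [11, 9, 7], [17, 15, 11, 7]]⟩
noncomputable def r0 : List Nat := [13]
noncomputable def r1 : List Nat := [11, 5]
noncomputable def r2 : List Nat := [17, 16, 11]
noncomputable def r3 : List Nat := [11, 13, 7]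
noncomputable def r4 : List Nat := [12, 7, 3]
noncomputable def r5 : List Nat := [17, 5]
noncomputable def r6 : List Nat := [3, 9, 1]
noncomputable def r7 : List Nat := [3, 3]
noncomputable def r8 : List Nat := [15, 3]
noncomputable def R : List (List Nat) := [r0, r1, r2, r3, r4, r5, r6, r7, r8]
noncomputable def FB : BT Ent := (.node 533489 (.node 271146 (.node 155044 (.node 78060 (.node 32782 (.node 18728 (.node 11917 (.node 3993 (.leaf ⟨2914, [1, 4, 7, 3], 3⟩) (.node 9471 (.leaf ⟨3993, [6, 13, 3], 7⟩) (.leaf ⟨9471, [9, 7, 4, 1], 7⟩))) (.node 15699 (.node 13639 (.leaf ⟨11917, [8, 5, 3, 11], 4⟩) (.leaf ⟨13639, [10, 6, 4, 12], 8⟩)) (.node 17319 (.leaf ⟨15699, [5, 15, 1, 10], 7⟩) (.leaf ⟨17319, [12, 1, 10], 7⟩)))) (.node 27666 (.node 19855 (.leaf ⟨18728, [10, 16, 9, 2, 6], 8⟩) (.node 27443 (.leaf ⟨19855, [9,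 8, 9, 2], 6⟩) (.leaf ⟨27443, [2, 10, 10], 7⟩))) (.node 29570 (.node 28014 (.leaf ⟨27666, [17, 4, 4, 12], 3⟩) (.leaf ⟨28014, [], 9⟩)) (.node 30645 (.leaf ⟨29570, [4], 1⟩) (.leaf ⟨30645, [8, 11, 3], 5⟩))))) (.node 56357 (.node 40895 (.node 34672 (.leaf ⟨32782, [1, 1, 16, 8, 5], 8⟩) (.node 34958 (.leaf ⟨34672, [4, 7, 4, 8, 2], 8⟩) (.leaf ⟨34958, [2, 4, 8], 1⟩))) (.node 43864 (.node 41411 (.leaf ⟨40895, [2, 12, 2, 17], 8⟩) (.leaf ⟨41411, [1, 1, 4], 2⟩)) (.node 53441 (.leaf ⟨43864, [1, 10, 7, 15, 2], 8⟩) (.leaf ⟨53441, [13, 8, 2, 8], 6⟩)))) (.node 61671 (.node 58199 (.leaf ⟨56357, [9, 3, 13, 2, 7], 8⟩) (.node 60793 (.leaf ⟨58199, [5, 2, 5, 16, 3], 8⟩) (.leaf ⟨60793, [11, 8, 10, 3], 7⟩))) (.node 63995 (.node 63397 (.leaf ⟨61671, [10, 1], 6⟩) (.leaf ⟨63397, [17, 5, 2], 4⟩)) (.node 69940 (.leaf ⟨63995, [2, 5], 5⟩)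 (.leaf ⟨69940, [4, 2, 7, 3], 6⟩)))))) (.node 113277 (.node 96076 (.node 84671 (.node 79153 (.leaf ⟨78060, [10, 1, 7, 3], 3⟩) (.node 79517 (.leaf ⟨79153, [3, 12, 2, 5, 3], 5⟩) (.leaf ⟨79517, [2, 2, 2, 6], 3⟩))) (.node 87843 (.node 85807 (.leaf ⟨84671, [8, 2, 16, 10], 7⟩) (.leaf ⟨85807, [9, 17, 2, 3], 3⟩)) (.node 95607 (.leaf ⟨87843, [4, 6], 2⟩) (.leaf ⟨95607, [4, 8, 4, 7, 2], 8⟩)))) (.node 98171 (.node 96973 (.leaf ⟨96076, [8, 3, 3, 16, 5], 5⟩) (.node 97813 (.leaf ⟨96973, [4, 9, 17], 2⟩) (.leaf ⟨97813, [8, 8], 2⟩))) (.node 111486 (.node 104845 (.leaf ⟨98171, [9, 1, 1, 10], 7⟩) (.leaf ⟨104845, [2, 12, 2, 6], 8⟩)) (.node 111723 (.leaf ⟨111486, [11, 7, 4], 8⟩) (.leaf ⟨111723, [12, 10, 2, 10, 4], 8⟩))))) (.node 143589 (.node 122907 (.node 114984 (.leaf ⟨113277, [4, 9, 11, 2], 2⟩) (.node 118347 (.leaf ⟨114984, [6,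 13, 3, 16, 8], 8⟩) (.leaf ⟨118347, [5, 17], 0⟩))) (.node 131676 (.node 128720 (.leaf ⟨122907, [5, 7, 4, 12], 7⟩) (.leaf ⟨128720, [6, 7, 4], 8⟩)) (.node 142805 (.leaf ⟨131676, [13, 10, 4, 11], 7⟩) (.leaf ⟨142805, [16, 1, 6], 6⟩)))) (.node 149926 (.node 146203 (.leaf ⟨143589, [17, 7], 1⟩) (.node 149157 (.leaf ⟨146203, [13, 12], 2⟩) (.leaf ⟨149157, [1, 17, 10], 6⟩))) (.node 151276 (.node 150627 (.leaf ⟨149926, [1, 8, 4], 2⟩) (.leaf ⟨150627, [15, 10, 4, 12], 8⟩)) (.node 151387 (.leaf ⟨151276, [7, 10, 7], 2⟩) (.leaf ⟨151387, [16, 1, 9, 6], 6⟩))))))) (.node 214369 (.node 190790 (.node 169830 (.node 158486 (.node 155783 (.leaf ⟨155044, [1, 5, 1], 1⟩) (.node 157166 (.leaf ⟨155783, [10, 8, 2, 5], 6⟩) (.leaf ⟨157166, [10, 8], 3⟩))) (.node 161879 (.node 160835 (.leaf ⟨158486, [15, 8, 2, 3], 5⟩) (.leaf ⟨160835, [5, 7,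 4, 9, 8], 8⟩)) (.node 167671 (.leaf ⟨161879, [12, 4, 1, 13, 7], 8⟩) (.leaf ⟨167671, [7, 3, 13, 17], 7⟩)))) (.node 174938 (.node 170432 (.leaf ⟨169830, [5, 13, 2], 7⟩) (.node 172007 (.leaf ⟨170432, [8, 10, 3, 15], 7⟩) (.leaf ⟨172007, [10, 4, 1, 5], 2⟩))) (.node 183274 (.node 175117 (.leaf ⟨174938, [8, 3, 1, 1, 8], 8⟩) (.leaf ⟨175117, [15, 3, 12], 2⟩)) (.node 190606 (.leaf ⟨183274, [11, 8, 15, 3], 4⟩) (.leaf ⟨190606, [12, 2, 2], 2⟩))))) (.node 196391 (.node 193382 (.node 191422 (.leaf ⟨190790, [8, 13, 7], 5⟩) (.node 192830 (.leaf ⟨191422, [5, 2, 3], 3⟩) (.leaf ⟨192830, [10, 8, 3, 2], 6⟩))) (.node 194991 (.node 193657 (.leaf ⟨193382, [2, 2], 1⟩) (.leaf ⟨193657, [1, 13, 12, 9, 1], 8⟩)) (.node 195206 (.leaf ⟨194991, [6, 4, 4, 7], 6⟩) (.leaf ⟨195206, [7, 1, 3, 5, 8], 8⟩)))) (.node 201193 (.node 198647 (.leaf ⟨196391,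 [1, 6, 1, 5], 3⟩) (.node 199048 (.leaf ⟨198647, [9, 8, 11], 0⟩) (.leaf ⟨199048, [12, 2, 2], 8⟩))) (.node 208243 (.node 203524 (.leaf ⟨201193, [5, 17, 3, 11], 4⟩) (.leaf ⟨203524, [15, 9, 12, 5], 7⟩)) (.node 213318 (.leaf ⟨208243, [6, 17, 16, 3], 7⟩) (.leaf ⟨213318, [3, 11, 7, 5, 2], 8⟩)))))) (.node 245060 (.node 227094 (.node 220698 (.node 217738 (.leaf ⟨214369, [8, 2, 6, 2], 3⟩) (.node 218022 (.leaf ⟨217738, [9, 4, 10], 4⟩) (.leaf ⟨218022, [2, 4, 15, 1], 6⟩))) (.node 223110 (.node 222246 (.leaf ⟨220698, [5, 12, 7, 4], 8⟩) (.leaf ⟨222246, [6, 2, 3, 10], 3⟩)) (.node 226864 (.leaf ⟨223110, [9, 17, 1, 1], 8⟩) (.leaf ⟨226864, [9, 6, 1, 10], 6⟩)))) (.node 231729 (.node 228753 (.leaf ⟨227094, [17, 3, 8, 6], 7⟩) (.node 231370 (.leaf ⟨228753, [6, 1, 6, 15], 7⟩) (.leaf ⟨231370, [1, 1, 10, 6], 8⟩))) (.node 238523 (.node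 235370 (.leaf ⟨231729, [9, 13, 8], 5⟩) (.leaf ⟨235370, [4, 7, 10, 3], 5⟩)) (.node 244107 (.leaf ⟨238523, [4, 8, 1, 9], 3⟩) (.leaf ⟨244107, [1, 11, 8, 5], 7⟩))))) (.node 260945 (.node 252426 (.node 245672 (.leaf ⟨245060, [8, 6, 2], 1⟩) (.node 246812 (.leaf ⟨245672, [12, 8], 0⟩) (.leaf ⟨246812, [16, 3], 2⟩))) (.node 259772 (.node 259259 (.leaf ⟨252426, [6, 1, 15], 8⟩) (.leaf ⟨259259, [10, 5, 15, 3], 6⟩)) (.node 260389 (.leaf ⟨259772, [12, 5], 5⟩) (.leaf ⟨260389, [1, 10, 2, 9], 3⟩)))) (.node 265349 (.node 261796 (.leaf ⟨260945, [2, 15, 2, 3], 7⟩) (.node 263228 (.leaf ⟨261796, [13, 1, 7, 17], 6⟩) (.leaf ⟨263228, [5, 10, 7, 16], 7⟩))) (.node 268038 (.node 267302 (.leaf ⟨265349, [11, 3, 3, 15], 8⟩) (.leaf ⟨267302, [6, 1, 7, 12], 7⟩)) (.node 268275 (.leaf ⟨268038, [10, 11, 2, 3], 3⟩) (.leaf ⟨268275, [10, 4, 5, 16,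 4], 8⟩)))))))) (.node 416885 (.node 358238 (.node 313548 (.node 296074 (.node 280405 (.node 272096 (.leaf ⟨271146, [4, 4, 8, 17], 3⟩) (.node 280110 (.leaf ⟨272096, [1, 7, 1], 3⟩) (.leaf ⟨280110, [3, 6, 1, 16], 3⟩))) (.node 289137 (.node 286716 (.leaf ⟨280405, [4, 1, 5], 0⟩) (.leaf ⟨286716, [10, 3, 2], 4⟩)) (.node 292326 (.leaf ⟨289137, [10, 1], 1⟩) (.leaf ⟨292326, [10, 3, 16, 2], 8⟩)))) (.node 303683 (.node 298029 (.leaf ⟨296074, [1, 1, 16, 10], 8⟩) (.node 303444 (.leaf ⟨298029, [2, 16, 9], 4⟩) (.leaf ⟨303444, [10, 4, 6, 4], 3⟩))) (.node 311233 (.node 309932 (.leaf ⟨303683, [16, 10, 1], 6⟩) (.leaf ⟨309932, [16, 6, 15], 2⟩)) (.node 313228 (.leaf ⟨311233, [8, 10, 4, 15], 8⟩) (.leaf ⟨313228, [1, 16], 6⟩))))) (.node 341596 (.node 334144 (.node 317392 (.leaf ⟨313548, [17, 1, 3, 9, 7], 8⟩) (.node 322688 (.leaf ⟨317392,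 [5, 4, 4, 13, 6], 7⟩) (.leaf ⟨322688, [2, 9, 3], 2⟩))) (.node 338262 (.node 337192 (.leaf ⟨334144, [7, 4, 15], 2⟩) (.leaf ⟨337192, [8, 17, 5, 2, 6], 8⟩)) (.node 341496 (.leaf ⟨338262, [8, 11, 17, 3], 5⟩) (.leaf ⟨341496, [7, 4, 9, 12], 5⟩)))) (.node 352399 (.node 348040 (.leaf ⟨341596, [2, 9], 5⟩) (.node 350414 (.leaf ⟨348040, [5, 7, 15, 2, 4], 8⟩) (.leaf ⟨350414, [11, 4, 9, 2], 7⟩))) (.node 355381 (.node 355030 (.leaf ⟨352399, [11, 4, 4, 12], 3⟩) (.leaf ⟨355030, [16, 3, 16], 2⟩)) (.node 356320 (.leaf ⟨355381, [2, 2, 2, 17], 3⟩) (.leaf ⟨356320, [6, 15, 2, 16], 8⟩)))))) (.node 380871 (.node 375242 (.node 365955 (.node 358306 (.leaf ⟨358238, [3, 2, 9, 5, 4], 8⟩) (.node 359259 (.leaf ⟨358306, [6, 11, 2, 2], 8⟩) (.leaf ⟨359259, [10, 12], 1⟩))) (.node 372684 (.node 368254 (.leaf ⟨365955, [11, 6, 2], 2⟩) (.leaf ⟨368254,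 [5, 4, 2, 3], 4⟩)) (.node 373181 (.leaf ⟨372684, [1, 10, 8, 1], 7⟩) (.leaf ⟨373181, [6, 16, 16, 3], 7⟩)))) (.node 379166 (.node 376963 (.leaf ⟨375242, [9, 4, 6, 9], 7⟩) (.node 378589 (.leaf ⟨376963, [9, 2], 1⟩) (.leaf ⟨378589, [2, 8, 3, 2], 3⟩))) (.node 379506 (.node 379438 (.leaf ⟨379166, [9, 9, 6, 3, 6], 8⟩) (.leaf ⟨379438, [5, 4, 17, 4], 6⟩)) (.node 380119 (.leaf ⟨379506, [1, 1, 10, 3], 5⟩) (.leaf ⟨380119, [1, 1, 10, 17], 8⟩))))) (.node 387358 (.node 385213 (.node 381224 (.leaf ⟨380871, [3, 9, 8, 2], 3⟩) (.node 384935 (.leaf ⟨381224, [4, 8, 15, 3], 3⟩) (.leaf ⟨384935, [3, 5, 16, 3], 5⟩))) (.node 386900 (.node 386588 (.leaf ⟨385213, [4, 10, 8, 13, 2], 3⟩) (.leaf ⟨386588, [3, 6, 3, 11], 4⟩)) (.node 386904 (.leaf ⟨386900, [2, 5, 10, 5], 5⟩) (.leaf ⟨386904, [6, 15, 3], 7⟩)))) (.node 388188 (.node 387576 (.leaf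 ⟨387358, [12, 3, 3, 12], 3⟩) (.node 388160 (.leaf ⟨387576, [13, 11, 4, 8, 3], 8⟩) (.leaf ⟨388160, [6, 1, 7, 3], 3⟩))) (.node 410709 (.node 397382 (.leaf ⟨388188, [1, 16, 8], 1⟩) (.leaf ⟨397382, [2, 15, 10, 3], 3⟩)) (.node 414976 (.leaf ⟨410709, [1, 10, 1, 1], 7⟩) (.leaf ⟨414976, [10, 10, 13, 1, 1], 8⟩))))))) (.node 464735 (.node 450283 (.node 430230 (.node 423032 (.node 419545 (.leaf ⟨416885, [1, 12, 15, 3, 2], 8⟩) (.node 422769 (.leaf ⟨419545, [1, 17, 7, 3], 3⟩) (.leaf ⟨422769, [2, 3, 9, 7], 3⟩))) (.node 426880 (.node 424938 (.leaf ⟨423032, [5, 16, 2, 13, 5], 6⟩) (.leaf ⟨424938, [1, 4, 7], 1⟩)) (.node 429993 (.leaf ⟨426880, [10, 4, 9, 2], 8⟩) (.leaf ⟨429993, [7, 9, 3, 1], 4⟩)))) (.node 444628 (.node 437612 (.leaf ⟨430230, [7, 12, 3], 2⟩) (.node 443269 (.leaf ⟨437612, [11, 17], 3⟩) (.leaf ⟨443269, [17, 16,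 2, 2], 8⟩))) (.node 448699 (.node 448177 (.leaf ⟨444628, [16, 1], 2⟩) (.leaf ⟨448177, [4, 10, 6], 2⟩)) (.node 449246 (.leaf ⟨448699, [6, 13, 10, 1, 5], 8⟩) (.leaf ⟨449246, [7, 9, 7, 2], 4⟩))))) (.node 454215 (.node 451901 (.node 450591 (.leaf ⟨450283, [15, 7, 16, 2], 7⟩) (.node 451706 (.leaf ⟨450591, [1, 13, 4, 15], 3⟩) (.leaf ⟨451706, [5, 9, 1, 16], 7⟩))) (.node 452566 (.node 452524 (.leaf ⟨451901, [6, 8, 9, 2, 3], 5⟩) (.leaf ⟨452524, [2, 10, 12, 2], 8⟩)) (.node 453569 (.leaf ⟨452566, [1, 6, 9, 11, 1], 8⟩) (.leaf ⟨453569, [9], 3⟩)))) (.node 456678 (.node 455206 (.leaf ⟨454215, [13, 17, 5, 15, 3], 6⟩) (.node 455440 (.leaf ⟨455206, [3, 9, 13, 4], 2⟩) (.leaf ⟨455440, [7, 12, 4, 9, 2], 8⟩))) (.node 458424 (.node 457691 (.leaf ⟨456678, [6, 2, 13, 3], 3⟩) (.leaf ⟨457691, [6, 17, 1, 15], 8⟩)) (.node 461615 (.leaf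 ⟨458424, [16, 2, 3], 3⟩) (.leaf ⟨461615, [16, 3, 17, 1, 1], 6⟩)))))) (.node 502672 (.node 477525 (.node 472170 (.node 467133 (.leaf ⟨464735, [9, 9, 3, 9], 4⟩) (.node 470132 (.leaf ⟨467133, [8, 16, 10], 1⟩) (.leaf ⟨470132, [15, 15, 5], 2⟩))) (.node 476611 (.node 476490 (.leaf ⟨472170, [1, 9, 2, 12, 8], 8⟩) (.leaf ⟨476490, [2, 7, 10], 5⟩)) (.node 477258 (.leaf ⟨476611, [5, 17, 12, 17], 7⟩) (.leaf ⟨477258, [1, 10, 6, 3, 7], 8⟩)))) (.node 489013 (.node 485355 (.leaf ⟨477525, [10, 10], 2⟩) (.node 485827 (.leaf ⟨485355, [13, 4, 4, 7], 7⟩) (.leaf ⟨485827, [4, 8, 1, 5], 3⟩))) (.node 501023 (.node 492638 (.leaf ⟨489013, [2, 8, 9, 5], 7⟩) (.leaf ⟨492638, [9, 8, 12, 2, 3], 5⟩)) (.node 502433 (.leaf ⟨501023, [16, 10, 3, 6], 8⟩) (.leaf ⟨502433, [15, 8, 10, 4], 7⟩))))) (.node 517341 (.node 511452 (.node 503353 (.leaf ⟨502672,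 [3, 12, 3, 17], 5⟩) (.node 504903 (.leaf ⟨503353, [5, 12], 5⟩) (.leaf ⟨504903, [5, 12, 17], 7⟩))) (.node 515450 (.node 513017 (.leaf ⟨511452, [9, 8, 2, 5], 6⟩) (.leaf ⟨513017, [4, 4, 6, 15], 3⟩)) (.node 515981 (.leaf ⟨515450, [16], 1⟩) (.leaf ⟨515981, [5, 2], 7⟩)))) (.node 521218 (.node 519053 (.leaf ⟨517341, [3, 17, 3, 9], 3⟩) (.node 519854 (.leaf ⟨519053, [17, 16, 7, 2], 8⟩) (.leaf ⟨519854, [5, 4, 7], 6⟩))) (.node 525803 (.node 524308 (.leaf ⟨521218, [15, 8, 15, 12, 2], 8⟩) (.leaf ⟨524308, [5, 3, 5, 9, 2], 8⟩)) (.node 526756 (.leaf ⟨525803, [13, 3, 2, 7, 1], 8⟩) (.leaf ⟨526756, [7, 15, 3, 3], 6⟩))))))))) (.node 740261 (.node 650936 (.node 602500 (.node 585276 (.node 569810 (.node 554532 (.node 551011 (.leaf ⟨533489, [1, 10, 11, 1, 7], 8⟩) (.node 553520 (.leaf ⟨551011, [4, 13, 6, 4], 3⟩) (.leaf ⟨553520, [5,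 1, 8, 4], 5⟩))) (.node 555656 (.node 554828 (.leaf ⟨554532, [13, 7, 4, 11, 9], 8⟩) (.leaf ⟨554828, [6, 1, 10, 5], 6⟩)) (.node 564202 (.leaf ⟨555656, [4, 11, 3, 2], 3⟩) (.leaf ⟨564202, [15, 11, 3, 1], 7⟩)))) (.node 574547 (.node 572010 (.leaf ⟨569810, [1, 7, 3, 15], 1⟩) (.node 573544 (.leaf ⟨572010, [11, 7, 4, 12, 8], 8⟩) (.leaf ⟨573544, [2, 9, 15], 7⟩))) (.node 575693 (.node 574916 (.leaf ⟨574547, [4, 16, 11, 2], 3⟩) (.leaf ⟨574916, [5, 4, 16, 11, 9, 3], 8⟩)) (.node 576937 (.leaf ⟨575693, [13, 6, 6], 2⟩) (.leaf ⟨576937, [8, 16], 1⟩))))) (.node 593797 (.node 588799 (.node 586353 (.leaf ⟨585276, [5, 2, 2], 8⟩) (.node 587581 (.leaf ⟨586353, [13, 2, 3, 1], 6⟩) (.leaf ⟨587581, [5, 4, 11, 2], 5⟩))) (.node 592768 (.node 592314 (.leaf ⟨588799, [9, 3, 1, 5, 1], 8⟩) (.leaf ⟨592314, [15, 6, 4, 11], 7⟩)) (.node 593719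 (.leaf ⟨592768, [7], 2⟩) (.leaf ⟨593719, [4, 4, 16, 7, 3], 8⟩)))) (.node 596416 (.node 595542 (.leaf ⟨593797, [7, 5, 1, 16], 7⟩) (.node 595710 (.leaf ⟨595542, [8, 2, 5, 2, 8], 8⟩) (.leaf ⟨595710, [10, 7, 9, 3], 7⟩))) (.node 599041 (.node 597314 (.leaf ⟨596416, [11, 16, 5, 7], 7⟩) (.leaf ⟨597314, [1, 6, 17, 1, 6], 8⟩)) (.node 599878 (.leaf ⟨599041, [3, 2, 9, 12, 4], 8⟩) (.leaf ⟨599878, [5, 13, 2, 12, 8], 7⟩)))))) (.node 626113 (.node 617324 (.node 607365 (.node 603038 (.leaf ⟨602500, [7, 3, 3, 16], 5⟩) (.node 603367 (.leaf ⟨603038, [7, 3, 15], 7⟩) (.leaf ⟨603367, [11, 2, 3], 3⟩))) (.node 611600 (.node 609251 (.leaf ⟨607365, [2, 9, 13, 3], 3⟩) (.leaf ⟨609251, [1, 13, 1, 6], 8⟩)) (.node 615423 (.leaf ⟨611600, [5, 16, 1, 4], 7⟩) (.leaf ⟨615423, [1, 8], 1⟩)))) (.node 619970 (.node 617448 (.leaf ⟨617324, [5, 4, 1,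 15], 3⟩) (.node 619640 (.leaf ⟨617448, [8, 16, 7, 4], 8⟩) (.leaf ⟨619640, [4, 7, 15, 17, 4], 8⟩))) (.node 621805 (.node 621699 (.leaf ⟨619970, [11, 4, 10, 1], 7⟩) (.leaf ⟨621699, [15, 6], 2⟩)) (.node 624769 (.leaf ⟨621805, [6, 4, 6, 4], 3⟩) (.leaf ⟨624769, [15, 8, 2, 12], 7⟩))))) (.node 641799 (.node 634987 (.node 627413 (.leaf ⟨626113, [1, 7, 3], 3⟩) (.node 628558 (.leaf ⟨627413, [12], 2⟩) (.leaf ⟨628558, [16, 10, 3, 1], 7⟩))) (.node 638390 (.node 637642 (.leaf ⟨634987, [6, 4, 1, 11], 3⟩) (.leaf ⟨637642, [6, 9, 4, 5, 2], 5⟩)) (.node 640350 (.leaf ⟨638390, [13, 16], 3⟩) (.leaf ⟨640350, [7, 13, 5, 1], 7⟩)))) (.node 648363 (.node 644560 (.leaf ⟨641799, [4, 6, 6, 4, 4], 6⟩) (.node 647307 (.leaf ⟨644560, [8, 12, 9, 12, 4], 8⟩) (.leaf ⟨647307, [10, 2, 12, 16], 7⟩))) (.node 650304 (.node 648479 (.leaf ⟨648363, [17,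 7, 9, 15, 4], 8⟩) (.leaf ⟨648479, [3, 15, 13, 2], 3⟩)) (.node 650585 (.leaf ⟨650304, [13, 7, 3, 12], 8⟩) (.leaf ⟨650585, [13, 2, 12, 2], 8⟩))))))) (.node 697685 (.node 679150 (.node 665791 (.node 659024 (.node 653226 (.leaf ⟨650936, [13, 6, 3, 5], 8⟩) (.node 655264 (.leaf ⟨653226, [8, 3, 17, 12], 7⟩) (.leaf ⟨655264, [5, 13, 4, 17], 5⟩))) (.node 661847 (.node 660925 (.leaf ⟨659024, [3, 17, 10, 4], 2⟩) (.leaf ⟨660925, [8, 2, 3], 3⟩)) (.node 664058 (.leaf ⟨661847, [11, 7, 2, 4, 5], 8⟩) (.leaf ⟨664058, [7, 16, 16, 4], 8⟩)))) (.node 669862 (.node 666645 (.leaf ⟨665791, [4, 11, 2, 5], 3⟩) (.node 667758 (.leaf ⟨666645, [7, 3, 2], 2⟩) (.leaf ⟨667758, [9, 1], 6⟩))) (.node 672893 (.node 671357 (.leaf ⟨669862, [17, 16, 4, 15, 6], 8⟩) (.leaf ⟨671357, [13, 1, 4, 1], 7⟩)) (.node 676553 (.leaf ⟨672893, [10, 2, 5, 1], 8⟩)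 (.leaf ⟨676553, [11, 15, 12, 1], 7⟩))))) (.node 687141 (.node 681492 (.node 680301 (.leaf ⟨679150, [2, 4, 10], 2⟩) (.node 680950 (.leaf ⟨680301, [2, 6, 7], 1⟩) (.leaf ⟨680950, [7, 3, 2, 8, 4], 8⟩))) (.node 683837 (.node 682506 (.leaf ⟨681492, [9, 4, 4], 1⟩) (.leaf ⟨682506, [7, 12], 3⟩)) (.node 686169 (.leaf ⟨683837, [11, 8, 2, 12], 8⟩) (.leaf ⟨686169, [10, 16, 4, 4], 7⟩)))) (.node 691803 (.node 687378 (.leaf ⟨687141, [2, 11, 8, 16], 7⟩) (.node 688772 (.leaf ⟨687378, [4, 12, 8, 4], 3⟩) (.leaf ⟨688772, [13, 15, 9, 2, 7], 8⟩))) (.node 695182 (.node 691875 (.leaf ⟨691803, [2, 13, 16, 5, 4], 8⟩) (.leaf ⟨691875, [8, 3, 3, 12], 5⟩)) (.node 696580 (.leaf ⟨695182, [15, 4, 4, 12], 3⟩) (.leaf ⟨696580, [7, 5, 16], 5⟩)))))) (.node 721447 (.node 706050 (.node 701274 (.node 699368 (.leaf ⟨697685, [2, 5, 15], 4⟩) (.node 699689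 (.leaf ⟨699368, [8, 4, 9], 4⟩) (.leaf ⟨699689, [12, 1, 13, 10], 7⟩))) (.node 703310 (.node 701945 (.leaf ⟨701274, [16, 6, 7, 7], 7⟩) (.leaf ⟨701945, [10, 1, 3, 15], 7⟩)) (.node 704500 (.leaf ⟨703310, [16, 12, 3, 6], 7⟩) (.leaf ⟨704500, [6, 3, 11], 4⟩)))) (.node 717392 (.node 707211 (.leaf ⟨706050, [10, 15, 4, 9, 2], 8⟩) (.node 710896 (.leaf ⟨707211, [6, 1, 13, 16], 7⟩) (.leaf ⟨710896, [7, 6, 4], 1⟩))) (.node 721068 (.node 720186 (.leaf ⟨717392, [16, 16, 5], 3⟩) (.leaf ⟨720186, [16, 1, 8, 16], 6⟩)) (.node 721300 (.leaf ⟨721068, [12, 15, 3, 3], 7⟩) (.leaf ⟨721300, [2, 8, 1, 7], 5⟩))))) (.node 729958 (.node 728806 (.node 724618 (.leaf ⟨721447, [2, 15, 3, 1], 2⟩) (.node 728262 (.leaf ⟨724618, [10, 13], 0⟩) (.leaf ⟨728262, [3, 10, 4], 8⟩))) (.node 729783 (.node 729565 (.leaf ⟨728806, [4, 17], 2⟩) (.leaf ⟨729565,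 [16, 7, 10], 7⟩)) (.node 729820 (.leaf ⟨729783, [3, 9, 16, 2], 8⟩) (.leaf ⟨729820, [2, 10, 3], 5⟩)))) (.node 737495 (.node 731650 (.leaf ⟨729958, [16, 6, 1, 5], 8⟩) (.node 733494 (.leaf ⟨731650, [8, 6, 2, 10], 8⟩) (.leaf ⟨733494, [8, 11, 4], 1⟩))) (.node 738004 (.node 737576 (.leaf ⟨737495, [1, 16, 6, 9], 6⟩) (.leaf ⟨737576, [15, 17, 6, 7], 7⟩)) (.node 738565 (.leaf ⟨738004, [4, 4, 4], 1⟩) (.leaf ⟨738565, [2, 13, 12, 3], 3⟩)))))))) (.node 880785 (.node 807863 (.node 765240 (.node 752693 (.node 748444 (.node 740824 (.leaf ⟨740261, [17, 2, 3, 6], 7⟩) (.node 744050 (.leaf ⟨740824, [2, 13, 5], 4⟩) (.leaf ⟨744050, [17, 10], 1⟩))) (.node 752338 (.node 749118 (.leaf ⟨748444, [8, 10, 2, 7], 4⟩) (.leaf ⟨749118, [2, 3, 6, 2], 3⟩)) (.node 752445 (.leaf ⟨752338, [4, 1, 9, 11, 1], 8⟩) (.leaf ⟨752445, [12, 9, 3, 9], 7⟩))))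 (.node 762239 (.node 761637 (.leaf ⟨752693, [16, 12, 2, 4], 5⟩) (.node 761722 (.leaf ⟨761637, [11, 5, 10, 6, 2], 7⟩) (.leaf ⟨761722, [16, 13, 2, 6, 2], 3⟩))) (.node 762920 (.node 762271 (.leaf ⟨762239, [2, 16, 5, 12], 5⟩) (.leaf ⟨762271, [13, 10, 4, 8], 7⟩)) (.node 763529 (.leaf ⟨762920, [4, 15, 4, 6], 3⟩) (.leaf ⟨763529, [2, 8, 6, 16], 5⟩))))) (.node 785892 (.node 774136 (.node 769982 (.leaf ⟨765240, [13, 6, 2, 12], 5⟩) (.node 772458 (.leaf ⟨769982, [13, 4, 17, 8, 3], 8⟩) (.leaf ⟨772458, [15, 10, 1, 10], 6⟩))) (.node 782148 (.node 777703 (.leaf ⟨774136, [11, 3, 16, 1], 7⟩) (.leaf ⟨777703, [11, 9, 5], 7⟩)) (.node 784899 (.leaf ⟨782148, [11, 7, 10, 10], 7⟩) (.leaf ⟨784899, [1, 12, 1, 8, 8], 8⟩)))) (.node 793956 (.node 786088 (.leaf ⟨785892, [13, 9], 3⟩) (.node 793323 (.leaf ⟨786088, [7, 4, 1, 15], 2⟩) (.leaf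 ⟨793323, [8, 4, 4], 7⟩))) (.node 806691 (.node 794422 (.leaf ⟨793956, [3, 16, 8, 2], 4⟩) (.leaf ⟨794422, [6, 1, 16, 6], 7⟩)) (.node 806719 (.leaf ⟨806691, [9, 8, 3, 2], 6⟩) (.leaf ⟨806719, [11, 17, 13, 2, 4], 8⟩)))))) (.node 841840 (.node 825651 (.node 817141 (.node 809775 (.leaf ⟨807863, [7, 3, 3, 3], 6⟩) (.node 813630 (.leaf ⟨809775, [9, 11, 1, 10], 6⟩) (.leaf ⟨813630, [12, 10, 4, 1], 7⟩))) (.node 820881 (.node 819177 (.leaf ⟨817141, [5, 7, 4, 6], 6⟩) (.leaf ⟨819177, [12, 4, 12, 1], 6⟩)) (.node 824327 (.leaf ⟨820881, [11, 8, 8, 4], 8⟩) (.leaf ⟨824327, [5, 16, 4, 5], 7⟩)))) (.node 833812 (.node 828898 (.leaf ⟨825651, [5, 16, 4, 4], 2⟩) (.node 833262 (.leaf ⟨828898, [11, 1], 6⟩) (.leaf ⟨833262, [5, 9, 17, 9], 7⟩))) (.node 838592 (.node 837623 (.leaf ⟨833812, [6, 8, 16, 1, 1], 8⟩) (.leaf ⟨837623, [12, 3, 3],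 1⟩)) (.node 839302 (.leaf ⟨838592, [6, 2, 2, 2], 7⟩) (.leaf ⟨839302, [6, 6], 7⟩))))) (.node 859042 (.node 847735 (.node 843190 (.leaf ⟨841840, [7, 4, 7, 4], 7⟩) (.node 846481 (.leaf ⟨843190, [2, 12, 3], 3⟩) (.leaf ⟨846481, [8, 11, 8, 3, 8], 8⟩))) (.node 856504 (.node 847807 (.leaf ⟨847735, [13, 16, 16, 1, 1], 8⟩) (.leaf ⟨847807, [13, 8, 5, 9], 7⟩)) (.node 858506 (.leaf ⟨856504, [16, 7, 4, 7, 2], 8⟩) (.leaf ⟨858506, [17, 3, 11, 8, 3], 7⟩)))) (.node 865765 (.node 859897 (.leaf ⟨859042, [3, 5, 4, 1, 9], 5⟩) (.node 865716 (.leaf ⟨859897, [1, 1, 3, 10], 8⟩) (.leaf ⟨865716, [2, 3, 11, 10, 2], 8⟩))) (.node 871998 (.node 871684 (.leaf ⟨865765, [6, 15], 3⟩) (.leaf ⟨871684, [4, 15, 2, 6], 8⟩)) (.node 875942 (.leaf ⟨871998, [11, 3, 10], 2⟩) (.leaf ⟨875942, [7, 9, 4, 7], 4⟩))))))) (.node 929908 (.node 906966 (.node 891648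 (.node 884714 (.node 882398 (.leaf ⟨880785, [12, 4, 1, 16, 9], 8⟩) (.node 883820 (.leaf ⟨882398, [4, 12, 7], 2⟩) (.leaf ⟨883820, [3, 3, 11, 5], 5⟩))) (.node 889131 (.node 887275 (.leaf ⟨884714, [8, 12, 10, 2, 2], 8⟩) (.leaf ⟨887275, [16, 3, 9, 1], 7⟩)) (.node 890693 (.leaf ⟨889131, [6, 7, 13], 0⟩) (.leaf ⟨890693, [4, 7, 4, 4], 3⟩)))) (.node 894605 (.node 893395 (.leaf ⟨891648, [6, 10, 13, 1, 5], 8⟩) (.node 894035 (.leaf ⟨893395, [6, 13, 3, 9], 4⟩) (.leaf ⟨894035, [16, 6, 4, 2], 7⟩))) (.node 897500 (.node 896859 (.leaf ⟨894605, [7, 9, 2], 1⟩) (.leaf ⟨896859, [8, 12, 9, 5, 4], 8⟩)) (.node 902991 (.leaf ⟨897500, [9, 8, 8, 4], 5⟩) (.leaf ⟨902991, [7, 4, 5, 9], 8⟩))))) (.node 924536 (.node 913288 (.node 907839 (.leaf ⟨906966, [6, 11, 1, 7], 6⟩) (.node 912949 (.leaf ⟨907839, [9, 4, 7, 3], 5⟩) (.leaf ⟨912949, [5,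 5, 1, 15], 7⟩))) (.node 919150 (.node 916779 (.leaf ⟨913288, [3, 15, 17, 2], 8⟩) (.leaf ⟨916779, [4, 6, 9], 1⟩)) (.node 923213 (.leaf ⟨919150, [4, 4, 7, 12], 3⟩) (.leaf ⟨923213, [13, 6, 3, 7], 7⟩)))) (.node 927204 (.node 924717 (.leaf ⟨924536, [10, 7, 3], 7⟩) (.node 926682 (.leaf ⟨924717, [1, 1, 9, 12, 3], 5⟩) (.leaf ⟨926682, [15, 17, 6, 8, 1, 1], 8⟩))) (.node 927603 (.node 927561 (.leaf ⟨927204, [4, 6, 4, 15], 3⟩) (.leaf ⟨927561, [7, 4, 11, 4], 3⟩)) (.node 928787 (.leaf ⟨927603, [7, 16], 1⟩) (.leaf ⟨928787, [4, 8, 13, 2], 6⟩)))))) (.node 970198 (.node 954551 (.node 936600 (.node 931041 (.leaf ⟨929908, [5, 17, 16], 5⟩) (.node 934415 (.leaf ⟨931041, [2, 8, 10, 4], 1⟩) (.leaf ⟨934415, [8, 9], 0⟩))) (.node 943814 (.node 943406 (.leaf ⟨936600, [10, 11, 1, 12], 6⟩) (.leaf ⟨943406, [10, 16, 6, 3, 6], 8⟩)) (.node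 946335 (.leaf ⟨943814, [3, 17, 2, 4, 6], 8⟩) (.leaf ⟨946335, [2, 3, 12, 10], 3⟩)))) (.node 967369 (.node 955474 (.leaf ⟨954551, [1, 4, 9], 2⟩) (.node 959908 (.leaf ⟨955474, [7, 4, 1, 11], 3⟩) (.leaf ⟨959908, [3, 12, 2, 3, 5], 3⟩))) (.node 968561 (.node 967719 (.leaf ⟨967369, [5, 8, 3, 1], 7⟩) (.leaf ⟨967719, [8, 11, 7, 3], 7⟩)) (.node 969468 (.leaf ⟨968561, [9, 8, 10], 2⟩) (.leaf ⟨969468, [3, 13, 4, 4, 8], 5⟩))))) (.node 981332 (.node 978095 (.node 972866 (.leaf ⟨970198, [7, 4, 11], 8⟩) (.node 974228 (.leaf ⟨972866, [15, 11, 7, 2], 7⟩) (.leaf ⟨974228, [1, 12, 13, 1, 9], 8⟩))) (.node 981033 (.node 980202 (.leaf ⟨978095, [1, 7, 10, 3], 3⟩) (.leaf ⟨980202, [12, 6, 13, 8, 4], 7⟩)) (.node 981048 (.leaf ⟨981033, [13, 8, 3, 17], 6⟩) (.leaf ⟨981048, [1, 6, 10, 4, 9], 8⟩)))) (.node 989734 (.node 985564 (.leaf ⟨981332,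 [15, 3, 9], 7⟩) (.node 988619 (.leaf ⟨985564, [16, 16, 1, 1, 6], 8⟩) (.leaf ⟨988619, [2, 16, 13, 4], 7⟩))) (.node 996791 (.node 994955 (.leaf ⟨989734, [10], 2⟩) (.leaf ⟨994955, [2, 2, 2, 16], 2⟩)) (.node 997355 (.leaf ⟨996791, [7, 4, 13, 8], 7⟩) (.leaf ⟨997355, [7, 2, 3], 2⟩))))))))))
noncomputable def F : FD := ⟨1000003, FB, [[[], [4], [8], [4, 2], [4, 6], [4, 14], [8, 6], [4, 2, 4], [4, 6, 4], [4, 2, 6], [4, 2, 14], [4, 14, 6], [4, 6, 14], [8, 6, 4], [4, 6, 8], [8, 6, 8], [4, 2, 14, 4], [4, 6, 4, 2], [4, 2, 4, 6], [4, 2, 6, 4], [4, 6, 14, 4], [4, 2, 6, 8], [4, 6, 4, 8], [8, 6, 4, 2], [4, 6, 8, 4], [4, 14, 6, 8], [4, 6, 14, 8], [8, 6, 4, 14], [4, 2, 4, 6, 4], [4, 2, 4, 6, 8], [4, 6, 4, 2, 8], [4, 6, 14, 4, 2]], [[], [6], [4], [4, 2], [4, 6], [6, 4], [4, 2, 4], [4, 6, 4]], [[], [2]]]⟩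
noncomputable def cs0 : List (List Nat × Nat) := [([13], 1), ([9, 12], 3), ([9, 4, 11, 2], 5)]
noncomputable def zs0 : List (List Nat × XC) := [([], ([], [])), ([13], ([], []))]
noncomputable def C0T : Tr := (.op 2 0 (.op 5 0 (.xor 1 0 (.focus 0 (.sym [[1]] (.cons [] 1 1 (.focus 1 (.op 4 0 (.focus 0 (.cons [] 0 1 (.focus 3 (.op 16 0 (.op 16 0 (.focus 0 (.cons [] 0 1 (.focus 6 (.op 10 3 (.op 16 0 (.focus 0 (.cons [] 0 1 (.focus 9 (.op 16 0 (.focus 0 (.cons [] 0 1 (.focus 11 (.op 10 5 (.focus 0 (.cons [] 0 1 .triv .nil)))) .nil)))) .nil))))) .nil))))) .nil)))) (.cons [2] 1 0 (.op 11 0 (.and 1 0 (.dead0 0))) (.cons [3] 1 0 (.op 13 0 (.op 20 0 (.and 1 0 (.dead0 0)))) (.cons [3, 3] 1 0 (.op 10 0 (.op 20 0 (.and 1 0 (.dead0 0)))) (.cons [3, 1] 1 0 (.op 11 0 (.and 1 0 (.dead0 0))) (.cons [8, 1] 1 0 (.op 16 0 (.op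 11 0 (.and 1 0 (.dead0 0)))) (.cons [4, 2] 1 0 (.op 16 0 (.op 11 0 (.and 1 0 (.dead0 0)))) (.cons [5, 1] 1 0 (.op 16 0 (.op 11 0 (.and 1 0 (.dead0 0)))) (.cons [4, 4] 1 0 (.op 19 0 (.op 11 0 (.and 1 0 (.dead0 0)))) (.cons [3, 1, 4] 1 0 (.op 16 0 (.op 11 0 (.and 1 0 (.dead0 0)))) (.cons [1, 3, 1] 1 0 (.op 20 0 (.and 1 0 (.dead0 0))) (.cons [4, 2, 3] 1 0 (.op 19 0 (.op 11 0 (.and 1 0 (.dead0 0)))) (.cons [4, 1, 4] 1 0 (.op 16 0 (.op 11 0 (.and 1 0 (.dead0 0)))) (.cons [4, 1, 3] 1 0 (.op 11 0 (.and 1 0 (.dead0 0))) (.cons [3, 3, 1, 4] 1 0 (.op 11 0 (.and 1 0 (.dead0 0))) (.cons [4, 1, 3, 3] 1 0 (.op 16 0 (.op 11 0 (.and 1 0 (.dead0 0)))) .nil)))))))))))))))))))))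
noncomputable def C0TK : List (List Nat) := [[13]]
noncomputable def C0TF : List (List Nat) := [[], [1], [3], [3, 3], [3, 3, 3], [5], [5, 5], [5, 5, 5, 5, 5]]
noncomputable def C0 : CD := ⟨[⟨53, [[1], [3]], 7⟩, ⟨28, [[16, 16], [4, 7, 1], [2, 13, 1]], 4⟩, ⟨8, [[2, 13, 1], [3, 13, 4], [2, 12, 6, 3]], 4⟩, ⟨59, [[3, 13, 4], [10, 13, 9], [1, 8, 8, 2]], 2⟩, ⟨61, [[2, 13, 1], [10, 13, 9]], 2⟩, ⟨39, [[10, 13, 9]], 1⟩], C0TF, C0TK, C0T⟩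
noncomputable def cs1 : List (List Nat × Nat) := [([11, 5], 1), ([5, 15, 4, 16], 3), ([15, 9, 17, 4], 6)]
noncomputable def zs1 : List (List Nat × XC) := [([], ([], [])), ([11, 5], ([], []))]
noncomputable def C1T : Tr := (.op 2 0 (.op 5 0 (.xor 1 0 (.focus 0 (.sym [[1]] (.cons [] 1 1 (.op 4 0 (.focus 0 (.cons [] 0 1 (.focus 3 (.base (nat_lit 0x1800c8c000180031) (.op 16 0 (.focus 0 (.base (nat_lit 0x2013203819820882) (.focus 0 (.op 10 0 (.xor 9 0 (.focus 0 (.cons [] 0 1 (.focus 4 (.focus 2 (.xor 11 3 (.focus 0 (.cons [] 0 1 (.focus 5 (.focus 4 (.xor 13 6 (.focus 0 (.base (nat_lit 0x1002000000800) (.op 10 0 (.focus 0 (.cons [] 0 1 (.focus 5 (.focus 15 (.focus 7 (.base (nat_lit 0x4000000200000000) (.focus 0 (.cons [] 0 1 .triv .nil)))))) .nil)))))))) .nil))))) .nil)))))))))) .nil))) (.cons [1] 1 0 (.op 16 0 (.op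 11 0 (.and 1 0 (.dead0 0)))) (.cons [3] 1 0 (.op 11 0 (.and 1 0 (.dead0 0))) (.cons [2] 1 0 (.op 16 0 (.op 11 0 (.and 1 0 (.dead0 0)))) (.cons [2, 4] 1 0 (.op 16 0 (.op 11 0 (.and 1 0 (.dead0 0)))) (.cons [1, 3] 1 0 (.op 10 0 (.op 19 0 (.op 11 0 (.and 1 0 (.dead0 0))))) (.cons [3, 3] 1 0 (.op 16 0 (.op 11 0 (.and 1 0 (.dead0 0)))) (.cons [11, 1] 1 0 (.op 16 0 (.op 11 0 (.and 1 0 (.dead0 0)))) (.cons [3, 2] 1 0 (.op 11 0 (.and 1 0 (.dead0 0))) (.cons [6, 2] 1 0 (.op 16 0 (.op 11 0 (.and 1 0 (.dead0 0)))) (.cons [1, 4, 4] 1 0 (.op 16 0 (.op 11 0 (.and 1 0 (.dead0 0)))) (.cons [1, 4, 1] 1 0 (.op 16 0 (.op 11 0 (.and 1 0 (.dead0 0)))) (.cons [1, 3, 3] 1 0 (.op 11 0 (.and 1 0 (.dead0 0))) (.cons [1, 1, 4] 1 0 (.op 16 0 (.op 11 0 (.and 1 0 (.dead0 0)))) (.cons [2, 3, 1] 1 0 (.op 11 0 (.and 1 0 (.dead0 0))) (.cons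 [2, 2, 4] 1 0 (.op 16 0 (.op 11 0 (.and 1 0 (.dead0 0)))) (.cons [4, 4, 1] 1 0 (.op 11 0 (.and 1 0 (.dead0 0))) (.cons [1, 3, 1] 1 0 (.op 16 0 (.op 11 0 (.and 1 0 (.dead0 0)))) (.cons [5, 2, 4] 1 0 (.base (nat_lit 0x3853e8f81d9a08b3) (.op 16 1 (.and 1 0 (.dead0 0)))) (.cons [15, 3, 3] 1 0 (.op 16 0 (.op 11 0 (.and 1 0 (.dead0 0)))) (.cons [19, 1, 4] 1 0 (.op 16 0 (.op 11 0 (.and 1 0 (.dead0 0)))) (.cons [10, 4, 4] 1 0 (.op 10 0 (.op 19 0 (.op 11 0 (.and 1 0 (.dead0 0))))) (.cons [4, 4, 1, 3] 1 0 (.op 11 0 (.and 1 0 (.dead0 0))) (.cons [3, 3, 2, 4] 1 0 (.op 16 0 (.op 11 0 (.and 1 0 (.dead0 0)))) .nil)))))))))))))))))))))))))))))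
noncomputable def C1TK : List (List Nat) := [[11, 5]]
noncomputable def C1TF : List (List Nat) := [[], [1], [3], [3, 3], [3, 3, 3], [5], [5, 5], [5, 5, 5], [5, 5, 5, 5], [5, 5, 5, 5, 5, 5]]
noncomputable def C1 : CD := ⟨[⟨6, [[1], [3]], 6⟩, ⟨26, [[8, 8], [4, 1, 1], [3, 9, 1]], 3⟩, ⟨7, [[4, 13, 3], [3, 17, 4], [12, 5, 5], [6, 17, 5], [10, 17, 9]], 3⟩, ⟨18, [[3, 17, 4], [7, 10, 7, 9], [2, 3, 13, 4, 1]], 3⟩, ⟨37, [[3, 17, 4], [2, 3, 13, 4, 1]], 2⟩, ⟨62, [[2, 3, 13, 4, 1]], 1⟩], C1TF, C1TK, C1T⟩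
noncomputable def cs2 : List (List Nat × Nat) := [([17, 16, 11], 1), ([8, 16, 5], 2), ([10, 1, 12, 16], 3)]
noncomputable def zs2 : List (List Nat × XC) := [([], ([], [])), ([17, 16, 11], ([], [])), ([13, 17, 12, 10], ([([10, 11], 3)], [1])), ([10, 13, 9], ([([5, 9, 2], 6)], [1]))]
noncomputable def C2T : Tr := (.op 2 0 (.op 5 0 (.xor 1 0 (.focus 0 (.sym [[1], [3]] (.cons [] 1 1 (.focus 1 (.op 4 0 (.focus 0 (.cons [] 0 1 (.focus 3 (.op 10 0 (.op 19 0 (.op 10 0 (.focus 0 (.cons [] 0 1 (.focus 7 (.op 19 0 (.op 10 0 (.focus 0 (.cons [] 0 1 (.focus 10 (.op 4 0 (.focus 0 (.cons [] 0 1 (.focus 12 (.base (nat_lit 1049088) (.focus 0 (.op 16 10 (.xor 16 0 (.focus 0 (.cons [] 0 1 .triv .nil))))))) .nil)))) .nil))))) .nil)))))) .nil)))) (.cons [1] 1 0 (.op 10 0 (.op 17 0 (.and 1 0 (.dead0 0)))) (.cons [4] 1 0 (.op 16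 0 (.op 10 0 (.op 17 0 (.and 1 0 (.dead0 0))))) (.cons [2] 1 0 (.op 17 0 (.and 1 0 (.dead0 0))) (.cons [3, 1] 1 0 (.op 19 0 (.op 10 0 (.op 13 2 (.op 19 0 (.and 2 0 (.dead0 0)))))) (.cons [8, 3] 1 0 (.op 16 0 (.op 10 0 (.op 13 2 (.op 16 0 (.and 2 0 (.dead0 0)))))) (.cons [1, 3] 1 0 (.op 16 0 (.op 10 0 (.op 17 0 (.and 1 0 (.dead0 0))))) (.cons [8, 4] 1 0 (.base (nat_lit 0x486264676a9bc6de) (.op 10 1 (.op 16 0 (.and 2 0 (.dead0 0))))) (.cons [8, 1] 1 0 (.op 10 0 (.op 17 0 (.and 1 0 (.dead0 0)))) (.cons [9, 2] 1 0 (.op 17 0 (.and 1 0 (.dead0 0))) (.cons [4, 2] 1 0 (.op 16 0 (.op 10 0 (.op 13 2 (.op 16 0 (.and 2 0 (.dead0 0)))))) (.cons [13, 4] 1 0 (.op 10 0 (.op 17 0 (.and 1 0 (.dead0 0)))) (.cons [5, 4] 1 0 (.op 17 0 (.and 1 0 (.dead0 0))) (.cons [13, 1] 1 0 (.op 17 0 (.and 1 0 (.dead0 0))) (.cons [2, 4, 2] 1 0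 (.op 10 0 (.op 17 0 (.and 1 0 (.dead0 0)))) (.cons [2, 8, 1] 1 0 (.op 19 0 (.op 10 0 (.op 13 2 (.op 19 0 (.and 2 0 (.dead0 0)))))) .nil)))))))))))))))))))))
noncomputable def C2TK : List (List Nat) := [[17, 16, 11], [10, 13, 9]]
noncomputable def C2TF : List (List Nat) := [[], [1], [3], [3, 3], [5], [5, 5], [5, 5, 5]]
noncomputable def C2 : CD := ⟨[⟨12, [[1], [3]], 6⟩, ⟨54, [[17], [4, 9], [1, 6, 1]], 3⟩, ⟨31, [[2, 13, 1], [5, 12, 5], [2, 8, 8, 1]], 3⟩, ⟨14, [[2, 17, 1], [9, 3, 6, 1, 1], [2, 5, 13, 6, 1]], 2⟩, ⟨37, [[6, 17, 5], [2, 5, 13, 6, 1]], 1⟩, ⟨9, [[3, 8, 17, 7, 4]], 1⟩], C2TF, C2TK, C2T⟩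
noncomputable def cs3 : List (List Nat × Nat) := [([11, 13, 7], 1), ([16, 5, 12, 6], 3), ([5, 8, 13, 16], 3)]
noncomputable def zs3 : List (List Nat × XC) := [([], ([], [])), ([2, 3, 13, 4, 1], ([([7, 1, 7, 2], 6)], [1])), ([11, 13, 7], ([], [])), ([6, 15, 17, 13, 5], ([([7], 0)], [1]))]
noncomputable def C3T : Tr := (.sym [[1], [3]] (.cons [] 1 1 (.op 4 0 (.focus 0 (.cons [] 0 1 (.base (nat_lit 0x2854104d82480800) (.focus 0 (.op 10 0 (.focus 0 (.op 16 1 (.focus 0 (.cons [] 0 1 (.op 4 0 (.focus 0 (.cons [] 0 1 (.base (nat_lit 4672) (.focus 0 (.cons [] 0 1 (.op 4 0 (.focus 0 (.cons [] 0 1 .triv .nil))) (.cons [3] 0 0 (.op 16 2 (.op 13 1 (.and 1 0 (.dead0 0)))) (.cons [1] 0 0 (.op 16 0 (.op 10 1 (.and 1 0 (.dead0 0)))) .nil))))) .nil))) (.cons [3, 6] 0 0 (.base (nat_lit 0x201001040140018) (.op 11 0 (.and 1 0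 (.dead0 0)))) .nil)))))))) .nil))) (.cons [2] 0 0 (.op 5 0 (.and 1 0 (.dead0 0))) (.cons [1] 1 0 (.op 16 0 (.op 10 1 (.and 1 0 (.dead0 0)))) (.cons [4] 1 0 (.base (nat_lit 0x297cb24f8e4a4da5) (.op 16 1 (.and 1 0 (.dead0 0)))) (.cons [2, 3] 1 0 (.base (nat_lit 0x297cb24f8e4a4da5) (.op 10 1 (.and 1 0 (.dead0 0)))) (.cons [1, 3] 1 0 (.op 10 0 (.op 16 0 (.op 4 2 (.op 13 0 (.and 2 0 (.dead0 0)))))) (.cons [3, 3] 1 0 (.base (nat_lit 0x297cb24f8e4a4da5) (.op 16 1 (.and 1 0 (.dead0 0)))) (.cons [5, 4] 1 0 (.base (nat_lit 0x297cb24f8e4a4da5) (.op 10 1 (.and 1 0 (.dead0 0)))) (.cons [11, 3] 1 0 (.op 16 0 (.op 10 1 (.and 1 0 (.dead0 0)))) (.cons [3, 1] 1 0 (.op 10 0 (.op 20 0 (.and 1 0 (.dead0 0)))) (.cons [9, 3] 1 0 (.op 10 0 (.op 16 0 (.op 4 2 (.op 13 0 (.and 2 0 (.dead0 0)))))) (.cons [4, 2] 1 0 (.base (nat_lit 0x297cb24f8e4a4da5)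 (.op 10 1 (.and 1 0 (.dead0 0)))) (.cons [4, 1] 0 0 (.op 5 0 (.and 1 0 (.dead0 0))) (.cons [5, 3] 1 0 (.op 20 0 (.and 1 0 (.dead0 0))) (.cons [1, 4] 1 0 (.op 19 0 (.op 13 1 (.and 1 0 (.dead0 0)))) (.cons [1, 1] 0 0 (.op 5 0 (.and 1 0 (.dead0 0))) (.cons [4, 4] 1 0 (.op 16 0 (.op 10 1 (.and 1 0 (.dead0 0)))) (.cons [8, 2] 1 0 (.op 10 0 (.op 16 0 (.op 4 2 (.op 13 0 (.and 2 0 (.dead0 0)))))) (.cons [2, 2, 3] 0 0 (.op 5 0 (.and 1 0 (.dead0 0))) (.cons [1, 3, 1] 1 0 (.op 16 0 (.op 10 1 (.and 1 0 (.dead0 0)))) (.cons [1, 3, 3] 1 0 (.op 10 0 (.op 16 0 (.op 4 2 (.op 13 0 (.and 2 0 (.dead0 0)))))) (.cons [3, 3, 2] 0 0 (.op 5 0 (.and 1 0 (.dead0 0))) (.cons [3, 3, 1] 1 0 (.op 19 0 (.op 13 1 (.and 1 0 (.dead0 0)))) (.cons [4, 2, 3] 1 0 (.op 19 0 (.op 13 1 (.and 1 0 (.dead0 0)))) (.cons [4, 4, 4] 0 0 (.op 5 0 (.and 1 0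 (.dead0 0))) (.cons [4, 4, 2] 1 0 (.op 11 0 (.and 1 0 (.dead0 0))) (.cons [2, 2, 3, 3] 0 0 (.op 5 0 (.and 1 0 (.dead0 0))) (.cons [2, 2, 4, 2] 1 0 (.op 19 0 (.op 13 1 (.and 1 0 (.dead0 0)))) (.cons [2, 2, 3, 2] 1 0 (.op 13 0 (.op 20 0 (.and 1 0 (.dead0 0)))) .nil))))))))))))))))))))))))))))))
noncomputable def C3TK : List (List Nat) := [[11, 13, 7], [2, 3, 13, 4, 1]]
noncomputable def C3TF : List (List Nat) := [[], [1], [3], [3, 3], [3, 3, 3], [5], [5, 5], [5, 5, 5]]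
noncomputable def C3 : CD := ⟨[⟨24, [[1], [3]], 6⟩, ⟨2, [[5, 11], [16, 16], [10, 4, 2]], 4⟩, ⟨34, [[3, 13, 4], [5, 13, 6], [11, 17, 8]], 4⟩, ⟨36, [[3, 13, 4], [4, 16, 16, 3], [2, 5, 17, 6, 1]], 2⟩, ⟨12, [[3, 13, 4], [2, 11, 17, 12, 1]], 1⟩, ⟨44, [[3, 6, 17, 5, 4]], 1⟩], C3TF, C3TK, C3T⟩
noncomputable def Cr4T : Tr := (.sym [[1], [3], [5], [7]] (.cons [] 3 8 (.op 4 0 (.focus 0 (.cons [] 0 8 (.op 4 0 (.focus 0 (.cons [] 0 8 (.base (nat_lit 0x881005200204000) (.focus 0 (.sym [[9], [11]] (.cons [] 3 1 (.op 4 0 (.focus 0 (.cons [] 0 1 (.op 4 0 (.focus 0 (.cons [] 0 1 .triv .nil))) .nil))) .nil)))) .nil))) .nil))) (.cons [7, 2] 1 0 (.op 8 0 (.and 1 0 (.dead0 0))) (.cons [3, 7, 2] 1 0 (.op 5 0 (.and 1 0 (.dead0 0))) .nil))))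
noncomputable def Cr4TK : List (List Nat) := [[12, 7, 3], [1, 12, 8, 17], [11, 10, 17, 2], [17, 3, 3, 17], [6, 1, 15, 17, 8], [13, 1, 7, 9, 4, 2]]
noncomputable def Cr4TF : List (List Nat) := [[], [1], [1, 1]]
noncomputable def Cr4 : CD := ⟨[⟨35, [[1], [3]], 7⟩, ⟨40, [[13], [17], [2, 3]], 6⟩, ⟨11, [[13], [1, 13, 2], [4, 17, 3], [3, 17, 4], [8, 13, 7]], 3⟩, ⟨33, [[13], [8, 13, 7], [2, 5, 17, 6, 1], [4, 7, 17, 8, 3]], 2⟩, ⟨32, [[13], [4, 7, 17, 8, 3]], 1⟩, ⟨61, [[8, 1, 13, 2, 7]], 1⟩], Cr4TF, Cr4TK, Cr4T⟩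
noncomputable def cr4 : List Lvl := [⟨0, [[1, 9, 11, 6], [1, 18, 9, 12]], 6⟩, ⟨1, [[8, 5, 11, 7], [4, 16, 10, 3, 1]], 3⟩]
noncomputable def b5 : XC := ([([16, 8, 5, 1], 2)], [1])
noncomputable def b6 : XC := ([([10, 10], 0)], [1])
noncomputable def b7 : XC := ([([7, 1, 16, 10], 6)], [1])
noncomputable def b8 : XC := ([([4, 15], 0)], [1])
noncomputable def d1 : List Nat := [12, 13, 9]
noncomputable def d2 : List Nat := [5, 5, 1, 16]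
noncomputable def e1 : XC := ([([1, 17, 9, 12], 6)], [1])
noncomputable def e2 : XC := ([([17, 4, 4, 17], 2)], [1])
noncomputable def e3 : XC := ([([1, 17, 9, 12], 6)], [1])
noncomputable def e4 : XC := ([([2, 6, 1, 3], 2)], [1])

theorem pP : pOK NN 63 6 2 P 9 = true := by decide +kernel
theorem fF : clE NN 63 6 4 P.c R F = true := by decide +kernel
theorem c0 : cleOK NN 63 6 1451520 (lmap xw cs0) C0 (llen zs0) = true := by decide +kernel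
theorem u0 : fuOK (sameW NN 63 6) (difW NN 63 6) (fun _ => true) r0 cs0 zs0 = true := by decide +kernel
theorem c1 : cleOK NN 63 6 1451520 (lmap xw cs1) C1 (llen zs1) = true := by decide +kernel
theorem u1 : fuOK (sameW NN 63 6) (difW NN 63 6) (fun _ => true) r1 cs1 zs1 = true := by decide +kernel
theorem c2 : cleOK NN 63 6 1451520 (lmap xw cs2) C2 (llen zs2) = true := by decide +kernel
theorem u2 : fuOK (sameW NN 63 6) (difW NN 63 6) (fun _ => true) r2 cs2 zs2 = true := by decide +kernel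
theorem c3 : cleOK NN 63 6 1451520 (lmap xw cs3) C3 (llen zs3) = true := by decide +kernel
theorem u3 : fuOK (sameW NN 63 6) (difW NN 63 6) (fun _ => true) r3 cs3 zs3 = true := by decide +kernel
theorem kr4 : ceqOK NN 63 6 1451520 r4 Cr4 cr4 384 = true := by decide +kernel
theorem hb5 : badOK (sameW NN 63 6) (difW NN 63 6) (fun _ => true) (lapp r5 r5) r5 b5 = true := by decide +kernel
theorem hb6 : badOK (sameW NN 63 6) (difW NN 63 6) (fun _ => true) (lapp r6 r6) r6 b6 = true := by decide +kernel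
theorem hb7 : badOK (sameW NN 63 6) (difW NN 63 6) (fun _ => true) (lapp r7 r7) r7 b7 = true := by decide +kernel
theorem hb8 : badOK (sameW NN 63 6) (difW NN 63 6) (fun _ => true) (lapp r8 r8) r8 b8 = true := by decide +kernel
theorem he1 : badOK (sameW NN 63 6) (difW NN 63 6) (fun _ => true) (lapp r4 r4) d1 e1 = true := by decide +kernel
theorem he2 : badOK (sameW NN 63 6) (difW NN 63 6) (fun _ => true) (lapp r4 r4) d2 e2 = true := by decide +kernel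
theorem he3 : badOK (sameW NN 63 6) (difW NN 63 6) (fun _ => true) (lapp r4 r4) (lapp d1 d2) e3 = true := by decide +kernel
theorem he4 : badOK (sameW NN 63 6) (difW NN 63 6) (fun _ => true) (lapp r4 r4) (lapp d1 (winv d2)) e4 = true := by decide +kernel
theorem hd : lall (fun t : List Nat × List Nat => sameW NN 63 6 t.1 t.2) [(wpow d1 3, []), (wpow d2 3, []),
  (lapp d1 d2, lapp d2 d1), (lapp d1 (lapp r4 r4), lapp (lapp r4 r4) d1), (lapp d2 (lapp r4 r4), lapp (lapp r4 r4) d2),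
  (lapp r0 r0, []), (lapp r1 r1, []), (lapp r2 r2, []), (lapp r3 r3, [])] = true := by decide +kernel
theorem hr : lall (fun w => difW NN 63 6 (lapp w w) []) [r4, r5, r6, r7, r8] = true := by decide +kernel

end CF.StdZ.Sp
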